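import Groth.Agent.Lib.Helper31.ComplBij
import Mathlib.RingTheory.AdicCompletion.Completeness

/-! If `A → A'` is an isomorphism modulo all powers of `I`, then for a prime `q ⊇ IA'` of `A'` with
contraction `q₀`, the map `A_{q₀} → A'_q` is an isomorphism modulo all powers of `I`, hence induces
an isomorphism on `I`-adic completions (helper31). -/

set_option autoImplicit false
universe u

namespace Groth.Agent.Lib.Helper31
namespace LocComplIso

open AdicCompletion Groth.Agent.Lib.Helper18

variable {A A' : Type u} [CommRing A] [CommRing A'] [Algebra A A'] (I : Ideal A)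
  (q : Ideal A') [q.IsPrime]

/-- the contraction. -/
abbrev q₀ : Ideal A := q.comap (algebraMap A A')

/-- `A_{q₀}`. -/
abbrev B₀ : Type u := Localization.AtPrime (q₀ (A := A) q)
/-- `A'_q`. -/
abbrev B : Type u := Localization.AtPrime q
/-- `I A_{q₀}`. -/
abbrev I₀ : Ideal (B₀ (A := A) q) := I.map (algebraMap A (B₀ (A := A) q))
/-- `I A'_q`. -/
abbrev I₁ : Ideal (B q) := (I.map (algebraMap A A')).map (algebraMap A' (B q))
/-- the local homomorphism `A_{q₀} → A'_q`. -/
noncomputable abbrev g : B₀ (A := A) q →+* B q :=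
  Localization.localRingHom (q₀ (A := A) q) q (algebraMap A A') rfl

theorem g_comp : (g (A := A) q).comp (algebraMap A (B₀ (A := A) q)) =
    (algebraMap A' (B q)).comp (algebraMap A A') := by
  ext a
  exact Localization.localRingHom_to_map (I := q₀ (A := A) q) q (algebraMap A A') rfl a

theorem map_g (J : Ideal A) : (J.map (algebraMap A (B₀ (A := A) q))).map (g (A := A) q) =
    (J.map (algebraMap A A')).map (algebraMap A' (B q)) := by
  rw [Ideal.map_map, Ideal.map_map, g_comp]

theorem hI : (I₀ I q).map (g (A := A) q) ≤ I₁ I q := le_of_eq (map_g q I)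

theorem I₀_pow (n : ℕ) : (I₀ I q) ^ n = (I ^ n).map (algebraMap A (B₀ (A := A) q)) :=
  (Ideal.map_pow _ _ _).symm

theorem I₁_pow (n : ℕ) : (I₁ I q) ^ n =
    ((I ^ n).map (algebraMap A A')).map (algebraMap A' (B q)) := by
  rw [Ideal.map_pow, Ideal.map_pow]

variable (hsurj : ∀ (n : ℕ) (x : A'), ∃ a : A, x - algebraMap A A' a ∈ (I ^ n).map (algebraMap A A'))
  (hinj : ∀ (n : ℕ) (a : A), algebraMap A A' a ∈ (I ^ n).map (algebraMap A A') → a ∈ I ^ n)
  (hIq : I.map (algebraMap A A') ≤ q)

include hsurj hIq in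
/-- approximating an element outside `q`. -/
theorem exists_approx (n : ℕ) (t : A') (ht : t ∈ q.primeCompl) :
    ∃ c : A, c ∈ (q₀ (A := A) q).primeCompl ∧
      t - algebraMap A A' c ∈ (I ^ n).map (algebraMap A A') := by
  obtain ⟨c, hc⟩ := hsurj (n + 1) t
  have hle : (I ^ (n + 1)).map (algebraMap A A') ≤ (I ^ n).map (algebraMap A A') :=
    Ideal.map_mono (Ideal.pow_le_pow_right (Nat.le_succ n))
  have hle' : (I ^ (n + 1)).map (algebraMap A A') ≤ q :=
    (Ideal.map_mono (Ideal.pow_le_self (Nat.succ_ne_zero n))).trans hIq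
  refine ⟨c, ?_, hle hc⟩
  intro hcq
  apply ht
  have : t = (t - algebraMap A A' c) + algebraMap A A' c := by ring
  rw [this]
  exact q.add_mem (hle' hc) hcq

include hsurj hinj hIq in
theorem gq_injective (n : ℕ) :
    Function.Injective (ComplBij.gq (I₀ I q) (I₁ I q) (g (A := A) q) (hI I q) n) := by
  rw [injective_iff_map_eq_zero]
  intro x hx
  obtain ⟨y, rfl⟩ := Ideal.Quotient.mk_surjective x
  obtain ⟨a, s, rfl⟩ := IsLocalization.exists_mk'_eq (q₀ (A := A) q).primeCompl y
  rw [Ideal.quotientMap_mk, Ideal.Quotient.eq_zero_iff_mem, Localization.localRingHom_mk', I₁_pow,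
    IsLocalization.mk'_mem_map_algebraMap_iff q.primeCompl] at hx
  obtain ⟨t, ht, hta⟩ := hx
  obtain ⟨c, hc, hct⟩ := exists_approx I q hsurj hIq n t ht
  have hca : c * a ∈ I ^ n := by
    apply hinj
    have : algebraMap A A' (c * a) = t * algebraMap A A' a -
        (t - algebraMap A A' c) * algebraMap A A' a := by
      rw [map_mul]; ring
    rw [this]
    exact Ideal.sub_mem _ hta (Ideal.mul_mem_right _ _ hct)
  rw [Ideal.Quotient.eq_zero_iff_mem, I₀_pow,
    IsLocalization.mk'_mem_map_algebraMap_iff (q₀ (A := A) q).primeCompl]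
  exact ⟨c, hc, hca⟩

include hsurj hIq in
theorem gq_surjective (n : ℕ) :
    Function.Surjective (ComplBij.gq (I₀ I q) (I₁ I q) (g (A := A) q) (hI I q) n) := by
  intro y
  obtain ⟨z, rfl⟩ := Ideal.Quotient.mk_surjective y
  obtain ⟨x, t, rfl⟩ := IsLocalization.exists_mk'_eq q.primeCompl z
  obtain ⟨c, hc, hct⟩ := exists_approx I q hsurj hIq n t.1 t.2
  obtain ⟨a, ha⟩ := hsurj n x
  refine ⟨Ideal.Quotient.mk _ (IsLocalization.mk' _ a ⟨c, hc⟩), ?_⟩
  rw [Ideal.quotientMap_mk, Localization.localRingHom_mk', Ideal.Quotient.eq, I₁_pow]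
  have hu : IsUnit (algebraMap A' (B q) (t.1 * algebraMap A A' c)) := by
    rw [map_mul]
    exact (IsLocalization.map_units (B q) t).mul
      (IsLocalization.map_units (B q) (⟨algebraMap A A' c, hc⟩ : q.primeCompl))
  rw [← Ideal.mul_unit_mem_iff_mem _ hu]
  have hcalc : (IsLocalization.mk' (B q) (algebraMap A A' a)
      (⟨algebraMap A A' c, hc⟩ : q.primeCompl) - IsLocalization.mk' (B q) x t) *
      algebraMap A' (B q) (t.1 * algebraMap A A' c) =
      algebraMap A' (B q) (algebraMap A A' a * t.1 - x * algebraMap A A' c) := by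
    rw [sub_mul, map_mul, map_sub, map_mul, map_mul]
    have h1 : IsLocalization.mk' (B q) (algebraMap A A' a)
        (⟨algebraMap A A' c, hc⟩ : q.primeCompl) * algebraMap A' (B q) (algebraMap A A' c) =
        algebraMap A' (B q) (algebraMap A A' a) :=
      IsLocalization.mk'_spec (B q) (algebraMap A A' a) (⟨algebraMap A A' c, hc⟩ : q.primeCompl)
    have h2 : IsLocalization.mk' (B q) x t * algebraMap A' (B q) t.1 = algebraMap A' (B q) x :=
      IsLocalization.mk'_spec (B q) x t
    linear_combination (algebraMap A' (B q) t.1) * h1 - (algebraMap A' (B q) (algebraMap A A' c)) * h2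
  rw [hcalc]
  apply Ideal.mem_map_of_mem
  have : algebraMap A A' a * t.1 - x * algebraMap A A' c =
      algebraMap A A' a * (t.1 - algebraMap A A' c) - (x - algebraMap A A' a) * algebraMap A A' c := by
    ring
  rw [this]
  exact Ideal.sub_mem _ (Ideal.mul_mem_left _ _ hct) (Ideal.mul_mem_right _ _ ha)

include hsurj hinj hIq in
theorem complMap_bijective :
    Function.Bijective (FSch.complMap (I₀ I q) (I₁ I q) (g (A := A) q) (hI I q)) :=
  ComplBij.complMap_bijective _ _ _ _
    (fun n => ⟨gq_injective I q hsurj hinj hIq n, gq_surjective I q hsurj hIq n⟩)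

section adic

variable {A : Type u} [CommRing A] (I : Ideal A)

theorem ker_evalₐ (n : ℕ) (fg : I.FG) :
    RingHom.ker (evalₐ I n).toRingHom = (I ^ n).map (algebraMap A (AdicCompletion I A)) := by
  ext x
  trans x ∈ (AdicCompletion.eval I A n).ker
  · have eq : I ^ n * ⊤ = I ^ n := by simp
    have : Function.Injective (Ideal.Quotient.factor ((le_of_eq eq))) := by
      simpa [RingHom.injective_iff_ker_eq_bot, Ideal.Quotient.factor_ker]
        using Ideal.map_mk_eq_bot_of_le (le_of_eq eq.symm)
    simpa [← factor_eval_eq_evalₐ] using map_eq_zero_iff _ this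
  · rw [← pow_smul_top_eq_ker_eval fg]
    simp

theorem hsurj_adic (fg : I.FG) (n : ℕ) (x : AdicCompletion I A) :
    ∃ a : A, x - algebraMap A (AdicCompletion I A) a ∈
      (I ^ n).map (algebraMap A (AdicCompletion I A)) := by
  obtain ⟨a, ha⟩ := Ideal.Quotient.mk_surjective (evalₐ I n x)
  refine ⟨a, ?_⟩
  rw [← ker_evalₐ I n fg, RingHom.mem_ker]
  show evalₐ I n (x - algebraMap A (AdicCompletion I A) a) = 0
  rw [map_sub, AdicCompletion.algebraMap_apply, Algebra.algebraMap_self, RingHom.id_apply,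
    evalₐ_of, ha, sub_self]

theorem hinj_adic (fg : I.FG) (n : ℕ) (a : A)
    (ha : algebraMap A (AdicCompletion I A) a ∈ (I ^ n).map (algebraMap A (AdicCompletion I A))) :
    a ∈ I ^ n := by
  rw [← ker_evalₐ I n fg, RingHom.mem_ker] at ha
  change evalₐ I n (algebraMap A (AdicCompletion I A) a) = 0 at ha
  rw [AdicCompletion.algebraMap_apply, Algebra.algebraMap_self, RingHom.id_apply,
    evalₐ_of, Ideal.Quotient.eq_zero_iff_mem] at ha
  exact ha

variable (q : Ideal (AdicCompletion I A)) [q.IsPrime]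

/-- the isomorphism `(A_{q₀})^ ≃ (A^_q)^` of `I`-adic completions. -/
noncomputable def φ (fg : I.FG) (hIq : I.map (algebraMap A (AdicCompletion I A)) ≤ q) :
    AdicCompletion (I₀ I q) (B₀ (A := A) q) ≃+* AdicCompletion (I₁ I q) (B q) :=
  RingEquiv.ofBijective (FSch.complMap (I₀ I q) (I₁ I q) (g (A := A) q) (hI I q))
    (complMap_bijective I q (hsurj_adic I fg) (hinj_adic I fg) hIq)

theorem φ_algebraMap (fg : I.FG) (hIq : I.map (algebraMap A (AdicCompletion I A)) ≤ q) (a : A) :
    φ I q fg hIq (algebraMap A (AdicCompletion (I₀ I q) (B₀ (A := A) q)) a) =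
      algebraMap A (AdicCompletion (I₁ I q) (B q)) a := by
  show FSch.complMap (I₀ I q) (I₁ I q) (g (A := A) q) (hI I q) _ = _
  rw [AdicCompletion.algebraMap_apply, complMap_of, AdicCompletion.algebraMap_apply]
  congr 1
  rw [IsScalarTower.algebraMap_apply A (AdicCompletion I A) (B q)]
  exact Localization.localRingHom_to_map (I := q₀ (A := A) q) q
    (algebraMap A (AdicCompletion I A)) rfl a

end adic

end LocComplIso
end Groth.Agent.Lib.Helper31
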