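import Mathlib
import Groth.Agent.H76.InjFlat

/-!
# Injectivity modulo the maximal ideal, Noetherian core in "up to `q.primeCompl`" form (helper31)

General dictionary lemmas between localized modules and conditions "up to an element outside
`q`", and the Noetherian core of Stacks 046Y deduced from helper76's `InjFlat`.
-/

set_option autoImplicit false
universe u

open TensorProduct

namespace Groth.Agent.Lib.Helper31.FPInjNoeth

/-- `IS • ⊤` and `I • ⊤` have the same elements. -/
theorem mem_map_smul_top_iff {R S M : Type*} [CommRing R] [CommRing S] [Algebra R S]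
    [AddCommGroup M] [Module R M] [Module S M] [IsScalarTower R S M] (I : Ideal R) (x : M) :
    x ∈ (I.map (algebraMap R S)) • (⊤ : Submodule S M) ↔ x ∈ I • (⊤ : Submodule R M) := by
  rw [← Submodule.restrictScalars_mem R, Ideal.smul_restrictScalars, Submodule.restrictScalars_top]

/-- Injectivity of `R/I ⊗ f` from the elementwise condition. -/
theorem lTensor_quotient_injective {R M N : Type*} [CommRing R] [AddCommGroup M] [Module R M]
    [AddCommGroup N] [Module R N] (I : Ideal R) (f : M →ₗ[R] N)
    (h : ∀ x, f x ∈ I • (⊤ : Submodule R N) → x ∈ I • (⊤ : Submodule R M)) :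
    Function.Injective (LinearMap.lTensor (R ⧸ I) f) := by
  rw [injective_iff_map_eq_zero]
  intro z hz
  obtain ⟨y, rfl⟩ := (quotTensorEquivQuotSMul M I).symm.surjective z
  obtain ⟨x, rfl⟩ := Submodule.Quotient.mk_surjective _ y
  rw [quotTensorEquivQuotSMul_symm_mk] at hz ⊢
  rw [LinearMap.lTensor_tmul] at hz
  have h1 : f x ∈ I • (⊤ : Submodule R N) := by
    have := congrArg (quotTensorEquivQuotSMul N I) hz
    rwa [quotTensorEquivQuotSMul_mk_one_tmul, map_zero, Submodule.Quotient.mk_eq_zero] at this
  have h2 := h x h1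
  apply (quotTensorEquivQuotSMul M I).injective
  rw [quotTensorEquivQuotSMul_mk_one_tmul, map_zero, Submodule.Quotient.mk_eq_zero]
  exact h2

section Dict

variable {P : Type*} [CommRing P] (W : Submonoid P) {Y : Type*} [AddCommGroup Y] [Module P Y]

/-- Dictionary: membership of a fraction in `J • ⊤` of the localized module. -/
theorem mk_mem_smul_top_iff (J : Ideal P) (y : Y) (t : W) :
    LocalizedModule.mk y t ∈ J • (⊤ : Submodule P (LocalizedModule W Y)) ↔
      ∃ w ∈ W, w • y ∈ J • (⊤ : Submodule P Y) := by
  have h1 : J • (⊤ : Submodule P (LocalizedModule W Y)) =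
      (J • (⊤ : Submodule P Y)).localized₀ W (LocalizedModule.mkLinearMap W Y) := by
    rw [Submodule.localized₀_smul, Submodule.localized₀_top]
  rw [h1, Submodule.mem_localized₀]
  constructor
  · rintro ⟨m, hm, s, hms⟩
    rw [← IsLocalizedModule.mk_eq_mk', LocalizedModule.mk_eq] at hms
    obtain ⟨u, hu⟩ := hms
    refine ⟨u * s, W.mul_mem u.2 s.2, ?_⟩
    have : ((u : P) * (s : P)) • y = (u : P) • (t : P) • m := by
      rw [mul_smul]
      exact hu.symm
    rw [this]
    exact Submodule.smul_mem _ _ (Submodule.smul_mem _ _ hm)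
  · rintro ⟨w, hw, hwy⟩
    refine ⟨w • y, hwy, ⟨w, hw⟩ * t, ?_⟩
    rw [← IsLocalizedModule.mk_eq_mk']
    exact LocalizedModule.mk_cancel_common_left ⟨w, hw⟩ t y

end Dict

/-- Quotient dictionary. -/
theorem smul_mkQ_mem_iff {P F : Type*} [CommRing P] [AddCommGroup F] [Module P F]
    (K : Submodule P F) (J : Ideal P) (w : P) (v : F) :
    w • K.mkQ v ∈ J • (⊤ : Submodule P (F ⧸ K)) ↔ w • v ∈ K ⊔ J • (⊤ : Submodule P F) := by
  have h1 : J • (⊤ : Submodule P (F ⧸ K)) = (J • (⊤ : Submodule P F)).map K.mkQ := by
    rw [Submodule.map_smul'', Submodule.map_top, Submodule.range_mkQ]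
  rw [h1, ← map_smul, Submodule.mem_map]
  constructor
  · rintro ⟨y, hy, hyv⟩
    have : w • v - y ∈ K := by
      rw [← Submodule.Quotient.mk_eq_zero, Submodule.Quotient.mk_sub]
      exact sub_eq_zero.mpr hyv.symm
    have e : w • v = (w • v - y) + y := by abel
    rw [e]
    exact Submodule.add_mem _ (Submodule.mem_sup_left this) (Submodule.mem_sup_right hy)
  · intro h
    obtain ⟨k, hk, y, hy, hky⟩ := Submodule.mem_sup.mp h
    refine ⟨y, hy, ?_⟩
    have hk0 : K.mkQ k = 0 := by
      rw [Submodule.mkQ_apply]
      exact (Submodule.Quotient.mk_eq_zero K).mpr hk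
    rw [← hky, map_add, hk0, zero_add]

section Core

open IsLocalRing

variable {A P : Type u} [CommRing A] [CommRing P] [Algebra A P] [IsNoetherianRing P]
  (q : Ideal P) [q.IsPrime]
  {X Y : Type u} [AddCommGroup X] [Module P X] [Module A X] [IsScalarTower A P X]
  [Module.Finite P X]
  [AddCommGroup Y] [Module P Y] [Module A Y] [IsScalarTower A P Y]

/-- **Noetherian core** (Stacks 00ME in "up to `q.primeCompl`" form): if `Y_q` is flat over `A`
and `f : X → Y` is injective at `q` modulo `p = q ∩ A`, then `f` is injective at `q` modulo every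
ideal of `A`. -/
theorem noeth_core [Module.Flat A (LocalizedModule q.primeCompl Y)] (f : X →ₗ[P] Y)
    (hfib : ∀ x : X, (∃ w ∈ q.primeCompl, w • f x ∈
        ((q.comap (algebraMap A P)).map (algebraMap A P)) • (⊤ : Submodule P Y)) →
      ∃ w ∈ q.primeCompl, w • x ∈
        ((q.comap (algebraMap A P)).map (algebraMap A P)) • (⊤ : Submodule P X))
    (I : Ideal A) (x : X)
    (hx : ∃ w ∈ q.primeCompl, w • f x ∈ (I.map (algebraMap A P)) • (⊤ : Submodule P Y)) :
    ∃ w ∈ q.primeCompl, w • x ∈ (I.map (algebraMap A P)) • (⊤ : Submodule P X) := by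
  set p : Ideal A := q.comap (algebraMap A P) with hp
  haveI : p.IsPrime := Ideal.comap_isPrime _ _
  let R' := Localization.AtPrime p
  let S' := Localization.AtPrime q
  let φ : R' →+* S' := Localization.localRingHom p q (algebraMap A P) hp
  letI : Algebra R' S' := φ.toAlgebra
  haveI : IsLocalHom (algebraMap R' S') :=
    Localization.isLocalHom_localRingHom p q (algebraMap A P) hp
  let M' := LocalizedModule q.primeCompl X
  let N' := LocalizedModule q.primeCompl Y
  letI : Module R' M' := Module.compHom M' φ
  letI : Module R' N' := Module.compHom N' φ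
  haveI : IsScalarTower R' S' M' := IsScalarTower.of_algebraMap_smul (fun r m => rfl)
  haveI : IsScalarTower R' S' N' := IsScalarTower.of_algebraMap_smul (fun r m => rfl)
  have hφ : ∀ a : A, φ (algebraMap A R' a) = algebraMap P S' (algebraMap A P a) := fun a =>
    Localization.localRingHom_to_map p q (algebraMap A P) hp a
  haveI : IsScalarTower A R' M' := by
    refine IsScalarTower.of_algebraMap_smul (fun a m => ?_)
    show φ (algebraMap A R' a) • m = a • m
    rw [hφ, algebraMap_smul, algebraMap_smul]
  haveI : IsScalarTower A R' N' := by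
    refine IsScalarTower.of_algebraMap_smul (fun a m => ?_)
    show φ (algebraMap A R' a) • m = a • m
    rw [hφ, algebraMap_smul, algebraMap_smul]
  haveI : Module.Flat R' N' := (Module.flat_iff_of_isLocalization R' p.primeCompl N').mpr inferInstance
  let u' : M' →ₗ[S'] N' := LocalizedModule.map q.primeCompl f
  let u'' : M' →ₗ[R'] N' := u'.restrictScalars R'
  have hu'mk : ∀ (x : X) (t : q.primeCompl), u'' (LocalizedModule.mk x t) =
      LocalizedModule.mk (f x) t := fun x t => LocalizedModule.map_mk _ _ _ _
  -- conversions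
  have conv : ∀ (J : Ideal A) (Z : Type u) [AddCommGroup Z] [Module P Z] [Module A Z]
      [IsScalarTower A P Z] [Module R' (LocalizedModule q.primeCompl Z)]
      [IsScalarTower A R' (LocalizedModule q.primeCompl Z)] (z : Z) (t : q.primeCompl),
      LocalizedModule.mk z t ∈ (J.map (algebraMap A R')) •
        (⊤ : Submodule R' (LocalizedModule q.primeCompl Z)) ↔
      ∃ w ∈ q.primeCompl, w • z ∈ (J.map (algebraMap A P)) • (⊤ : Submodule P Z) := by
    intro J Z _ _ _ _ _ _ z t
    rw [mem_map_smul_top_iff, ← mk_mem_smul_top_iff q.primeCompl (J.map (algebraMap A P)) z t,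
      mem_map_smul_top_iff]
  have hmax : maximalIdeal R' = p.map (algebraMap A R') :=
    (Localization.AtPrime.map_eq_maximalIdeal).symm
  have hinj : Function.Injective (LinearMap.lTensor (ResidueField R') u'') := by
    apply lTensor_quotient_injective (maximalIdeal R') u''
    intro m hm
    induction m using LocalizedModule.induction_on with
    | h x t =>
      rw [hu'mk, hmax, conv p Y] at hm
      rw [hmax, conv p X]
      exact hfib x hm
  have h1 : u'' (LocalizedModule.mk x 1) ∈ (I.map (algebraMap A R')) • (⊤ : Submodule R' N') := by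
    rw [hu'mk, conv I Y]
    exact hx
  have h2 := Groth.Agent.H76.InjFlat.mem_smul_top_of_map_mem (S := S') u'' hinj
    (I.map (algebraMap A R')) h1
  exact (conv I X x 1).mp h2

end Core

end Groth.Agent.Lib.Helper31.FPInjNoeth
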