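import Mathlib
import Groth.Agent.Lib.Helper31.FPInjNoeth
import Groth.Agent.H76.FlatDescentLocal

/-!
# Stacks 046Y for localized cokernels of polynomial matrices (helper31)

Descent to a finitely generated `ℤ`-subalgebra, using helper76's local descent of flatness.
-/

set_option autoImplicit false
universe u

open TensorProduct Groth.Agent.H76.FlatKernel Groth.Agent.H76.FlatDescentLocal
  Groth.Agent.Lib.Helper31.FPInjNoeth

namespace Groth.Agent.Lib.Helper31.FPInjDescent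

section Push

variable {σ κ ι : Type*} [Fintype κ] [Finite ι]
variable {A₁ A₂ : Type*} [CommRing A₁] [CommRing A₂] (φ : A₁ →+* A₂)

/-- Pushing forward membership in `span c ⊔ I[x] • ⊤`. -/
theorem vmap_mem_sup (c₁ : κ → ι → MvPolynomial σ A₁) (I₁ : Ideal A₁) (I₂ : Ideal A₂)
    (h : I₁ ≤ I₂.comap φ) (x : ι → MvPolynomial σ A₁)
    (hx : x ∈ Submodule.span (MvPolynomial σ A₁) (Set.range c₁) ⊔
      (Ideal.map (MvPolynomial.C : A₁ →+* MvPolynomial σ A₁) I₁) • ⊤) :
    vmap φ x ∈ Submodule.span (MvPolynomial σ A₂) (Set.range (cmap φ c₁)) ⊔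
      (Ideal.map (MvPolynomial.C : A₂ →+* MvPolynomial σ A₂) I₂) • ⊤ := by
  obtain ⟨k, hk, z, hz, rfl⟩ := Submodule.mem_sup.mp hx
  rw [vmap_add]
  refine Submodule.add_mem _ (Submodule.mem_sup_left ?_) (Submodule.mem_sup_right ?_)
  · rw [← Fintype.range_linearCombination] at hk ⊢
    obtain ⟨γ, rfl⟩ := hk
    exact ⟨vmap φ γ, (vmap_matMap φ c₁ γ).symm⟩
  · rw [mem_smul_top_pi] at hz ⊢
    intro i
    exact map_mem_map_C φ I₁ I₂ h _ (hz i)

end Push

section Fib

variable {σ : Type*} {a a' b b' : ℕ}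
variable {A₁ A₂ : Type*} [CommRing A₁] [CommRing A₂] (φ : A₁ →+* A₂)
  (q₂ : Ideal (MvPolynomial σ A₂)) [q₂.IsPrime]

/-- Descent of fibre injectivity to a stage. -/
theorem fib_descent (c₁ : Fin b' → Fin b → MvPolynomial σ A₁)
    (d₁ : Fin a' → Fin a → MvPolynomial σ A₁) (e₁ : Fin a → Fin b → MvPolynomial σ A₁)
    (hfib : ∀ v : Fin a → MvPolynomial σ A₂,
      (∃ w ∈ q₂.primeCompl, w • matMap (cmap φ e₁) v ∈
        Submodule.span (MvPolynomial σ A₂) (Set.range (cmap φ c₁)) ⊔ baseIdeal q₂ • ⊤) →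
      ∃ w ∈ q₂.primeCompl, w • v ∈
        Submodule.span (MvPolynomial σ A₂) (Set.range (cmap φ d₁)) ⊔ baseIdeal q₂ • ⊤)
    (v₁ : Fin a → MvPolynomial σ A₁)
    (hv₁ : ∃ w ∈ (q₂.comap (MvPolynomial.map φ)).primeCompl, w • matMap e₁ v₁ ∈
      Submodule.span (MvPolynomial σ A₁) (Set.range c₁) ⊔
        baseIdeal (q₂.comap (MvPolynomial.map φ)) • ⊤) :
    ∃ w ∈ (q₂.comap (MvPolynomial.map φ)).primeCompl, w • v₁ ∈
      Submodule.span (MvPolynomial σ A₁) (Set.range d₁) ⊔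
        baseIdeal (q₂.comap (MvPolynomial.map φ)) • ⊤ := by
  classical
  set q₁ := q₂.comap (MvPolynomial.map φ) with hq₁
  set p₂ : Ideal A₂ := q₂.comap (MvPolynomial.C : A₂ →+* MvPolynomial σ A₂) with hp₂
  haveI : p₂.IsPrime := Ideal.comap_isPrime _ _
  have hp₁ : q₁.comap (MvPolynomial.C : A₁ →+* MvPolynomial σ A₁) = p₂.comap φ :=
    comap_C_comap_map φ q₂
  obtain ⟨w₁, hw₁, h⟩ := hv₁
  have hup := vmap_mem_sup φ c₁ _ p₂ hp₁.le _ h
  rw [vmap_smul, vmap_matMap] at hup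
  obtain ⟨w', hw', h'⟩ := hfib (vmap φ v₁) ⟨MvPolynomial.map φ w₁, hw₁, hup⟩
  obtain ⟨k, hk, z', hz', hkz⟩ := Submodule.mem_sup.mp h'
  rw [← Fintype.range_linearCombination] at hk
  obtain ⟨α, hα⟩ := hk
  -- the augmented matrix
  let D₁ : Option (Fin a') → Fin a → MvPolynomial σ A₁ := fun o => o.elim v₁ d₁
  let x : Option (Fin a') → MvPolynomial σ A₂ := fun o => o.elim (-w') α
  have hD : matMap (cmap φ D₁) x = -z' := by
    have e1 : matMap (cmap φ D₁) x = (-w') • vmap φ v₁ + matMap (cmap φ d₁) α := by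
      show Fintype.linearCombination _ _ _ = _ + Fintype.linearCombination _ _ _
      rw [Fintype.linearCombination_apply, Fintype.linearCombination_apply, Fintype.sum_option]
      rfl
    have e2 : matMap (cmap φ d₁) α = k := hα
    rw [e1, e2, neg_smul, ← hkz]
    abel
  have hx : matMap (cmap φ D₁) x ∈ (Ideal.map (MvPolynomial.C : A₂ →+* MvPolynomial σ A₂) p₂) •
      (⊤ : Submodule (MvPolynomial σ A₂) (Fin a → MvPolynomial σ A₂)) := by
    rw [hD]
    exact Submodule.neg_mem _ hz'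
  obtain ⟨δ, hδ, hmem⟩ := exists_smul_mem_span_of_matMap_mem φ p₂ D₁ x hx
  -- some generator has `none`-coordinate outside `q₂`
  have hex : ∃ y ∈ kerMod (p₂.comap φ) D₁, MvPolynomial.map φ (y none) ∉ q₂ := by
    by_contra hcon
    push Not at hcon
    let T' : Submodule (MvPolynomial σ A₂) (Option (Fin a') → MvPolynomial σ A₂) :=
      Submodule.comap (LinearMap.proj (R := MvPolynomial σ A₂)
        (φ := fun _ : Option (Fin a') => MvPolynomial σ A₂) none) q₂
    have hle : Submodule.span (MvPolynomial σ A₂) (vmap φ '' (kerMod (p₂.comap φ) D₁ : Set _)) ⊔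
        (Ideal.map (MvPolynomial.C : A₂ →+* MvPolynomial σ A₂) p₂) •
          (⊤ : Submodule (MvPolynomial σ A₂) (Option (Fin a') → MvPolynomial σ A₂)) ≤ T' := by
      apply sup_le
      · rw [Submodule.span_le]
        rintro _ ⟨y, hy, rfl⟩
        exact hcon y hy
      · intro t ht
        rw [mem_smul_top_pi] at ht
        show t none ∈ q₂
        exact Ideal.map_le_iff_le_comap.mpr le_rfl (ht none)
    have h1 : (MvPolynomial.C δ : MvPolynomial σ A₂) * (-w') ∈ q₂ := hle hmem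
    rcases ‹q₂.IsPrime›.mem_or_mem h1 with h2 | h2
    · exact hδ h2
    · exact hw' (by simpa using q₂.neg_mem h2)
  obtain ⟨y, hy, hyq⟩ := hex
  refine ⟨y none, hyq, ?_⟩
  have hyk : matMap D₁ y ∈ (Ideal.map (MvPolynomial.C : A₁ →+* MvPolynomial σ A₁) (p₂.comap φ)) •
      (⊤ : Submodule (MvPolynomial σ A₁) (Fin a → MvPolynomial σ A₁)) := hy
  have e1 : matMap D₁ y = y none • v₁ + matMap d₁ (fun j => y (some j)) := by
    show Fintype.linearCombination _ _ _ = _ + Fintype.linearCombination _ _ _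
    rw [Fintype.linearCombination_apply, Fintype.linearCombination_apply, Fintype.sum_option]
    rfl
  have e2 : y none • v₁ = (- matMap d₁ (fun j => y (some j))) + matMap D₁ y := by
    rw [e1]; abel
  rw [e2]
  refine Submodule.add_mem _ (Submodule.mem_sup_left (Submodule.neg_mem _ ?_))
    (Submodule.mem_sup_right ?_)
  · rw [← Fintype.range_linearCombination]
    exact ⟨_, rfl⟩
  · show matMap D₁ y ∈ (Ideal.map MvPolynomial.C (q₁.comap MvPolynomial.C)) • ⊤
    rw [hp₁]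
    exact hyk

end Fib

section Main

variable {R : Type u} [CommRing R] {n a a' b b' : ℕ}

/-- **Stacks 046Y for localized cokernels of polynomial matrices.** -/
theorem descent_core (q : Ideal (MvPolynomial (Fin n) R)) [q.IsPrime]
    (c : Fin b' → Fin b → MvPolynomial (Fin n) R)
    (d : Fin a' → Fin a → MvPolynomial (Fin n) R)
    (e : Fin a → Fin b → MvPolynomial (Fin n) R)
    (hcompat : ∀ j, matMap e (d j) ∈ Submodule.span (MvPolynomial (Fin n) R) (Set.range c))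
    [hflat : Module.Flat R (LocalizedModule q.primeCompl ((Fin b → MvPolynomial (Fin n) R) ⧸
      Submodule.span (MvPolynomial (Fin n) R) (Set.range c)))]
    (hfib : ∀ v : Fin a → MvPolynomial (Fin n) R,
      (∃ w ∈ q.primeCompl, w • matMap e v ∈
        Submodule.span (MvPolynomial (Fin n) R) (Set.range c) ⊔ baseIdeal q • ⊤) →
      ∃ w ∈ q.primeCompl, w • v ∈
        Submodule.span (MvPolynomial (Fin n) R) (Set.range d) ⊔ baseIdeal q • ⊤)
    (I : Ideal R) (v : Fin a → MvPolynomial (Fin n) R)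
    (hv : ∃ w ∈ q.primeCompl, w • matMap e v ∈
      Submodule.span (MvPolynomial (Fin n) R) (Set.range c) ⊔
        (Ideal.map (MvPolynomial.C : R →+* MvPolynomial (Fin n) R) I) • ⊤) :
    ∃ w ∈ q.primeCompl, w • v ∈
      Submodule.span (MvPolynomial (Fin n) R) (Set.range d) ⊔
        (Ideal.map (MvPolynomial.C : R →+* MvPolynomial (Fin n) R) I) • ⊤ := by
  classical
  obtain ⟨w, hw, h⟩ := hv
  obtain ⟨k, hk, z, hz, hkz⟩ := Submodule.mem_sup.mp h
  rw [← Fintype.range_linearCombination] at hk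
  obtain ⟨γ, hγ⟩ := hk
  have hβ : ∀ j, ∃ β : Fin b' → MvPolynomial (Fin n) R, matMap c β = matMap e (d j) := by
    intro j
    have := hcompat j
    rw [← Fintype.range_linearCombination] at this
    exact this
  choose β hβ using hβ
  -- all polynomials involved
  let poly : (Fin a' × Fin a) ⊕ (Fin a × Fin b) ⊕ Fin a ⊕ Unit ⊕ Fin b' ⊕ (Fin a' × Fin b') →
      MvPolynomial (Fin n) R :=
    Sum.elim (fun x => d x.1 x.2) (Sum.elim (fun x => e x.1 x.2) (Sum.elim v
      (Sum.elim (fun _ => w) (Sum.elim γ (fun x => β x.1 x.2)))))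
  let s₀ : Finset R := Finset.univ.biUnion (fun i => (poly i).coeffs)
  obtain ⟨s, hs₀, c₁, hc₁, hflat₁⟩ := exists_stage_flat c q s₀
  set ι := algebraMap (Stg s) R with hι
  have hιinj : Function.Injective ι := algebraMap_stg_injective s
  have hsub : ∀ i, (poly i).coeffs ⊆ s := fun i =>
    (Finset.subset_biUnion_of_mem (fun i => (poly i).coeffs) (Finset.mem_univ i)).trans hs₀
  have lift : ∀ i, ∃ f₁ : MvPolynomial (Fin n) (Stg s), MvPolynomial.map ι f₁ = poly i :=
    fun i => exists_map_eq s _ (hsub i)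
  choose pl hpl using lift
  let d₁ : Fin a' → Fin a → MvPolynomial (Fin n) (Stg s) := fun j i => pl (Sum.inl (j, i))
  let e₁ : Fin a → Fin b → MvPolynomial (Fin n) (Stg s) := fun j i => pl (Sum.inr (Sum.inl (j, i)))
  let v₁ : Fin a → MvPolynomial (Fin n) (Stg s) := fun i => pl (Sum.inr (Sum.inr (Sum.inl i)))
  let w₁ : MvPolynomial (Fin n) (Stg s) := pl (Sum.inr (Sum.inr (Sum.inr (Sum.inl ()))))
  let γ₁ : Fin b' → MvPolynomial (Fin n) (Stg s) :=
    fun i => pl (Sum.inr (Sum.inr (Sum.inr (Sum.inr (Sum.inl i)))))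
  let β₁ : Fin a' → Fin b' → MvPolynomial (Fin n) (Stg s) :=
    fun j i => pl (Sum.inr (Sum.inr (Sum.inr (Sum.inr (Sum.inr (j, i))))))
  have hd₁ : cmap ι d₁ = d := by ext j i : 2; exact hpl _
  have he₁ : cmap ι e₁ = e := by ext j i : 2; exact hpl _
  have hv₁ : vmap ι v₁ = v := by ext i : 1; exact hpl _
  have hw₁ : MvPolynomial.map ι w₁ = w := hpl _
  have hγ₁ : vmap ι γ₁ = γ := by ext i : 1; exact hpl _
  have hβ₁ : ∀ j, vmap ι (β₁ j) = β j := by intro j; ext i : 1; exact hpl _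
  have hd₁j : ∀ j, vmap ι (d₁ j) = d j := fun j => congrFun hd₁ j
  set q₁ := q.comap (MvPolynomial.map ι) with hq₁
  -- compatibility at the stage
  have hcompat₁ : ∀ j, matMap e₁ (d₁ j) = matMap c₁ (β₁ j) := by
    intro j
    apply vmap_injective ι hιinj
    rw [vmap_matMap, vmap_matMap, hc₁, he₁, hd₁j, hβ₁]
    exact (hβ j).symm
  -- fibre injectivity at the stage
  have hfib₁ : ∀ v₁ : Fin a → MvPolynomial (Fin n) (Stg s),
      (∃ w ∈ q₁.primeCompl, w • matMap e₁ v₁ ∈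
        Submodule.span (MvPolynomial (Fin n) (Stg s)) (Set.range c₁) ⊔ baseIdeal q₁ • ⊤) →
      ∃ w ∈ q₁.primeCompl, w • v₁ ∈
        Submodule.span (MvPolynomial (Fin n) (Stg s)) (Set.range d₁) ⊔ baseIdeal q₁ • ⊤ := by
    intro v₁ hv₁
    refine fib_descent ι q c₁ d₁ e₁ ?_ v₁ hv₁
    rw [hc₁, hd₁, he₁]
    exact hfib
  -- the ideal at the stage
  set I₁ : Ideal (Stg s) := I.comap ι with hI₁
  have hz₁ : w₁ • matMap e₁ v₁ - matMap c₁ γ₁ ∈
      (Ideal.map (MvPolynomial.C : Stg s →+* MvPolynomial (Fin n) (Stg s)) I₁) •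
        (⊤ : Submodule (MvPolynomial (Fin n) (Stg s)) (Fin b → MvPolynomial (Fin n) (Stg s))) := by
    have hzz : vmap ι (w₁ • matMap e₁ v₁ - matMap c₁ γ₁) = z := by
      rw [vmap_sub, vmap_smul, vmap_matMap, vmap_matMap, hc₁, he₁, hv₁, hw₁, hγ₁, hγ, ← hkz]
      abel
    rw [mem_smul_top_pi] at hz ⊢
    intro i
    apply mem_map_C_of_map_mem ι I₁ I le_rfl
    have := hz i
    rw [← hzz] at this
    exact this
  -- the quotient modules at the stage
  let K₁ := Submodule.span (MvPolynomial (Fin n) (Stg s)) (Set.range c₁)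
  let L₁ := Submodule.span (MvPolynomial (Fin n) (Stg s)) (Set.range d₁)
  have hle : L₁ ≤ K₁.comap (matMap e₁) := by
    rw [Submodule.span_le]
    rintro _ ⟨j, rfl⟩
    show matMap e₁ (d₁ j) ∈ Submodule.span (MvPolynomial (Fin n) (Stg s)) (Set.range c₁)
    rw [hcompat₁, ← Fintype.range_linearCombination]
    exact ⟨_, rfl⟩
  let f₁ : ((Fin a → MvPolynomial (Fin n) (Stg s)) ⧸ L₁) →ₗ[MvPolynomial (Fin n) (Stg s)]
      ((Fin b → MvPolynomial (Fin n) (Stg s)) ⧸ K₁) := Submodule.mapQ L₁ K₁ (matMap e₁) hle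
  have hf₁ : ∀ u, f₁ (L₁.mkQ u) = K₁.mkQ (matMap e₁ u) := fun u => rfl
  have halg : algebraMap (Stg s) (MvPolynomial (Fin n) (Stg s)) = MvPolynomial.C :=
    MvPolynomial.algebraMap_eq _ _
  have key := noeth_core (A := Stg s) (P := MvPolynomial (Fin n) (Stg s)) q₁ f₁ (by
    intro x hx
    obtain ⟨u, rfl⟩ := L₁.mkQ_surjective x
    obtain ⟨w, hw, hwu⟩ := hx
    rw [hf₁, smul_mkQ_mem_iff, halg] at hwu
    obtain ⟨w', hw', h'⟩ := hfib₁ u ⟨w, hw, hwu⟩
    refine ⟨w', hw', ?_⟩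
    rw [smul_mkQ_mem_iff, halg]
    exact h') I₁ (L₁.mkQ v₁) (by
    refine ⟨w₁, ?_, ?_⟩
    · show w₁ ∉ q₁
      rw [hq₁, Ideal.mem_comap, hw₁]
      exact hw
    · rw [hf₁, smul_mkQ_mem_iff, halg]
      have e0 : w₁ • matMap e₁ v₁ = matMap c₁ γ₁ + (w₁ • matMap e₁ v₁ - matMap c₁ γ₁) := by abel
      rw [e0]
      refine Submodule.add_mem _ (Submodule.mem_sup_left ?_) (Submodule.mem_sup_right hz₁)
      show matMap c₁ γ₁ ∈ Submodule.span (MvPolynomial (Fin n) (Stg s)) (Set.range c₁)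
      rw [← Fintype.range_linearCombination]
      exact ⟨_, rfl⟩)
  obtain ⟨w₁', hw₁', h₁'⟩ := key
  rw [smul_mkQ_mem_iff, halg] at h₁'
  refine ⟨MvPolynomial.map ι w₁', hw₁', ?_⟩
  have := vmap_mem_sup ι d₁ I₁ I le_rfl _ h₁'
  rwa [vmap_smul, hv₁, hd₁] at this

end Main

end Groth.Agent.Lib.Helper31.FPInjDescent
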