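import Mathlib

/-!
# Presenting finitely presented modules over an essentially finitely presented local algebra as
localized cokernels of polynomial matrices (helper31)
-/

set_option autoImplicit false
universe u

open TensorProduct

namespace Groth.Agent.Lib.Helper31.FPInjPresent

/-- Dictionary for a localization map: membership of `g y` in `J • ⊤`. -/
theorem apply_mem_smul_top_iff {P : Type*} [CommRing P] (W : Submonoid P) {Y Y' : Type*}
    [AddCommGroup Y] [Module P Y] [AddCommGroup Y'] [Module P Y'] (g : Y →ₗ[P] Y')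
    [IsLocalizedModule W g] (J : Ideal P) (y : Y) :
    g y ∈ J • (⊤ : Submodule P Y') ↔ ∃ w ∈ W, w • y ∈ J • (⊤ : Submodule P Y) := by
  have h1 : J • (⊤ : Submodule P Y') = (J • (⊤ : Submodule P Y)).localized₀ W g := by
    rw [Submodule.localized₀_smul, Submodule.localized₀_top]
  rw [h1, Submodule.mem_localized₀]
  constructor
  · rintro ⟨m, hm, s, hms⟩
    rw [IsLocalizedModule.mk'_eq_iff, Submonoid.smul_def, ← map_smul,
      IsLocalizedModule.eq_iff_exists W] at hms
    obtain ⟨u, hu⟩ := hms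
    refine ⟨u * s, W.mul_mem u.2 s.2, ?_⟩
    have : ((u : P) * (s : P)) • y = (u : P) • m := by
      rw [mul_smul]
      exact hu.symm
    rw [this]
    exact Submodule.smul_mem _ _ hm
  · rintro ⟨w, hw, hwy⟩
    refine ⟨w • y, hwy, ⟨w, hw⟩, ?_⟩
    rw [IsLocalizedModule.mk'_eq_iff, map_smul]
    rfl

/-- Common denominators. -/
theorem exists_common_den {P S : Type*} [CommRing P] [CommRing S] [Algebra P S] (W : Submonoid P)
    (h : ∀ s : S, ∃ (f : P) (t : W), s * algebraMap P S t = algebraMap P S f)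
    {ι : Type*} [Fintype ι] (s : ι → S) :
    ∃ (F : ι → P) (T : W), ∀ i, s i * algebraMap P S T = algebraMap P S (F i) := by
  classical
  choose f t hft using h
  refine ⟨fun i => f (s i) * ∏ j ∈ Finset.univ.erase i, (t (s j) : P), ∏ j, t (s j), fun i => ?_⟩
  rw [Submonoid.coe_finsetProd, ← Finset.mul_prod_erase _ _ (Finset.mem_univ i), map_mul,
    map_mul, ← mul_assoc, hft]

section Present

variable {P S : Type u} [CommRing P] [CommRing S] [Algebra P S] (W : Submonoid P)
  (hW : ∀ t ∈ W, IsUnit (algebraMap P S t))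
  (hS1 : ∀ s : S, ∃ (f : P) (t : W), s * algebraMap P S t = algebraMap P S f)
  (I₀ : Ideal P) (hI₀ : I₀.FG) (hI₀le : ∀ z ∈ I₀, algebraMap P S z = 0)
  (hK : ∀ z : P, algebraMap P S z = 0 → ∃ t ∈ W, t * z ∈ I₀)
  (N : Type u) [AddCommGroup N] [Module S N] [Module P N] [IsScalarTower P S N]
  [Module.FinitePresentation S N]

include hW hS1 hI₀ hI₀le hK in
/-- A finitely presented `S`-module is the localization of the cokernel of a matrix over `P`. -/
theorem exists_present :
    ∃ (b b' : ℕ) (c : Fin b' → Fin b → P)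
      (g : ((Fin b → P) ⧸ Submodule.span P (Set.range c)) →ₗ[P] N), IsLocalizedModule W g := by
  classical
  obtain ⟨b, b'', f, gS, hf, hex⟩ := Module.FinitePresentation.exists_fin' S N
  obtain ⟨r, gen, hgen⟩ := Submodule.fg_iff_exists_fin_generating_family.mp hI₀
  -- the relations
  let kk : Fin b'' × Fin b → S := fun x => gS (Pi.single x.1 1) x.2
  obtain ⟨dd, T₀, hdd⟩ := exists_common_den W hS1 kk
  let d : Fin b'' → Fin b → P := fun j i => dd (j, i)
  let c₀ : Fin b'' ⊕ (Fin r × Fin b) → Fin b → P :=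
    Sum.elim d (fun x => Pi.single x.2 (gen x.1))
  let eqv := Fintype.equivFin (Fin b'' ⊕ (Fin r × Fin b))
  let c : Fin (Fintype.card (Fin b'' ⊕ (Fin r × Fin b))) → Fin b → P := c₀ ∘ eqv.symm
  have hrange : Set.range c = Set.range c₀ := eqv.symm.surjective.range_comp c₀
  -- the map
  let ψv : (Fin b → P) →ₗ[P] (Fin b → S) := (Algebra.linearMap P S).compLeft (Fin b)
  have hψv : ∀ v i, ψv v i = algebraMap P S (v i) := fun v i => rfl
  let g₀ : (Fin b → P) →ₗ[P] N := (f.restrictScalars P) ∘ₗ ψv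
  have hg₀ : ∀ v, g₀ v = f (ψv v) := fun v => rfl
  have hψd : ∀ j, ψv (d j) = algebraMap P S T₀ • gS (Pi.single j 1) := by
    intro j
    ext i
    rw [hψv, Pi.smul_apply, smul_eq_mul, mul_comm]
    exact (hdd (j, i)).symm
  have hfg : ∀ x, f (gS x) = 0 := fun x => (hex (gS x)).mpr ⟨x, rfl⟩
  have hker : Submodule.span P (Set.range c) ≤ LinearMap.ker g₀ := by
    rw [hrange, Submodule.span_le]
    rintro _ ⟨x, rfl⟩
    rw [SetLike.mem_coe, LinearMap.mem_ker, hg₀]
    rcases x with j | ⟨l, i⟩
    · show f (ψv (d j)) = 0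
      rw [hψd, map_smul, hfg, smul_zero]
    · show f (ψv (Pi.single i (gen l))) = 0
      have : ψv (Pi.single i (gen l)) = 0 := by
        ext i'
        rw [hψv, Pi.zero_apply]
        by_cases hii : i' = i
        · subst hii
          rw [Pi.single_eq_same]
          exact hI₀le _ (hgen ▸ Submodule.subset_span ⟨l, rfl⟩)
        · rw [Pi.single_eq_of_ne hii, map_zero]
      rw [this, map_zero]
  let g : ((Fin b → P) ⧸ Submodule.span P (Set.range c)) →ₗ[P] N :=
    Submodule.liftQ _ g₀ hker
  have hg : ∀ v, g (Submodule.Quotient.mk v) = g₀ v := fun v => rfl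
  refine ⟨b, _, c, g, ?_, ?_, ?_⟩
  · -- units
    intro x
    rw [Module.End.isUnit_iff]
    have hunit := hW x.1 x.2
    obtain ⟨ux, hux⟩ := hunit
    constructor
    · intro n₁ n₂ h
      have h' : algebraMap P S x.1 • n₁ = algebraMap P S x.1 • n₂ := by
        rw [algebraMap_smul, algebraMap_smul]
        exact h
      exact (hW x.1 x.2).smul_left_cancel.mp h'
    · intro n₁
      refine ⟨(↑ux⁻¹ : S) • n₁, ?_⟩
      show (x : P) • ((↑ux⁻¹ : S) • n₁) = n₁
      rw [← algebraMap_smul S (x : P), ← hux, smul_smul, Units.mul_inv, one_smul]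
  · -- surjectivity up to units
    intro y
    obtain ⟨σ, rfl⟩ := hf y
    obtain ⟨F, T, hFT⟩ := exists_common_den W hS1 σ
    refine ⟨(Submodule.Quotient.mk F, T), ?_⟩
    show (T : P) • f σ = g (Submodule.Quotient.mk F)
    rw [hg, hg₀, ← algebraMap_smul S (T : P), ← map_smul]
    congr 1
    ext i
    rw [Pi.smul_apply, smul_eq_mul, hψv, mul_comm]
    exact hFT i
  · -- kernel
    intro x₁ x₂ h
    obtain ⟨v₁, rfl⟩ := Submodule.Quotient.mk_surjective _ x₁
    obtain ⟨v₂, rfl⟩ := Submodule.Quotient.mk_surjective _ x₂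
    have h0 : f (ψv (v₁ - v₂)) = 0 := by
      rw [← hg₀, map_sub, sub_eq_zero]
      rw [hg, hg] at h
      exact h
    obtain ⟨ρ, hρ⟩ := (hex _).mp h0
    obtain ⟨F, T, hFT⟩ := exists_common_den W hS1 ρ
    -- `ψ(T T₀) • ψv (v₁ - v₂) = Σ ψ(F j) • ψv (d j)`
    have hρsum : gS ρ = ∑ j, ρ j • gS (Pi.single j 1) := by
      rw [LinearMap.pi_apply_eq_sum_univ gS ρ]
      refine Finset.sum_congr rfl fun j _ => ?_
      congr 2
      ext i
      simp [Pi.single_apply, eq_comm]
    let z : Fin b → P := ((T : P) * (T₀ : P)) • (v₁ - v₂) - ∑ j, F j • d j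
    have hz : ψv z = 0 := by
      show ψv (((T : P) * (T₀ : P)) • (v₁ - v₂) - ∑ j, F j • d j) = 0
      rw [map_sub, map_smul, map_sum, ← hρ, hρsum, Finset.smul_sum, sub_eq_zero]
      refine Finset.sum_congr rfl fun j _ => ?_
      rw [map_smul, hψd, ← algebraMap_smul S ((T : P) * (T₀ : P)), ← algebraMap_smul S (F j),
        smul_smul, smul_smul, map_mul, ← hFT j]
      congr 1
      ring
    have hzi : ∀ i, ∃ t ∈ W, t * z i ∈ I₀ := fun i => hK (z i) (by rw [← hψv, hz]; rfl)
    choose t₃ ht₃ hzt using hzi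
    let T₃ : P := ∏ i, t₃ i
    have hT₃ : T₃ ∈ W := Submonoid.prod_mem W (fun i _ => ht₃ i)
    have hT₃z : T₃ • z ∈ Submodule.span P (Set.range c) := by
      rw [pi_eq_sum_univ (T₃ • z)]
      refine Submodule.sum_mem _ fun i _ => ?_
      have hmem : (T₃ • z) i ∈ I₀ := by
        show (∏ i, t₃ i) * z i ∈ I₀
        rw [← Finset.mul_prod_erase _ _ (Finset.mem_univ i), mul_comm (t₃ i), mul_assoc]
        exact I₀.mul_mem_left _ (hzt i)
      rw [← hgen] at hmem
      -- `a • single i 1` with `a ∈ span gen`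
      have : ∀ a ∈ Submodule.span P (Set.range gen),
          (a • (fun j => if i = j then (1 : P) else 0) : Fin b → P) ∈
            Submodule.span P (Set.range c) := by
        intro a ha
        induction ha using Submodule.span_induction with
        | mem a ha =>
          obtain ⟨l, rfl⟩ := ha
          rw [hrange]
          apply Submodule.subset_span
          refine ⟨Sum.inr (l, i), ?_⟩
          ext j
          simp [c₀, Pi.single_apply, eq_comm]
        | zero => rw [zero_smul]; exact Submodule.zero_mem _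
        | add a₁ a₂ _ _ h₁ h₂ => rw [add_smul]; exact Submodule.add_mem _ h₁ h₂
        | smul r a _ h₁ => rw [smul_assoc]; exact Submodule.smul_mem _ _ h₁
      exact this _ hmem
    have hsum : ∑ j, F j • d j ∈ Submodule.span P (Set.range c) := by
      refine Submodule.sum_mem _ fun j _ => Submodule.smul_mem _ _ ?_
      rw [hrange]
      exact Submodule.subset_span ⟨Sum.inl j, rfl⟩
    refine ⟨⟨T₃ * ((T : P) * (T₀ : P)), W.mul_mem hT₃ (W.mul_mem T.2 T₀.2)⟩, ?_⟩
    rw [← sub_eq_zero, ← smul_sub, ← Submodule.Quotient.mk_sub, Submonoid.mk_smul,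
      ← Submodule.Quotient.mk_smul, Submodule.Quotient.mk_eq_zero]
    have e : (T₃ * ((T : P) * (T₀ : P))) • (v₁ - v₂) = T₃ • z + T₃ • ∑ j, F j • d j := by
      rw [← smul_add, mul_smul]
      congr 1
      show _ = (((T : P) * (T₀ : P)) • (v₁ - v₂) - ∑ j, F j • d j) + _
      abel
    rw [e]
    exact Submodule.add_mem _ hT₃z (Submodule.smul_mem _ _ hsum)

end Present

end Groth.Agent.Lib.Helper31.FPInjPresent
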