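import Mathlib
import Groth.Agent.Lib.Helper31.FPInjDescent
import Groth.Agent.Lib.Helper31.FPInjPresent

/-!
# Stacks 046Y: injectivity modulo the maximal ideal for finitely presented modules over an
essentially finitely presented local algebra (helper31)

`key`: for a local homomorphism `R → S` of local rings with `S` essentially of finite presentation,
`M`, `N` finitely presented `S`-modules with `N` flat over `R`, and `u : M → N` injective modulo
`𝔪_R`, the map `M/IM → N/IN` is injective for every ideal `I` of `R`.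
`injective_and_flat_of_key`: consequently `u` is injective with `R`-flat cokernel.
-/

set_option autoImplicit false
universe u

open TensorProduct IsLocalRing Groth.Agent.H76.FlatKernel Groth.Agent.H76.FlatDescentLocal
  Groth.Agent.Lib.Helper31.FPInjNoeth Groth.Agent.Lib.Helper31.FPInjDescent
  Groth.Agent.Lib.Helper31.FPInjPresent

namespace Groth.Agent.Lib.Helper31.FPInjLocal

section Unit

variable {R S Z : Type*} [CommRing R] [CommRing S] [Algebra R S] [AddCommGroup Z] [Module S Z]
  [Module R Z] [IsScalarTower R S Z]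

/-- `I • ⊤` is stable under units of `S`. -/
theorem unit_smul_mem_iff (I : Ideal R) (s : S) (hs : IsUnit s) (z : Z) :
    s • z ∈ I • (⊤ : Submodule R Z) ↔ z ∈ I • (⊤ : Submodule R Z) := by
  have h1 := mem_map_smul_top_iff (R := R) (S := S) (M := Z) I
  rw [← h1 (s • z), ← h1 z]
  constructor
  · intro h
    obtain ⟨us, rfl⟩ := hs
    have := Submodule.smul_mem _ (↑us⁻¹ : S) h
    rwa [smul_smul, Units.inv_mul, one_smul] at this
  · exact fun h => Submodule.smul_mem _ s h

end Unit

section Key

variable {R S M N : Type u} [CommRing R] [CommRing S] [IsLocalRing R] [IsLocalRing S]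
  [Algebra R S] [IsLocalHom (algebraMap R S)]
  [AddCommGroup M] [Module S M] [Module R M] [IsScalarTower R S M] [Module.FinitePresentation S M]
  [AddCommGroup N] [Module S N] [Module R N] [IsScalarTower R S N] [Module.FinitePresentation S N]
  [Module.Flat R N]

set_option maxHeartbeats 1600000 in
/-- **Stacks 046Y**, elementwise form. -/
theorem key
    (hS : ∃ (S₀ : Type u) (_ : CommRing S₀) (_ : Algebra R S₀) (_ : Algebra S₀ S)
      (_ : IsScalarTower R S₀ S) (T : Submonoid S₀),
      Algebra.FinitePresentation R S₀ ∧ IsLocalization T S)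
    (u : M →ₗ[S] N)
    (hu : ∀ x : M, u x ∈ (maximalIdeal R) • (⊤ : Submodule R N) →
      x ∈ (maximalIdeal R) • (⊤ : Submodule R M))
    (I : Ideal R) (x : M) (hx : u x ∈ I • (⊤ : Submodule R N)) :
    x ∈ I • (⊤ : Submodule R M) := by
  classical
  obtain ⟨S₀, _, _, _, _, T, hfp, hloc⟩ := hS
  obtain ⟨n, π, hπ, hkerfg⟩ := Algebra.FinitePresentation.out (R := R) (A := S₀)
  let ψ : MvPolynomial (Fin n) R →ₐ[R] S := (IsScalarTower.toAlgHom R S₀ S).comp π
  letI algPS : Algebra (MvPolynomial (Fin n) R) S := ψ.toRingHom.toAlgebra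
  have halg : ∀ f : MvPolynomial (Fin n) R,
      algebraMap (MvPolynomial (Fin n) R) S f = algebraMap S₀ S (π f) := fun f => rfl
  haveI : IsScalarTower R (MvPolynomial (Fin n) R) S :=
    IsScalarTower.of_algebraMap_eq (fun r => (ψ.commutes r).symm)
  letI modPM : Module (MvPolynomial (Fin n) R) M := Module.compHom M ψ.toRingHom
  letI modPN : Module (MvPolynomial (Fin n) R) N := Module.compHom N ψ.toRingHom
  haveI : IsScalarTower (MvPolynomial (Fin n) R) S M :=
    IsScalarTower.of_algebraMap_smul (fun _ _ => rfl)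
  haveI : IsScalarTower (MvPolynomial (Fin n) R) S N :=
    IsScalarTower.of_algebraMap_smul (fun _ _ => rfl)
  haveI : IsScalarTower R (MvPolynomial (Fin n) R) M := by
    refine IsScalarTower.of_algebraMap_smul (fun r m => ?_)
    show ψ (algebraMap R _ r) • m = r • m
    rw [ψ.commutes, algebraMap_smul]
  haveI : IsScalarTower R (MvPolynomial (Fin n) R) N := by
    refine IsScalarTower.of_algebraMap_smul (fun r m => ?_)
    show ψ (algebraMap R _ r) • m = r • m
    rw [ψ.commutes, algebraMap_smul]
  set q : Ideal (MvPolynomial (Fin n) R) :=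
    (maximalIdeal S).comap (algebraMap (MvPolynomial (Fin n) R) S) with hq
  haveI : q.IsPrime := Ideal.comap_isPrime _ _
  have hW : ∀ t ∈ q.primeCompl, IsUnit (algebraMap (MvPolynomial (Fin n) R) S t) := by
    intro t ht
    by_contra h
    exact ht ((mem_maximalIdeal _).mpr h)
  have hWmem : ∀ t, IsUnit (algebraMap (MvPolynomial (Fin n) R) S t) → t ∈ q.primeCompl :=
    fun t ht h => (mem_maximalIdeal _).mp h ht
  have hS1 : ∀ s : S, ∃ (f : MvPolynomial (Fin n) R) (t : q.primeCompl),
      s * algebraMap (MvPolynomial (Fin n) R) S t = algebraMap (MvPolynomial (Fin n) R) S f := by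
    intro s
    obtain ⟨⟨x, y⟩, hxy⟩ := IsLocalization.surj T s
    obtain ⟨f, rfl⟩ := hπ x
    obtain ⟨t, ht⟩ := hπ y.1
    refine ⟨f, ⟨t, hWmem t ?_⟩, ?_⟩
    · rw [halg, ht]
      exact IsLocalization.map_units S y
    · show s * algebraMap S₀ S (π t) = algebraMap S₀ S (π f)
      rw [ht]
      exact hxy
  have hI₀le : ∀ z ∈ RingHom.ker π.toRingHom, algebraMap (MvPolynomial (Fin n) R) S z = 0 := by
    intro z hz
    have : π z = 0 := hz
    rw [halg, this, map_zero]
  have hK : ∀ z : MvPolynomial (Fin n) R, algebraMap (MvPolynomial (Fin n) R) S z = 0 →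
      ∃ t ∈ q.primeCompl, t * z ∈ RingHom.ker π.toRingHom := by
    intro z hz
    rw [halg, IsLocalization.map_eq_zero_iff T] at hz
    obtain ⟨m, hm⟩ := hz
    obtain ⟨t, ht⟩ := hπ m.1
    refine ⟨t, hWmem t ?_, ?_⟩
    · rw [halg, ht]
      exact IsLocalization.map_units S m
    · show π (t * z) = 0
      rw [map_mul, ht]
      exact hm
  obtain ⟨b, b', c, gN, hgN⟩ :=
    exists_present q.primeCompl hW hS1 (RingHom.ker π.toRingHom) hkerfg hI₀le hK N
  obtain ⟨a, a', d, gM, hgM⟩ :=
    exists_present q.primeCompl hW hS1 (RingHom.ker π.toRingHom) hkerfg hI₀le hK M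
  let K := Submodule.span (MvPolynomial (Fin n) R) (Set.range c)
  let L := Submodule.span (MvPolynomial (Fin n) R) (Set.range d)
  let uP : M →ₗ[MvPolynomial (Fin n) R] N := u.restrictScalars (MvPolynomial (Fin n) R)
  have huP : ∀ m, uP m = u m := fun m => rfl
  -- the matrix of `u`, first version
  have hsurj : ∀ i : Fin a, ∃ (y : Fin b → MvPolynomial (Fin n) R) (t : q.primeCompl),
      (t : MvPolynomial (Fin n) R) • uP (gM (L.mkQ (Pi.single i 1))) = gN (K.mkQ y) := by
    intro i
    obtain ⟨⟨y, t⟩, hyt⟩ := IsLocalizedModule.surj q.primeCompl gN (uP (gM (L.mkQ (Pi.single i 1))))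
    obtain ⟨y', rfl⟩ := K.mkQ_surjective y
    exact ⟨y', t, hyt⟩
  choose e0 tt he0 using hsurj
  let t : MvPolynomial (Fin n) R := ∏ i, (tt i : MvPolynomial (Fin n) R)
  have ht : t ∈ q.primeCompl := Submonoid.prod_mem _ (fun i _ => (tt i).2)
  let e1 : Fin a → Fin b → MvPolynomial (Fin n) R :=
    fun i => (∏ j ∈ Finset.univ.erase i, (tt j : MvPolynomial (Fin n) R)) • e0 i
  have claim1 : ∀ v : Fin a → MvPolynomial (Fin n) R,
      t • uP (gM (L.mkQ v)) = gN (K.mkQ (matMap e1 v)) := by
    have hlin : t • (uP ∘ₗ gM ∘ₗ L.mkQ) = gN ∘ₗ K.mkQ ∘ₗ matMap e1 := by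
      apply LinearMap.pi_ext
      intro i r
      have hr : (Pi.single i r : Fin a → MvPolynomial (Fin n) R) = r • Pi.single i 1 := by
        rw [← Pi.single_smul, smul_eq_mul, mul_one]
      rw [hr, map_smul, map_smul]
      congr 1
      show t • uP (gM (L.mkQ (Pi.single i 1))) = gN (K.mkQ (matMap e1 (Pi.single i 1)))
      have h1 : matMap e1 (Pi.single i 1) = e1 i := by
        show Fintype.linearCombination _ _ _ = _
        rw [Fintype.linearCombination_apply_single, one_smul]
      rw [h1]
      show _ = gN (K.mkQ ((∏ j ∈ Finset.univ.erase i, (tt j : MvPolynomial (Fin n) R)) • e0 i))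
      rw [map_smul, map_smul, ← he0 i, smul_smul, mul_comm,
        Finset.mul_prod_erase Finset.univ (fun j => (tt j : MvPolynomial (Fin n) R))
          (Finset.mem_univ i)]
    intro v
    exact LinearMap.congr_fun hlin v
  have claim2 : ∀ j, ∃ w ∈ q.primeCompl, w • matMap e1 (d j) ∈ K := by
    intro j
    have h0 : L.mkQ (d j) = 0 := by
      rw [Submodule.mkQ_apply, Submodule.Quotient.mk_eq_zero]
      exact Submodule.subset_span ⟨j, rfl⟩
    have h1 : gN (K.mkQ (matMap e1 (d j))) = 0 := by
      rw [← claim1, h0, map_zero, map_zero, smul_zero]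
    obtain ⟨s', hs'⟩ := (IsLocalizedModule.eq_zero_iff q.primeCompl gN).mp h1
    refine ⟨s', s'.2, ?_⟩
    rw [Submonoid.smul_def, ← map_smul, Submodule.mkQ_apply, Submodule.Quotient.mk_eq_zero] at hs'
    exact hs'
  choose ww hww hwwmem using claim2
  let W₀ : MvPolynomial (Fin n) R := ∏ j, ww j
  have hW₀ : W₀ ∈ q.primeCompl := Submonoid.prod_mem _ (fun j _ => hww j)
  let e : Fin a → Fin b → MvPolynomial (Fin n) R := fun i => W₀ • e1 i
  have hmate : ∀ v, matMap e v = W₀ • matMap e1 v := by
    intro v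
    show Fintype.linearCombination _ _ _ = W₀ • Fintype.linearCombination _ _ _
    rw [Fintype.linearCombination_apply, Fintype.linearCombination_apply, Finset.smul_sum]
    refine Finset.sum_congr rfl fun i _ => ?_
    rw [smul_comm]
  have hcompat : ∀ j, matMap e (d j) ∈ Submodule.span (MvPolynomial (Fin n) R) (Set.range c) := by
    intro j
    rw [hmate]
    show (∏ j, ww j) • _ ∈ _
    rw [← Finset.mul_prod_erase _ _ (Finset.mem_univ j), mul_comm, mul_smul]
    exact Submodule.smul_mem _ _ (hwwmem j)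
  let t₀ : MvPolynomial (Fin n) R := W₀ * t
  have ht₀ : t₀ ∈ q.primeCompl := q.primeCompl.mul_mem hW₀ ht
  have claim1' : ∀ v : Fin a → MvPolynomial (Fin n) R,
      t₀ • uP (gM (L.mkQ v)) = gN (K.mkQ (matMap e v)) := by
    intro v
    rw [hmate, map_smul, map_smul, ← claim1, mul_smul]
  -- flatness of the localized cokernel
  haveI hflat : Module.Flat R (LocalizedModule q.primeCompl
      ((Fin b → MvPolynomial (Fin n) R) ⧸
        Submodule.span (MvPolynomial (Fin n) R) (Set.range c))) :=
    Module.Flat.of_linearEquiv ((IsLocalizedModule.iso q.primeCompl gN).restrictScalars R)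
  -- the contraction of `q`
  have hqC : q.comap (MvPolynomial.C : R →+* MvPolynomial (Fin n) R) = maximalIdeal R := by
    rw [hq, Ideal.comap_comap, ← MvPolynomial.algebraMap_eq, ← IsScalarTower.algebraMap_eq]
    exact maximalIdeal_comap (algebraMap R S)
  -- conversions
  have convP : ∀ (J : Ideal R) (Z : Type u) [AddCommGroup Z] [Module (MvPolynomial (Fin n) R) Z]
      [Module R Z] [IsScalarTower R (MvPolynomial (Fin n) R) Z] (z : Z),
      z ∈ (Ideal.map (MvPolynomial.C : R →+* MvPolynomial (Fin n) R) J) •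
        (⊤ : Submodule (MvPolynomial (Fin n) R) Z) ↔ z ∈ J • (⊤ : Submodule R Z) := by
    intro J Z _ _ _ _ z
    rw [← MvPolynomial.algebraMap_eq]
    exact mem_map_smul_top_iff J z
  have unitM : ∀ (J : Ideal R) (w : MvPolynomial (Fin n) R), w ∈ q.primeCompl → ∀ z : M,
      w • z ∈ J • (⊤ : Submodule R M) ↔ z ∈ J • (⊤ : Submodule R M) := fun J w hw z =>
    unit_smul_mem_iff J (algebraMap (MvPolynomial (Fin n) R) S w) (hW w hw) z
  have unitN : ∀ (J : Ideal R) (w : MvPolynomial (Fin n) R), w ∈ q.primeCompl → ∀ z : N,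
      w • z ∈ J • (⊤ : Submodule R N) ↔ z ∈ J • (⊤ : Submodule R N) := fun J w hw z =>
    unit_smul_mem_iff J (algebraMap (MvPolynomial (Fin n) R) S w) (hW w hw) z
  -- dictionary for `M` and `N`
  have dictN : ∀ (J : Ideal R) (y : Fin b → MvPolynomial (Fin n) R),
      gN (K.mkQ y) ∈ J • (⊤ : Submodule R N) ↔ ∃ w ∈ q.primeCompl, w • y ∈
        K ⊔ (Ideal.map (MvPolynomial.C : R →+* MvPolynomial (Fin n) R) J) • ⊤ := by
    intro J y
    rw [← convP J N, apply_mem_smul_top_iff q.primeCompl gN]
    refine exists_congr fun w => and_congr_right fun _ => ?_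
    exact smul_mkQ_mem_iff K _ w y
  have dictM : ∀ (J : Ideal R) (y : Fin a → MvPolynomial (Fin n) R),
      gM (L.mkQ y) ∈ J • (⊤ : Submodule R M) ↔ ∃ w ∈ q.primeCompl, w • y ∈
        L ⊔ (Ideal.map (MvPolynomial.C : R →+* MvPolynomial (Fin n) R) J) • ⊤ := by
    intro J y
    rw [← convP J M, apply_mem_smul_top_iff q.primeCompl gM]
    refine exists_congr fun w => and_congr_right fun _ => ?_
    exact smul_mkQ_mem_iff L _ w y
  -- fibre injectivity in matrix form
  have hfib : ∀ v : Fin a → MvPolynomial (Fin n) R,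
      (∃ w ∈ q.primeCompl, w • matMap e v ∈
        Submodule.span (MvPolynomial (Fin n) R) (Set.range c) ⊔ baseIdeal q • ⊤) →
      ∃ w ∈ q.primeCompl, w • v ∈
        Submodule.span (MvPolynomial (Fin n) R) (Set.range d) ⊔ baseIdeal q • ⊤ := by
    intro v hv
    show ∃ w ∈ q.primeCompl, w • v ∈ L ⊔ (Ideal.map MvPolynomial.C (q.comap MvPolynomial.C)) • ⊤
    rw [hqC, ← dictM]
    apply hu
    rw [← huP, ← unitN _ t₀ ht₀, claim1', dictN, ← hqC]
    exact hv
  -- the main step
  obtain ⟨⟨y, tx⟩, hyt⟩ := IsLocalizedModule.surj q.primeCompl gM x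
  obtain ⟨v, rfl⟩ := L.mkQ_surjective y
  have hyt' : (tx : MvPolynomial (Fin n) R) • x = gM (L.mkQ v) := hyt
  rw [← unitM I tx tx.2, hyt', dictM]
  apply descent_core q c d e hcompat hfib I v
  show ∃ w ∈ q.primeCompl, w • matMap e v ∈ K ⊔ _
  rw [← dictN, ← claim1', unitN _ t₀ ht₀, ← hyt', map_smul, unitN _ tx tx.2, huP]
  exact hx

end Key

section Conseq

open Groth.Agent.H76.InjFlat

variable {R : Type*} [CommRing R] {X Y : Type*} [AddCommGroup X] [Module R X]
  [AddCommGroup Y] [Module R Y] [Module.Flat R Y]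

/-- If `X/IX → Y/IY` is injective for every ideal `I` and `Y` is flat, then `u` is injective with
flat cokernel. -/
theorem injective_and_flat_of_elementwise (u : X →ₗ[R] Y)
    (h : ∀ (I : Ideal R) (x : X), u x ∈ I • (⊤ : Submodule R Y) → x ∈ I • (⊤ : Submodule R X)) :
    Function.Injective u ∧ Module.Flat R (Y ⧸ LinearMap.range u) := by
  constructor
  · rw [injective_iff_map_eq_zero]
    intro x hx
    have h1 : u x ∈ (⊥ : Ideal R) • (⊤ : Submodule R Y) := by
      rw [hx]
      exact Submodule.zero_mem _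
    have h2 := h ⊥ x h1
    rw [Submodule.bot_smul] at h2
    exact (Submodule.mem_bot R).mp h2
  · rw [Module.Flat.iff_rTensor_injective']
    intro I
    rw [injective_iff_map_eq_zero]
    intro z hz
    have hz' : mu I (Y ⧸ LinearMap.range u) z = 0 := by
      rw [mu, LinearMap.comp_apply, hz, map_zero]
    obtain ⟨z', rfl⟩ := LinearMap.lTensor_surjective I
      (Submodule.mkQ_surjective (LinearMap.range u)) z
    rw [mu_natural] at hz'
    have h1 : mu I Y z' ∈ LinearMap.range u := by
      rwa [Submodule.mkQ_apply, Submodule.Quotient.mk_eq_zero] at hz'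
    obtain ⟨n, hn⟩ := h1
    have h2 : u n ∈ I • (⊤ : Submodule R Y) := hn ▸ mu_mem I Y z'
    have h3 := h I n h2
    obtain ⟨n', rfl⟩ := exists_mu_eq h3
    have h4 : z' = LinearMap.lTensor I u n' := mu_injective I Y (by rw [mu_natural, hn])
    have h5 : (LinearMap.range u).mkQ ∘ₗ u = 0 := by
      apply LinearMap.ext
      intro y
      rw [LinearMap.comp_apply, LinearMap.zero_apply, Submodule.mkQ_apply,
        Submodule.Quotient.mk_eq_zero]
      exact LinearMap.mem_range_self u y
    rw [h4, ← LinearMap.comp_apply, ← LinearMap.lTensor_comp, h5, LinearMap.lTensor_zero,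
      LinearMap.zero_apply]

/-- Universal injectivity from the elementwise condition (tensoring on the left). -/
theorem lTensor_injective_of_elementwise (u : X →ₗ[R] Y)
    (h : ∀ (I : Ideal R) (x : X), u x ∈ I • (⊤ : Submodule R Y) → x ∈ I • (⊤ : Submodule R X))
    (Q : Type*) [AddCommGroup Q] [Module R Q] : Function.Injective (u.lTensor Q) := by
  obtain ⟨hinj, hflat⟩ := injective_and_flat_of_elementwise u h
  have hex : Function.Exact u (LinearMap.range u).mkQ := by
    intro y
    rw [Submodule.mkQ_apply, Submodule.Quotient.mk_eq_zero]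
    rfl
  exact LinearMap.lTensor_injective_of_exact_of_flat (LinearMap.range u).mkQ
    (Submodule.mkQ_surjective _) u hinj hex Q

end Conseq

end Groth.Agent.Lib.Helper31.FPInjLocal
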