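import Groth.Agent.Lib.Helper31.FibCat
import Groth.Prelude.Def_W4stkcategoriessitesFib

set_option autoImplicit false
open CategoryTheory CategoryTheory.Limits CategoryTheory.Functor
universe v₂ u₂ v u

namespace Groth.Agent.Lib.Helper31

section Yoneda2

variable {C : Type u} [Category.{v} C] {𝒳 : BasedCategory.{v₂, u₂} C} {U : C}

/-- the canonical morphism `a ⟶ 𝟙_U` of the slice. -/
def toId (a : Over U) : a ⟶ Over.mk (𝟙 U) := Over.homMk a.hom (by simp)

@[simp] lemma toId_left (a : Over U) : (toId a).left = a.hom := rfl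

lemma toId_id : toId (Over.mk (𝟙 U)) = 𝟙 (Over.mk (𝟙 U)) := by
  apply Over.OverMorphism.ext
  rfl

lemma comp_toId {a b : Over U} (k : a ⟶ b) : k ≫ toId b = toId a := by
  apply Over.OverMorphism.ext
  simp

theorem toId_isHomLift (a : Over U) : (FibCat.overCat U).p.IsHomLift a.hom (toId a) :=
  inferInstanceAs ((Over.forget U).IsHomLift ((Over.forget U).map (toId a)) (toId a))

theorem over_hom_isHomLift {a b : Over U} (k : a ⟶ b) : (FibCat.overCat U).p.IsHomLift k.left k :=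
  inferInstanceAs ((Over.forget U).IsHomLift ((Over.forget U).map k) k)

theorem map_comp_toId (G : FibCat.overCat U ⥤ᵇ 𝒳) {a b : Over U} (k : a ⟶ b) :
    G.map k ≫ G.map (toId b) = G.map (toId a) := by
  have h := congrArg (fun t => G.map t) (comp_toId k)
  exact (G.map_comp k (toId b)).symm.trans h

theorem map_toId_id (G : FibCat.overCat U ⥤ᵇ 𝒳) :
    G.map (toId (Over.mk (𝟙 U))) = 𝟙 (G.obj (Over.mk (𝟙 U))) := by
  have h := congrArg (fun t => G.map t) (toId_id (U := U))
  exact h.trans (G.map_id _)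

/-- the image under a based functor of `a ⟶ 𝟙_U` lies over `a.hom`. -/
theorem map_toId_isHomLift (G : FibCat.overCat U ⥤ᵇ 𝒳) (a : Over U) :
    𝒳.p.IsHomLift a.hom (G.map (toId a)) :=
  have := toId_isHomLift a
  BasedFunctor.preserves_isHomLift G a.hom (toId a)

theorem map_isHomLift_left (G : FibCat.overCat U ⥤ᵇ 𝒳) {a b : Over U} (k : a ⟶ b) :
    𝒳.p.IsHomLift k.left (G.map k) :=
  have := over_hom_isHomLift k
  BasedFunctor.preserves_isHomLift G k.left k

/-- `G` sends every `a ⟶ 𝟙_U` to a strongly cartesian morphism. -/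
def CartAtId (G : FibCat.overCat U ⥤ᵇ 𝒳) : Prop :=
  ∀ a : Over U, 𝒳.p.IsStronglyCartesian a.hom (G.map (toId a))

theorem cartAtId_of_isFibGrpd (h𝒳 : FibCat.IsFibGrpd 𝒳.p) (G : FibCat.overCat U ⥤ᵇ 𝒳) : CartAtId G := by
  intro a
  have := map_toId_isHomLift G a
  exact isStronglyCartesian_of_isFibGrpd 𝒳.p h𝒳 a.hom (G.map (toId a))

theorem cartAtId_of_preserves (G : FibCat.overCat U ⥤ᵇ 𝒳) (hG : FibCat.PreservesStronglyCartesian G) :
    CartAtId G := by
  intro a
  apply hG
  have := (isFibGrpd_overForget U).isStronglyCartesian (toId a)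
  exact this

section NatTrans

variable (G G' : FibCat.overCat U ⥤ᵇ 𝒳) (hG' : CartAtId G')
  (φ : G.obj (Over.mk (𝟙 U)) ⟶ G'.obj (Over.mk (𝟙 U))) [hφ : 𝒳.p.IsHomLift (𝟙 U) φ]

include hφ in
theorem map_toId_comp_isHomLift (a : Over U) : 𝒳.p.IsHomLift a.hom (G.map (toId a) ≫ φ) := by
  have := map_toId_isHomLift G a
  exact IsHomLift.comp_lift_id_right 𝒳.p a.hom (G.map (toId a)) φ

/-- the component at `a` of the natural transformation extending `φ`. -/
noncomputable def yonedaApp (a : Over U) : G.obj a ⟶ G'.obj a :=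
  have := hG' a
  have := map_toId_comp_isHomLift G G' φ a
  IsStronglyCartesian.map 𝒳.p a.hom (G'.map (toId a)) (g := 𝟙 a.left) (Category.id_comp _).symm
    (G.map (toId a) ≫ φ)

theorem yonedaApp_isHomLift (a : Over U) : 𝒳.p.IsHomLift (𝟙 a.left) (yonedaApp G G' hG' φ a) := by
  have := hG' a
  have := map_toId_comp_isHomLift G G' φ a
  exact IsStronglyCartesian.map_isHomLift 𝒳.p a.hom (G'.map (toId a)) (g := 𝟙 a.left)
    (Category.id_comp _).symm (G.map (toId a) ≫ φ)

theorem yonedaApp_fac (a : Over U) :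
    yonedaApp G G' hG' φ a ≫ G'.map (toId a) = G.map (toId a) ≫ φ := by
  have := hG' a
  have := map_toId_comp_isHomLift G G' φ a
  exact IsStronglyCartesian.fac 𝒳.p a.hom (G'.map (toId a)) (g := 𝟙 a.left)
    (Category.id_comp _).symm (G.map (toId a) ≫ φ)

theorem yonedaApp_naturality {a b : Over U} (k : a ⟶ b) :
    G.map k ≫ yonedaApp G G' hG' φ b = yonedaApp G G' hG' φ a ≫ G'.map k := by
  have := hG' b
  have h1 : 𝒳.p.IsHomLift k.left (G.map k ≫ yonedaApp G G' hG' φ b) := by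
    have := map_isHomLift_left G k
    have := yonedaApp_isHomLift G G' hG' φ b
    exact IsHomLift.comp_lift_id_right 𝒳.p k.left (G.map k) (yonedaApp G G' hG' φ b)
  have h2 : 𝒳.p.IsHomLift k.left (yonedaApp G G' hG' φ a ≫ G'.map k) := by
    have := map_isHomLift_left G' k
    have := yonedaApp_isHomLift G G' hG' φ a
    exact IsHomLift.comp_lift_id_left 𝒳.p k.left (G'.map k) (yonedaApp G G' hG' φ a)
  apply IsStronglyCartesian.ext 𝒳.p b.hom (G'.map (toId b)) k.left
  rw [Category.assoc, yonedaApp_fac, ← Category.assoc, map_comp_toId,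
    Category.assoc, map_comp_toId, yonedaApp_fac]

/-- the based natural transformation extending `φ`. -/
noncomputable def yonedaNatTrans : G ⟶ G' where
  toNatTrans :=
    { app := fun a => yonedaApp G G' hG' φ a
      naturality := fun a b k => yonedaApp_naturality G G' hG' φ k }
  isHomLift' := fun a => yonedaApp_isHomLift G G' hG' φ a

theorem yonedaNatTrans_app_id :
    (yonedaNatTrans G G' hG' φ).toNatTrans.app (Over.mk (𝟙 U)) = φ := by
  have := yonedaApp_fac G G' hG' φ (Over.mk (𝟙 U))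
  rw [map_toId_id, map_toId_id, Category.comp_id, Category.id_comp] at this
  exact this

end NatTrans

/-- a based natural transformation into a `CartAtId` functor is determined by its value at `𝟙_U`. -/
theorem basedNatTrans_ext_of_app_id {G G' : FibCat.overCat U ⥤ᵇ 𝒳} (hG' : CartAtId G')
    (α β : G ⟶ G') (h : α.toNatTrans.app (Over.mk (𝟙 U)) = β.toNatTrans.app (Over.mk (𝟙 U))) :
    α = β := by
  apply BasedNatTrans.ext
  apply NatTrans.ext
  funext a
  have := hG' a
  have h1 : 𝒳.p.IsHomLift (𝟙 a.left) (α.toNatTrans.app a) := α.isHomLift' a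
  have h2 : 𝒳.p.IsHomLift (𝟙 a.left) (β.toNatTrans.app a) := β.isHomLift' a
  apply IsStronglyCartesian.ext 𝒳.p a.hom (G'.map (toId a)) (𝟙 a.left)
  have n1 := α.toNatTrans.naturality (toId a)
  have n2 := β.toNatTrans.naturality (toId a)
  rw [← n1, ← n2, h]

section EssSurj

variable (x : 𝒳.p.Fiber U)
  (hlift : ∀ a : Over U, ∃ (y : 𝒳.obj) (ψ : y ⟶ x.1), 𝒳.p.IsStronglyCartesian a.hom ψ)

/-- chosen pullback object -/
noncomputable def pbObj (a : Over U) : 𝒳.obj := (hlift a).choose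

/-- chosen strongly cartesian lift -/
noncomputable def pbHom (a : Over U) : pbObj x hlift a ⟶ x.1 := (hlift a).choose_spec.choose

theorem pbHom_cart (a : Over U) : 𝒳.p.IsStronglyCartesian a.hom (pbHom x hlift a) :=
  (hlift a).choose_spec.choose_spec

theorem pbHom_isHomLift (a : Over U) : 𝒳.p.IsHomLift a.hom (pbHom x hlift a) :=
  (pbHom_cart x hlift a).toIsHomLift

/-- the induced morphism between chosen pullbacks -/
noncomputable def pbMap {a b : Over U} (k : a ⟶ b) : pbObj x hlift a ⟶ pbObj x hlift b :=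
  have := pbHom_cart x hlift b
  have := pbHom_isHomLift x hlift a
  IsStronglyCartesian.map 𝒳.p b.hom (pbHom x hlift b) (g := k.left) (Over.w k).symm (pbHom x hlift a)

theorem pbMap_isHomLift {a b : Over U} (k : a ⟶ b) : 𝒳.p.IsHomLift k.left (pbMap x hlift k) := by
  have := pbHom_cart x hlift b
  have := pbHom_isHomLift x hlift a
  exact IsStronglyCartesian.map_isHomLift 𝒳.p b.hom (pbHom x hlift b) (g := k.left) (Over.w k).symm
    (pbHom x hlift a)

theorem pbMap_fac {a b : Over U} (k : a ⟶ b) :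
    pbMap x hlift k ≫ pbHom x hlift b = pbHom x hlift a := by
  have := pbHom_cart x hlift b
  have := pbHom_isHomLift x hlift a
  exact IsStronglyCartesian.fac 𝒳.p b.hom (pbHom x hlift b) (g := k.left) (Over.w k).symm
    (pbHom x hlift a)

theorem pbMap_uniq {a b : Over U} (k : a ⟶ b) (χ : pbObj x hlift a ⟶ pbObj x hlift b)
    (h1 : 𝒳.p.IsHomLift k.left χ) (h2 : χ ≫ pbHom x hlift b = pbHom x hlift a) :
    χ = pbMap x hlift k := by
  have := pbHom_cart x hlift b
  have := pbHom_isHomLift x hlift a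
  exact IsStronglyCartesian.map_uniq 𝒳.p b.hom (pbHom x hlift b) (g := k.left) (Over.w k).symm
    (pbHom x hlift a) χ h2

/-- the functor of chosen pullbacks of `x`. -/
noncomputable def pbFunctor : Over U ⥤ 𝒳.obj where
  obj := pbObj x hlift
  map := pbMap x hlift
  map_id a := by
    symm
    apply pbMap_uniq
    · have h0 := pbHom_isHomLift x hlift a
      have : 𝒳.p.obj (pbObj x hlift a) = a.left := IsHomLift.domain_eq 𝒳.p a.hom (pbHom x hlift a)
      exact IsHomLift.id this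
    · simp
  map_comp {a b c} k l := by
    symm
    apply pbMap_uniq
    · have h1 := pbMap_isHomLift x hlift k
      have h2 := pbMap_isHomLift x hlift l
      exact inferInstanceAs (𝒳.p.IsHomLift (k.left ≫ l.left) (pbMap x hlift k ≫ pbMap x hlift l))
    · rw [Category.assoc, pbMap_fac, pbMap_fac]

/-- the functor of chosen pullbacks of `x`, as a functor over `C`. -/
noncomputable def pbBased : FibCat.overCat U ⥤ᵇ 𝒳 where
  toFunctor := pbFunctor x hlift
  w := Functor.ext
    (fun a => by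
      have := pbHom_isHomLift x hlift a
      have e : 𝒳.p.obj (pbObj x hlift a) = a.left := IsHomLift.domain_eq 𝒳.p a.hom (pbHom x hlift a)
      exact e)
    (fun a b k => by
      have := pbMap_isHomLift x hlift k
      exact IsHomLift.fac' 𝒳.p k.left (pbMap x hlift k))

theorem pbBased_map_cart {a b : Over U} (k : a ⟶ b) :
    𝒳.p.IsStronglyCartesian k.left ((pbBased x hlift).map k) := by
  have h1 := pbHom_cart x hlift b
  have h2 : 𝒳.p.IsStronglyCartesian (k.left ≫ b.hom) (pbMap x hlift k ≫ pbHom x hlift b) := by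
    rw [pbMap_fac]
    have := pbHom_cart x hlift a
    exact isStronglyCartesian_of_eq 𝒳.p (Over.w k).symm (pbHom x hlift a)
  have h3 := pbMap_isHomLift x hlift k
  exact IsStronglyCartesian.of_comp 𝒳.p (f := k.left) (g := b.hom) (φ := pbMap x hlift k)
    (ψ := pbHom x hlift b)

theorem pbBased_cartAtId : CartAtId (pbBased x hlift) := by
  intro a
  exact pbBased_map_cart x hlift (toId a)

theorem pbBased_preserves : FibCat.PreservesStronglyCartesian (pbBased x hlift) := by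
  intro R S f a b k hk
  have h0 : (FibCat.overCat U).p.IsHomLift f k := hk.toIsHomLift
  obtain ⟨⟩ := h0
  exact pbBased_map_cart x hlift k

/-- evaluating the functor of chosen pullbacks at `𝟙_U` gives back `x`. -/
theorem evalAtId_pbBased_iso : Nonempty ((FibCat.evalAtId 𝒳 U).obj (pbBased x hlift) ≅ x) := by
  have h1 : 𝒳.p.IsStronglyCartesian (𝟙 U) (pbHom x hlift (Over.mk (𝟙 U))) :=
    pbHom_cart x hlift (Over.mk (𝟙 U))
  have hiso : IsIso (pbHom x hlift (Over.mk (𝟙 U))) :=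
    IsStronglyCartesian.isIso_of_base_isIso 𝒳.p (𝟙 U) _
  have h2 : 𝒳.p.IsHomLift (𝟙 U) (pbHom x hlift (Over.mk (𝟙 U))) := h1.toIsHomLift
  obtain ⟨ψi, hψi⟩ : ∃ ψi : x.1 ⟶ pbObj x hlift (Over.mk (𝟙 U)),
      ψi = CategoryTheory.inv (pbHom x hlift (Over.mk (𝟙 U))) := ⟨_, rfl⟩
  have h3 : 𝒳.p.IsHomLift (𝟙 U) ψi := by rw [hψi]; infer_instance
  have hi1 : pbHom x hlift (Over.mk (𝟙 U)) ≫ ψi = 𝟙 _ := by rw [hψi]; exact IsIso.hom_inv_id _
  have hi2 : ψi ≫ pbHom x hlift (Over.mk (𝟙 U)) = 𝟙 _ := by rw [hψi]; exact IsIso.inv_hom_id _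
  exact ⟨{ hom := ⟨pbHom x hlift (Over.mk (𝟙 U)), h2⟩
           inv := ⟨ψi, h3⟩
           hom_inv_id := by
             apply Functor.Fiber.hom_ext
             exact hi1
           inv_hom_id := by
             apply Functor.Fiber.hom_ext
             exact hi2 }⟩

end EssSurj

section Main

theorem evalAtId_faithful_of_cartAtId (P : ObjectProperty (FibCat.overCat U ⥤ᵇ 𝒳))
    (hP : ∀ G, P G → CartAtId G) : (P.ι ⋙ FibCat.evalAtId 𝒳 U).Faithful := by
  constructor
  intro G G' α β h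
  apply ObjectProperty.hom_ext
  apply basedNatTrans_ext_of_app_id (hP G'.obj G'.property)
  exact congrArg Subtype.val h

theorem evalAtId_full_of_cartAtId (P : ObjectProperty (FibCat.overCat U ⥤ᵇ 𝒳))
    (hP : ∀ G, P G → CartAtId G) : (P.ι ⋙ FibCat.evalAtId 𝒳 U).Full := by
  constructor
  intro G G' φ
  obtain ⟨φ₁, hφ₁⟩ : ∃ φ₁ : G.obj.obj (Over.mk (𝟙 U)) ⟶ G'.obj.obj (Over.mk (𝟙 U)), φ₁ = φ.1 :=
    ⟨_, rfl⟩
  have : 𝒳.p.IsHomLift (𝟙 U) φ₁ := by rw [hφ₁]; exact φ.2
  refine ⟨ObjectProperty.homMk (yonedaNatTrans G.obj G'.obj (hP G'.obj G'.property) φ₁), ?_⟩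
  apply Subtype.ext
  exact (yonedaNatTrans_app_id G.obj G'.obj (hP G'.obj G'.property) φ₁).trans hφ₁

theorem evalAtId_essSurj_of_lift (P : ObjectProperty (FibCat.overCat U ⥤ᵇ 𝒳))
    (hlift : ∀ (x : 𝒳.p.Fiber U) (a : Over U), ∃ (y : 𝒳.obj) (ψ : y ⟶ x.1),
      𝒳.p.IsStronglyCartesian a.hom ψ)
    (hP : ∀ G, FibCat.PreservesStronglyCartesian G → P G) : (P.ι ⋙ FibCat.evalAtId 𝒳 U).EssSurj := by
  constructor
  intro x
  obtain ⟨e⟩ := evalAtId_pbBased_iso x (hlift x)
  exact ⟨⟨pbBased x (hlift x), hP _ (pbBased_preserves x (hlift x))⟩, ⟨e⟩⟩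

theorem exists_cart_lift_of_isFibered [𝒳.p.IsFibered] (x : 𝒳.p.Fiber U) (a : Over U) :
    ∃ (y : 𝒳.obj) (ψ : y ⟶ x.1), 𝒳.p.IsStronglyCartesian a.hom ψ := by
  obtain ⟨y, ψ, hψ⟩ := IsPreFibered.exists_isCartesian 𝒳.p x.2 a.hom
  exact ⟨y, ψ, inferInstance⟩

theorem exists_cart_lift_of_isFibGrpd (h𝒳 : FibCat.IsFibGrpd 𝒳.p) (x : 𝒳.p.Fiber U) (a : Over U) :
    ∃ (y : 𝒳.obj) (ψ : y ⟶ x.1), 𝒳.p.IsStronglyCartesian a.hom ψ := by
  have := isFibered_of_isFibGrpd 𝒳.p h𝒳
  exact exists_cart_lift_of_isFibered x a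

/-- 2-Yoneda for fibred categories: evaluation at `𝟙_U` on cartesian functors is an equivalence. -/
theorem evalAtId_isEquivalence_of_isFibered [𝒳.p.IsFibered] (U : C) :
    ((ObjectProperty.ι (FibCat.PreservesStronglyCartesian (𝒳 := FibCat.overCat U) (𝒴 := 𝒳))) ⋙
      FibCat.evalAtId 𝒳 U).IsEquivalence := by
  have h1 := evalAtId_faithful_of_cartAtId (U := U) (𝒳 := 𝒳)
    (FibCat.PreservesStronglyCartesian (𝒳 := FibCat.overCat U) (𝒴 := 𝒳))
    (fun G hG => cartAtId_of_preserves G hG)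
  have h2 := evalAtId_full_of_cartAtId (U := U) (𝒳 := 𝒳)
    (FibCat.PreservesStronglyCartesian (𝒳 := FibCat.overCat U) (𝒴 := 𝒳))
    (fun G hG => cartAtId_of_preserves G hG)
  have h3 := evalAtId_essSurj_of_lift (U := U) (𝒳 := 𝒳)
    (FibCat.PreservesStronglyCartesian (𝒳 := FibCat.overCat U) (𝒴 := 𝒳))
    (fun x a => exists_cart_lift_of_isFibered x a) (fun G hG => hG)
  exact { }

/-- 2-Yoneda for categories fibred in groupoids. -/
theorem evalAtId_isEquivalence_of_isFibGrpd (h𝒳 : FibCat.IsFibGrpd 𝒳.p) (U : C) :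
    (FibCat.evalAtId 𝒳 U).IsEquivalence := by
  let P : ObjectProperty (FibCat.overCat U ⥤ᵇ 𝒳) := fun _ => True
  have h1 := evalAtId_faithful_of_cartAtId (U := U) (𝒳 := 𝒳) P
    (fun G _ => cartAtId_of_isFibGrpd h𝒳 G)
  have h2 := evalAtId_full_of_cartAtId (U := U) (𝒳 := 𝒳) P
    (fun G _ => cartAtId_of_isFibGrpd h𝒳 G)
  have h3 := evalAtId_essSurj_of_lift (U := U) (𝒳 := 𝒳) P
    (fun x a => exists_cart_lift_of_isFibGrpd h𝒳 x a) (fun G _ => trivial)
  have hP : (P.ι ⋙ FibCat.evalAtId 𝒳 U).IsEquivalence := { }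
  -- `P.ι` is an equivalence
  have hι : P.ι.IsEquivalence := by
    have : P.ι.EssSurj := ⟨fun G => ⟨⟨G, trivial⟩, ⟨Iso.refl _⟩⟩⟩
    exact { }
  exact Functor.isEquivalence_of_comp_left P.ι (FibCat.evalAtId 𝒳 U)

end Main

end Yoneda2

end Groth.Agent.Lib.Helper31
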