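import Groth.Prelude.Def_FibCat2

/-!
# Helper lemmas on fibred categories (helper31)
-/

set_option autoImplicit false
open CategoryTheory
universe v₁ u₁ v₂ u₂ v₃ u₃

namespace Groth.Agent.Lib.Helper31

open Functor

variable {𝒜 : Type u₁} [Category.{v₁} 𝒜] {ℬ : Type u₂} [Category.{v₂} ℬ] {𝒞 : Type u₃} [Category.{v₃} 𝒞]

/-- A morphism strongly cartesian for `F` whose image is strongly cartesian for `G` is strongly
cartesian for `F ⋙ G`. -/
theorem strong_comp_map (F : 𝒜 ⥤ ℬ) (G : ℬ ⥤ 𝒞) {x y : 𝒜} (φ : x ⟶ y)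
    [F.IsStronglyCartesian (F.map φ) φ] [G.IsStronglyCartesian (G.map (F.map φ)) (F.map φ)] :
    (F ⋙ G).IsStronglyCartesian ((F ⋙ G).map φ) φ := by
  refine { toIsHomLift := inferInstance, universal_property' := ?_ }
  intro a' g φ' hφ'
  have e1 : g ≫ G.map (F.map φ) = G.map (F.map φ') :=
    IsHomLift.eq_of_isHomLift (F ⋙ G) (g ≫ (F ⋙ G).map φ) φ'
  have h1 : G.IsHomLift (g ≫ G.map (F.map φ)) (F.map φ') := by
    rw [e1]; infer_instance
  let χ' : F.obj a' ⟶ F.obj x :=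
    IsStronglyCartesian.map G (G.map (F.map φ)) (F.map φ) (g := g) rfl (F.map φ')
  have hχ'1 : G.IsHomLift g χ' := inferInstance
  have hχ'2 : χ' ≫ F.map φ = F.map φ' := IsStronglyCartesian.fac _ _ _ _ _
  have h2 : F.IsHomLift (χ' ≫ F.map φ) φ' := by
    rw [hχ'2]; infer_instance
  let χ : a' ⟶ x := IsStronglyCartesian.map F (F.map φ) φ (g := χ') rfl φ'
  have hχ1 : F.IsHomLift χ' χ := inferInstance
  have hχ2 : χ ≫ φ = φ' := IsStronglyCartesian.fac _ _ _ _ _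
  have e2 : χ' = F.map χ := IsHomLift.eq_of_isHomLift F χ' χ
  have e3 : g = G.map χ' := IsHomLift.eq_of_isHomLift G g χ'
  refine ⟨χ, ⟨?_, hχ2⟩, ?_⟩
  · have : g = (F ⋙ G).map χ := by rw [e3, e2]; rfl
    rw [this]; infer_instance
  · rintro χ₂ ⟨hχ₂1, hχ₂2⟩
    have e4 : g = G.map (F.map χ₂) := IsHomLift.eq_of_isHomLift (F ⋙ G) g χ₂
    have h3 : G.IsHomLift g (F.map χ₂) := by rw [e4]; infer_instance
    have e5 : F.map χ₂ = χ' :=
      IsStronglyCartesian.map_uniq G (G.map (F.map φ)) (F.map φ) (g := g) rfl (F.map φ') (F.map χ₂)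
        (by rw [← F.map_comp, hχ₂2])
    have h4 : F.IsHomLift χ' χ₂ := by rw [← e5]; infer_instance
    exact IsStronglyCartesian.map_uniq F (F.map φ) φ (g := χ') rfl φ' χ₂ hχ₂2

/-- Variant of `strong_comp_map` with arbitrary base morphisms. -/
theorem strong_comp (F : 𝒜 ⥤ ℬ) (G : ℬ ⥤ 𝒞) {x y : 𝒜} {b b' : ℬ} {R S : 𝒞} (φ : x ⟶ y)
    (ψ : b ⟶ b') (f : R ⟶ S)
    [hF : F.IsStronglyCartesian ψ φ] [hG : G.IsStronglyCartesian f ψ] :
    (F ⋙ G).IsStronglyCartesian f φ := by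
  obtain ⟨⟩ := (inferInstance : F.IsHomLift ψ φ)
  obtain ⟨⟩ := (inferInstance : G.IsHomLift f (F.map φ))
  exact strong_comp_map F G φ

/-- Lifts compose. -/
theorem isHomLift_comp_functor (F : 𝒜 ⥤ ℬ) (G : ℬ ⥤ 𝒞) {x y : 𝒜} {b b' : ℬ} {R S : 𝒞} (φ : x ⟶ y)
    (ψ : b ⟶ b') (f : R ⟶ S)
    [hF : F.IsHomLift ψ φ] [hG : G.IsHomLift f ψ] :
    (F ⋙ G).IsHomLift f φ := by
  obtain ⟨⟩ := hF
  obtain ⟨⟩ := hG
  exact inferInstanceAs ((F ⋙ G).IsHomLift ((F ⋙ G).map φ) φ)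

/-- A strongly cartesian morphism over `f` is strongly cartesian over any equal morphism. -/
theorem isStronglyCartesian_of_eq (p : 𝒜 ⥤ ℬ) {R S : ℬ} {f f' : R ⟶ S} (h : f = f') {a b : 𝒜}
    (φ : a ⟶ b) [p.IsStronglyCartesian f φ] : p.IsStronglyCartesian f' φ := by
  subst h; infer_instance

/-- A functor fibred in groupoids is fibred. -/
theorem isFibered_of_isFibGrpd (p : 𝒜 ⥤ ℬ) (h : FibCat.IsFibGrpd p) : p.IsFibered := by
  apply Functor.IsFibered.of_exists_isStronglyCartesian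
  intro a R f
  obtain ⟨y, φ, hφ⟩ := h.exists_lift f
  refine ⟨y, φ, ?_⟩
  have h1 := h.isStronglyCartesian φ
  obtain rfl := IsHomLift.domain_eq p f φ
  have : f = p.map φ := IsHomLift.eq_of_isHomLift p f φ
  rw [this]
  exact h1

/-- In a category fibred in groupoids every lift of `f` is strongly cartesian over `f`. -/
theorem isStronglyCartesian_of_isFibGrpd (p : 𝒜 ⥤ ℬ) (h : FibCat.IsFibGrpd p) {R S : ℬ} (f : R ⟶ S)
    {a b : 𝒜} (φ : a ⟶ b) [hφ : p.IsHomLift f φ] : p.IsStronglyCartesian f φ := by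
  obtain ⟨⟩ := hφ
  exact h.isStronglyCartesian φ

/-- The fibres of a category fibred in groupoids are groupoids. -/
theorem isGroupoid_fiber_of_isFibGrpd (p : 𝒜 ⥤ ℬ) (h : FibCat.IsFibGrpd p) (U : ℬ) :
    IsGroupoid (p.Fiber U) := by
  constructor
  intro X Y φ
  have h1 := h.isStronglyCartesian φ.1
  have h2 : p.IsHomLift (𝟙 U) φ.1 := φ.2
  have hiso : IsIso (p.map φ.1) := by
    rw [IsHomLift.fac' p (𝟙 U) φ.1]; infer_instance
  have h3 : IsIso φ.1 := Functor.IsStronglyCartesian.isIso_of_base_isIso p (p.map φ.1) φ.1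
  refine ⟨⟨⟨inv φ.1, inferInstance⟩, ?_, ?_⟩⟩
  · apply Fiber.hom_ext
    exact IsIso.hom_inv_id φ.1
  · apply Fiber.hom_ext
    exact IsIso.inv_hom_id φ.1

/-- In a category fibred in groupoids, a morphism lying over an isomorphism is an isomorphism. -/
theorem isIso_of_isFibGrpd (p : 𝒜 ⥤ ℬ) (h : FibCat.IsFibGrpd p) {a b : 𝒜} (φ : a ⟶ b)
    [IsIso (p.map φ)] : IsIso φ := by
  have := h.isStronglyCartesian φ
  exact Functor.IsStronglyCartesian.isIso_of_base_isIso p (p.map φ) φ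

/-- A fibred functor with groupoid fibres is fibred in groupoids. -/
theorem isFibGrpd_of_isFibered_of_isGroupoid (p : 𝒜 ⥤ ℬ) [hfib : p.IsFibered]
    (hgrpd : ∀ U : ℬ, IsGroupoid (p.Fiber U)) : FibCat.IsFibGrpd p := by
  refine ⟨?_, ?_⟩
  · intro x V f
    obtain ⟨y, φ, hφ⟩ := IsPreFibered.exists_isCartesian' (p := p) f
    exact ⟨y, φ, inferInstance⟩
  · intro y x φ
    obtain ⟨y', ψ, hψ⟩ := IsPreFibered.exists_isCartesian' (p := p) (p.map φ)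
    have hψ' : p.IsStronglyCartesian (p.map φ) ψ := inferInstance
    let χ : y ⟶ y' := IsStronglyCartesian.map p (p.map φ) ψ (g := 𝟙 _) (Category.id_comp _).symm φ
    have hχ1 : p.IsHomLift (𝟙 (p.obj y)) χ := inferInstance
    have hχ2 : χ ≫ ψ = φ := IsStronglyCartesian.fac _ _ _ _ _
    have hy' : p.obj y' = p.obj y := IsHomLift.domain_eq p (p.map φ) ψ
    let χ' : (Fiber.mk (p := p) (S := p.obj y) (a := y) rfl) ⟶ (Fiber.mk (p := p) hy') := ⟨χ, hχ1⟩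
    have hiso' : IsIso χ' := (hgrpd (p.obj y)).all_isIso χ'
    have hiso : IsIso χ := by
      have := Functor.map_isIso (Fiber.fiberInclusion (p := p) (S := p.obj y)) χ'
      exact this
    have h4 : p.IsStronglyCartesian (𝟙 (p.obj y)) χ := inferInstance
    have h5 : p.IsStronglyCartesian (𝟙 (p.obj y) ≫ p.map φ) (χ ≫ ψ) := inferInstance
    rw [Category.id_comp, hχ2] at h5
    exact h5

/-- The composite of functors fibred in groupoids is fibred in groupoids. -/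
theorem isFibGrpd_comp (F : 𝒜 ⥤ ℬ) (G : ℬ ⥤ 𝒞) (hF : FibCat.IsFibGrpd F) (hG : FibCat.IsFibGrpd G) :
    FibCat.IsFibGrpd (F ⋙ G) := by
  refine ⟨?_, ?_⟩
  · intro x V f
    obtain ⟨b, ψ, hψ⟩ := hG.exists_lift (x := F.obj x) f
    obtain ⟨y, φ, hφ⟩ := hF.exists_lift (x := x) ψ
    exact ⟨y, φ, isHomLift_comp_functor F G φ ψ f⟩
  · intro y x φ
    have := hF.isStronglyCartesian φ
    have := hG.isStronglyCartesian (F.map φ)
    exact strong_comp_map F G φ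

end Groth.Agent.Lib.Helper31

namespace Groth.Agent.Lib.Helper31

open Functor

section OverLemmas

variable {𝒮 : Type u₁} [Category.{v₁} 𝒮] {C : Type u₂} [Category.{v₂} C] {U : C}

/-- Extensionality for objects of a slice category. -/
theorem over_obj_ext (A B : Over U) (h : A.left = B.left) (h' : A.hom = eqToHom h ≫ B.hom) : A = B := by
  obtain ⟨Al, Ar, Ah⟩ := A
  obtain ⟨Bl, Br, Bh⟩ := B
  have h2 : Al = Bl := h
  subst h2
  have h4 : Ar = Br := Subsingleton.elim _ _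
  subst h4
  have h3 : Ah = Bh := by simpa using h'
  subst h3
  rfl

/-- A morphism lifting `f.left` with respect to `p' ⋙ Over.forget U` and with the correct codomain
lifts `f` with respect to `p'`. -/
theorem over_isHomLift (p' : 𝒮 ⥤ Over U) {R T : Over U} (f : R ⟶ T) {b a : 𝒮} (φ : b ⟶ a)
    (ha : p'.obj a = T) [hφ : (p' ⋙ Over.forget U).IsHomLift f.left φ] : p'.IsHomLift f φ := by
  subst ha
  have hl : (p'.obj b).left = R.left := IsHomLift.domain_eq (p' ⋙ Over.forget U) f.left φ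
  have hmap : (p'.map φ).left = eqToHom hl ≫ f.left := by
    have := IsHomLift.fac' (p' ⋙ Over.forget U) f.left φ
    simpa using this
  have hb : p'.obj b = R := by
    apply over_obj_ext _ _ hl
    rw [← Over.w (p'.map φ), hmap, Category.assoc, Over.w f]
  subst hb
  have : f = p'.map φ := by
    apply Over.OverMorphism.ext
    simpa using hmap.symm
  rw [this]
  infer_instance

/-- A `p'`-lift of `f` is a `p' ⋙ Over.forget U`-lift of `f.left`. -/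
theorem isHomLift_over_forget (p' : 𝒮 ⥤ Over U) {R T : Over U} (f : R ⟶ T) {b a : 𝒮} (φ : b ⟶ a)
    [hφ : p'.IsHomLift f φ] : (p' ⋙ Over.forget U).IsHomLift f.left φ := by
  obtain ⟨⟩ := hφ
  exact inferInstanceAs ((p' ⋙ Over.forget U).IsHomLift ((p' ⋙ Over.forget U).map φ) φ)

/-- A morphism strongly cartesian for `p' ⋙ Over.forget U` over `f.left`, with the correct codomain,
is strongly cartesian for `p'` over `f`. -/
theorem over_isStronglyCartesian (p' : 𝒮 ⥤ Over U) {R T : Over U} (f : R ⟶ T) {b a : 𝒮} (φ : b ⟶ a)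
    (ha : p'.obj a = T) [hφ : (p' ⋙ Over.forget U).IsStronglyCartesian f.left φ] :
    p'.IsStronglyCartesian f φ := by
  have h0 : p'.IsHomLift f φ := over_isHomLift p' f φ ha
  refine { toIsHomLift := h0, universal_property' := ?_ }
  intro a' g φ' hφ'
  have h1 : (p' ⋙ Over.forget U).IsHomLift (g.left ≫ f.left) φ' :=
    isHomLift_over_forget p' (g ≫ f) φ'
  let χ : a' ⟶ b := IsStronglyCartesian.map (p' ⋙ Over.forget U) f.left φ (g := g.left) rfl φ'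
  have hχ1 : (p' ⋙ Over.forget U).IsHomLift g.left χ := inferInstance
  have hχ2 : χ ≫ φ = φ' := IsStronglyCartesian.fac _ _ _ _ _
  have hb : p'.obj b = R := IsHomLift.domain_eq p' f φ
  refine ⟨χ, ⟨over_isHomLift p' g χ hb, hχ2⟩, ?_⟩
  rintro χ₂ ⟨hχ₂1, hχ₂2⟩
  have : (p' ⋙ Over.forget U).IsHomLift g.left χ₂ := isHomLift_over_forget p' g χ₂
  exact IsStronglyCartesian.map_uniq (p' ⋙ Over.forget U) f.left φ (g := g.left) rfl φ' χ₂ hχ₂2

/-- If `p' ⋙ Over.forget U` is fibred then so is `p'`. -/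
theorem isFibered_of_comp_overForget (p' : 𝒮 ⥤ Over U) [(p' ⋙ Over.forget U).IsFibered] :
    p'.IsFibered := by
  apply Functor.IsFibered.of_exists_isStronglyCartesian
  intro a R f
  obtain ⟨b, φ, hφ⟩ := IsPreFibered.exists_isCartesian' (p := p' ⋙ Over.forget U) (a := a) f.left
  have := @Functor.IsFibered.isStronglyCartesian_of_isCartesian _ _ _ _ (p' ⋙ Over.forget U) _ _ _ _
    _ _ φ hφ
  exact ⟨b, φ, over_isStronglyCartesian p' f φ rfl (hφ := this)⟩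

/-- If `p' ⋙ Over.forget U` is fibred in groupoids then so is `p'`. -/
theorem isFibGrpd_of_comp_overForget (p' : 𝒮 ⥤ Over U) (h : FibCat.IsFibGrpd (p' ⋙ Over.forget U)) :
    FibCat.IsFibGrpd p' := by
  refine ⟨?_, ?_⟩
  · intro x V f
    obtain ⟨y, φ, hφ⟩ := h.exists_lift (x := x) f.left
    exact ⟨y, φ, over_isHomLift p' f φ rfl (hφ := hφ)⟩
  · intro y x φ
    have := h.isStronglyCartesian φ
    exact over_isStronglyCartesian p' (p'.map φ) φ rfl (hφ := this)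

end OverLemmas

end Groth.Agent.Lib.Helper31

universe v₄ u₄ v u

namespace Groth.Agent.Lib.Helper31

open Functor

section EquivOver

variable {C : Type u} [Category.{v} C] {𝒳 : BasedCategory.{v₂, u₂} C} {𝒴 : BasedCategory.{v₃, u₃} C}

/-- The underlying natural isomorphism of an isomorphism of based functors. -/
def basedIsoToNatIso {F G : 𝒳 ⥤ᵇ 𝒴} (e : F ≅ G) : F.toFunctor ≅ G.toFunctor :=
  (BasedNatTrans.forgetful 𝒳 𝒴).mapIso e

@[simp] lemma basedIsoToNatIso_hom_app {F G : 𝒳 ⥤ᵇ 𝒴} (e : F ≅ G) (x : 𝒳.obj) :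
    (basedIsoToNatIso e).hom.app x = e.hom.toNatTrans.app x := rfl

@[simp] lemma basedIsoToNatIso_inv_app {F G : 𝒳 ⥤ᵇ 𝒴} (e : F ≅ G) (x : 𝒳.obj) :
    (basedIsoToNatIso e).inv.app x = e.inv.toNatTrans.app x := rfl

/-- An equivalence over the base has an underlying equivalence of categories. -/
theorem isEquivalence_of_isEquivOver (F : 𝒳 ⥤ᵇ 𝒴) (hF : FibCat.IsEquivOver F) :
    F.toFunctor.IsEquivalence := by
  obtain ⟨G, ⟨e₁⟩, ⟨e₂⟩⟩ := hF
  exact (CategoryTheory.Equivalence.mk F.toFunctor G.toFunctor (basedIsoToNatIso e₁).symm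
    (basedIsoToNatIso e₂)).isEquivalence_functor

/-- The quasi-inverse of an equivalence over the base is an equivalence over the base. -/
theorem isEquivOver_symm {F : 𝒳 ⥤ᵇ 𝒴} {G : 𝒴 ⥤ᵇ 𝒳}
    (e₁ : BasedFunctor.comp F G ≅ BasedFunctor.id 𝒳) (e₂ : BasedFunctor.comp G F ≅ BasedFunctor.id 𝒴) :
    FibCat.IsEquivOver G := ⟨F, ⟨e₂⟩, ⟨e₁⟩⟩

/-- A based functor which is fully faithful and essentially surjective over the base preserves
strongly cartesian morphisms. -/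
theorem map_isStronglyCartesian_of_equivOver (F : 𝒳 ⥤ᵇ 𝒴) (hF : FibCat.IsEquivOver F)
    {R S : C} (f : R ⟶ S) {a b : 𝒳.obj} (φ : a ⟶ b) [𝒳.p.IsStronglyCartesian f φ] :
    𝒴.p.IsStronglyCartesian f (F.map φ) := by
  have hE : F.toFunctor.IsEquivalence := isEquivalence_of_isEquivOver F hF
  obtain ⟨G, ⟨e₁⟩, ⟨e₂⟩⟩ := hF
  refine { toIsHomLift := inferInstance, universal_property' := ?_ }
  intro a' g φ' hφ'
  -- the isomorphism `F (G a') ≅ a'` over the identity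
  let η : F.obj (G.obj a') ≅ a' := (basedIsoToNatIso e₂).app a'
  have hη : 𝒴.p.IsHomLift (𝟙 (𝒴.p.obj a')) η.hom := e₂.hom.isHomLift' a'
  have hη' : 𝒴.p.IsHomLift (𝟙 (𝒴.p.obj a')) η.inv := inferInstance
  -- preimage of `η ≫ φ'`
  let ψ : G.obj a' ⟶ b := F.toFunctor.preimage (η.hom ≫ φ')
  have hψ : F.map ψ = η.hom ≫ φ' := F.toFunctor.map_preimage _
  have h1 : 𝒴.p.IsHomLift (g ≫ f) (F.map ψ) := by
    rw [hψ]
    have : 𝒴.p.IsHomLift (𝟙 (𝒴.p.obj a') ≫ g ≫ f) (η.hom ≫ φ') := inferInstance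
    simpa using this
  have h2 : 𝒳.p.IsHomLift (g ≫ f) ψ := BasedFunctor.isHomLift_map F (g ≫ f) ψ
  let χ₀ : G.obj a' ⟶ a := IsStronglyCartesian.map 𝒳.p f φ (g := g) rfl ψ
  have hχ₀1 : 𝒳.p.IsHomLift g χ₀ := inferInstance
  have hχ₀2 : χ₀ ≫ φ = ψ := IsStronglyCartesian.fac _ _ _ _ _
  refine ⟨η.inv ≫ F.map χ₀, ⟨?_, ?_⟩, ?_⟩
  · have : 𝒴.p.IsHomLift (𝟙 (𝒴.p.obj a') ≫ g) (η.inv ≫ F.map χ₀) := inferInstance
    simpa using this
  · rw [Category.assoc, ← F.map_comp, hχ₀2, hψ, Iso.inv_hom_id_assoc]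
  · rintro χ' ⟨hχ'1, hχ'2⟩
    let χ₀' : G.obj a' ⟶ a := F.toFunctor.preimage (η.hom ≫ χ')
    have hχ₀' : F.map χ₀' = η.hom ≫ χ' := F.toFunctor.map_preimage _
    have h3 : 𝒴.p.IsHomLift g (F.map χ₀') := by
      rw [hχ₀']
      have : 𝒴.p.IsHomLift (𝟙 (𝒴.p.obj a') ≫ g) (η.hom ≫ χ') := inferInstance
      simpa using this
    have h4 : 𝒳.p.IsHomLift g χ₀' := BasedFunctor.isHomLift_map F g χ₀'
    have h5 : χ₀' ≫ φ = ψ := by
      apply F.toFunctor.map_injective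
      rw [F.map_comp, hχ₀', hψ, Category.assoc, hχ'2]
    have h6 : χ₀' = χ₀ := IsStronglyCartesian.map_uniq 𝒳.p f φ (g := g) rfl ψ χ₀' h5
    rw [← h6, hχ₀', Iso.inv_hom_id_assoc]

/-- Being fibred transfers along an equivalence over the base. -/
theorem isFibered_of_equivOver (F : 𝒳 ⥤ᵇ 𝒴) (hF : FibCat.IsEquivOver F) [𝒳.p.IsFibered] :
    𝒴.p.IsFibered := by
  have hF' := hF
  obtain ⟨G, ⟨e₁⟩, ⟨e₂⟩⟩ := hF
  apply Functor.IsFibered.of_exists_isStronglyCartesian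
  intro y R f
  obtain ⟨x', φ, hφ⟩ := IsPreFibered.exists_isCartesian 𝒳.p (a := G.obj y) (G.w_obj y) f
  have h1 : 𝒳.p.IsStronglyCartesian f φ := inferInstance
  have h2 : 𝒴.p.IsStronglyCartesian f (F.map φ) := map_isStronglyCartesian_of_equivOver F hF' f φ
  let η : F.obj (G.obj y) ≅ y := (basedIsoToNatIso e₂).app y
  have hη : 𝒴.p.IsHomLift (𝟙 (𝒴.p.obj y)) η.hom := e₂.hom.isHomLift' y
  have h3 : 𝒴.p.IsStronglyCartesian (𝟙 (𝒴.p.obj y)) η.hom := inferInstance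
  have h4 : 𝒴.p.IsStronglyCartesian (f ≫ 𝟙 (𝒴.p.obj y)) (F.map φ ≫ η.hom) := inferInstance
  rw [Category.comp_id] at h4
  exact ⟨F.obj x', F.map φ ≫ η.hom, h4⟩

end EquivOver

end Groth.Agent.Lib.Helper31

namespace Groth.Agent.Lib.Helper31

open Functor

section Inertia

variable {C : Type u} [Category.{v} C] {𝒳 : BasedCategory.{v₂, u₂} C} {𝒴 : BasedCategory.{v₃, u₃} C}
  (F : 𝒳 ⥤ᵇ 𝒴)

/-- The automorphism of an object of the inertia lies over an identity. -/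
theorem inertia_aut_isHomLift (Z : (FibCat.inertia F).obj) :
    𝒳.p.IsHomLift (𝟙 (𝒳.p.obj Z.pt)) Z.aut.hom := by
  have : 𝒴.p.IsHomLift (𝟙 (𝒳.p.obj Z.pt)) (F.map Z.aut.hom) := by
    rw [Z.map_aut]; infer_instance
  exact BasedFunctor.isHomLift_map F _ _

/-- A morphism of the inertia lifts `f` iff its underlying morphism does. -/
theorem inertia_isHomLift_iff {R S : C} (f : R ⟶ S) {A B : (FibCat.inertia F).obj} (Φ : A ⟶ B) :
    (FibCat.inertia F).p.IsHomLift f Φ ↔ 𝒳.p.IsHomLift f Φ.hom := by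
  constructor
  · intro h
    obtain ⟨⟩ := h
    exact inferInstanceAs (𝒳.p.IsHomLift (𝒳.p.map Φ.hom) Φ.hom)
  · intro h
    have hA : 𝒳.p.obj A.pt = R := IsHomLift.domain_eq 𝒳.p f Φ.hom
    have hB : 𝒳.p.obj B.pt = S := IsHomLift.codomain_eq 𝒳.p f Φ.hom
    subst hA hB
    have h3 : f = 𝒳.p.map Φ.hom := IsHomLift.eq_of_isHomLift 𝒳.p f Φ.hom
    have : f = (FibCat.inertia F).p.map Φ := h3
    rw [this]
    exact Functor.IsHomLift.map Φ

/-- A morphism of the inertia whose underlying morphism is strongly cartesian is strongly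
cartesian. -/
theorem inertia_isStronglyCartesian {R S : C} (f : R ⟶ S) {A B : (FibCat.inertia F).obj} (Φ : A ⟶ B)
    [hΦ : 𝒳.p.IsStronglyCartesian f Φ.hom] : (FibCat.inertia F).p.IsStronglyCartesian f Φ := by
  have h0 : (FibCat.inertia F).p.IsHomLift f Φ := (inertia_isHomLift_iff F f Φ).mpr inferInstance
  refine { toIsHomLift := h0, universal_property' := ?_ }
  intro Z g Ψ hΨ
  have hA : 𝒳.p.obj A.pt = R := IsHomLift.domain_eq 𝒳.p f Φ.hom
  subst hA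
  obtain ⟨g', hg'⟩ : ∃ g' : 𝒳.p.obj Z.pt ⟶ 𝒳.p.obj A.pt, g' = g := ⟨g, rfl⟩
  have h1 : 𝒳.p.IsHomLift (g' ≫ f) Ψ.hom := by
    rw [hg']; exact (inertia_isHomLift_iff F (g ≫ f) Ψ).mp hΨ
  let χ : Z.pt ⟶ A.pt := IsStronglyCartesian.map 𝒳.p f Φ.hom (g := g') rfl Ψ.hom
  have hχ1 : 𝒳.p.IsHomLift g' χ := inferInstance
  have hχ2 : χ ≫ Φ.hom = Ψ.hom := IsStronglyCartesian.fac _ _ _ _ _
  have hZ := inertia_aut_isHomLift F Z
  have hAa := inertia_aut_isHomLift F A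
  have hcomm : Z.aut.hom ≫ χ = χ ≫ A.aut.hom := by
    have l1 : 𝒳.p.IsHomLift g' (Z.aut.hom ≫ χ) := by
      have : 𝒳.p.IsHomLift (𝟙 (𝒳.p.obj Z.pt) ≫ g') (Z.aut.hom ≫ χ) := inferInstance
      simpa using this
    have l2 : 𝒳.p.IsHomLift g' (χ ≫ A.aut.hom) := by
      have : 𝒳.p.IsHomLift (g' ≫ 𝟙 (𝒳.p.obj A.pt)) (χ ≫ A.aut.hom) := inferInstance
      simpa using this
    apply IsStronglyCartesian.ext 𝒳.p f Φ.hom g'
    rw [Category.assoc, hχ2, Ψ.comm, Category.assoc, Φ.comm, ← Category.assoc, hχ2]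
  let X : Z ⟶ A := ⟨χ, hcomm⟩
  refine ⟨X, ⟨?_, ?_⟩, ?_⟩
  · rw [← hg']
    exact (inertia_isHomLift_iff F g' X).mpr hχ1
  · exact FibCat.InertiaObj.hom_ext hχ2
  · rintro X' ⟨hX'1, hX'2⟩
    apply FibCat.InertiaObj.hom_ext
    have : 𝒳.p.IsHomLift g' X'.hom := by
      rw [hg']; exact (inertia_isHomLift_iff F g X').mp hX'1
    exact IsStronglyCartesian.map_uniq 𝒳.p f Φ.hom (g := g') rfl Ψ.hom X'.hom
      (congrArg (fun k => k.hom) hX'2)

/-- Lifting a strongly cartesian morphism to the inertia. -/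
theorem inertia_exists_lift {V : C} (B : (FibCat.inertia F).obj) (f : V ⟶ 𝒳.p.obj B.pt)
    {y : 𝒳.obj} (φ : y ⟶ B.pt) [hφ : 𝒳.p.IsStronglyCartesian f φ]
    (hF : ∀ β : y ⟶ y, 𝒳.p.IsHomLift (𝟙 V) β → F.map β ≫ F.map φ = F.map φ → F.map β = 𝟙 (F.obj y)) :
    ∃ (A : (FibCat.inertia F).obj) (Φ : A ⟶ B), A.pt = y ∧ 𝒳.p.IsStronglyCartesian f Φ.hom := by
  have hB := inertia_aut_isHomLift F B
  have hB' : 𝒳.p.IsHomLift (𝟙 (𝒳.p.obj B.pt)) B.aut.inv := inferInstance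
  have h1 : 𝒳.p.IsHomLift (𝟙 V ≫ f) (φ ≫ B.aut.hom) := by
    have : 𝒳.p.IsHomLift (f ≫ 𝟙 (𝒳.p.obj B.pt)) (φ ≫ B.aut.hom) := inferInstance
    simpa using this
  have h2 : 𝒳.p.IsHomLift (𝟙 V ≫ f) (φ ≫ B.aut.inv) := by
    have : 𝒳.p.IsHomLift (f ≫ 𝟙 (𝒳.p.obj B.pt)) (φ ≫ B.aut.inv) := inferInstance
    simpa using this
  let β : y ⟶ y := IsStronglyCartesian.map 𝒳.p f φ (g := 𝟙 V) rfl (φ ≫ B.aut.hom)
  let β' : y ⟶ y := IsStronglyCartesian.map 𝒳.p f φ (g := 𝟙 V) rfl (φ ≫ B.aut.inv)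
  have hβ1 : 𝒳.p.IsHomLift (𝟙 V) β := inferInstance
  have hβ2 : β ≫ φ = φ ≫ B.aut.hom := IsStronglyCartesian.fac _ _ _ _ _
  have hβ'1 : 𝒳.p.IsHomLift (𝟙 V) β' := inferInstance
  have hβ'2 : β' ≫ φ = φ ≫ B.aut.inv := IsStronglyCartesian.fac _ _ _ _ _
  have hy : 𝒳.p.IsHomLift (𝟙 V) (𝟙 y) := IsHomLift.id (IsHomLift.domain_eq 𝒳.p f φ)
  have e1 : β ≫ β' = 𝟙 y := by
    have l1 : 𝒳.p.IsHomLift (𝟙 V) (β ≫ β') := by
      have : 𝒳.p.IsHomLift (𝟙 V ≫ 𝟙 V) (β ≫ β') := inferInstance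
      simpa using this
    apply IsStronglyCartesian.ext 𝒳.p f φ (𝟙 V)
    rw [Category.assoc, hβ'2, ← Category.assoc, hβ2, Category.assoc, Iso.hom_inv_id,
      Category.comp_id, Category.id_comp]
  have e2 : β' ≫ β = 𝟙 y := by
    have l1 : 𝒳.p.IsHomLift (𝟙 V) (β' ≫ β) := by
      have : 𝒳.p.IsHomLift (𝟙 V ≫ 𝟙 V) (β' ≫ β) := inferInstance
      simpa using this
    apply IsStronglyCartesian.ext 𝒳.p f φ (𝟙 V)
    rw [Category.assoc, hβ2, ← Category.assoc, hβ'2, Category.assoc, Iso.inv_hom_id,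
      Category.comp_id, Category.id_comp]
  have hFβ : F.map β = 𝟙 (F.obj y) := by
    apply hF β hβ1
    rw [← F.map_comp, hβ2, F.map_comp, B.map_aut, Category.comp_id]
  let A : (FibCat.inertia F).obj := ⟨y, ⟨β, β', e1, e2⟩, hFβ⟩
  let Φ : A ⟶ B := ⟨φ, hβ2⟩
  exact ⟨A, Φ, rfl, hφ⟩

end Inertia

end Groth.Agent.Lib.Helper31

namespace Groth.Agent.Lib.Helper31

open Functor

section FP

variable {C : Type u} [Category.{v} C] {𝒳 : BasedCategory.{v₂, u₂} C} {𝒴 : BasedCategory.{v₃, u₃} C}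
  {𝒮 : BasedCategory.{v₄, u₄} C} (F : 𝒳 ⥤ᵇ 𝒮) (G : 𝒴 ⥤ᵇ 𝒮)

/-- A morphism of the fibre product lifts `f` iff its first component does. -/
theorem fp_isHomLift_iff {R S : C} (f : R ⟶ S) {X Y : (FibCat.fp F G).obj} (Φ : X ⟶ Y) :
    (FibCat.fp F G).p.IsHomLift f Φ ↔ 𝒳.p.IsHomLift f Φ.hom.fst := by
  constructor
  · intro h
    obtain ⟨⟩ := h
    exact inferInstanceAs (𝒳.p.IsHomLift (𝒳.p.map Φ.hom.fst) Φ.hom.fst)
  · intro h
    have hA : 𝒳.p.obj X.obj.fst = R := IsHomLift.domain_eq 𝒳.p f Φ.hom.fst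
    have hB : 𝒳.p.obj Y.obj.fst = S := IsHomLift.codomain_eq 𝒳.p f Φ.hom.fst
    subst hA hB
    have h3 : f = 𝒳.p.map Φ.hom.fst := IsHomLift.eq_of_isHomLift 𝒳.p f Φ.hom.fst
    have : f = (FibCat.fp F G).p.map Φ := h3
    rw [this]
    exact Functor.IsHomLift.map Φ

/-- The second component of a morphism of the fibre product lifts whatever the first does. -/
theorem fp_snd_isHomLift {R S : C} (f : R ⟶ S) {X Y : (FibCat.fp F G).obj} (Φ : X ⟶ Y)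
    [h : 𝒳.p.IsHomLift f Φ.hom.fst] : 𝒴.p.IsHomLift f Φ.hom.snd := by
  have hA : 𝒳.p.obj X.obj.fst = R := IsHomLift.domain_eq 𝒳.p f Φ.hom.fst
  have hB : 𝒳.p.obj Y.obj.fst = S := IsHomLift.codomain_eq 𝒳.p f Φ.hom.fst
  subst hA hB
  have h3 : f = 𝒳.p.map Φ.hom.fst := IsHomLift.eq_of_isHomLift 𝒳.p f Φ.hom.fst
  have : f = (FibCat.fp F G).p.map Φ := h3
  rw [this]
  exact FibCat.fp_isHomLift_snd F G Φ

/-- The structural isomorphism of an object of the fibre product lies over an identity. -/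
theorem fp_iso_isHomLift (X : (FibCat.fp F G).obj) :
    𝒮.p.IsHomLift (𝟙 (𝒳.p.obj X.obj.fst)) X.obj.iso.hom := X.property

/-- A morphism of the fibre product with strongly cartesian components is strongly cartesian. -/
theorem fp_isStronglyCartesian {R S : C} (f : R ⟶ S) {X Y : (FibCat.fp F G).obj} (Φ : X ⟶ Y)
    [h1 : 𝒳.p.IsStronglyCartesian f Φ.hom.fst] [h2 : 𝒴.p.IsStronglyCartesian f Φ.hom.snd]
    [h3 : 𝒮.p.IsStronglyCartesian f (G.map Φ.hom.snd)] :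
    (FibCat.fp F G).p.IsStronglyCartesian f Φ := by
  have h0 : (FibCat.fp F G).p.IsHomLift f Φ := (fp_isHomLift_iff F G f Φ).mpr inferInstance
  refine { toIsHomLift := h0, universal_property' := ?_ }
  intro Z g₀ Ψ hΨ
  have hA : 𝒳.p.obj X.obj.fst = R := IsHomLift.domain_eq 𝒳.p f Φ.hom.fst
  subst hA
  obtain ⟨g, hg⟩ : ∃ g : 𝒳.p.obj Z.obj.fst ⟶ 𝒳.p.obj X.obj.fst, g = g₀ := ⟨g₀, rfl⟩
  have k1 : 𝒳.p.IsHomLift (g ≫ f) Ψ.hom.fst := by
    rw [hg]; exact (fp_isHomLift_iff F G (g₀ ≫ f) Ψ).mp hΨ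
  have k2 : 𝒴.p.IsHomLift (g ≫ f) Ψ.hom.snd := fp_snd_isHomLift F G (g ≫ f) Ψ
  let α : Z.obj.fst ⟶ X.obj.fst := IsStronglyCartesian.map 𝒳.p f Φ.hom.fst (g := g) rfl Ψ.hom.fst
  have hα1 : 𝒳.p.IsHomLift g α := inferInstance
  have hα2 : α ≫ Φ.hom.fst = Ψ.hom.fst := IsStronglyCartesian.fac _ _ _ _ _
  let β : Z.obj.snd ⟶ X.obj.snd := IsStronglyCartesian.map 𝒴.p f Φ.hom.snd (g := g) rfl Ψ.hom.snd
  have hβ1 : 𝒴.p.IsHomLift g β := inferInstance
  have hβ2 : β ≫ Φ.hom.snd = Ψ.hom.snd := IsStronglyCartesian.fac _ _ _ _ _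
  have hZ := fp_iso_isHomLift F G Z
  have hX := fp_iso_isHomLift F G X
  have hcomm : F.map α ≫ X.obj.iso.hom = Z.obj.iso.hom ≫ G.map β := by
    have l1 : 𝒮.p.IsHomLift g (F.map α ≫ X.obj.iso.hom) := by
      have : 𝒮.p.IsHomLift (g ≫ 𝟙 (𝒳.p.obj X.obj.fst)) (F.map α ≫ X.obj.iso.hom) := inferInstance
      simpa using this
    have l2 : 𝒮.p.IsHomLift g (Z.obj.iso.hom ≫ G.map β) := by
      have : 𝒮.p.IsHomLift (𝟙 (𝒳.p.obj Z.obj.fst) ≫ g) (Z.obj.iso.hom ≫ G.map β) := inferInstance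
      simpa using this
    apply IsStronglyCartesian.ext 𝒮.p f (G.map Φ.hom.snd) g
    rw [Category.assoc, ← Φ.hom.w, ← Category.assoc, ← F.map_comp, hα2, Ψ.hom.w, Category.assoc,
      ← G.map_comp, hβ2]
  let Ξ : Z ⟶ X := ObjectProperty.homMk ⟨α, β, hcomm⟩
  refine ⟨Ξ, ⟨?_, ?_⟩, ?_⟩
  · rw [← hg]
    exact (fp_isHomLift_iff F G g Ξ).mpr hα1
  · apply ObjectProperty.hom_ext
    apply Limits.CategoricalPullback.hom_ext
    · exact hα2
    · exact hβ2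
  · rintro Ξ' ⟨hΞ'1, hΞ'2⟩
    have m1 : 𝒳.p.IsHomLift g Ξ'.hom.fst := by
      rw [hg]; exact (fp_isHomLift_iff F G g₀ Ξ').mp hΞ'1
    have m2 : 𝒴.p.IsHomLift g Ξ'.hom.snd := fp_snd_isHomLift F G g Ξ'
    apply ObjectProperty.hom_ext
    apply Limits.CategoricalPullback.hom_ext
    · exact IsStronglyCartesian.map_uniq 𝒳.p f Φ.hom.fst (g := g) rfl Ψ.hom.fst Ξ'.hom.fst
        (congrArg (fun k => k.hom.fst) hΞ'2)
    · exact IsStronglyCartesian.map_uniq 𝒴.p f Φ.hom.snd (g := g) rfl Ψ.hom.snd Ξ'.hom.snd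
        (congrArg (fun k => k.hom.snd) hΞ'2)

/-- Existence of the structural isomorphism needed to lift to the fibre product. -/
theorem fp_exists_iso {x x₀ : 𝒳.obj} {y y₀ : 𝒴.obj} (ι : F.obj x ≅ G.obj y)
    [hι : 𝒮.p.IsHomLift (𝟙 (𝒳.p.obj x)) ι.hom] (f : 𝒳.p.obj x₀ ⟶ 𝒳.p.obj x)
    (a : x₀ ⟶ x) (b : y₀ ⟶ y)
    [ha : 𝒮.p.IsStronglyCartesian f (F.map a)] [hb : 𝒮.p.IsStronglyCartesian f (G.map b)] :
    ∃ (ι₀ : F.obj x₀ ≅ G.obj y₀), 𝒮.p.IsHomLift (𝟙 (𝒳.p.obj x₀)) ι₀.hom ∧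
      F.map a ≫ ι.hom = ι₀.hom ≫ G.map b := by
  have hι' : 𝒮.p.IsHomLift (𝟙 (𝒳.p.obj x)) ι.inv := inferInstance
  have h1 : 𝒮.p.IsHomLift (𝟙 (𝒳.p.obj x₀) ≫ f) (F.map a ≫ ι.hom) := by
    have : 𝒮.p.IsHomLift (f ≫ 𝟙 (𝒳.p.obj x)) (F.map a ≫ ι.hom) := inferInstance
    simpa using this
  have h2 : 𝒮.p.IsHomLift (𝟙 (𝒳.p.obj x₀) ≫ f) (G.map b ≫ ι.inv) := by
    have : 𝒮.p.IsHomLift (f ≫ 𝟙 (𝒳.p.obj x)) (G.map b ≫ ι.inv) := inferInstance
    simpa using this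
  let u : F.obj x₀ ⟶ G.obj y₀ :=
    IsStronglyCartesian.map 𝒮.p f (G.map b) (g := 𝟙 _) rfl (F.map a ≫ ι.hom)
  let w : G.obj y₀ ⟶ F.obj x₀ :=
    IsStronglyCartesian.map 𝒮.p f (F.map a) (g := 𝟙 _) rfl (G.map b ≫ ι.inv)
  have hu1 : 𝒮.p.IsHomLift (𝟙 (𝒳.p.obj x₀)) u := inferInstance
  have hu2 : u ≫ G.map b = F.map a ≫ ι.hom := IsStronglyCartesian.fac _ _ _ _ _
  have hw1 : 𝒮.p.IsHomLift (𝟙 (𝒳.p.obj x₀)) w := inferInstance
  have hw2 : w ≫ F.map a = G.map b ≫ ι.inv := IsStronglyCartesian.fac _ _ _ _ _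
  have hx₀ : 𝒮.p.IsHomLift (𝟙 (𝒳.p.obj x₀)) (𝟙 (F.obj x₀)) := inferInstance
  have hy₀ : 𝒮.p.IsHomLift (𝟙 (𝒳.p.obj x₀)) (𝟙 (G.obj y₀)) :=
    IsHomLift.id (IsHomLift.codomain_eq 𝒮.p (𝟙 (𝒳.p.obj x₀)) u)
  have e1 : u ≫ w = 𝟙 _ := by
    have l1 : 𝒮.p.IsHomLift (𝟙 (𝒳.p.obj x₀)) (u ≫ w) := by
      have : 𝒮.p.IsHomLift (𝟙 (𝒳.p.obj x₀) ≫ 𝟙 (𝒳.p.obj x₀)) (u ≫ w) := inferInstance
      simpa using this
    apply IsStronglyCartesian.ext 𝒮.p f (F.map a) (𝟙 (𝒳.p.obj x₀))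
    rw [Category.assoc, hw2, ← Category.assoc, hu2, Category.assoc, Iso.hom_inv_id,
      Category.comp_id, Category.id_comp]
  have e2 : w ≫ u = 𝟙 _ := by
    have l1 : 𝒮.p.IsHomLift (𝟙 (𝒳.p.obj x₀)) (w ≫ u) := by
      have : 𝒮.p.IsHomLift (𝟙 (𝒳.p.obj x₀) ≫ 𝟙 (𝒳.p.obj x₀)) (w ≫ u) := inferInstance
      simpa using this
    apply IsStronglyCartesian.ext 𝒮.p f (G.map b) (𝟙 (𝒳.p.obj x₀))
    rw [Category.assoc, hu2, ← Category.assoc, hw2, Category.assoc, Iso.inv_hom_id,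
      Category.comp_id, Category.id_comp]
  exact ⟨⟨u, w, e1, e2⟩, hu1, hu2.symm⟩

end FP

end Groth.Agent.Lib.Helper31

namespace Groth.Agent.Lib.Helper31

open Functor

section CompConverse

variable {𝒵 : Type u₂} [Category.{v₂} 𝒵] {𝒴 : Type u₃} [Category.{v₃} 𝒴] {C : Type u} [Category.{v} C]

/-- If `φ` is strongly cartesian for `r ⋙ q` and `r φ` is strongly cartesian for `q`, then `φ` is
strongly cartesian for `r`. -/
theorem isStronglyCartesian_of_comp_of_map (r : 𝒵 ⥤ 𝒴) (q : 𝒴 ⥤ C) {z₀ z : 𝒵} (φ : z₀ ⟶ z)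
    [h1 : (r ⋙ q).IsStronglyCartesian ((r ⋙ q).map φ) φ]
    [h2 : q.IsStronglyCartesian (q.map (r.map φ)) (r.map φ)] :
    r.IsStronglyCartesian (r.map φ) φ := by
  refine { toIsHomLift := inferInstance, universal_property' := ?_ }
  intro z₁ h ψ hψ
  have e1 : h ≫ r.map φ = r.map ψ := IsHomLift.eq_of_isHomLift r (h ≫ r.map φ) ψ
  have k1 : (r ⋙ q).IsHomLift (q.map h ≫ (r ⋙ q).map φ) ψ := by
    have : q.map h ≫ (r ⋙ q).map φ = (r ⋙ q).map ψ := by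
      simp only [Functor.comp_map, ← q.map_comp, e1]
    rw [this]; infer_instance
  let χ : z₁ ⟶ z₀ := IsStronglyCartesian.map (r ⋙ q) ((r ⋙ q).map φ) φ (g := q.map h) rfl ψ
  have hχ1 : (r ⋙ q).IsHomLift (q.map h) χ := inferInstance
  have hχ2 : χ ≫ φ = ψ := IsStronglyCartesian.fac _ _ _ _ _
  have e2 : q.map h = q.map (r.map χ) := IsHomLift.eq_of_isHomLift (r ⋙ q) (q.map h) χ
  have e3 : r.map χ = h := by
    have l1 : q.IsHomLift (q.map h) (r.map χ) := by rw [e2]; infer_instance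
    have l2 : q.IsHomLift (q.map h) h := inferInstance
    apply IsStronglyCartesian.ext q (q.map (r.map φ)) (r.map φ) (q.map h)
    rw [← r.map_comp, hχ2, e1]
  refine ⟨χ, ⟨?_, hχ2⟩, ?_⟩
  · rw [← e3]; infer_instance
  · rintro χ' ⟨hχ'1, hχ'2⟩
    have e4 : h = r.map χ' := IsHomLift.eq_of_isHomLift r h χ'
    have : (r ⋙ q).IsHomLift (q.map h) χ' := by
      rw [e4]; exact inferInstanceAs ((r ⋙ q).IsHomLift ((r ⋙ q).map χ') χ')
    exact IsStronglyCartesian.map_uniq (r ⋙ q) ((r ⋙ q).map φ) φ (g := q.map h) rfl ψ χ' hχ'2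

/-- Condition (2) of "fibred in groupoids" for `r` follows from `r ⋙ q` and `q` being fibred in
groupoids. -/
theorem isStronglyCartesian_of_isFibGrpd_comp (r : 𝒵 ⥤ 𝒴) (q : 𝒴 ⥤ C)
    (hrq : FibCat.IsFibGrpd (r ⋙ q)) (hq : FibCat.IsFibGrpd q) {z₀ z : 𝒵} (φ : z₀ ⟶ z) :
    r.IsStronglyCartesian (r.map φ) φ := by
  have := hrq.isStronglyCartesian φ
  have := hq.isStronglyCartesian (r.map φ)
  exact isStronglyCartesian_of_comp_of_map r q φ

/-- Any morphism lies over some morphism with prescribed (propositionally given) codomain. -/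
theorem exists_base_isHomLift (q : 𝒴 ⥤ C) {y' y : 𝒴} (g : y' ⟶ y) {U : C} (hy : q.obj y = U) :
    ∃ (V : C) (f : V ⟶ U), q.IsHomLift f g :=
  ⟨q.obj y', q.map g ≫ eqToHom hy, inferInstance⟩

/-- The slice category is fibred in groupoids over the base. -/
theorem isFibGrpd_overForget (U : C) : FibCat.IsFibGrpd (Over.forget U) := by
  refine ⟨?_, ?_⟩
  · intro x V f
    let y : Over U := Over.mk (f ≫ x.hom)
    let φ : y ⟶ x := Over.homMk f rfl
    exact ⟨y, φ, inferInstanceAs ((Over.forget U).IsHomLift ((Over.forget U).map φ) φ)⟩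
  · intro y x φ
    refine { toIsHomLift := inferInstance, universal_property' := ?_ }
    intro z g ψ hψ
    have e1 : g ≫ φ.left = ψ.left :=
      IsHomLift.eq_of_isHomLift (Over.forget U) (g ≫ (Over.forget U).map φ) ψ
    obtain ⟨g', hg'⟩ : ∃ g' : z.left ⟶ y.left, g' = g := ⟨g, rfl⟩
    have e1' : g' ≫ φ.left = ψ.left := by rw [hg']; exact e1
    have w : g' ≫ y.hom = z.hom := by
      rw [← Over.w φ, ← Category.assoc, e1', Over.w ψ]
    let χ : z ⟶ y := Over.homMk g' w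
    refine ⟨χ, ⟨?_, ?_⟩, ?_⟩
    · rw [← hg']
      exact inferInstanceAs ((Over.forget U).IsHomLift ((Over.forget U).map χ) χ)
    · apply Over.OverMorphism.ext
      exact e1'
    · rintro χ' ⟨hχ'1, hχ'2⟩
      apply Over.OverMorphism.ext
      have : g = χ'.left := IsHomLift.eq_of_isHomLift (Over.forget U) g χ'
      exact this.symm.trans hg'.symm

end CompConverse

end Groth.Agent.Lib.Helper31
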