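import Mathlib.Algebra.Module.FinitePresentation
import Mathlib.Algebra.Colimit.Module
import Mathlib.LinearAlgebra.Finsupp.Supported

set_option autoImplicit false
set_option linter.unusedSectionVars false
universe u

namespace Groth.Agent.Lib.Helper31

namespace FPColimit

variable (R : Type u) [CommRing R] (M : Type u) [AddCommGroup M] [Module R M]

/-- the free module on `M` (a synonym of `M →₀ R` carrying an `AddCommGroup` instance, so that
quotients of its submodules are found by instance search). -/
def Fr : Type u := M →₀ R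

noncomputable instance : AddCommGroup (Fr R M) := inferInstanceAs (AddCommGroup (M →₀ R))
noncomputable instance : Module R (Fr R M) := inferInstanceAs (Module R (M →₀ R))

/-- the canonical surjection from the free module on `M`. -/
noncomputable def π : Fr R M →ₗ[R] M := (Finsupp.linearCombination R id : (M →₀ R) →ₗ[R] M)

/-- basis vectors. -/
noncomputable def sgl (m : M) : Fr R M := Finsupp.single m (1 : R)

lemma π_sgl (m : M) : π R M (sgl R M m) = m := by
  change Finsupp.linearCombination R id (Finsupp.single m (1 : R)) = m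
  simp

/-- elements supported on `s`. -/
noncomputable def supp (s : Set M) : Submodule R (Fr R M) := Finsupp.supported R R s

lemma supp_mono {s t : Set M} (h : s ⊆ t) : supp R M s ≤ supp R M t :=
  Finsupp.supported_mono (M := R) (R := R) h

lemma sgl_mem_supp {s : Set M} {m : M} (h : m ∈ s) : sgl R M m ∈ supp R M s :=
  Finsupp.single_mem_supported R (1 : R) h

lemma finitePresentation_supp (s : Finset M) : Module.FinitePresentation R (supp R M (↑s : Set M)) := by
  have e : (supp R M (↑s : Set M)) ≃ₗ[R] ((↑s : Set M) →₀ R) :=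
    Finsupp.supportedEquivFinsupp (M := R) (R := R) (↑s : Set M)
  exact Module.FinitePresentation.of_equiv e.symm

/-- index type: a finite subset of `M` together with a finitely generated module of relations
between these elements. -/
def Idx : Type u :=
  {p : Finset M × Submodule R (Fr R M) //
    p.2.FG ∧ p.2 ≤ supp R M (↑p.1 : Set M) ∧ p.2 ≤ LinearMap.ker (π R M)}

noncomputable instance : Preorder (Idx R M) := inferInstanceAs (Preorder {p : Finset M × Submodule R (Fr R M) //
    p.2.FG ∧ p.2 ≤ supp R M (↑p.1 : Set M) ∧ p.2 ≤ LinearMap.ker (π R M)})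

variable {R M}

/-- the finite free module on the finite subset. -/
noncomputable abbrev A (p : Idx R M) : Submodule R (Fr R M) := supp R M (↑p.1.1 : Set M)

/-- the relations, as a submodule of `A p`. -/
noncomputable abbrev L (p : Idx R M) : Submodule R (A p) := p.1.2.comap (A p).subtype

/-- the finitely presented modules of the system. -/
abbrev G (p : Idx R M) : Type u := ↥(A p) ⧸ L p

lemma le_fst {p q : Idx R M} (h : p ≤ q) : p.1.1 ⊆ q.1.1 := h.1

lemma le_snd {p q : Idx R M} (h : p ≤ q) : p.1.2 ≤ q.1.2 := h.2

lemma A_mono {p q : Idx R M} (h : p ≤ q) : A p ≤ A q :=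
  supp_mono R M (Finset.coe_subset.mpr (le_fst h))

/-- the transition maps. -/
noncomputable def tr (p q : Idx R M) (h : p ≤ q) : G p →ₗ[R] G q :=
  Submodule.mapQ (L p) (L q) (Submodule.inclusion (A_mono h)) (fun _ hx => le_snd h hx)

lemma tr_mk (p q : Idx R M) (h : p ≤ q) (a : A p) :
    tr p q h (Submodule.Quotient.mk a) = Submodule.Quotient.mk (Submodule.inclusion (A_mono h) a) :=
  rfl

open Classical in
instance : IsDirected (Idx R M) (· ≤ ·) := by
  constructor
  intro p q
  refine ⟨⟨(p.1.1 ∪ q.1.1, p.1.2 ⊔ q.1.2), p.2.1.sup q.2.1, ?_, sup_le p.2.2.2 q.2.2.2⟩, ?_, ?_⟩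
  · apply sup_le
    · exact p.2.2.1.trans (supp_mono R M (Finset.coe_subset.mpr Finset.subset_union_left))
    · exact q.2.2.1.trans (supp_mono R M (Finset.coe_subset.mpr Finset.subset_union_right))
  · exact ⟨Finset.subset_union_left, le_sup_left⟩
  · exact ⟨Finset.subset_union_right, le_sup_right⟩

instance : Nonempty (Idx R M) := ⟨⟨(∅, ⊥), Submodule.fg_bot, bot_le, bot_le⟩⟩

instance : DirectedSystem (G (R := R) (M := M)) (fun p q h => tr p q h) where
  map_self p x := by
    obtain ⟨a, rfl⟩ := Submodule.Quotient.mk_surjective _ x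
    rfl
  map_map _ _ _ hij hjk x := by
    obtain ⟨a, rfl⟩ := Submodule.Quotient.mk_surjective _ x
    rfl

instance (p : Idx R M) : Module.FinitePresentation R (G p) := by
  have : Module.FinitePresentation R (A p) := finitePresentation_supp R M p.1.1
  apply Module.finitePresentation_of_surjective (L p).mkQ (L p).mkQ_surjective
  rw [Submodule.ker_mkQ]
  apply Submodule.fg_of_fg_map_injective (A p).subtype (A p).subtype_injective
  rw [Submodule.map_comap_eq, Submodule.range_subtype, inf_eq_right.mpr p.2.2.1]
  exact p.2.1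

/-- the maps to `M`. -/
noncomputable def φ (p : Idx R M) : G p →ₗ[R] M :=
  (L p).liftQ (π R M ∘ₗ (A p).subtype) (fun _ hx => p.2.2.2 hx)

lemma φ_mk (p : Idx R M) (a : A p) : φ p (Submodule.Quotient.mk a) = π R M a.1 := rfl

lemma φ_tr (p q : Idx R M) (h : p ≤ q) (x : G p) : φ q (tr p q h x) = φ p x := by
  obtain ⟨a, rfl⟩ := Submodule.Quotient.mk_surjective _ x
  rfl

open Classical in
/-- the comparison map from the colimit. -/
noncomputable def Φ : Module.DirectLimit (G (R := R) (M := M)) (fun p q h => tr p q h) →ₗ[R] M :=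
  Module.DirectLimit.lift R (Idx R M) G (fun p q h => tr p q h) φ (fun p q h x => φ_tr p q h x)

open Classical in
lemma Φ_bijective : Function.Bijective (Φ (R := R) (M := M)) := by
  constructor
  · rw [injective_iff_map_eq_zero]
    intro z hz
    obtain ⟨p, x, rfl⟩ := Module.DirectLimit.exists_of z
    obtain ⟨a, rfl⟩ := Submodule.Quotient.mk_surjective _ x
    rw [Φ, Module.DirectLimit.lift_of, φ_mk] at hz
    let q : Idx R M := ⟨(p.1.1, p.1.2 ⊔ Submodule.span R {a.1}),
      p.2.1.sup (Submodule.fg_span_singleton _),
      sup_le p.2.2.1 ((Submodule.span_singleton_le_iff_mem _ _).mpr a.2),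
      sup_le p.2.2.2 ((Submodule.span_singleton_le_iff_mem _ _).mpr hz)⟩
    have hpq : p ≤ q := ⟨le_refl _, le_sup_left⟩
    rw [← Module.DirectLimit.of_f (hij := hpq), tr_mk]
    have h0 : (Submodule.Quotient.mk (Submodule.inclusion (A_mono hpq) a) : G q) = 0 := by
      rw [Submodule.Quotient.mk_eq_zero]
      change a.1 ∈ p.1.2 ⊔ Submodule.span R {a.1}
      exact Submodule.mem_sup_right (Submodule.mem_span_singleton_self _)
    rw [h0, map_zero]
  · intro m
    let p : Idx R M := ⟨({m}, ⊥), Submodule.fg_bot, bot_le, bot_le⟩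
    have hm : sgl R M m ∈ A p := sgl_mem_supp R M (by simp [p])
    refine ⟨Module.DirectLimit.of R (Idx R M) G (fun p q h => tr p q h) p
      (Submodule.Quotient.mk ⟨sgl R M m, hm⟩), ?_⟩
    rw [Φ, Module.DirectLimit.lift_of, φ_mk]
    exact π_sgl R M m

variable (R M)

/-- **Every module is the direct limit of a directed system of finitely presented modules.** -/
theorem exists_directLimit_finitePresentation :
    ∃ (ι : Type u) (_ : Preorder ι) (_ : IsDirected ι (· ≤ ·)) (_ : Nonempty ι) (_ : DecidableEq ι)
      (G : ι → Type u) (_ : ∀ i, AddCommGroup (G i)) (_ : ∀ i, Module R (G i))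
      (f : ∀ i j, i ≤ j → G i →ₗ[R] G j) (_ : DirectedSystem G fun i j h => f i j h),
      (∀ i, Module.FinitePresentation R (G i)) ∧ Nonempty (Module.DirectLimit G f ≃ₗ[R] M) :=
  ⟨Idx R M, inferInstance, inferInstance, inferInstance, Classical.decEq _, G, inferInstance,
    inferInstance, fun p q h => tr p q h, inferInstance, inferInstance,
    ⟨LinearEquiv.ofBijective Φ Φ_bijective⟩⟩

end FPColimit

end Groth.Agent.Lib.Helper31
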