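import Groth.Agent.Lib.Helper31.Representable

set_option autoImplicit false
open CategoryTheory CategoryTheory.Limits CategoryTheory.Functor
universe v₃ u₃ v₂ u₂ v u

namespace Groth.Agent.Lib.Helper31

section

variable {C : Type u} [Category.{v} C] {𝒳 : BasedCategory.{v₂, u₂} C} {𝒴 : BasedCategory.{v₃, u₃} C}
  (G : 𝒳 ⥤ᵇ 𝒴)

@[simp] lemma diag_obj_fst (x : 𝒳.obj) : ((FibCat.diag G).obj x).obj.fst = x := rfl
@[simp] lemma diag_obj_snd (x : 𝒳.obj) : ((FibCat.diag G).obj x).obj.snd = x := rfl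
lemma diag_obj_iso_hom (x : 𝒳.obj) : ((FibCat.diag G).obj x).obj.iso.hom = 𝟙 (G.obj x) := rfl
@[simp] lemma diag_map_fst {x y : 𝒳.obj} (f : x ⟶ y) : ((FibCat.diag G).map f).hom.fst = f := rfl
@[simp] lemma diag_map_snd {x y : 𝒳.obj} (f : x ⟶ y) : ((FibCat.diag G).map f).hom.snd = f := rfl

section Forward

variable [hfull : G.toFunctor.Full]

/-- the preimage of the structural isomorphism. -/
noncomputable def diagBeta (X : (FibCat.fp G G).obj) : X.obj.fst ⟶ X.obj.snd :=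
  G.toFunctor.preimage X.obj.iso.hom

lemma map_diagBeta (X : (FibCat.fp G G).obj) : G.map (diagBeta G X) = X.obj.iso.hom :=
  G.toFunctor.map_preimage _

variable [hfaith : G.toFunctor.Faithful]

instance diagBeta_isIso (X : (FibCat.fp G G).obj) : IsIso (diagBeta G X) := by
  have : IsIso (G.toFunctor.map (diagBeta G X)) := by
    have := map_diagBeta G X
    change G.toFunctor.map (diagBeta G X) = _ at this
    rw [this]; infer_instance
  exact isIso_of_fully_faithful G.toFunctor _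

/-- the component of the counit. -/
noncomputable def diagTau (X : (FibCat.fp G G).obj) : (FibCat.diag G).obj X.obj.fst ⟶ X :=
  ObjectProperty.homMk ⟨𝟙 X.obj.fst, diagBeta G X, by
    have h : G.map (𝟙 X.obj.fst) ≫ X.obj.iso.hom = 𝟙 (G.obj X.obj.fst) ≫ G.map (diagBeta G X) := by
      rw [map_diagBeta]; simp
    exact h⟩

lemma diagTau_fst (X : (FibCat.fp G G).obj) : (diagTau G X).hom.fst = 𝟙 X.obj.fst := rfl
lemma diagTau_snd (X : (FibCat.fp G G).obj) : (diagTau G X).hom.snd = diagBeta G X := rfl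

instance diagTau_isIso (X : (FibCat.fp G G).obj) : IsIso (diagTau G X) := by
  have h1 : IsIso ((FibCat.fpProp G G).ι.map (diagTau G X)) := by
    rw [CategoricalPullback.isIso_iff]
    constructor
    · exact (inferInstance : IsIso (𝟙 X.obj.fst))
    · exact (inferInstance : IsIso (diagBeta G X))
  exact isIso_of_fully_faithful (FibCat.fpProp G G).ι _

theorem diag_isEquivOver_of_fullyFaithful : FibCat.IsEquivOver (FibCat.diag G) := by
  refine ⟨FibCat.fpFst G G, ⟨?_⟩, ⟨?_⟩⟩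
  · refine BasedNatIso.mkNatIso (NatIso.ofComponents (fun x => Iso.refl x) ?_) ?_
    · intro x y f
      change f ≫ 𝟙 y = 𝟙 x ≫ f
      simp
    · intro x
      change 𝒳.p.IsHomLift (𝟙 (𝒳.p.obj x)) (𝟙 x)
      infer_instance
  · let τ : BasedFunctor.comp (FibCat.fpFst G G) (FibCat.diag G) ⟶ BasedFunctor.id (FibCat.fp G G) :=
      { toNatTrans :=
          { app := fun X => diagTau G X
            naturality := by
              intro X X' Φ
              apply ObjectProperty.hom_ext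
              apply CategoricalPullback.hom_ext
              · change Φ.hom.fst ≫ 𝟙 _ = 𝟙 _ ≫ Φ.hom.fst
                simp
              · change Φ.hom.fst ≫ diagBeta G X' = diagBeta G X ≫ Φ.hom.snd
                apply G.toFunctor.map_injective
                rw [G.map_comp, G.map_comp, map_diagBeta, map_diagBeta]
                exact Φ.hom.w }
        isHomLift' := by
          intro X
          apply (fp_isHomLift_iff G G _ _).mpr
          change 𝒳.p.IsHomLift (𝟙 (𝒳.p.obj X.obj.fst)) (𝟙 X.obj.fst)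
          infer_instance }
    have : ∀ X, IsIso (τ.toNatTrans.app X) := fun X => diagTau_isIso G X
    have : IsIso (X := (BasedFunctor.comp (FibCat.fpFst G G) (FibCat.diag G)).toFunctor) τ.toNatTrans :=
      NatIso.isIso_of_isIso_app _
    have : IsIso τ := BasedNatIso.isIso_of_toNatTrans_isIso τ
    exact asIso τ

end Forward

section Backward

theorem faithful_of_diag_full [hD : (FibCat.diag G).toFunctor.Full] : G.toFunctor.Faithful := by
  constructor
  intro x y a b hab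
  let M : (FibCat.diag G).obj x ⟶ (FibCat.diag G).obj y :=
    ObjectProperty.homMk ⟨a, b, by
      have h : G.map a ≫ 𝟙 (G.obj y) = 𝟙 (G.obj x) ≫ G.map b := by
        have hab' : G.map a = G.map b := hab
        rw [hab']; simp
      exact h⟩
  obtain ⟨c, hc⟩ := (FibCat.diag G).toFunctor.map_surjective M
  have h1 : c = a := congrArg (fun k => k.hom.fst) hc
  have h2 : c = b := congrArg (fun k => k.hom.snd) hc
  exact h1.symm.trans h2

theorem full_of_diag_essSurj (h𝒳 : FibCat.IsFibGrpd 𝒳.p) (h𝒴 : FibCat.IsFibGrpd 𝒴.p)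
    [hD : (FibCat.diag G).toFunctor.EssSurj] : G.toFunctor.Full := by
  constructor
  intro x y ψ₀
  obtain ⟨ψ, hψ⟩ : ∃ ψ : G.obj x ⟶ G.obj y, ψ = ψ₀ := ⟨ψ₀, rfl⟩
  -- the base morphism
  let u : 𝒳.p.obj x ⟶ 𝒳.p.obj y := eqToHom (G.w_obj x).symm ≫ 𝒴.p.map ψ ≫ eqToHom (G.w_obj y)
  have hψu : 𝒴.p.IsHomLift u ψ := by
    apply IsHomLift.of_fac 𝒴.p u ψ (G.w_obj x) (G.w_obj y)
    rfl
  obtain ⟨x', b₀, hb₀⟩ := h𝒳.exists_lift (x := y) u
  have hGb₀ : 𝒴.p.IsHomLift u (G.map b₀) := BasedFunctor.preserves_isHomLift G u b₀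
  have hcart : 𝒴.p.IsStronglyCartesian u (G.map b₀) :=
    isStronglyCartesian_of_isFibGrpd 𝒴.p h𝒴 u (G.map b₀)
  let θ : G.obj x ⟶ G.obj x' :=
    IsStronglyCartesian.map 𝒴.p u (G.map b₀) (g := 𝟙 (𝒳.p.obj x)) (Category.id_comp _).symm ψ
  have hθ1 : 𝒴.p.IsHomLift (𝟙 (𝒳.p.obj x)) θ :=
    IsStronglyCartesian.map_isHomLift 𝒴.p u (G.map b₀) (g := 𝟙 (𝒳.p.obj x)) (Category.id_comp _).symm ψ
  have hθ2 : θ ≫ G.map b₀ = ψ :=
    IsStronglyCartesian.fac 𝒴.p u (G.map b₀) (g := 𝟙 (𝒳.p.obj x)) (Category.id_comp _).symm ψ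
  have hθiso : IsIso θ := by
    have hfac := IsHomLift.fac' 𝒴.p (𝟙 (𝒳.p.obj x)) θ
    have : IsIso (𝒴.p.map θ) := by rw [hfac]; infer_instance
    exact isIso_of_isFibGrpd 𝒴.p h𝒴 θ
  let Z : (FibCat.fp G G).obj := ⟨⟨x, x', asIso θ⟩, hθ1⟩
  obtain ⟨z, ⟨i⟩⟩ : ∃ z, Nonempty ((FibCat.diag G).toFunctor.obj z ≅ Z) :=
    ⟨_, ⟨(FibCat.diag G).toFunctor.objObjPreimageIso Z⟩⟩
  obtain ⟨a, ha⟩ : ∃ a : z ⟶ x, a = i.hom.hom.fst := ⟨_, rfl⟩
  obtain ⟨b, hb⟩ : ∃ b : z ⟶ x', b = i.hom.hom.snd := ⟨_, rfl⟩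
  have hw : G.map a ≫ θ = 𝟙 (G.obj z) ≫ G.map b := by
    rw [ha, hb]; exact i.hom.hom.w
  have haiso : IsIso a := by
    have h1 : IsIso ((FibCat.fpProp G G).ι.map i.hom) := inferInstance
    have h2 := (CategoricalPullback.isIso_iff _ _ _).mp h1
    rw [ha]; exact h2.1
  refine ⟨inv a ≫ b ≫ b₀, ?_⟩
  change G.map (inv a ≫ b ≫ b₀) = ψ₀
  rw [← hψ, ← hθ2, G.map_comp, G.map_comp, ← Category.assoc]
  congr 1
  have : G.map (inv a) = inv (G.map a) := by
    change G.toFunctor.map (inv a) = inv (G.toFunctor.map a)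
    rw [Functor.map_inv]
  rw [this, IsIso.inv_comp_eq, hw, Category.id_comp]

end Backward

theorem fullyFaithful_iff_diag_isEquivOver (h𝒳 : FibCat.IsFibGrpd 𝒳.p) (h𝒴 : FibCat.IsFibGrpd 𝒴.p) :
    (G.toFunctor.Full ∧ G.toFunctor.Faithful) ↔ FibCat.IsEquivOver (FibCat.diag G) := by
  constructor
  · rintro ⟨h1, h2⟩
    exact diag_isEquivOver_of_fullyFaithful G
  · intro hD
    have hDE := isEquivalence_of_isEquivOver (FibCat.diag G) hD
    exact ⟨full_of_diag_essSurj G h𝒳 h𝒴, faithful_of_diag_full G⟩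

end

end Groth.Agent.Lib.Helper31
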