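import Groth.Agent.Lib.Helper31.FibCat
import Groth.Prelude.Def_W4stkcategoriessitesFib

set_option autoImplicit false
open CategoryTheory
universe v₄ u₄ v₃ u₃ v₂ u₂ v u

namespace Groth.Agent.Lib.Helper31

open Functor

section FiberFunctor

variable {C : Type u} [Category.{v} C] {𝒳 : BasedCategory.{v₂, u₂} C} {𝒴 : BasedCategory.{v₃, u₃} C}
  (G : 𝒳 ⥤ᵇ 𝒴)

theorem fiberFunctor_faithful_of_faithful [G.toFunctor.Faithful] (U : C) :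
    (FibCat.fiberFunctor G U).Faithful := by
  constructor
  intro x y φ ψ h
  apply Fiber.hom_ext
  apply G.toFunctor.map_injective
  exact congrArg (fun k => k.1) h

theorem fiberFunctor_full_of_full [G.toFunctor.Full] (U : C) :
    (FibCat.fiberFunctor G U).Full := by
  constructor
  intro x y ψ
  obtain ⟨φ, hφ⟩ := G.toFunctor.map_surjective ψ.1
  have h1 : 𝒴.p.IsHomLift (𝟙 U) (G.map φ) := by
    rw [hφ]; exact ψ.2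
  have h2 : 𝒳.p.IsHomLift (𝟙 U) φ := BasedFunctor.isHomLift_map G (𝟙 U) φ
  refine ⟨⟨φ, h2⟩, ?_⟩
  apply Fiber.hom_ext
  exact hφ

theorem faithful_of_fiberFunctor_faithful (h𝒳 : FibCat.IsFibGrpd 𝒳.p) (h𝒴 : FibCat.IsFibGrpd 𝒴.p)
    (h : ∀ U : C, (FibCat.fiberFunctor G U).Faithful) : G.toFunctor.Faithful := by
  constructor
  intro x y φ ψ hφψ
  have hψ := h𝒳.isStronglyCartesian ψ
  have h1 : 𝒴.p.IsHomLift (𝒳.p.map ψ) (G.map φ) := by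
    rw [hφψ]; infer_instance
  have h2 : 𝒳.p.IsHomLift (𝟙 (𝒳.p.obj x) ≫ 𝒳.p.map ψ) φ := by
    rw [Category.id_comp]; exact BasedFunctor.isHomLift_map G _ φ
  let χ : x ⟶ x := IsStronglyCartesian.map 𝒳.p (𝒳.p.map ψ) ψ (g := 𝟙 _) rfl φ
  have hχ1 : 𝒳.p.IsHomLift (𝟙 (𝒳.p.obj x)) χ := inferInstance
  have hχ2 : χ ≫ ψ = φ := IsStronglyCartesian.fac _ _ _ _ _
  -- `G χ = 𝟙`
  have hGψ : 𝒴.p.IsStronglyCartesian (𝒳.p.map ψ) (G.map ψ) :=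
    isStronglyCartesian_of_isFibGrpd 𝒴.p h𝒴 _ _
  have e2 : G.map χ = 𝟙 (G.obj x) := by
    apply IsStronglyCartesian.ext 𝒴.p (𝒳.p.map ψ) (G.map ψ) (𝟙 (𝒳.p.obj x))
    rw [← G.map_comp, hχ2, hφψ, Category.id_comp]
  -- use faithfulness of the fibre functor
  have := h (𝒳.p.obj x)
  let X : 𝒳.p.Fiber (𝒳.p.obj x) := Fiber.mk rfl
  let χ' : X ⟶ X := ⟨χ, hχ1⟩
  have e3 : (FibCat.fiberFunctor G (𝒳.p.obj x)).map χ' = (FibCat.fiberFunctor G (𝒳.p.obj x)).map (𝟙 X) := by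
    apply Fiber.hom_ext
    change G.map χ = G.map (𝟙 x)
    rw [e2, G.map_id]
  have e4 : χ' = 𝟙 X := (FibCat.fiberFunctor G (𝒳.p.obj x)).map_injective e3
  have e5 : χ = 𝟙 x := congrArg (fun k => k.1) e4
  rw [← hχ2, e5, Category.id_comp]

theorem full_of_fiberFunctor_full (h𝒳 : FibCat.IsFibGrpd 𝒳.p) (h𝒴 : FibCat.IsFibGrpd 𝒴.p)
    (h : ∀ U : C, (FibCat.fiberFunctor G U).Full) : G.toFunctor.Full := by
  constructor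
  intro x y ψ
  -- the base morphism of `ψ`
  have hx : 𝒴.p.obj (G.obj x) = 𝒳.p.obj x := G.w_obj x
  have hy : 𝒴.p.obj (G.obj y) = 𝒳.p.obj y := G.w_obj y
  let f : 𝒳.p.obj x ⟶ 𝒳.p.obj y := eqToHom hx.symm ≫ 𝒴.p.map ψ ≫ eqToHom hy
  have hψ : 𝒴.p.IsHomLift f ψ := IsHomLift.of_fac 𝒴.p f ψ hx hy rfl
  obtain ⟨x', φ₀, hφ₀⟩ := h𝒳.exists_lift (x := y) f
  have hGφ₀ : 𝒴.p.IsStronglyCartesian f (G.map φ₀) :=
    isStronglyCartesian_of_isFibGrpd 𝒴.p h𝒴 _ _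
  have hψ' : 𝒴.p.IsHomLift (𝟙 (𝒳.p.obj x) ≫ f) ψ := by rw [Category.id_comp]; exact hψ
  let χ : G.obj x ⟶ G.obj x' := IsStronglyCartesian.map 𝒴.p f (G.map φ₀) (g := 𝟙 _) rfl ψ
  have hχ1 : 𝒴.p.IsHomLift (𝟙 (𝒳.p.obj x)) χ := inferInstance
  have hχ2 : χ ≫ G.map φ₀ = ψ := IsStronglyCartesian.fac _ _ _ _ _
  have hx' : 𝒳.p.obj x' = 𝒳.p.obj x := IsHomLift.domain_eq 𝒳.p f φ₀
  have := h (𝒳.p.obj x)
  let X : 𝒳.p.Fiber (𝒳.p.obj x) := Fiber.mk rfl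
  let X' : 𝒳.p.Fiber (𝒳.p.obj x) := Fiber.mk hx'
  let χ' : (FibCat.fiberFunctor G (𝒳.p.obj x)).obj X ⟶ (FibCat.fiberFunctor G (𝒳.p.obj x)).obj X' :=
    ⟨χ, hχ1⟩
  obtain ⟨χ₀, hχ₀⟩ := (FibCat.fiberFunctor G (𝒳.p.obj x)).map_surjective χ'
  let χ₁ : x ⟶ x' := χ₀.1
  have e1 : G.map χ₁ = χ := congrArg (fun k => k.1) hχ₀
  refine ⟨χ₁ ≫ φ₀, ?_⟩
  rw [G.map_comp, e1, hχ2]

theorem essSurj_of_fiberFunctor_essSurj
    (h : ∀ U : C, (FibCat.fiberFunctor G U).EssSurj) : G.toFunctor.EssSurj := by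
  constructor
  intro y
  have := h (𝒴.p.obj y)
  let Y : 𝒴.p.Fiber (𝒴.p.obj y) := Fiber.mk rfl
  obtain ⟨X, ⟨e⟩⟩ := Functor.EssSurj.mem_essImage (FibCat.fiberFunctor G (𝒴.p.obj y)) Y
  exact ⟨X.1, ⟨(Fiber.fiberInclusion (p := 𝒴.p) (S := 𝒴.p.obj y)).mapIso e⟩⟩

theorem fiberFunctor_essSurj_of_essSurj (h𝒳 : FibCat.IsFibGrpd 𝒳.p)
    [G.toFunctor.EssSurj] (U : C) : (FibCat.fiberFunctor G U).EssSurj := by
  constructor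
  intro Y
  obtain ⟨x, ⟨θ⟩⟩ := Functor.EssSurj.mem_essImage G.toFunctor Y.1
  -- the base isomorphism of `θ`
  have hx : 𝒴.p.obj (G.obj x) = 𝒳.p.obj x := G.w_obj x
  have hY : 𝒴.p.obj Y.1 = U := Y.2
  let f : 𝒳.p.obj x ≅ U := eqToIso hx.symm ≪≫ 𝒴.p.mapIso θ ≪≫ eqToIso hY
  have hθ : 𝒴.p.IsHomLift f.hom θ.hom := IsHomLift.of_fac 𝒴.p f.hom θ.hom hx hY (by simp [f])
  obtain ⟨x', φ, hφ⟩ := h𝒳.exists_lift (x := x) f.inv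
  have hx' : 𝒳.p.obj x' = U := IsHomLift.domain_eq 𝒳.p f.inv φ
  have hisoφ : IsIso (𝒳.p.map φ) := by
    rw [IsHomLift.fac' 𝒳.p f.inv φ]; infer_instance
  have hφiso : IsIso φ := isIso_of_isFibGrpd 𝒳.p h𝒳 φ
  let X' : 𝒳.p.Fiber U := Fiber.mk hx'
  obtain ⟨m, hm⟩ : ∃ m : G.obj x' ⟶ Y.1, m = G.map φ ≫ θ.hom := ⟨_, rfl⟩
  have h1 : 𝒴.p.IsHomLift (𝟙 U) m := by
    have : 𝒴.p.IsHomLift (f.inv ≫ f.hom) (G.map φ ≫ θ.hom) := inferInstance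
    rw [hm]
    simpa using this
  have hiso : IsIso m := by rw [hm]; infer_instance
  obtain ⟨mi, hmi⟩ : ∃ mi : Y.1 ⟶ G.obj x', mi = CategoryTheory.inv m := ⟨_, rfl⟩
  have h2 : 𝒴.p.IsHomLift (𝟙 U) mi := by rw [hmi]; infer_instance
  have e1 : m ≫ mi = 𝟙 _ := by rw [hmi]; exact IsIso.hom_inv_id m
  have e2 : mi ≫ m = 𝟙 _ := by rw [hmi]; exact IsIso.inv_hom_id m
  let e : (FibCat.fiberFunctor G U).obj X' ⟶ Y := ⟨m, h1⟩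
  let e' : Y ⟶ (FibCat.fiberFunctor G U).obj X' := ⟨mi, h2⟩
  refine ⟨X', ⟨⟨e, e', ?_, ?_⟩⟩⟩
  · apply Fiber.hom_ext
    exact e1
  · apply Fiber.hom_ext
    exact e2

end FiberFunctor

end Groth.Agent.Lib.Helper31
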