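import Groth.Agent.Lib.Helper31.MittagLeffler
import Mathlib.LinearAlgebra.TensorProduct.Tower

set_option autoImplicit false
open TensorProduct
universe u

namespace Groth.Agent.Lib.Helper31

namespace ML

variable (R S : Type u) [CommRing R] [CommRing S] [Algebra R S] (M : Type u) [AddCommGroup M] [Module R M]

/-- the comparison `(S ⊗[R] M) ⊗[S] X ≃ M ⊗[R] X`, `(s ⊗ m) ⊗ x ↦ m ⊗ s • x`. -/
noncomputable def bcEquiv (X : Type u) [AddCommGroup X] [Module S X] [Module R X] [IsScalarTower R S X] :
    (S ⊗[R] M) ⊗[S] X ≃ₗ[R] M ⊗[R] X :=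
  ((TensorProduct.comm S (S ⊗[R] M) X).restrictScalars R) ≪≫ₗ
    ((TensorProduct.AlgebraTensorModule.cancelBaseChange R S S X M).restrictScalars R) ≪≫ₗ
      (TensorProduct.comm R X M)

lemma bcEquiv_tmul (X : Type u) [AddCommGroup X] [Module S X] [Module R X] [IsScalarTower R S X]
    (s : S) (m : M) (x : X) : bcEquiv R S M X ((s ⊗ₜ[R] m) ⊗ₜ[S] x) = m ⊗ₜ[R] (s • x) := rfl

theorem isMittagLeffler_baseChange (hM : CAlg.IsMittagLeffler R M) :
    CAlg.IsMittagLeffler S (S ⊗[R] M) := by
  intro ι Q _ _
  let _ : ∀ i, Module R (Q i) := fun i => Module.compHom (Q i) (algebraMap R S)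
  have : ∀ i, IsScalarTower R S (Q i) := fun i => IsScalarTower.of_compHom R S (Q i)
  rw [injective_iff_map_eq_zero]
  intro t ht
  have key : ∀ (t : (S ⊗[R] M) ⊗[S] (∀ i, Q i)) (i : ι),
      TensorProduct.piRightHom R R M Q (bcEquiv R S M (∀ i, Q i) t) i =
        bcEquiv R S M (Q i) (TensorProduct.piRightHom S S (S ⊗[R] M) Q t i) := by
    intro t i
    induction t using TensorProduct.induction_on with
    | zero => simp
    | tmul y q =>
      induction y using TensorProduct.induction_on with
      | zero => simp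
      | tmul s m => rfl
      | add a b ha hb =>
        rw [TensorProduct.add_tmul, map_add, map_add, map_add, Pi.add_apply, Pi.add_apply, map_add,
          ha, hb]
    | add a b ha hb => rw [map_add, map_add, map_add, Pi.add_apply, Pi.add_apply, map_add, ha, hb]
  have h0 : bcEquiv R S M (∀ i, Q i) t = 0 := by
    apply (injective_iff_map_eq_zero _).mp (hM ι Q)
    funext i
    rw [key, ht]
    simp
  exact (bcEquiv R S M (∀ i, Q i)).injective (h0.trans (map_zero _).symm)

end ML

end Groth.Agent.Lib.Helper31
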