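import Groth.Agent.Lib.Helper31.DominateDL
import Groth.Agent.Lib.Helper31.MittagLefflerBC
import Groth.Agent.Lib.Helper31.FPColimit
import Mathlib.RingTheory.Flat.FaithfullyFlat.Algebra

set_option autoImplicit false
set_option linter.unusedSectionVars false
open TensorProduct
universe u

namespace Groth.Agent.Lib.Helper31

namespace ML

variable (R S : Type u) [CommRing R] [CommRing S] [Algebra R S]

/-- naturality of `bcEquiv` in the module. -/
lemma bcEquiv_naturality {A B : Type u} [AddCommGroup A] [Module R A] [AddCommGroup B] [Module R B]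
    (φ : A →ₗ[R] B) (X : Type u) [AddCommGroup X] [Module S X] [Module R X] [IsScalarTower R S X]
    (t : (S ⊗[R] A) ⊗[S] X) :
    bcEquiv R S B X ((φ.baseChange S).rTensor X t) = φ.rTensor X (bcEquiv R S A X t) := by
  induction t using TensorProduct.induction_on with
  | zero => simp
  | tmul y x =>
    induction y using TensorProduct.induction_on with
    | zero => simp
    | tmul s a =>
      rw [LinearMap.rTensor_tmul, LinearMap.baseChange_tmul, bcEquiv_tmul, bcEquiv_tmul,
        LinearMap.rTensor_tmul]
    | add a b ha hb =>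
      rw [TensorProduct.add_tmul, map_add, map_add, map_add, map_add, ha, hb]
  | add a b ha hb => rw [map_add, map_add, map_add, map_add, ha, hb]

/-- domination over `S` of base changed maps implies domination over `R` when `S` is faithfully
flat. -/
theorem dominates_of_dominates_baseChange [Module.FaithfullyFlat R S]
    {A B C : Type u} [AddCommGroup A] [Module R A] [AddCommGroup B] [Module R B]
    [AddCommGroup C] [Module R C] (f : A →ₗ[R] B) (g : A →ₗ[R] C)
    (h : Dominates S (f.baseChange S) (g.baseChange S)) : Dominates R f g := by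
  intro X _ _ t ht
  rw [LinearMap.mem_ker] at ht ⊢
  -- the map `x ↦ 1 ⊗ x`
  let ιX : X →ₗ[R] S ⊗[R] X := TensorProduct.mk R S X 1
  -- pass to `S ⊗ X`
  set t' : A ⊗[R] (S ⊗[R] X) := ιX.lTensor A t with ht'
  have h1 : f.rTensor (S ⊗[R] X) t' = 0 := by
    rw [ht', ← LinearMap.comp_apply, LinearMap.rTensor_comp_lTensor, ← LinearMap.lTensor_comp_rTensor,
      LinearMap.comp_apply, ht, map_zero]
  have h2 : (bcEquiv R S A (S ⊗[R] X)).symm t' ∈
      LinearMap.ker ((f.baseChange S).rTensor (S ⊗[R] X)) := by
    rw [LinearMap.mem_ker]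
    apply (bcEquiv R S B (S ⊗[R] X)).injective
    rw [bcEquiv_naturality, LinearEquiv.apply_symm_apply, h1, map_zero]
  have h3 := h (S ⊗[R] X) h2
  rw [LinearMap.mem_ker] at h3
  have h4 : g.rTensor (S ⊗[R] X) t' = 0 := by
    have := congrArg (bcEquiv R S C (S ⊗[R] X)) h3
    rw [bcEquiv_naturality, LinearEquiv.apply_symm_apply, map_zero] at this
    exact this
  -- `C ⊗ X → C ⊗ (S ⊗ X)` is injective
  have hinj : Function.Injective (ιX.lTensor C) := by
    have h5 : ∀ z : C ⊗[R] X, TensorProduct.leftComm R C S X (ιX.lTensor C z) =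
        TensorProduct.mk R S (C ⊗[R] X) 1 z := by
      intro z
      induction z using TensorProduct.induction_on with
      | zero => simp
      | tmul c x => simp [ιX]
      | add a b ha hb => simp only [map_add, ha, hb]
    intro a b hab
    apply Module.FaithfullyFlat.tensorProduct_mk_injective (A := R) (B := S) (C ⊗[R] X)
    rw [← h5, ← h5, hab]
  apply hinj
  rw [map_zero, ← LinearMap.comp_apply, LinearMap.lTensor_comp_rTensor, ← LinearMap.rTensor_comp_lTensor,
    LinearMap.comp_apply]
  exact h4

section DL

variable {ι : Type u} [Preorder ι] [IsDirected ι (· ≤ ·)] [Nonempty ι] [DecidableEq ι] (G : ι → Type u)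
  [∀ i, AddCommGroup (G i)] [∀ i, Module R (G i)] [∀ i, Module.FinitePresentation R (G i)]
  (f : ∀ i j, i ≤ j → G i →ₗ[R] G j) [DirectedSystem G fun i j h => f i j h]

/-- if the base change of the colimit is Mittag-Leffler over `S`, the base changes of the transition
maps eventually dominate. -/
theorem exists_dominates_baseChange
    (hM : CAlg.IsMittagLeffler S (S ⊗[R] Module.DirectLimit G f)) (i : ι) :
    ∃ (j : ι) (hij : i ≤ j), Dominates S ((Module.DirectLimit.of R ι G f i).baseChange S)
      ((f i j hij).baseChange S) := by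
  obtain ⟨X, _, _, y, hy, htest⟩ :=
    exists_test_element S hM ((Module.DirectLimit.of R ι G f i).baseChange S)
  let _ : Module R X := Module.compHom X (algebraMap R S)
  have : IsScalarTower R S X := IsScalarTower.of_compHom R S X
  have h1 : (Module.DirectLimit.of R ι G f i).rTensor X (bcEquiv R S (G i) X y) = 0 := by
    rw [← bcEquiv_naturality, hy, map_zero]
  obtain ⟨j, hij, hj⟩ := exists_rTensor_eq_zero_of_of R G f _ h1
  refine ⟨j, hij, htest _ _ ?_⟩
  apply (bcEquiv R S (G j) X).injective
  rw [bcEquiv_naturality, hj, map_zero]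

theorem isMittagLeffler_directLimit_of_baseChange [Module.FaithfullyFlat R S]
    (hM : CAlg.IsMittagLeffler S (S ⊗[R] Module.DirectLimit G f)) :
    CAlg.IsMittagLeffler R (Module.DirectLimit G f) := by
  apply isMittagLeffler_directLimit_of_factors
  intro i
  obtain ⟨j, hij, hdomS⟩ := exists_dominates_baseChange R S G f hM i
  have hdom : Dominates R (Module.DirectLimit.of R ι G f i) (f i j hij) :=
    dominates_of_dominates_baseChange R S _ _ hdomS
  refine ⟨j, hij, fun k hik => ?_⟩
  have h4 : Module.DirectLimit.of R ι G f i = Module.DirectLimit.of R ι G f k ∘ₗ f i k hik := by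
    ext x
    simp
  have hdom' : Dominates R (f i k hik) (f i j hij) := by
    intro X' _ _ t ht
    apply hdom X'
    rw [LinearMap.mem_ker] at ht ⊢
    rw [h4, LinearMap.rTensor_comp, LinearMap.comp_apply, ht, map_zero]
  have : Module.FinitePresentation R (G k ⧸ LinearMap.range (f i k hik)) :=
    Module.finitePresentation_of_surjective (LinearMap.range (f i k hik)).mkQ
      (Submodule.mkQ_surjective _)
      (by rw [Submodule.ker_mkQ]; exact Module.Finite.iff_fg.mp (Module.Finite.range _))
  exact (dominates_iff_exists_factor R (f i k hik) (f i j hij)).mp hdom'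

end DL

/-- **Faithfully flat descent of the Mittag-Leffler property.** -/
theorem isMittagLeffler_of_faithfullyFlat_baseChange [Module.FaithfullyFlat R S]
    (M : Type u) [AddCommGroup M] [Module R M] (h : CAlg.IsMittagLeffler S (S ⊗[R] M)) :
    CAlg.IsMittagLeffler R M := by
  obtain ⟨ι, _, _, _, _, G, _, _, f, _, hfp, ⟨e⟩⟩ :=
    FPColimit.exists_directLimit_finitePresentation R M
  have : ∀ i, Module.FinitePresentation R (G i) := hfp
  apply isMittagLeffler_of_linearEquiv R e.symm
  apply isMittagLeffler_directLimit_of_baseChange R S G f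
  exact isMittagLeffler_of_linearEquiv S
    (TensorProduct.AlgebraTensorModule.congr (LinearEquiv.refl S S) e) h

end ML

end Groth.Agent.Lib.Helper31
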