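import Groth.Agent.Lib.Helper31.Devissage
import Mathlib.LinearAlgebra.Projection
import Mathlib.Order.SetNotation
import Mathlib.Data.Set.Countable
import Mathlib.SetTheory.Cardinal.Order
import Mathlib.LinearAlgebra.Finsupp.Span
import Mathlib.Order.CompactlyGenerated.Basic
import Mathlib.RingTheory.Noetherian.Basic

set_option autoImplicit false
universe u

open CAlg

namespace Groth.Agent.Lib.Helper31

namespace Kaplansky

variable {R : Type u} [CommRing R] {M : Type u} [AddCommGroup M] [Module R M]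
  {ι : Type u} (N : ι → Submodule R M)

/-- the partial sums -/
def MJ (J : Set ι) : Submodule R M := ⨆ i ∈ J, N i

theorem MJ_mono {A B : Set ι} (h : A ⊆ B) : MJ N A ≤ MJ N B :=
  biSup_mono h

theorem MJ_iUnion {α : Sort*} (J : α → Set ι) : MJ N (⋃ a, J a) = ⨆ a, MJ N (J a) := by
  simp only [MJ]
  exact iSup_iUnion J N

theorem MJ_union (A B : Set ι) : MJ N (A ∪ B) = MJ N A ⊔ MJ N B := by
  simp only [MJ]
  exact iSup_union

theorem le_MJ {J : Set ι} {i : ι} (hi : i ∈ J) : N i ≤ MJ N J :=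
  le_biSup N hi

variable (P Q : Submodule R M) (hPQ : IsCompl P Q)

/-- `J` is closed when `M_J` is stable under the projection onto `P`. -/
def Closed (J : Set ι) : Prop := Submodule.map (P.projection Q hPQ) (MJ N J) ≤ MJ N J

theorem closed_iUnion {α : Sort*} (J : α → Set ι) (h : ∀ a, Closed N P Q hPQ (J a)) :
    Closed N P Q hPQ (⋃ a, J a) := by
  unfold Closed
  rw [MJ_iUnion, Submodule.map_iSup]
  exact iSup_le fun a => (h a).trans (le_iSup (fun a => MJ N (J a)) a)

theorem closed_union (A B : Set ι) (hA : Closed N P Q hPQ A) (hB : Closed N P Q hPQ B) :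
    Closed N P Q hPQ (A ∪ B) := by
  unfold Closed
  rw [MJ_union, Submodule.map_sup]
  exact sup_le (hA.trans le_sup_left) (hB.trans le_sup_right)

theorem inf_eq_map_of_closed {J : Set ι} (hJ : Closed N P Q hPQ J) :
    P ⊓ MJ N J = Submodule.map (P.projection Q hPQ) (MJ N J) := by
  apply le_antisymm
  · rintro x ⟨hxP, hxJ⟩
    exact ⟨x, hxJ, Submodule.projection_apply_of_mem_left hPQ hxP⟩
  · rintro _ ⟨x, hx, rfl⟩
    exact ⟨Submodule.projection_apply_mem hPQ x, hJ ⟨x, hx, rfl⟩⟩

section closure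

variable (hsup : ⨆ i, N i = ⊤) (T : ι → Set M) (hTc : ∀ j, (T j).Countable)
  (hT : ∀ j, Submodule.span R (T j) = N j)

include hsup in
theorem exists_finset (m : M) : ∃ F : Finset ι, m ∈ MJ N (F : Set ι) := by
  have hm : m ∈ ⨆ i, N i := hsup ▸ Submodule.mem_top
  obtain ⟨F, hF⟩ := Submodule.mem_iSup_iff_exists_finset.1 hm
  exact ⟨F, hF⟩

/-- chosen finite support -/
noncomputable def supp (m : M) : Finset ι := (exists_finset N hsup m).choose

theorem mem_MJ_supp (m : M) : m ∈ MJ N (supp N hsup m : Set ι) :=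
  (exists_finset N hsup m).choose_spec

/-- one closure step -/
noncomputable def step (A : Set ι) : Set ι :=
  A ∪ ⋃ j ∈ A, ⋃ m ∈ T j, (supp N hsup (P.projection Q hPQ m) : Set ι)

theorem subset_step (A : Set ι) : A ⊆ step N P Q hPQ hsup T A := Set.subset_union_left

include hTc in
theorem step_countable (A : Set ι) (hA : A.Countable) : (step N P Q hPQ hsup T A).Countable := by
  apply hA.union
  apply hA.biUnion
  intro j _
  apply (hTc j).biUnion
  intro m _
  exact Finset.countable_toSet _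

/-- the closure of a singleton -/
noncomputable def cl (i : ι) : Set ι := ⋃ n : ℕ, (step N P Q hPQ hsup T)^[n] {i}

theorem mem_cl (i : ι) : i ∈ cl N P Q hPQ hsup T i :=
  Set.mem_iUnion.2 ⟨0, rfl⟩

include hTc in
theorem cl_countable (i : ι) : (cl N P Q hPQ hsup T i).Countable := by
  apply Set.countable_iUnion
  intro n
  induction n with
  | zero => exact Set.countable_singleton i
  | succ n ih =>
    rw [Function.iterate_succ_apply']
    exact step_countable N P Q hPQ hsup T hTc _ ih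

include hT in
theorem cl_closed (i : ι) : Closed N P Q hPQ (cl N P Q hPQ hsup T i) := by
  unfold Closed
  rw [MJ, Submodule.map_iSup]
  apply iSup_le
  intro j
  rw [Submodule.map_iSup]
  apply iSup_le
  intro hj
  rw [← hT j, Submodule.map_span, Submodule.span_le]
  rintro _ ⟨m, hm, rfl⟩
  obtain ⟨n, hn⟩ := Set.mem_iUnion.1 hj
  have h1 := mem_MJ_supp N hsup (P.projection Q hPQ m)
  refine MJ_mono N ?_ h1
  intro k hk
  refine Set.mem_iUnion.2 ⟨n + 1, ?_⟩
  rw [Function.iterate_succ_apply']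
  refine Or.inr ?_
  exact Set.mem_iUnion₂.2 ⟨j, hn, Set.mem_iUnion₂.2 ⟨m, hm, hk⟩⟩

end closure

section general

theorem isCG_span (s : Set M) (hs : s.Countable) :
    IsCountablyGenerated R (Submodule.span R s) := by
  refine ⟨((↑) : Submodule.span R s → M) ⁻¹' s, ?_, Submodule.span_span_coe_preimage⟩
  exact hs.preimage_of_injOn Subtype.val_injective.injOn

theorem isCG_quot_of_sup (A B E : Submodule R M) (h : A ⊔ E = B) (hE : IsCountablyGenerated R E) :
    IsCountablyGenerated R (↥B ⧸ Submodule.comap B.subtype A) := by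
  have hEB : E ≤ B := h ▸ le_sup_right
  refine Devissage.isCG_of_surjective ((Submodule.mkQ _).comp (Submodule.inclusion hEB)) ?_ hE
  intro y
  obtain ⟨⟨b, hb⟩, rfl⟩ := Submodule.mkQ_surjective _ y
  rw [← h] at hb
  obtain ⟨a, ha, e, he, rfl⟩ := Submodule.mem_sup.1 hb
  refine ⟨⟨e, he⟩, ?_⟩
  simp only [LinearMap.comp_apply, Submodule.mkQ_apply]
  rw [Submodule.Quotient.eq]
  simp only [Submodule.mem_comap, Submodule.subtype_apply, Submodule.coe_sub,
    Submodule.coe_inclusion]
  have : e - (a + e) = -a := by abel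
  rw [this]
  exact A.neg_mem ha

end general

section main

variable (hind : iSupIndep N) (hsup : ⨆ i, N i = ⊤) [LinearOrder ι]
  (c : ι → Set ι) (hcmem : ∀ i, i ∈ c i) (hcl : ∀ i, Closed N P Q hPQ (c i))

/-- the index sets of the dévissage -/
def Jf (s : WithTop ι) : Set ι := ⋃ (t : ι) (_ : (t : WithTop ι) < s), c t

/-- the dévissage -/
def Mf (s : WithTop ι) : Submodule R M := P ⊓ MJ N (Jf c s)

omit [LinearOrder ι] in
theorem mem_Jf {s : WithTop ι} {i : ι} [LinearOrder ι] :
    i ∈ Jf c s ↔ ∃ t : ι, (t : WithTop ι) < s ∧ i ∈ c t := by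
  simp [Jf]

theorem Jf_mono {s s' : WithTop ι} (h : s ≤ s') : Jf c s ⊆ Jf c s' := by
  intro i hi
  obtain ⟨t, ht, hit⟩ := (mem_Jf c).1 hi
  exact (mem_Jf c).2 ⟨t, lt_of_lt_of_le ht h, hit⟩

include hcl in
theorem Jf_closed (s : WithTop ι) : Closed N P Q hPQ (Jf c s) :=
  closed_iUnion N P Q hPQ _ fun t => closed_iUnion N P Q hPQ _ fun _ => hcl t

include hcmem in
theorem Jf_top : Jf c (⊤ : WithTop ι) = Set.univ := by
  ext i
  simp only [Set.mem_univ, iff_true]
  exact (mem_Jf c).2 ⟨i, WithTop.coe_lt_top i, hcmem i⟩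

theorem Jf_covBy {s t : WithTop ι} (h : s ⋖ t) :
    ∃ r : ι, Jf c t = Jf c s ∪ c r := by
  have hs : s ≠ ⊤ := ne_top_of_lt h.lt
  obtain ⟨r, rfl⟩ := WithTop.ne_top_iff_exists.1 hs
  refine ⟨r, ?_⟩
  ext i
  constructor
  · intro hi
    obtain ⟨r', hr', hir'⟩ := (mem_Jf c).1 hi
    have hle : (r' : WithTop ι) ≤ r := h.le_of_lt hr'
    rcases lt_or_eq_of_le hle with hlt | heq
    · exact Or.inl ((mem_Jf c).2 ⟨r', hlt, hir'⟩)
    · have : r' = r := WithTop.coe_injective heq
      subst this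
      exact Or.inr hir'
  · rintro (hi | hi)
    · exact Jf_mono c h.le hi
    · exact (mem_Jf c).2 ⟨r, h.lt, hi⟩

theorem Jf_limit {s : WithTop ι} (hs : Order.IsSuccPrelimit s) :
    Jf c s = ⋃ t : {t : WithTop ι // t < s}, Jf c t.1 := by
  apply Set.Subset.antisymm
  · intro i hi
    obtain ⟨r, hr, hir⟩ := (mem_Jf c).1 hi
    obtain ⟨t', h1, h2⟩ := (not_covBy_iff hr).1 (hs _)
    exact Set.mem_iUnion.2 ⟨⟨t', h2⟩, (mem_Jf c).2 ⟨r, h1, hir⟩⟩
  · exact Set.iUnion_subset fun t => Jf_mono c t.2.le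

theorem Mf_mono : Monotone (Mf N P c) := fun _ _ h =>
  inf_le_inf_left _ (MJ_mono N (Jf_mono c h))

theorem Mf_limit {s : WithTop ι} (hs : Order.IsSuccPrelimit s) :
    Mf N P c s = ⨆ t : {t : WithTop ι // t < s}, Mf N P c t.1 := by
  apply le_antisymm
  · rintro x ⟨hxP, hxJ⟩
    rw [Jf_limit c hs, MJ_iUnion] at hxJ
    rcases isEmpty_or_nonempty {t : WithTop ι // t < s} with hem | hne
    · rw [iSup_of_empty] at hxJ
      rw [(Submodule.mem_bot R).1 hxJ]
      exact Submodule.zero_mem _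
    · have hdir : Directed (· ≤ ·) fun t : {t : WithTop ι // t < s} => MJ N (Jf c t.1) := by
        intro a b
        rcases le_total a.1 b.1 with hab | hab
        · exact ⟨b, MJ_mono N (Jf_mono c hab), le_rfl⟩
        · exact ⟨a, le_rfl, MJ_mono N (Jf_mono c hab)⟩
      obtain ⟨t, ht⟩ := (Submodule.mem_iSup_of_directed _ hdir).1 hxJ
      exact Submodule.mem_iSup_of_mem t ⟨hxP, ht⟩
  · exact iSup_le fun t => Mf_mono N P c t.2.le

include hsup hcmem in
theorem iSup_Mf : ⨆ s, Mf N P c s = P := by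
  apply le_antisymm
  · exact iSup_le fun s => inf_le_left
  · have : Mf N P c ⊤ = P := by
      unfold Mf
      rw [Jf_top c hcmem]
      have : MJ N Set.univ = ⊤ := by
        rw [MJ]; simpa using hsup
      rw [this, inf_top_eq]
    calc P = Mf N P c ⊤ := this.symm
      _ ≤ ⨆ s, Mf N P c s := le_iSup (Mf N P c) ⊤

omit [LinearOrder ι] in
include hind hsup in
/-- a closed index set gives a direct summand of `M` -/
theorem exists_compl_of_closed {J : Set ι} (hJ : Closed N P Q hPQ J) :
    ∃ D : Submodule R M, (P ⊓ MJ N J) ⊓ D = ⊥ ∧ (P ⊓ MJ N J) ⊔ D = ⊤ := by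
  have hAB1 : MJ N J ⊓ MJ N Jᶜ = ⊥ :=
    (hind.disjoint_biSup_biSup (disjoint_compl_right (a := J))).eq_bot
  have hAB2 : MJ N J ⊔ MJ N Jᶜ = ⊤ := by
    rw [← MJ_union, Set.union_compl_self, MJ]
    simpa using hsup
  refine ⟨(Q ⊓ MJ N J) ⊔ MJ N Jᶜ, ?_, ?_⟩
  · rw [eq_bot_iff]
    rintro x ⟨⟨hxP, hxA⟩, hxD⟩
    obtain ⟨q, ⟨hqQ, hqA⟩, b, hb, rfl⟩ := Submodule.mem_sup.1 hxD
    have hbA : b ∈ MJ N J := by
      have : b = (q + b) - q := by abel
      rw [this]
      exact Submodule.sub_mem _ hxA hqA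
    have hb0 : b = 0 := by
      have : b ∈ MJ N J ⊓ MJ N Jᶜ := ⟨hbA, hb⟩
      rw [hAB1] at this
      exact (Submodule.mem_bot R).1 this
    rw [hb0, add_zero] at hxP ⊢
    have : q ∈ P ⊓ Q := ⟨hxP, hqQ⟩
    rw [hPQ.inf_eq_bot] at this
    exact this
  · rw [eq_top_iff, ← hAB2]
    apply sup_le
    · intro x hx
      have h1 : P.projection Q hPQ x ∈ P ⊓ MJ N J :=
        ⟨Submodule.projection_apply_mem hPQ x, hJ ⟨x, hx, rfl⟩⟩
      have h2 : x - P.projection Q hPQ x ∈ Q ⊓ MJ N J := by
        refine ⟨?_, Submodule.sub_mem _ hx h1.2⟩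
        rw [← Submodule.projection_eq_self_sub_projection hPQ]
        exact Submodule.projection_apply_mem hPQ.symm x
      have : x = P.projection Q hPQ x + (x - P.projection Q hPQ x) := by abel
      rw [this]
      exact Submodule.add_mem _ (Submodule.mem_sup_left h1)
        (Submodule.mem_sup_right (Submodule.mem_sup_left h2))
    · exact le_sup_of_le_right le_sup_right

include hind hsup hcl in
theorem Mf_step (T : ι → Set M) (hTc : ∀ j, (T j).Countable)
    (hT : ∀ j, Submodule.span R (T j) = N j) (hcc : ∀ i, (c i).Countable)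
    {s t : WithTop ι} (h : s ⋖ t) :
    ∃ C : Submodule R M, Mf N P c s ⊓ C = ⊥ ∧ Mf N P c s ⊔ C = Mf N P c t ∧
      IsCountablyGenerated R
        (↥(Mf N P c t) ⧸ Submodule.comap (Mf N P c t).subtype (Mf N P c s)) := by
  obtain ⟨D, hD1, hD2⟩ := exists_compl_of_closed N P Q hPQ hind hsup
    (Jf_closed N P Q hPQ c hcl s)
  refine ⟨D ⊓ Mf N P c t, ?_, ?_, ?_⟩
  · rw [eq_bot_iff, ← hD1]
    exact inf_le_inf_left _ inf_le_left
  · have := sup_inf_assoc_of_le D (Mf_mono N P c h.le)
    rw [← this]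
    change (P ⊓ MJ N (Jf c s) ⊔ D) ⊓ Mf N P c t = Mf N P c t
    rw [hD2, top_inf_eq]
  · obtain ⟨r, hr⟩ := Jf_covBy c h
    have hE : Mf N P c s ⊔ Submodule.map (P.projection Q hPQ) (MJ N (c r)) = Mf N P c t := by
      unfold Mf
      rw [inf_eq_map_of_closed N P Q hPQ (Jf_closed N P Q hPQ c hcl t),
        inf_eq_map_of_closed N P Q hPQ (Jf_closed N P Q hPQ c hcl s), hr, MJ_union,
        Submodule.map_sup]
    apply isCG_quot_of_sup _ _ _ hE
    have : MJ N (c r) = Submodule.span R (⋃ j ∈ c r, T j) := by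
      rw [Submodule.span_iUnion₂]
      simp only [MJ, hT]
    rw [this, Submodule.map_span]
    apply isCG_span
    apply Set.Countable.image
    exact (hcc r).biUnion fun j _ => hTc j

end main

include Q hPQ in
/-- Stacks 058W (Kaplansky): a direct summand `P` of a direct sum of countably generated modules
admits a Kaplansky dévissage. -/
theorem exists_devissage (hind : iSupIndep N) (hsup : ⨆ i, N i = ⊤)
    (hc : ∀ i, IsCountablyGenerated R (N i)) :
    ∃ (S : Type u) (_ : LinearOrder S) (_ : WellFoundedLT S) (Mf : S → Submodule R M),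
      Monotone Mf ∧
      (∀ s : S, Order.IsSuccPrelimit s → Mf s = ⨆ t : {t : S // t < s}, Mf t.1) ∧
      (⨆ s, Mf s) = P ∧
      (∀ s t : S, s ⋖ t → ∃ C : Submodule R M, Mf s ⊓ C = ⊥ ∧ Mf s ⊔ C = Mf t ∧
        IsCountablyGenerated R (↥(Mf t) ⧸ Submodule.comap (Mf t).subtype (Mf s))) := by
  classical
  choose T0 hT0c hT0 using hc
  let T : ι → Set M := fun j => Subtype.val '' (T0 j)
  have hTc : ∀ j, (T j).Countable := fun j => (hT0c j).image _
  have hT : ∀ j, Submodule.span R (T j) = N j := by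
    intro j
    have := Submodule.span_image (R := R) (s := T0 j) (N j).subtype
    simp only [Submodule.coe_subtype] at this
    rw [this, hT0 j, Submodule.map_subtype_top]
  obtain ⟨hlin, hwf⟩ := exists_wellFoundedLT ι
  refine ⟨WithTop ι, inferInstance, inferInstance,
    Mf N P (cl N P Q hPQ hsup T), Mf_mono N P _, fun s hs => Mf_limit N P _ hs,
    iSup_Mf N P hsup _ (mem_cl N P Q hPQ hsup T), fun s t h => ?_⟩
  exact Mf_step N P Q hPQ hind hsup _ (cl_closed N P Q hPQ hsup T hT) T hTc hT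
    (cl_countable N P Q hPQ hsup T hTc) h

/-- transfer an internal decomposition of a submodule `P` to the module `↥P` -/
theorem exists_isInternal_submodule (P : Submodule R M) {κ : Type u} (C : κ → Submodule R M)
    (hind : iSupIndep C) (hsup : ⨆ k, C k = P) (hcg : ∀ k, IsCountablyGenerated R (C k)) :
    ∃ L : κ → Submodule R P, iSupIndep L ∧ ⨆ k, L k = ⊤ ∧
      ∀ k, IsCountablyGenerated R (L k) := by
  have hCP : ∀ k, C k ≤ P := fun k => hsup ▸ le_iSup C k
  refine ⟨fun k => Submodule.comap P.subtype (C k), ?_, ?_, ?_⟩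
  · rw [iSupIndep_iff_finsetSum_eq_zero_imp_eq_zero] at hind ⊢
    intro s v hv hsum i hi
    have := hind s (fun i => (v i : M)) (fun i hi => hv i hi) (by
      have := congrArg P.subtype hsum
      simpa using this) i hi
    exact Subtype.ext this
  · apply Submodule.map_injective_of_injective P.subtype_injective
    rw [Submodule.map_iSup, Submodule.map_subtype_top]
    simp only [Submodule.map_comap_subtype]
    rw [← hsup]
    congr 1
    funext k
    exact inf_eq_right.2 (hsup ▸ hCP k)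
  · intro k
    exact Devissage.isCG_of_surjective (Submodule.comapSubtypeEquivOfLe (hCP k)).symm.toLinearMap
      (Submodule.comapSubtypeEquivOfLe (hCP k)).symm.surjective (hcg k)

end Kaplansky

end Groth.Agent.Lib.Helper31
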