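import Groth.Agent.Lib.Helper31.MittagLeffler
import Mathlib.LinearAlgebra.TensorProduct.Tower
import Mathlib.Algebra.Module.FinitePresentation
import Mathlib.RingTheory.Flat.Basic

set_option autoImplicit false
open TensorProduct
universe u

namespace Groth.Agent.Lib.Helper31

namespace ML

variable (R : Type u) [CommRing R]

section Basic

variable {M M' : Type u} [AddCommGroup M] [Module R M] [AddCommGroup M'] [Module R M']

/-- Mittag-Leffler modules are stable under linear isomorphism. -/
theorem isMittagLeffler_of_linearEquiv (e : M ≃ₗ[R] M') (h : CAlg.IsMittagLeffler R M') :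
    CAlg.IsMittagLeffler R M := by
  apply isMittagLeffler_of_universallyInjective R e.toLinearMap _ h
  intro Q _ _
  apply Function.LeftInverse.injective (g := e.symm.toLinearMap.rTensor Q)
  intro x
  rw [← LinearMap.comp_apply, ← LinearMap.rTensor_comp]
  have : e.symm.toLinearMap ∘ₗ e.toLinearMap = LinearMap.id := by
    ext m
    simp
  rw [this, LinearMap.rTensor_id, LinearMap.id_apply]

/-- The ring itself is Mittag-Leffler. -/
theorem isMittagLeffler_self : CAlg.IsMittagLeffler R R := by
  intro ι Q _ _
  have key : ∀ (t : R ⊗[R] (∀ i, Q i)) (i : ι),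
      TensorProduct.lid R (Q i) (TensorProduct.piRightHom R R R Q t i) =
        (TensorProduct.lid R (∀ i, Q i) t) i := by
    intro t i
    induction t using TensorProduct.induction_on with
    | zero => simp
    | tmul r q => simp
    | add a b ha hb => simp only [map_add, Pi.add_apply, ha, hb]
  intro a b hab
  apply (TensorProduct.lid R (∀ i, Q i)).injective
  funext i
  rw [← key, ← key, hab]

/-- Finite free modules are Mittag-Leffler. -/
theorem isMittagLeffler_fin_fun (n : ℕ) : CAlg.IsMittagLeffler R (Fin n → R) := by
  have h1 : CAlg.IsMittagLeffler R (DirectSum (ULift.{u} (Fin n)) (fun _ => R)) :=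
    (isMittagLeffler_directSum_iff R (fun _ : ULift.{u} (Fin n) => R)).mpr
      (fun _ => isMittagLeffler_self R)
  have e : (Fin n → R) ≃ₗ[R] DirectSum (ULift.{u} (Fin n)) (fun _ => R) :=
    (LinearEquiv.funCongrLeft R R (Equiv.ulift (α := Fin n))) ≪≫ₗ
      (DirectSum.linearEquivFunOnFintype R (ULift.{u} (Fin n)) (fun _ => R)).symm
  exact isMittagLeffler_of_linearEquiv R e h1

/-- Finitely presented modules are Mittag-Leffler. -/
theorem isMittagLeffler_of_finitePresentation [Module.FinitePresentation R M] :
    CAlg.IsMittagLeffler R M := by
  obtain ⟨n, K, e, hK⟩ := Module.FinitePresentation.exists_fin R M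
  exact isMittagLeffler_of_linearEquiv R e
    (isMittagLeffler_quotient R K hK (isMittagLeffler_fin_fun R n))

/-- For a finitely presented module the comparison map is bijective. -/
theorem piRightHom_bijective_of_finitePresentation [Module.FinitePresentation R M]
    {ι : Type u} (Q : ι → Type u) [∀ i, AddCommGroup (Q i)] [∀ i, Module R (Q i)] :
    Function.Bijective (TensorProduct.piRightHom R R M Q) :=
  ⟨isMittagLeffler_of_finitePresentation R ι Q, piRightHom_surjective_of_finite R Q⟩

end Basic

section Restrict

variable (S : Type u) [CommRing S] [Algebra R S]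
  (M : Type u) [AddCommGroup M] [Module S M] [Module R M] [IsScalarTower R S M]

/-- If the comparison maps of `S` over `R` are bijective (e.g. `S` finitely presented as an
`R`-module), a Mittag-Leffler `S`-module is Mittag-Leffler over `R`. -/
theorem isMittagLeffler_restrictScalars_of_bijective
    (hS : ∀ (ι : Type u) (Q : ι → Type u) [∀ i, AddCommGroup (Q i)] [∀ i, Module R (Q i)],
      Function.Bijective (TensorProduct.piRightHom R R S Q))
    (hM : CAlg.IsMittagLeffler S M) : CAlg.IsMittagLeffler R M := by
  intro ι Q _ _
  let φ : TensorProduct R S (∀ i, Q i) →ₗ[S] ∀ i, TensorProduct R S (Q i) :=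
    TensorProduct.piRightHom R S S Q
  have hφ : Function.Bijective φ := hS ι Q
  let φe : TensorProduct R S (∀ i, Q i) ≃ₗ[S] ∀ i, TensorProduct R S (Q i) :=
    LinearEquiv.ofBijective φ hφ
  have h1 : Function.Injective (LinearMap.lTensor M φ) := by
    have : LinearMap.lTensor M φ = (TensorProduct.congr (LinearEquiv.refl S M) φe).toLinearMap := by
      apply TensorProduct.ext'
      intro m x
      simp [φe]
    rw [this]
    exact (TensorProduct.congr (LinearEquiv.refl S M) φe).injective
  have h2 : Function.Injective
      (TensorProduct.piRightHom S S M (fun i => TensorProduct R S (Q i))) :=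
    hM ι (fun i => TensorProduct R S (Q i))
  have key : ∀ (t : TensorProduct R M (∀ i, Q i)) (i : ι),
      TensorProduct.piRightHom R R M Q t i =
        TensorProduct.AlgebraTensorModule.cancelBaseChange R S S M (Q i)
          (TensorProduct.piRightHom S S M (fun i => TensorProduct R S (Q i))
            (LinearMap.lTensor M φ
              ((TensorProduct.AlgebraTensorModule.cancelBaseChange R S S M (∀ i, Q i)).symm t)) i) := by
    intro t i
    induction t using TensorProduct.induction_on with
    | zero => simp
    | tmul m q =>
      simp [φ]
    | add a b ha hb =>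
      rw [map_add, map_add, map_add, map_add, Pi.add_apply, Pi.add_apply, map_add, ha, hb]
  intro x y hxy
  apply (TensorProduct.AlgebraTensorModule.cancelBaseChange R S S M (∀ i, Q i)).symm.injective
  apply h1
  apply h2
  funext i
  apply (TensorProduct.AlgebraTensorModule.cancelBaseChange R S S M (Q i)).injective
  rw [← key x i, ← key y i, hxy]

theorem isMittagLeffler_restrictScalars_of_finitePresentation [Module.FinitePresentation R S]
    (hM : CAlg.IsMittagLeffler S M) : CAlg.IsMittagLeffler R M :=
  isMittagLeffler_restrictScalars_of_bijective R S M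
    (fun _ Q _ _ => piRightHom_bijective_of_finitePresentation R Q) hM

end Restrict

end ML

end Groth.Agent.Lib.Helper31
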