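import Groth.Agent.Lib.Helper31.FlatMLProjective
import Groth.Agent.Lib.Helper31.Kaplansky
import Groth.Agent.Lib.Helper31.MittagLefflerFP
import Mathlib.LinearAlgebra.Basis.Basic
import Mathlib.LinearAlgebra.Finsupp.VectorSpace
import Mathlib.LinearAlgebra.LinearIndependent.Lemmas

set_option autoImplicit false
open TensorProduct
universe u

open CAlg

namespace Groth.Agent.Lib.Helper31

namespace ProjML

variable {R : Type u} [CommRing R] {M : Type u} [AddCommGroup M] [Module R M]

/-- transfer a decomposition of `range s` along a retraction -/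
theorem exists_decomp_of_retract {F : Type u} [AddCommGroup F] [Module R F]
    (s : M →ₗ[R] F) (π : F →ₗ[R] M) (hπs : π ∘ₗ s = LinearMap.id)
    {κ : Type u} (C : κ → Submodule R F)
    (hind : iSupIndep C) (hsup : ⨆ k, C k = LinearMap.range s)
    (hcg : ∀ k, IsCountablyGenerated R (C k)) :
    ∃ L : κ → Submodule R M, iSupIndep L ∧ ⨆ k, L k = ⊤ ∧
      ∀ k, IsCountablyGenerated R (L k) := by
  have hCP : ∀ k, C k ≤ LinearMap.range s := fun k => hsup ▸ le_iSup C k
  have hs_inj : Function.Injective s := by
    intro a b hab
    have := congrArg π hab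
    simpa [← LinearMap.comp_apply, hπs] using this
  have hsπ : ∀ k, ∀ c ∈ C k, s (π c) = c := by
    intro k c hc
    obtain ⟨m, rfl⟩ := hCP k hc
    have : π (s m) = m := LinearMap.congr_fun hπs m
    rw [this]
  refine ⟨fun k => Submodule.map π (C k), ?_, ?_, ?_⟩
  · rw [iSupIndep_iff_finsetSum_eq_zero_imp_eq_zero] at hind ⊢
    intro t v hv hsum i hi
    have h1 : ∀ i ∈ t, s (v i) ∈ C i := by
      intro i hi
      obtain ⟨c, hc, hcv⟩ := hv i hi
      rw [← hcv, hsπ i c hc]
      exact hc
    have h2 : ∑ i ∈ t, s (v i) = 0 := by
      rw [← map_sum, hsum, map_zero]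
    have := hind t (fun i => s (v i)) h1 h2 i hi
    exact hs_inj (by rw [this, map_zero])
  · rw [← Submodule.map_iSup, hsup, ← LinearMap.range_comp, hπs, LinearMap.range_id]
  · intro k
    exact Devissage.isCG_of_surjective (π.submoduleMap (C k))
      (LinearMap.submoduleMap_surjective π (C k)) (hcg k)

/-- a projective module is a direct sum of countably generated modules -/
theorem exists_decomp_of_projective [Module.Projective R M] :
    ∃ (κ : Type u) (L : κ → Submodule R M), iSupIndep L ∧ ⨆ k, L k = ⊤ ∧
      ∀ k, IsCountablyGenerated R (L k) := by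
  classical
  obtain ⟨s, hs⟩ := Module.projective_def'.1 (inferInstance : Module.Projective R M)
  let π : (M →₀ R) →ₗ[R] M := Finsupp.linearCombination R id
  let b : Module.Basis M R (M →₀ R) := Finsupp.basisSingleOne
  let N : M → Submodule R (M →₀ R) := fun i => Submodule.span R {b i}
  have hNind : iSupIndep N := b.linearIndependent.iSupIndep_span_singleton
  have hNsup : ⨆ i, N i = ⊤ := by
    rw [← Submodule.span_range_eq_iSup]
    exact b.span_eq
  have hNcg : ∀ i, IsCountablyGenerated R (N i) := fun i =>
    Kaplansky.isCG_span _ (Set.countable_singleton _)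
  have hcompl : IsCompl (LinearMap.range s) (LinearMap.ker π) := by
    constructor
    · rw [disjoint_iff, eq_bot_iff]
      rintro x ⟨⟨m, rfl⟩, hx⟩
      have h1 : π (s m) = 0 := hx
      have h2 : π (s m) = m := LinearMap.congr_fun hs m
      rw [h2] at h1
      rw [h1, map_zero]
      exact Submodule.zero_mem _
    · rw [codisjoint_iff, eq_top_iff]
      intro x _
      have h2 : π (s (π x)) = π x := LinearMap.congr_fun hs (π x)
      have : x = s (π x) + (x - s (π x)) := by abel
      rw [this]
      refine Submodule.add_mem_sup ⟨π x, rfl⟩ ?_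
      rw [LinearMap.mem_ker, map_sub, h2, sub_self]
  obtain ⟨S, i1, i2, Mf, h1, h2, h3, h4⟩ :=
    Kaplansky.exists_devissage N (LinearMap.range s) (LinearMap.ker π) hcompl hNind hNsup hNcg
  obtain ⟨C, hC1, hC2, hC3⟩ := Devissage.exists_isInternal_of_devissage Mf h1 h2 h4
  obtain ⟨L, hL1, hL2, hL3⟩ := exists_decomp_of_retract s π hs C hC1 (hC2.trans h3) hC3
  exact ⟨_, L, hL1, hL2, hL3⟩

theorem universallyInjective_of_retract {A B : Type u} [AddCommGroup A] [Module R A]
    [AddCommGroup B] [Module R B] (i : A →ₗ[R] B) (r : B →ₗ[R] A) (h : r ∘ₗ i = LinearMap.id) :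
    CAlgX.UniversallyInjective R i := by
  intro Q _ _
  apply Function.LeftInverse.injective (g := r.rTensor Q)
  intro x
  rw [← LinearMap.comp_apply, ← LinearMap.rTensor_comp, h, LinearMap.rTensor_id,
    LinearMap.id_apply]

/-- projective modules are Mittag-Leffler -/
theorem isMittagLeffler_of_projective [Module.Projective R M] : IsMittagLeffler R M := by
  classical
  obtain ⟨s, hs⟩ := Module.projective_def'.1 (inferInstance : Module.Projective R M)
  have hF : IsMittagLeffler R (M →₀ R) := by
    have e : (M →₀ R) ≃ₗ[R] DirectSum M (fun _ => R) := finsuppLequivDFinsupp R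
    exact ML.isMittagLeffler_of_linearEquiv R e
      ((ML.isMittagLeffler_directSum_iff R (fun _ : M => R)).2 fun _ => ML.isMittagLeffler_self R)
  exact ML.isMittagLeffler_of_universallyInjective R s
    (universallyInjective_of_retract s _ hs) hF

/-- Stacks 059Z, general form: flat + Mittag-Leffler + direct sum of countably generated
modules implies projective. -/
theorem projective_of_decomp {ι : Type u} [DecidableEq ι] (N : ι → Submodule R M)
    (hint : DirectSum.IsInternal N) (hc : ∀ i, IsCountablyGenerated R (N i)) [Module.Flat R M]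
    (hML : IsMittagLeffler R M) : Module.Projective R M := by
  let e : (DirectSum ι fun i => ↥(N i)) ≃ₗ[R] M :=
    LinearEquiv.ofBijective (DirectSum.coeLinearMap N) hint
  have hproj : ∀ i, Module.Projective R (N i) := by
    intro i
    let r : M →ₗ[R] N i := DirectSum.component R ι (fun i => ↥(N i)) i ∘ₗ e.symm.toLinearMap
    have hr : r ∘ₗ (N i).subtype = LinearMap.id := by
      apply LinearMap.ext
      intro x
      have h1 : e (DirectSum.lof R ι (fun i => ↥(N i)) i x) = (x : M) := by
        change DirectSum.coeLinearMap N _ = _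
        rw [DirectSum.coeLinearMap_lof]
      have h2 : e.symm (x : M) = DirectSum.lof R ι (fun i => ↥(N i)) i x := by
        rw [← h1, e.symm_apply_apply]
      simp only [r, LinearMap.coe_comp, Function.comp_apply, Submodule.subtype_apply,
        LinearEquiv.coe_coe, LinearMap.id_apply]
      rw [h2, DirectSum.component.lof_self]
    haveI : Module.Flat R (N i) := Module.Flat.of_retract (N i).subtype r hr
    have hMLi : IsMittagLeffler R (N i) :=
      ML.isMittagLeffler_of_universallyInjective R (N i).subtype
        (universallyInjective_of_retract _ r hr) hML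
    exact ML.projective_of_flat_of_isMittagLeffler_of_isCountablyGenerated R hMLi (hc i)
  haveI : Module.Projective R (DirectSum ι fun i => ↥(N i)) :=
    inferInstanceAs (Module.Projective R (Π₀ i, ↥(N i)))
  exact Module.Projective.of_equiv e

end ProjML

end Groth.Agent.Lib.Helper31
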