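import Groth.Agent.Lib.Helper31.Adapted
import Groth.Agent.Lib.Helper31.ProjectiveML
import Groth.Agent.Lib.Helper31.MittagLefflerDescent
import Mathlib.RingTheory.Flat.FaithfullyFlat.Basic
import Mathlib.RingTheory.TensorProduct.Basic

set_option autoImplicit false
open TensorProduct
universe u

open CAlg

namespace Groth.Agent.Lib.Helper31

namespace ProjDescent

open Kaplansky Adapted

variable {R S : Type u} [CommRing R] [CommRing S] [Algebra R S]

/-- countably generated case of descent of projectivity (Stacks 05A7-ish) -/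
theorem projective_of_baseChange_of_isCG [Module.FaithfullyFlat R S]
    (P : Type u) [AddCommGroup P] [Module R P]
    (hc : IsCountablyGenerated R P) [Module.Projective S (S ⊗[R] P)] : Module.Projective R P := by
  haveI : Module.Flat R P := Module.Flat.of_flat_tensorProduct R P S
  have hML : IsMittagLeffler R P :=
    ML.isMittagLeffler_of_faithfullyFlat_baseChange R S P
      (ProjML.isMittagLeffler_of_projective (R := S) (M := S ⊗[R] P))
  exact ML.projective_of_flat_of_isMittagLeffler_of_isCountablyGenerated R hML hc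

section decomposition

variable {T : Type u} [AddCommGroup T] [Module S T] {I : Type u} (Q : I → Submodule S T)
  (hind : iSupIndep Q) (hsup : ⨆ i, Q i = ⊤)

include hind hsup in
theorem isCompl_MJ (J : Set I) : IsCompl (MJ Q J) (MJ Q Jᶜ) := by
  constructor
  · exact hind.disjoint_biSup_biSup (disjoint_compl_right (a := J))
  · rw [codisjoint_iff, ← MJ_union, Set.union_compl_self, MJ]
    simpa using hsup

include hind hsup in
theorem projective_MJ [Module.Projective S T] (J : Set I) : Module.Projective S (MJ Q J) :=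
  Module.Projective.of_split (MJ Q J).subtype
    ((MJ Q J).projectionOnto (MJ Q Jᶜ) (isCompl_MJ Q hind hsup J))
    (Submodule.projectionOnto_comp_subtype _)

include hind in
theorem MJ_inf (X Y : Set I) : MJ Q X ⊓ MJ Q Y = MJ Q (X ∩ Y) := by
  apply le_antisymm
  · have hY : MJ Q Y = MJ Q (X ∩ Y) ⊔ MJ Q (Y \ X) := by
      rw [← MJ_union]
      congr 1
      ext i
      constructor
      · intro hi
        by_cases hX : i ∈ X
        · exact Or.inl ⟨hX, hi⟩
        · exact Or.inr ⟨hi, hX⟩
      · rintro (h | h)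
        · exact h.2
        · exact h.1
    have hle : MJ Q (X ∩ Y) ≤ MJ Q X := MJ_mono Q Set.inter_subset_left
    have hdis : MJ Q (Y \ X) ⊓ MJ Q X = ⊥ :=
      (hind.disjoint_biSup_biSup (Set.disjoint_sdiff_left (s := X) (t := Y))).eq_bot
    rw [inf_comm, hY, sup_inf_assoc_of_le _ hle, hdis, sup_bot_eq]
  · exact le_inf (MJ_mono Q Set.inter_subset_left) (MJ_mono Q Set.inter_subset_right)

end decomposition

section baseChange

variable {M : Type u} [AddCommGroup M] [Module R M]

theorem range_baseChange {N : Type u} [AddCommGroup N] [Module R N] (f : N →ₗ[R] M) :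
    LinearMap.range (f.baseChange S) = EG R S (LinearMap.range f : Set M) := by
  apply le_antisymm
  · rintro _ ⟨x, rfl⟩
    induction x using TensorProduct.induction_on with
    | zero => simp
    | tmul s n =>
      rw [LinearMap.baseChange_tmul]
      have : s ⊗ₜ[R] f n = s • ((1 : S) ⊗ₜ[R] f n) := by
        rw [TensorProduct.smul_tmul', smul_eq_mul, mul_one]
      rw [this]
      exact Submodule.smul_mem _ _ (one_tmul_mem_EG ⟨n, rfl⟩)
    | add x y hx hy =>
      rw [map_add]
      exact Submodule.add_mem _ hx hy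
  · apply Submodule.span_le.2
    rintro _ ⟨_, ⟨n, rfl⟩, rfl⟩
    exact ⟨(1 : S) ⊗ₜ[R] n, by simp⟩

theorem baseChange_injective [Module.Flat R S] {N : Type u} [AddCommGroup N] [Module R N]
    (f : N →ₗ[R] M) (hf : Function.Injective f) : Function.Injective (f.baseChange S) := by
  have := Module.Flat.lTensor_preserves_injective_linearMap (M := S) f hf
  intro x y hxy
  exact this hxy

theorem baseChange_surjective {N : Type u} [AddCommGroup N] [Module R N]
    (f : M →ₗ[R] N) (hf : Function.Surjective f) : Function.Surjective (f.baseChange S) := by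
  have := LinearMap.lTensor_surjective S hf
  intro y
  obtain ⟨x, hx⟩ := this y
  exact ⟨x, hx⟩

end baseChange

section quotient

variable {M : Type u} [AddCommGroup M] [Module R M] {I : Type u}
  (Q : I → Submodule S (S ⊗[R] M)) (hind : iSupIndep Q) (hsup : ⨆ i, Q i = ⊤)

include hind hsup in
/-- the base change of a quotient of adapted submodules is a partial sum of the `Q i` -/
theorem projective_baseChange_quot [Module.Flat R S] [Module.Projective S (S ⊗[R] M)]
    (A B : Submodule R M) (hAB : A ≤ B) (IA IB : Set I)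
    (hA : EG R S (A : Set M) = MJ Q IA) (hB : EG R S (B : Set M) = MJ Q IB) :
    Module.Projective S (S ⊗[R] (↥B ⧸ Submodule.comap B.subtype A)) := by
  set A' := Submodule.comap B.subtype A with hA'
  set J : Set I := IB \ IA with hJ
  have hc := isCompl_MJ Q hind hsup J
  let pr : (S ⊗[R] M) →ₗ[S] (S ⊗[R] M) := (MJ Q J).projection (MJ Q Jᶜ) hc
  have hpr_ker : ∀ t ∈ MJ Q Jᶜ, pr t = 0 := fun t ht =>
    Submodule.projection_apply_of_mem_right hc ht
  have hpr_id : ∀ t ∈ MJ Q J, pr t = t := fun t ht =>
    Submodule.projection_apply_of_mem_left hc ht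
  let g : ↥B →ₗ[R] (S ⊗[R] M) :=
    (pr.restrictScalars R) ∘ₗ (TensorProduct.mk R S M 1) ∘ₗ B.subtype
  have hg : A' ≤ LinearMap.ker g := by
    intro b hb
    rw [LinearMap.mem_ker]
    apply hpr_ker
    have h1 : (1 : S) ⊗ₜ[R] (b : M) ∈ EG R S (A : Set M) := one_tmul_mem_EG hb
    rw [hA] at h1
    refine MJ_mono Q ?_ h1
    intro i hi hiJ
    exact hiJ.2 hi
  let φ : (↥B ⧸ A') →ₗ[R] (S ⊗[R] M) := A'.liftQ g hg
  let Φ : S ⊗[R] (↥B ⧸ A') →ₗ[S] (S ⊗[R] M) := φ.liftBaseChange S
  have key : ∀ y : S ⊗[R] ↥B,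
      Φ ((A'.mkQ.baseChange S) y) = pr ((B.subtype.baseChange S) y) := by
    intro y
    induction y using TensorProduct.induction_on with
    | zero => simp
    | tmul s b =>
      rw [LinearMap.baseChange_tmul, LinearMap.baseChange_tmul, LinearMap.liftBaseChange_tmul]
      have : s ⊗ₜ[R] (B.subtype b) = s • ((1 : S) ⊗ₜ[R] (b : M)) := by
        rw [TensorProduct.smul_tmul', smul_eq_mul, mul_one]; rfl
      rw [this, map_smul]
      rfl
    | add x y hx hy => simp only [map_add, hx, hy]
  have hιB := baseChange_injective (S := S) B.subtype B.subtype_injective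
  have hqs := baseChange_surjective (S := S) A'.mkQ (Submodule.mkQ_surjective A')
  have hrangeB : LinearMap.range (B.subtype.baseChange S) = MJ Q IB := by
    rw [range_baseChange, Submodule.range_subtype, hB]
  have hrangeA : LinearMap.range ((B.subtype ∘ₗ A'.subtype).baseChange S) = MJ Q IA := by
    rw [range_baseChange, ← hA]
    congr 2
    ext x
    constructor
    · rintro ⟨a, rfl⟩
      exact a.2
    · intro hx
      exact ⟨⟨⟨x, hAB hx⟩, hx⟩, rfl⟩
  have hinj : Function.Injective Φ := by
    rw [injective_iff_map_eq_zero]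
    intro z hz
    obtain ⟨y, rfl⟩ := hqs z
    rw [key] at hz
    have h1 : (B.subtype.baseChange S) y ∈ MJ Q Jᶜ := by
      have := (Submodule.projection_apply_eq_zero_iff hc).1 hz
      exact this
    have h2 : (B.subtype.baseChange S) y ∈ MJ Q IB := hrangeB ▸ ⟨y, rfl⟩
    have h3 : (B.subtype.baseChange S) y ∈ MJ Q IA := by
      have : (B.subtype.baseChange S) y ∈ MJ Q IB ⊓ MJ Q Jᶜ := ⟨h2, h1⟩
      rw [MJ_inf Q hind] at this
      refine MJ_mono Q ?_ this
      rintro i ⟨hiB, hiJ⟩
      by_contra hiA
      exact hiJ ⟨hiB, hiA⟩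
    rw [← hrangeA] at h3
    obtain ⟨x, hx⟩ := h3
    rw [LinearMap.baseChange_comp, LinearMap.comp_apply] at hx
    have hy : y = (A'.subtype.baseChange S) x := (hιB hx).symm
    rw [hy, ← LinearMap.comp_apply, ← LinearMap.baseChange_comp]
    have : A'.mkQ ∘ₗ A'.subtype = 0 := by
      ext a
      simp
    rw [this, LinearMap.baseChange_zero, LinearMap.zero_apply]
  have hrange : LinearMap.range Φ = MJ Q J := by
    apply le_antisymm
    · rintro _ ⟨z, rfl⟩
      obtain ⟨y, rfl⟩ := hqs z
      rw [key]
      exact Submodule.projection_apply_mem hc _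
    · apply iSup₂_le
      intro i hi
      intro t ht
      have h1 : t ∈ MJ Q IB := le_MJ Q hi.1 ht
      rw [← hrangeB] at h1
      obtain ⟨y, rfl⟩ := h1
      refine ⟨(A'.mkQ.baseChange S) y, ?_⟩
      rw [key]
      exact hpr_id _ (le_MJ Q hi ht)
  haveI := projective_MJ Q hind hsup J
  have e : ↥(MJ Q J) ≃ₗ[S] S ⊗[R] (↥B ⧸ A') :=
    (LinearEquiv.ofEq _ _ hrange.symm).trans (LinearEquiv.ofInjective Φ hinj).symm
  exact Module.Projective.of_equiv e

include hind hsup in
/-- successor step of the dévissage -/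
theorem exists_compl_of_adapted [Module.FaithfullyFlat R S] [Module.Projective S (S ⊗[R] M)]
    (A B E : Submodule R M) (hABE : A ⊔ E = B) (hE : IsCountablyGenerated R E) (IA IB : Set I)
    (hA : EG R S (A : Set M) = MJ Q IA) (hB : EG R S (B : Set M) = MJ Q IB) :
    ∃ C : Submodule R M, A ⊓ C = ⊥ ∧ A ⊔ C = B ∧
      IsCountablyGenerated R (↥B ⧸ Submodule.comap B.subtype A) := by
  have hAB : A ≤ B := hABE ▸ le_sup_left
  have hcg := isCG_quot_of_sup A B E hABE hE
  haveI := projective_baseChange_quot Q hind hsup A B hAB IA IB hA hB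
  haveI : Module.Projective R (↥B ⧸ Submodule.comap B.subtype A) :=
    projective_of_baseChange_of_isCG (S := S) _ hcg
  obtain ⟨σ, hσ⟩ := Module.projective_lifting_property (Submodule.comap B.subtype A).mkQ
    LinearMap.id (Submodule.mkQ_surjective _)
  have hσ' : ∀ p, (Submodule.comap B.subtype A).mkQ (σ p) = p := fun p =>
    LinearMap.congr_fun hσ p
  refine ⟨Submodule.map B.subtype (LinearMap.range σ), ?_, ?_, hcg⟩
  · rw [eq_bot_iff]
    rintro x ⟨hxA, ⟨_, ⟨p, rfl⟩, rfl⟩⟩
    have h1 : σ p ∈ Submodule.comap B.subtype A := hxA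
    have h2 : (Submodule.comap B.subtype A).mkQ (σ p) = 0 := by
      rw [Submodule.mkQ_apply, Submodule.Quotient.mk_eq_zero]
      exact h1
    rw [hσ'] at h2
    rw [h2, map_zero, map_zero]
    exact Submodule.zero_mem _
  · apply le_antisymm
    · apply sup_le hAB
      rintro _ ⟨b, _, rfl⟩
      exact b.2
    · intro b hb
      set b' : ↥B := ⟨b, hb⟩ with hb'
      set p := (Submodule.comap B.subtype A).mkQ b' with hp
      have h1 : b' - σ p ∈ Submodule.comap B.subtype A := by
        rw [← Submodule.Quotient.mk_eq_zero, Submodule.Quotient.mk_sub]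
        have := hσ' p
        rw [Submodule.mkQ_apply] at this
        rw [this, hp, Submodule.mkQ_apply, sub_self]
      have h2 : b = (B.subtype (b' - σ p)) + B.subtype (σ p) := by
        rw [← map_add, sub_add_cancel]
        rfl
      rw [h2]
      exact Submodule.add_mem_sup h1 ⟨σ p, ⟨p, rfl⟩, rfl⟩

end quotient

section adapted

variable {M : Type u} [AddCommGroup M] [Module R M] {I : Type u}
  (Q : I → Submodule S (S ⊗[R] M))

/-- `N` is adapted to the decomposition -/
def IsAdapted (N : Submodule R M) : Prop := ∃ I' : Set I, EG R S (N : Set M) = MJ Q I'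

theorem EG_iSup {α : Sort*} (N : α → Submodule R M) :
    EG R S ((⨆ a, N a : Submodule R M) : Set M) = ⨆ a, EG R S (N a : Set M) := by
  apply le_antisymm
  · apply Submodule.span_le.2
    rintro _ ⟨n, hn, rfl⟩
    have : (⨆ a, N a) ≤ Submodule.comap (TensorProduct.mk R S M 1)
        ((⨆ a, EG R S (N a : Set M)).restrictScalars R) := by
      apply iSup_le
      intro a x hx
      exact Submodule.mem_iSup_of_mem a (one_tmul_mem_EG hx)
    exact this hn
  · apply iSup_le
    intro a
    exact EG_mono (fun x hx => Submodule.mem_iSup_of_mem a hx)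

theorem isAdapted_iSup {α : Sort*} (N : α → Submodule R M) (h : ∀ a, IsAdapted Q (N a)) :
    IsAdapted Q (⨆ a, N a) := by
  choose I' hI' using h
  refine ⟨⋃ a, I' a, ?_⟩
  rw [EG_iSup, MJ_iUnion]
  exact iSup_congr hI'

theorem isAdapted_MJ (A : M → Submodule R M) (h : ∀ m, IsAdapted Q (A m)) (X : Set M) :
    IsAdapted Q (MJ A X) := by
  unfold MJ
  exact isAdapted_iSup Q _ fun m => isAdapted_iSup Q _ fun _ => h m

end adapted

/-- **Stacks 05A9**: projectivity descends along faithfully flat ring maps. -/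
theorem projective_of_faithfullyFlat_baseChange [Module.FaithfullyFlat R S]
    (M : Type u) [AddCommGroup M] [Module R M] [Module.Projective S (S ⊗[R] M)] :
    Module.Projective R M := by
  classical
  obtain ⟨I, Q, hind, hsup, hQcg⟩ :=
    ProjML.exists_decomp_of_projective (R := S) (M := S ⊗[R] M)
  have hQc : ∀ i, ∃ t : Set (S ⊗[R] M), t.Countable ∧ Submodule.span S t = Q i := by
    intro i
    obtain ⟨s, hs, hspan⟩ := hQcg i
    refine ⟨Subtype.val '' s, hs.image _, ?_⟩
    have := Submodule.span_image (R := S) (s := s) (Q i).subtype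
    simp only [Submodule.coe_subtype] at this
    rw [this, hspan, Submodule.map_subtype_top]
  have hA : ∀ m : M, ∃ N' : Submodule R M, m ∈ N' ∧ IsCountablyGenerated R N' ∧
      IsAdapted Q N' := by
    intro m
    obtain ⟨N', I', hle, ⟨s, hs, hspan⟩, hE⟩ := Adapted.exists_adapted Q hsup hQc
      (Submodule.span R {m}) ⟨{m}, Set.countable_singleton m, rfl⟩
    refine ⟨N', hle (Submodule.mem_span_singleton_self m), ?_, I', hE⟩
    rw [← hspan]
    exact Kaplansky.isCG_span s hs
  choose A hmA hAcg hAad using hA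
  obtain ⟨hlin, hwf⟩ := exists_wellFoundedLT M
  let c : M → Set M := fun t => {t}
  let Mα : WithTop M → Submodule R M := fun s => MJ A (Jf c s)
  have hmono : Monotone Mα := fun _ _ h => MJ_mono A (Jf_mono c h)
  have hlim : ∀ s, Order.IsSuccPrelimit s → Mα s = ⨆ t : {t // t < s}, Mα t.1 := by
    intro s hs
    simp only [Mα]
    rw [Jf_limit c hs, MJ_iUnion]
  have htop : ⨆ s, Mα s = ⊤ := by
    rw [eq_top_iff]
    intro m _
    have : m ∈ Mα ⊤ := by
      refine le_MJ A (i := m) ?_ (hmA m)
      rw [Jf_top c (fun i => rfl)]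
      trivial
    exact Submodule.mem_iSup_of_mem ⊤ this
  have hstep : ∀ s t, s ⋖ t → ∃ C : Submodule R M, Mα s ⊓ C = ⊥ ∧ Mα s ⊔ C = Mα t ∧
      IsCountablyGenerated R (↥(Mα t) ⧸ Submodule.comap (Mα t).subtype (Mα s)) := by
    intro s t h
    obtain ⟨r, hr⟩ := Jf_covBy c h
    have hsup' : Mα s ⊔ A r = Mα t := by
      simp only [Mα]
      rw [hr, MJ_union]
      congr 1
      simp [MJ, c]
    obtain ⟨IA, hIA⟩ := isAdapted_MJ Q A hAad (Jf c s)
    obtain ⟨IB, hIB⟩ := isAdapted_MJ Q A hAad (Jf c t)
    exact exists_compl_of_adapted Q hind hsup (Mα s) (Mα t) (A r) hsup' (hAcg r) IA IB hIA hIB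
  obtain ⟨C, hC1, hC2, hC3⟩ := Devissage.exists_isInternal_of_devissage Mα hmono hlim hstep
  have hint : DirectSum.IsInternal C :=
    DirectSum.isInternal_submodule_of_iSupIndep_of_iSup_eq_top hC1 (hC2.trans htop)
  haveI : Module.Flat R M := Module.Flat.of_flat_tensorProduct R M S
  have hML : IsMittagLeffler R M :=
    ML.isMittagLeffler_of_faithfullyFlat_baseChange R S M
      (ProjML.isMittagLeffler_of_projective (R := S) (M := S ⊗[R] M))
  exact ProjML.projective_of_decomp C hint hC3 hML

end ProjDescent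

end Groth.Agent.Lib.Helper31
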