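import Mathlib.Algebra.Category.Grp.Colimits
import Mathlib.CategoryTheory.Limits.Types.Colimits
import Mathlib.GroupTheory.QuotientGroup.Defs

set_option autoImplicit false
open CategoryTheory CategoryTheory.Limits
universe v u

namespace Groth.Agent.Lib.Helper31

theorem colimit_post_forget_surjective {I : Type v} [SmallCategory I] [Nonempty I]
    (hI : ∀ x y : I, ∃ (z : I) (_ : x ⟶ z) (_ : y ⟶ z), True) (M : I ⥤ AddCommGrpCat.{v}) :
    Function.Surjective (colimit.post M (forget AddCommGrpCat.{v})) := by
  -- the union of the images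
  let S : AddSubgroup ↑(colimit M : AddCommGrpCat.{v}) :=
    { carrier := {x | ∃ (i : I) (m : M.obj i), colimit.ι M i m = x}
      zero_mem' := by
        obtain ⟨i⟩ := ‹Nonempty I›
        exact ⟨i, 0, map_zero _⟩
      add_mem' := by
        rintro _ _ ⟨i, a, rfl⟩ ⟨j, b, rfl⟩
        obtain ⟨z, f, g, -⟩ := hI i j
        refine ⟨z, M.map f a + M.map g b, ?_⟩
        rw [map_add]
        have e1 : colimit.ι M z (M.map f a) = colimit.ι M i a :=
          ConcreteCategory.congr_hom (colimit.w M f) a
        have e2 : colimit.ι M z (M.map g b) = colimit.ι M j b :=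
          ConcreteCategory.congr_hom (colimit.w M g) b
        rw [e1, e2]
      neg_mem' := by
        rintro _ ⟨i, a, rfl⟩
        exact ⟨i, -a, map_neg _ _⟩ }
  have hS : ∀ x : ↑(colimit M : AddCommGrpCat.{v}), x ∈ S := by
    let π : colimit M ⟶ AddCommGrpCat.of (↑(colimit M : AddCommGrpCat.{v}) ⧸ S) := AddCommGrpCat.ofHom (QuotientAddGroup.mk' S)
    have hπ : π = 0 := by
      apply colimit.hom_ext
      intro i
      ext m
      have : colimit.ι M i m ∈ S := ⟨i, m, rfl⟩
      simpa [π] using (QuotientAddGroup.eq_zero_iff _).mpr this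
    intro x
    have := ConcreteCategory.congr_hom hπ x
    simpa [π] using this
  intro x
  obtain ⟨i, m, hm⟩ := hS x
  refine ⟨colimit.ι (M ⋙ forget AddCommGrpCat) i m, ?_⟩
  have := ConcreteCategory.congr_hom (colimit.ι_post M (forget AddCommGrpCat.{v}) i) m
  simp only [ConcreteCategory.comp_apply] at this
  rw [this]
  exact hm

end Groth.Agent.Lib.Helper31
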