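import Groth.Agent.Lib.Helper31.Kaplansky
import Mathlib.LinearAlgebra.TensorProduct.Tower

set_option autoImplicit false
open TensorProduct
universe u

open CAlg

namespace Groth.Agent.Lib.Helper31

namespace Adapted

variable {R S : Type u} [CommRing R] [CommRing S] [Algebra R S]
  {M : Type u} [AddCommGroup M] [Module R M]

variable (R S) in
/-- the `S`-span of `1 ⊗ G` -/
def EG (G : Set M) : Submodule S (S ⊗[R] M) :=
  Submodule.span S ((TensorProduct.mk R S M 1) '' G)

theorem EG_mono {G G' : Set M} (h : G ⊆ G') : EG R S G ≤ EG R S G' :=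
  Submodule.span_mono (Set.image_mono h)

theorem one_tmul_mem_EG {G : Set M} {m : M} (hm : m ∈ G) : (1 : S) ⊗ₜ[R] m ∈ EG R S G :=
  Submodule.subset_span ⟨m, hm, rfl⟩

theorem EG_span (G : Set M) : EG R S (Submodule.span R G : Set M) = EG R S G := by
  apply le_antisymm
  · apply Submodule.span_le.2
    rintro _ ⟨n, hn, rfl⟩
    induction hn using Submodule.span_induction with
    | mem x hx => exact one_tmul_mem_EG hx
    | zero => simp
    | add x y _ _ hx hy =>
      simp only [map_add]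
      exact Submodule.add_mem _ hx hy
    | smul r x _ hx =>
      have : (TensorProduct.mk R S M 1) (r • x) = (algebraMap R S r) • ((1 : S) ⊗ₜ[R] x) := by
        simp only [TensorProduct.mk_apply, TensorProduct.tmul_smul]
        rw [algebraMap_smul]
      rw [this]
      exact Submodule.smul_mem _ _ hx
  · exact EG_mono Submodule.subset_span

theorem exists_finset_mem_EG (t : S ⊗[R] M) : ∃ F : Finset M, t ∈ EG R S (F : Set M) := by
  classical
  induction t using TensorProduct.induction_on with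
  | zero => exact ⟨∅, Submodule.zero_mem _⟩
  | tmul s m =>
    refine ⟨{m}, ?_⟩
    have : s ⊗ₜ[R] m = s • ((1 : S) ⊗ₜ[R] m) := by
      rw [TensorProduct.smul_tmul', smul_eq_mul, mul_one]
    rw [this]
    exact Submodule.smul_mem _ _ (one_tmul_mem_EG (by simp))
  | add x y hx hy =>
    obtain ⟨F1, h1⟩ := hx
    obtain ⟨F2, h2⟩ := hy
    refine ⟨F1 ∪ F2, Submodule.add_mem _ (EG_mono ?_ h1) (EG_mono ?_ h2)⟩
    · simp
    · simp

/-- chosen finite set of elements of `M` expressing `t` -/
noncomputable def mm (t : S ⊗[R] M) : Finset M := (exists_finset_mem_EG t).choose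

theorem mem_EG_mm (t : S ⊗[R] M) : t ∈ EG R S (mm t : Set M) :=
  (exists_finset_mem_EG t).choose_spec

section closure

variable {I : Type u} (Q : I → Submodule S (S ⊗[R] M)) (hsup : ⨆ i, Q i = ⊤)
  (genQ : I → Set (S ⊗[R] M)) (hgc : ∀ i, (genQ i).Countable)
  (hg : ∀ i, Submodule.span S (genQ i) = Q i)

/-- one closure step -/
noncomputable def step (G : Set M) : Set M :=
  G ∪ ⋃ n ∈ G, ⋃ i ∈ (Kaplansky.supp Q hsup ((1 : S) ⊗ₜ[R] n) : Set I),
    ⋃ f ∈ genQ i, (mm f : Set M)

include hgc in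
theorem step_countable (G : Set M) (hG : G.Countable) : (step Q hsup genQ G).Countable := by
  apply hG.union
  apply hG.biUnion
  intro n _
  apply (Finset.countable_toSet _).biUnion
  intro i _
  apply (hgc i).biUnion
  intro f _
  exact Finset.countable_toSet _

/-- the closure -/
noncomputable def cl (G : Set M) : Set M := ⋃ ℓ : ℕ, (step Q hsup genQ)^[ℓ] G

theorem subset_cl (G : Set M) : G ⊆ cl Q hsup genQ G := fun _ hx => Set.mem_iUnion.2 ⟨0, hx⟩

include hgc in
theorem cl_countable (G : Set M) (hG : G.Countable) : (cl Q hsup genQ G).Countable := by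
  apply Set.countable_iUnion
  intro n
  induction n with
  | zero => exact hG
  | succ n ih =>
    rw [Function.iterate_succ_apply']
    exact step_countable Q hsup genQ hgc _ ih

/-- the index set of the closure -/
noncomputable def idx (G : Set M) : Set I :=
  ⋃ n ∈ cl Q hsup genQ G, (Kaplansky.supp Q hsup ((1 : S) ⊗ₜ[R] n) : Set I)

include hg in
theorem EG_cl (G : Set M) :
    EG R S (cl Q hsup genQ G) = ⨆ i ∈ idx Q hsup genQ G, Q i := by
  apply le_antisymm
  · apply Submodule.span_le.2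
    rintro _ ⟨n, hn, rfl⟩
    have h1 := Kaplansky.mem_MJ_supp Q hsup ((1 : S) ⊗ₜ[R] n)
    refine Kaplansky.MJ_mono Q ?_ h1
    intro i hi
    exact Set.mem_iUnion₂.2 ⟨n, hn, hi⟩
  · apply iSup₂_le
    intro i hi
    obtain ⟨n, hn, hin⟩ := Set.mem_iUnion₂.1 hi
    obtain ⟨ℓ, hℓ⟩ := Set.mem_iUnion.1 hn
    rw [← hg i, Submodule.span_le]
    intro f hf
    refine EG_mono ?_ (mem_EG_mm f)
    intro m hm
    refine Set.mem_iUnion.2 ⟨ℓ + 1, ?_⟩
    rw [Function.iterate_succ_apply']
    refine Or.inr ?_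
    exact Set.mem_iUnion₂.2 ⟨n, hℓ, Set.mem_iUnion₂.2 ⟨i, hin, Set.mem_iUnion₂.2 ⟨f, hf, hm⟩⟩⟩

end closure

/-- **Stacks 05A8**. -/
theorem exists_adapted {I : Type u} (Q : I → Submodule S (S ⊗[R] M)) (hsup : ⨆ i, Q i = ⊤)
    (hQc : ∀ i, ∃ t : Set (S ⊗[R] M), t.Countable ∧ Submodule.span S t = Q i)
    (N : Submodule R M) (hN : ∃ s : Set M, s.Countable ∧ Submodule.span R s = N) :
    ∃ (N' : Submodule R M) (I' : Set I), N ≤ N' ∧
      (∃ s : Set M, s.Countable ∧ Submodule.span R s = N') ∧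
      Submodule.span S ((TensorProduct.mk R S M 1) '' (N' : Set M)) = ⨆ i ∈ I', Q i := by
  choose genQ hgc hg using hQc
  obtain ⟨G, hGc, rfl⟩ := hN
  refine ⟨Submodule.span R (cl Q hsup genQ G), idx Q hsup genQ G,
    Submodule.span_mono (subset_cl Q hsup genQ G),
    ⟨_, cl_countable Q hsup genQ hgc G hGc, rfl⟩, ?_⟩
  have := EG_span (R := R) (S := S) (cl Q hsup genQ G)
  rw [EG] at this
  rw [this]
  exact EG_cl Q hsup genQ hg G

end Adapted

end Groth.Agent.Lib.Helper31
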