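import Mathlib

/-!
# Splitting of completed sequences with flat, formally projective quotient (helper31)

* `exists_section`: a surjection `p : E → M` onto a flat module with `M/IM` projective over `R/I`
  and kernel killed by `I` has a section.
* `exists_lift`: `M` has the lifting property for surjections whose kernel is killed by `I ^ n`.
-/

set_option autoImplicit false

namespace Groth.Agent.Lib.Helper31.AdicSplit

open LinearMap Submodule

variable {R : Type*} [CommRing R] (I : Ideal R)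
variable {M : Type*} [AddCommGroup M] [Module R M]

section Lifting

variable [Module.Flat R M] [Module.Projective (R ⧸ I) (M ⧸ (I • ⊤ : Submodule R M))]

theorem exists_section {E : Type*} [AddCommGroup E] [Module R E] (p : E →ₗ[R] M)
    (hp : Function.Surjective p) (hker : ∀ r ∈ I, ∀ e, p e = 0 → r • e = 0) :
    ∃ σ : M →ₗ[R] E, ∀ m, p (σ m) = m := by
  have hp' : Function.Surjective (p.reduceModIdeal I) := by
    intro y
    obtain ⟨m, rfl⟩ := Submodule.Quotient.mk_surjective _ y
    obtain ⟨e, rfl⟩ := hp m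
    exact ⟨Submodule.Quotient.mk e, rfl⟩
  obtain ⟨τ, hτ⟩ := Module.projective_lifting_property (p.reduceModIdeal I) LinearMap.id hp'
  let Φ : E →ₗ[R] (E ⧸ (I • ⊤ : Submodule R E)) × M := (Submodule.mkQ _).prod p
  have hΦ : Function.Injective Φ := by
    rw [← LinearMap.ker_eq_bot, LinearMap.ker_prod, Submodule.ker_mkQ, inf_comm,
      LinearMap.ker_inf_smul_top_eq_smul_of_flat I p hp, eq_bot_iff]
    refine Submodule.smul_le.mpr fun r hr e he => ?_
    rw [hker r hr e he]; exact Submodule.zero_mem _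
  let Ψ : M →ₗ[R] (E ⧸ (I • ⊤ : Submodule R E)) × M :=
    ((τ.restrictScalars R).comp (Submodule.mkQ _)).prod LinearMap.id
  have hΨ : ∀ m, Ψ m ∈ LinearMap.range Φ := by
    intro m
    obtain ⟨e₀, he₀⟩ := Submodule.Quotient.mk_surjective _ (τ (Submodule.Quotient.mk m))
    have h1 : (Submodule.Quotient.mk (p e₀) : M ⧸ (I • ⊤ : Submodule R M)) =
        Submodule.Quotient.mk m := by
      have := LinearMap.congr_fun hτ (Submodule.Quotient.mk m)
      rw [LinearMap.comp_apply, ← he₀] at this
      exact this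
    have h2 : p e₀ - m ∈ (I • ⊤ : Submodule R M) := (Submodule.Quotient.eq _).mp h1
    have h3 : (I • ⊤ : Submodule R M) = Submodule.map p (I • ⊤) := by
      rw [Submodule.map_smul'', Submodule.map_top, LinearMap.range_eq_top.mpr hp]
    rw [h3] at h2
    obtain ⟨e₁, he₁, he₁'⟩ := h2
    refine ⟨e₀ - e₁, ?_⟩
    refine Prod.ext ?_ ?_
    · show Submodule.Quotient.mk (e₀ - e₁) = τ (Submodule.Quotient.mk m)
      rw [Submodule.Quotient.mk_sub, (Submodule.Quotient.mk_eq_zero _).mpr he₁, sub_zero, he₀]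
    · show p (e₀ - e₁) = m
      rw [map_sub, he₁']; abel
  let e := LinearEquiv.ofInjective Φ hΦ
  refine ⟨e.symm.toLinearMap.comp (Ψ.codRestrict (LinearMap.range Φ) hΨ), fun m => ?_⟩
  have h4 : Φ (e.symm (Ψ.codRestrict (LinearMap.range Φ) hΨ m)) = Ψ m := by
    have := e.apply_symm_apply (Ψ.codRestrict (LinearMap.range Φ) hΨ m)
    exact congrArg Subtype.val this
  exact congrArg Prod.snd h4

theorem exists_lift_step {A B : Type*} [AddCommGroup A] [Module R A] [AddCommGroup B] [Module R B]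
    (π : A →ₗ[R] B) (hπ : Function.Surjective π) (hker : ∀ r ∈ I, ∀ a, π a = 0 → r • a = 0)
    (φ : M →ₗ[R] B) : ∃ ψ : M →ₗ[R] A, ∀ m, π (ψ m) = φ m := by
  let E : Submodule R (A × M) :=
    LinearMap.eqLocus (π.comp (LinearMap.fst R A M)) (φ.comp (LinearMap.snd R A M))
  let p : E →ₗ[R] M := (LinearMap.snd R A M).comp E.subtype
  have hp : Function.Surjective p := by
    intro m
    obtain ⟨a, ha⟩ := hπ (φ m)
    exact ⟨⟨(a, m), ha⟩, rfl⟩
  have hkerp : ∀ r ∈ I, ∀ e, p e = 0 → r • e = 0 := by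
    rintro r hr ⟨⟨a, m⟩, hE⟩ he
    have hm : m = 0 := he
    subst hm
    have ha : π a = 0 := by
      have : π a = φ 0 := hE
      rw [this, map_zero]
    apply Subtype.ext
    show (r • a, r • (0 : M)) = 0
    rw [hker r hr a ha, smul_zero]; rfl
  obtain ⟨σ, hσ⟩ := exists_section I p hp hkerp
  refine ⟨(LinearMap.fst R A M).comp (E.subtype.comp σ), fun m => ?_⟩
  have h1 : π (σ m).1.1 = φ (σ m).1.2 := (σ m).2
  have h2 : (σ m).1.2 = m := hσ m
  show π (σ m).1.1 = φ m
  rw [h1, h2]

theorem exists_lift.{v} (n : ℕ) : ∀ {A B : Type v} [AddCommGroup A] [Module R A] [AddCommGroup B]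
    [Module R B] (π : A →ₗ[R] B) (_ : Function.Surjective π)
    (_ : ∀ r ∈ I ^ n, ∀ a, π a = 0 → r • a = 0)
    (φ : M →ₗ[R] B), ∃ ψ : M →ₗ[R] A, ∀ m, π (ψ m) = φ m := by
  induction n with
  | zero =>
    intro A B _ _ _ _ π hπ hker φ
    have hinj : Function.Injective π := by
      rw [← LinearMap.ker_eq_bot, eq_bot_iff]
      intro a ha
      have := hker 1 (by simp) a ha
      rw [one_smul] at this
      rw [this]; exact Submodule.zero_mem _
    let e := LinearEquiv.ofBijective π ⟨hinj, hπ⟩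
    exact ⟨e.symm.toLinearMap.comp φ, fun m => e.apply_symm_apply (φ m)⟩
  | succ n ih =>
    intro A B _ _ _ _ π hπ hker φ
    let N' : Submodule R A := I • LinearMap.ker π
    have hN' : N' ≤ LinearMap.ker π := Submodule.smul_le_right
    let π' : A ⧸ N' →ₗ[R] B := N'.liftQ π hN'
    have hπ' : Function.Surjective π' := by
      intro b
      obtain ⟨a, rfl⟩ := hπ b
      exact ⟨Submodule.Quotient.mk a, rfl⟩
    have hker' : ∀ r ∈ I, ∀ a', π' a' = 0 → r • a' = 0 := by
      intro r hr a' ha'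
      obtain ⟨a, rfl⟩ := Submodule.Quotient.mk_surjective _ a'
      have ha : π a = 0 := ha'
      rw [← Submodule.Quotient.mk_smul, Submodule.Quotient.mk_eq_zero]
      exact Submodule.smul_mem_smul hr ha
    obtain ⟨ψ', hψ'⟩ := exists_lift_step I π' hπ' hker' φ
    have hq : Function.Surjective N'.mkQ := Submodule.mkQ_surjective _
    have hkerq : ∀ r ∈ I ^ n, ∀ a, N'.mkQ a = 0 → r • a = 0 := by
      intro r hr a ha
      have ha' : a ∈ N' := by
        rwa [Submodule.mkQ_apply, Submodule.Quotient.mk_eq_zero] at ha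
      refine Submodule.smul_induction_on ha' ?_ ?_
      · intro s hs k hk
        rw [smul_smul]
        exact hker (r * s) (by rw [pow_succ]; exact Ideal.mul_mem_mul hr hs) k hk
      · intro x y hx hy
        rw [smul_add, hx, hy, add_zero]
    obtain ⟨ψ, hψ⟩ := ih N'.mkQ hq hkerq ψ'
    refine ⟨ψ, fun m => ?_⟩
    have : π (ψ m) = π' (N'.mkQ (ψ m)) := rfl
    rw [this, hψ, hψ']

section Main

universe u

variable {K P : Type*} [AddCommGroup K] [Module R K] [AddCommGroup P] [Module R P]
  (f : K →ₗ[R] P) (g : P →ₗ[R] M)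

omit [Module.Flat R M] [Module.Projective (R ⧸ I) (M ⧸ (I • ⊤ : Submodule R M))] in
theorem ker_reduce (hg : Function.Surjective g) (hfg : Function.Exact f g) (J : Ideal R)
    (y : P ⧸ (J • ⊤ : Submodule R P)) (hy : g.reduceModIdeal J y = 0) :
    ∃ k, y = Submodule.Quotient.mk (f k) := by
  obtain ⟨p, rfl⟩ := Submodule.Quotient.mk_surjective _ y
  have h1 : g p ∈ (J • ⊤ : Submodule R M) := by
    rw [LinearMap.reduceModIdeal_apply] at hy
    exact (Submodule.Quotient.mk_eq_zero _).mp hy
  have h3 : (J • ⊤ : Submodule R M) = Submodule.map g (J • ⊤) := by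
    rw [Submodule.map_smul'', Submodule.map_top, LinearMap.range_eq_top.mpr hg]
  rw [h3] at h1
  obtain ⟨p', hp', hp''⟩ := h1
  have h4 : g (p - p') = 0 := by rw [map_sub, hp'', sub_self]
  obtain ⟨k, hk⟩ := (hfg _).mp h4
  refine ⟨k, ?_⟩
  rw [hk, Submodule.Quotient.mk_sub, (Submodule.Quotient.mk_eq_zero _).mpr hp', sub_zero]

omit [Module.Projective (R ⧸ I) (M ⧸ (I • ⊤ : Submodule R M))] in
theorem reduce_injective (hf : Function.Injective f) (hg : Function.Surjective g)
    (hfg : Function.Exact f g) (J : Ideal R) :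
    Function.Injective (f.reduceModIdeal J) := by
  rw [injective_iff_map_eq_zero]
  intro x hx
  obtain ⟨k, rfl⟩ := Submodule.Quotient.mk_surjective _ x
  rw [LinearMap.reduceModIdeal_apply] at hx
  have h1 : f k ∈ (J • ⊤ : Submodule R P) := (Submodule.Quotient.mk_eq_zero _).mp hx
  have h2 : f k ∈ LinearMap.ker g := (hfg _).mpr ⟨k, rfl⟩
  have h3 : f k ∈ J • LinearMap.ker g := by
    rw [← LinearMap.ker_inf_smul_top_eq_smul_of_flat J g hg]
    exact ⟨h2, h1⟩
  have h4 : J • LinearMap.ker g = Submodule.map f (J • ⊤) := by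
    rw [Submodule.map_smul'', Submodule.map_top, LinearMap.exact_iff.mp hfg]
  rw [h4] at h3
  obtain ⟨k', hk', hk''⟩ := h3
  rw [← hf hk'']
  exact (Submodule.Quotient.mk_eq_zero _).mpr hk'

omit [Module.Projective (R ⧸ I) (M ⧸ (I • ⊤ : Submodule R M))] in
theorem map_injective (hf : Function.Injective f) (hg : Function.Surjective g)
    (hfg : Function.Exact f g) : Function.Injective (AdicCompletion.map I f) := by
  rw [injective_iff_map_eq_zero]
  intro x hx
  refine AdicCompletion.ext fun n => ?_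
  have h1 : (AdicCompletion.map I f x).val n = 0 := by rw [hx]; rfl
  rw [AdicCompletion.map_val_apply] at h1
  have := reduce_injective f g hf hg hfg (I ^ n) (h1.trans (map_zero _).symm)
  rw [this]; rfl

omit [Module.Projective (R ⧸ I) (M ⧸ (I • ⊤ : Submodule R M))] in
theorem map_exact (hf : Function.Injective f) (hg : Function.Surjective g)
    (hfg : Function.Exact f g) :
    Function.Exact (AdicCompletion.map I f) (AdicCompletion.map I g) := by
  intro y
  constructor
  · intro hy
    have h1 : ∀ n, ∃ x : K ⧸ (I ^ n • ⊤ : Submodule R K),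
        f.reduceModIdeal (I ^ n) x = y.val n := by
      intro n
      have h2 : (AdicCompletion.map I g y).val n = 0 := by rw [hy]; rfl
      rw [AdicCompletion.map_val_apply] at h2
      obtain ⟨k, hk⟩ := ker_reduce f g hg hfg (I ^ n) (y.val n) h2
      exact ⟨Submodule.Quotient.mk k, hk.symm⟩
    choose x hx using h1
    refine ⟨⟨x, ?_⟩, ?_⟩
    · intro m n hmn
      apply reduce_injective f g hf hg hfg (I ^ m)
      rw [hx m]
      have := LinearMap.congr_fun (AdicCompletion.transitionMap_comp_reduceModIdeal I f hmn) (x n)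
      simp only [LinearMap.comp_apply] at this
      have h3 : (f.reduceModIdeal (I ^ m)) (AdicCompletion.transitionMap I K hmn (x n)) =
          AdicCompletion.transitionMap I P hmn ((f.reduceModIdeal (I ^ n)) (x n)) := this.symm
      rw [h3, hx n]
      exact y.2 hmn
    · refine AdicCompletion.ext fun n => ?_
      rw [AdicCompletion.map_val_apply]
      exact hx n
  · rintro ⟨x, rfl⟩
    rw [AdicCompletion.map_comp_apply]
    have : g ∘ₗ f = 0 := by
      ext k
      exact (hfg _).mpr ⟨k, rfl⟩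
    rw [this, AdicCompletion.map_zero]; rfl

end Main

end Lifting

section Sect

universe u

variable {P : Type u} {M : Type u} [AddCommGroup P] [Module R P] [AddCommGroup M] [Module R M]
  [Module.Flat R M] [Module.Projective (R ⧸ I) (M ⧸ (I • ⊤ : Submodule R M))]
  {K : Type*} [AddCommGroup K] [Module R K]
  (f : K →ₗ[R] P) (g : P →ₗ[R] M)

/-- compatible lifts at level `n` -/
def Lift (n : ℕ) : Type u :=
  {t : M →ₗ[R] P ⧸ (I ^ n • ⊤ : Submodule R P) //
    ∀ m, g.reduceModIdeal (I ^ n) (t m) = Submodule.Quotient.mk m}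

omit [Module.Flat R M] [Module.Projective (R ⧸ I) (M ⧸ (I • ⊤ : Submodule R M))] in
theorem pow_smul_quot_eq_zero (n : ℕ) (r : R) (hr : r ∈ I ^ n)
    (y : P ⧸ (I ^ n • ⊤ : Submodule R P)) : r • y = 0 := by
  obtain ⟨p, rfl⟩ := Submodule.Quotient.mk_surjective _ y
  rw [← Submodule.Quotient.mk_smul, Submodule.Quotient.mk_eq_zero]
  exact Submodule.smul_mem_smul hr Submodule.mem_top

theorem lift_step (hg : Function.Surjective g) (hfg : Function.Exact f g) (n : ℕ)
    (t : Lift I g n) : ∃ t' : Lift I g (n + 1),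
      ∀ m, AdicCompletion.transitionMap I P (Nat.le_succ n) (t'.1 m) = t.1 m := by
  let gn : P ⧸ (I ^ n • ⊤ : Submodule R P) →ₗ[R] M ⧸ (I ^ n • ⊤ : Submodule R M) :=
    (g.reduceModIdeal (I ^ n)).restrictScalars R
  let gn1 : P ⧸ (I ^ (n + 1) • ⊤ : Submodule R P) →ₗ[R] M ⧸ (I ^ (n + 1) • ⊤ : Submodule R M) :=
    (g.reduceModIdeal (I ^ (n + 1))).restrictScalars R
  let trP := AdicCompletion.transitionMap I P (Nat.le_succ n)
  let trM := AdicCompletion.transitionMap I M (Nat.le_succ n)
  have hcomm : ∀ x, trM (gn1 x) = gn (trP x) := fun x =>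
    LinearMap.congr_fun (AdicCompletion.transitionMap_comp_reduceModIdeal I g (Nat.le_succ n)) x
  let B : Submodule R ((P ⧸ (I ^ n • ⊤ : Submodule R P)) × (M ⧸ (I ^ (n + 1) • ⊤ : Submodule R M))) :=
    LinearMap.eqLocus (gn.comp (LinearMap.fst R _ _)) (trM.comp (LinearMap.snd R _ _))
  let π : (P ⧸ (I ^ (n + 1) • ⊤ : Submodule R P)) →ₗ[R] B :=
    (trP.prod gn1).codRestrict B (fun x => (hcomm x).symm)
  have hπ : Function.Surjective π := by
    rintro ⟨⟨y, z⟩, hyz⟩
    have hyz' : gn y = trM z := hyz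
    obtain ⟨m, rfl⟩ := Submodule.Quotient.mk_surjective _ z
    obtain ⟨p, rfl⟩ := hg m
    let x₀ : P ⧸ (I ^ (n + 1) • ⊤ : Submodule R P) := Submodule.Quotient.mk p
    have h1 : gn (y - trP x₀) = 0 := by
      rw [map_sub, hyz', sub_eq_zero]
      rfl
    obtain ⟨k, hk⟩ := ker_reduce f g hg hfg (I ^ n) _ h1
    refine ⟨x₀ + Submodule.Quotient.mk (f k), ?_⟩
    apply Subtype.ext
    refine Prod.ext ?_ ?_
    · show trP (x₀ + Submodule.Quotient.mk (f k)) = y
      rw [map_add]
      have : trP (Submodule.Quotient.mk (f k)) = Submodule.Quotient.mk (f k) := rfl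
      rw [this, ← hk]; abel
    · show gn1 (x₀ + Submodule.Quotient.mk (f k)) = Submodule.Quotient.mk (g p)
      rw [map_add]
      have h2 : gn1 (Submodule.Quotient.mk (f k)) = Submodule.Quotient.mk (g (f k)) := rfl
      have h3 : g (f k) = 0 := (hfg _).mpr ⟨k, rfl⟩
      rw [h2, h3, Submodule.Quotient.mk_zero, add_zero]
      rfl
  have hker : ∀ r ∈ I ^ (n + 1), ∀ a, π a = 0 → r • a = 0 :=
    fun r hr a _ => pow_smul_quot_eq_zero I (n + 1) r hr a
  let φ : M →ₗ[R] B := (t.1.prod (Submodule.mkQ _)).codRestrict B (fun m => t.2 m)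
  obtain ⟨ψ, hψ⟩ := exists_lift I (n + 1) π hπ hker φ
  refine ⟨⟨ψ, fun m => ?_⟩, fun m => ?_⟩
  · exact congrArg (fun b : B => b.1.2) (hψ m)
  · exact congrArg (fun b : B => b.1.1) (hψ m)

omit [Module.Flat R M] [Module.Projective (R ⧸ I) (M ⧸ (I • ⊤ : Submodule R M))] in
theorem lift_zero : Nonempty (Lift I g 0) := by
  refine ⟨⟨0, fun m => ?_⟩⟩
  rw [LinearMap.zero_apply, map_zero]
  symm
  rw [Submodule.Quotient.mk_eq_zero, pow_zero, Ideal.one_eq_top, Submodule.top_smul]
  exact Submodule.mem_top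

theorem exists_lift_seq (hg : Function.Surjective g) (hfg : Function.Exact f g) :
    ∃ T : ∀ n, Lift I g n,
      ∀ n m, AdicCompletion.transitionMap I P (Nat.le_succ n) ((T (n + 1)).1 m) = (T n).1 m := by
  obtain ⟨t0⟩ := lift_zero I g
  refine ⟨fun n => Nat.rec t0 (fun n t => Classical.choose (lift_step I f g hg hfg n t)) n,
    fun n m => ?_⟩
  exact Classical.choose_spec (lift_step I f g hg hfg n _) m

theorem exists_section_map (hg : Function.Surjective g) (hfg : Function.Exact f g) :
    ∃ s : AdicCompletion I M →ₗ[AdicCompletion I R] AdicCompletion I P,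
      AdicCompletion.map I g ∘ₗ s = LinearMap.id := by
  obtain ⟨T, hT⟩ := exists_lift_seq I f g hg hfg
  -- general compatibility
  have hT' : ∀ {m n : ℕ} (hmn : m ≤ n) (x : M),
      AdicCompletion.transitionMap I P hmn ((T n).1 x) = (T m).1 x := by
    intro m n hmn x
    induction n, hmn using Nat.le_induction with
    | base =>
      obtain ⟨p, hp⟩ := Submodule.Quotient.mk_surjective _ ((T m).1 x)
      rw [← hp]; rfl
    | succ n hmn ih =>
      rw [← ih, ← hT n x]
      obtain ⟨p, hp⟩ := Submodule.Quotient.mk_surjective _ ((T (n + 1)).1 x)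
      rw [← hp]; rfl
  have hle : ∀ n, (I ^ n • ⊤ : Submodule R M) ≤ LinearMap.ker (T n).1 := by
    intro n
    refine Submodule.smul_le.mpr fun r hr x _ => ?_
    rw [LinearMap.mem_ker, map_smul]
    exact pow_smul_quot_eq_zero I n r hr _
  let sn : ∀ n, M ⧸ (I ^ n • ⊤ : Submodule R M) →ₗ[R] P ⧸ (I ^ n • ⊤ : Submodule R P) :=
    fun n => (I ^ n • ⊤ : Submodule R M).liftQ (T n).1 (hle n)
  have hcompat : ∀ {m n : ℕ} (hle : m ≤ n),
      AdicCompletion.transitionMap I P hle ∘ₗ (sn n ∘ₗ AdicCompletion.eval I M n) =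
        sn m ∘ₗ AdicCompletion.eval I M m := by
    intro m n hmn
    refine LinearMap.ext fun x => ?_
    show AdicCompletion.transitionMap I P hmn (sn n (x.val n)) = sn m (x.val m)
    rw [← x.2 hmn]
    obtain ⟨y, hy⟩ := Submodule.Quotient.mk_surjective _ (x.val n)
    rw [← hy]
    exact hT' hmn y
  let s₀ : AdicCompletion I M →ₗ[R] AdicCompletion I P :=
    AdicCompletion.lift I (fun n => sn n ∘ₗ AdicCompletion.eval I M n) hcompat
  have hs₀ : ∀ x n, (s₀ x).val n = sn n (x.val n) := fun x n => rfl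
  refine ⟨{ s₀ with
    map_smul' := fun r x => ?_ }, ?_⟩
  · refine AdicCompletion.ext fun n => ?_
    show (s₀ (r • x)).val n = (r • s₀ x).val n
    rw [hs₀, AdicCompletion.smul_eval, AdicCompletion.smul_eval, hs₀,
      AdicCompletion.val_smul_eq_evalₐ_smul, AdicCompletion.val_smul_eq_evalₐ_smul]
    obtain ⟨r₀, hr₀⟩ := Ideal.Quotient.mk_surjective (AdicCompletion.evalₐ I n r)
    rw [← hr₀]
    exact map_smul (sn n) r₀ (x.val n)
  · refine LinearMap.ext fun x => AdicCompletion.ext fun n => ?_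
    show (AdicCompletion.map I g (s₀ x)).val n = x.val n
    rw [AdicCompletion.map_val_apply, hs₀]
    obtain ⟨y, hy⟩ := Submodule.Quotient.mk_surjective _ (x.val n)
    rw [← hy]
    exact (T n).2 y

end Sect

end Groth.Agent.Lib.Helper31.AdicSplit
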