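import Groth.Agent.H76.InjFlat
import Mathlib.LinearAlgebra.TensorProduct.Quotient
import Mathlib.LinearAlgebra.Quotient.Basic

/-!
# Stacks 00MK, module-level step (helper31)

For a local homomorphism `R → S` of local rings (`S` Noetherian), and `S`-linear maps
`X₂ → X₁ → X₀` composing to zero with `X₁` finite over `S`, `X₀` flat over `R`, if the sequence
is exact after tensoring with `S/𝔪S` then it is exact and `X₀ / im` is `R`-flat.
-/

set_option autoImplicit false
universe u

open TensorProduct IsLocalRing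

namespace Groth.Agent.Lib.Helper31.ComplexFlat

section Quot

variable {R : Type*} [CommRing R] (I : Ideal R) {M : Type*} [AddCommGroup M] [Module R M]

theorem exists_one_tmul (z : (R ⧸ I) ⊗[R] M) : ∃ x : M, z = (1 : R ⧸ I) ⊗ₜ[R] x := by
  induction z with
  | zero => exact ⟨0, by simp⟩
  | tmul a x =>
    obtain ⟨r, rfl⟩ := Ideal.Quotient.mk_surjective a
    refine ⟨r • x, ?_⟩
    rw [TensorProduct.tmul_smul, TensorProduct.smul_tmul', ← Ideal.Quotient.algebraMap_eq,
      Algebra.algebraMap_eq_smul_one]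
  | add a b ha hb =>
    obtain ⟨x, rfl⟩ := ha
    obtain ⟨y, rfl⟩ := hb
    exact ⟨x + y, by rw [TensorProduct.tmul_add]⟩

theorem one_tmul_eq_zero_iff (x : M) :
    (1 : R ⧸ I) ⊗ₜ[R] x = 0 ↔ x ∈ I • (⊤ : Submodule R M) := by
  rw [← (TensorProduct.quotTensorEquivQuotSMul M I).map_eq_zero_iff,
    TensorProduct.quotTensorEquivQuotSMul_mk_one_tmul, Submodule.Quotient.mk_eq_zero]

theorem lTensor_quot_injective_of {N : Type*} [AddCommGroup N] [Module R N] (u : N →ₗ[R] M)
    (h : ∀ x, u x ∈ I • (⊤ : Submodule R M) → x ∈ I • (⊤ : Submodule R N)) :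
    Function.Injective (LinearMap.lTensor (R ⧸ I) u) := by
  rw [injective_iff_map_eq_zero]
  intro z hz
  obtain ⟨x, rfl⟩ := exists_one_tmul I z
  rw [LinearMap.lTensor_tmul, one_tmul_eq_zero_iff] at hz
  rw [one_tmul_eq_zero_iff]
  exact h x hz

theorem exists_sub_mem_of_exact {X2 X1 : Type*} [AddCommGroup X2] [AddCommGroup X1]
    [Module R X2] [Module R X1] (d1 : X2 →ₗ[R] X1) (d0 : X1 →ₗ[R] M)
    (hex : Function.Exact (d1.lTensor (R ⧸ I)) (d0.lTensor (R ⧸ I))) (x : X1)
    (hx : d0 x ∈ I • (⊤ : Submodule R M)) :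
    ∃ y : X2, x - d1 y ∈ I • (⊤ : Submodule R X1) := by
  have h1 : d0.lTensor (R ⧸ I) ((1 : R ⧸ I) ⊗ₜ[R] x) = 0 := by
    rw [LinearMap.lTensor_tmul, one_tmul_eq_zero_iff]
    exact hx
  obtain ⟨z, hz⟩ := (hex _).1 h1
  obtain ⟨y, rfl⟩ := exists_one_tmul I z
  refine ⟨y, ?_⟩
  rw [← one_tmul_eq_zero_iff, TensorProduct.tmul_sub, ← hz, LinearMap.lTensor_tmul, sub_self]

end Quot

section Tower

variable {R S : Type*} [CommRing R] [CommRing S] [Algebra R S]
  {X : Type*} [AddCommGroup X] [Module R X] [Module S X] [IsScalarTower R S X]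

theorem mem_map_smul_top_iff (I : Ideal R) (x : X) :
    x ∈ (I.map (algebraMap R S)) • (⊤ : Submodule S X) ↔ x ∈ I • (⊤ : Submodule R X) := by
  constructor
  · intro hx
    have hJ : ∀ j ∈ I.map (algebraMap R S), ∀ y : X, j • y ∈ I • (⊤ : Submodule R X) := by
      intro j hj
      refine Submodule.span_induction ?_ ?_ ?_ ?_ hj
      · rintro _ ⟨a, ha, rfl⟩ y
        rw [algebraMap_smul]
        exact Submodule.smul_mem_smul ha Submodule.mem_top
      · intro y
        rw [zero_smul]
        exact Submodule.zero_mem _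
      · intro a b _ _ ha hb y
        rw [add_smul]
        exact Submodule.add_mem _ (ha y) (hb y)
      · intro s a _ ha y
        rw [smul_eq_mul, mul_comm, mul_smul]
        exact ha (s • y)
    exact Submodule.smul_induction_on hx (fun j hj y _ => hJ j hj y)
      (fun y z hy hz => Submodule.add_mem _ hy hz)
  · intro hx
    refine Submodule.smul_induction_on hx ?_ (fun y z hy hz => Submodule.add_mem _ hy hz)
    intro a ha y _
    rw [← algebraMap_smul S a y]
    exact Submodule.smul_mem_smul (Ideal.mem_map_of_mem _ ha) Submodule.mem_top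

end Tower

section Main

variable {R S : Type*} [CommRing R] [CommRing S] [IsLocalRing R] [IsLocalRing S]
  [IsNoetherianRing S] [Algebra R S] [IsLocalHom (algebraMap R S)]
  {X2 X1 X0 : Type*} [AddCommGroup X2] [AddCommGroup X1] [AddCommGroup X0]
  [Module S X2] [Module S X1] [Module S X0] [Module R X1] [Module R X0]
  [IsScalarTower R S X1] [IsScalarTower R S X0] [Module.Finite S X1] [Module.Flat R X0]

/-- One step of Stacks 00MK. -/
theorem exact_and_flat_of_lTensor_exact (d1 : X2 →ₗ[S] X1) (d0 : X1 →ₗ[S] X0)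
    (h0 : d0 ∘ₗ d1 = 0)
    (hex : Function.Exact (d1.lTensor (S ⧸ (maximalIdeal R).map (algebraMap R S)))
      (d0.lTensor (S ⧸ (maximalIdeal R).map (algebraMap R S)))) :
    Function.Exact d1 d0 ∧ Module.Flat R (X0 ⧸ LinearMap.range d0) := by
  have hle : LinearMap.range d1 ≤ LinearMap.ker d0 := LinearMap.range_le_ker_iff.2 h0
  let u : (X1 ⧸ LinearMap.range d1) →ₗ[S] X0 := (LinearMap.range d1).liftQ d0 hle
  let uR : (X1 ⧸ LinearMap.range d1) →ₗ[R] X0 := u.restrictScalars R
  have hk : Function.Injective (LinearMap.lTensor (ResidueField R) uR) := by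
    refine lTensor_quot_injective_of (maximalIdeal R) uR ?_
    intro q hq
    obtain ⟨x, rfl⟩ := Submodule.Quotient.mk_surjective _ q
    have hq' : d0 x ∈ (maximalIdeal R) • (⊤ : Submodule R X0) := hq
    rw [← mem_map_smul_top_iff (S := S)] at hq'
    obtain ⟨y, hy⟩ := exists_sub_mem_of_exact _ d1 d0 hex x hq'
    rw [mem_map_smul_top_iff] at hy
    have hmk : (Submodule.Quotient.mk x : X1 ⧸ LinearMap.range d1) =
        Submodule.Quotient.mk (x - d1 y) := by
      rw [Submodule.Quotient.mk_sub, (Submodule.Quotient.mk_eq_zero _).2 (LinearMap.mem_range_self d1 y),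
        sub_zero]
    rw [hmk]
    have hmap : ((maximalIdeal R) • (⊤ : Submodule R X1)).map
        ((LinearMap.range d1).mkQ.restrictScalars R) ≤
        (maximalIdeal R) • (⊤ : Submodule R (X1 ⧸ LinearMap.range d1)) := by
      rw [Submodule.map_smul'']
      exact Submodule.smul_mono le_rfl le_top
    exact hmap (Submodule.mem_map_of_mem hy)
  obtain ⟨hinj, hfl⟩ := Groth.Agent.H76.InjFlat.injective_and_flat (S := S) uR hk
  constructor
  · intro x
    constructor
    · intro hx
      have h1 : u (Submodule.Quotient.mk x) = 0 := hx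
      have h2 : (Submodule.Quotient.mk x : X1 ⧸ LinearMap.range d1) = 0 :=
        hinj (h1.trans (map_zero uR).symm)
      exact (Submodule.Quotient.mk_eq_zero _).1 h2
    · rintro ⟨y, rfl⟩
      exact LinearMap.congr_fun h0 y
  · have hr : LinearMap.range uR = (LinearMap.range d0).restrictScalars R := by
      ext z
      constructor
      · rintro ⟨q, rfl⟩
        obtain ⟨x, rfl⟩ := Submodule.Quotient.mk_surjective _ q
        exact ⟨x, rfl⟩
      · rintro ⟨x, rfl⟩
        exact ⟨Submodule.Quotient.mk x, rfl⟩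
    rw [hr] at hfl
    exact Module.Flat.of_linearEquiv
      (Submodule.Quotient.restrictScalarsEquiv R (LinearMap.range d0)).symm

end Main

end Groth.Agent.Lib.Helper31.ComplexFlat
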