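import Groth.Agent.Lib.Helper31.ComplUnivInj
import Groth.Agent.Lib.Helper31.ComplexFlat
import Groth.Prelude.Def_FlatCA

/-!
# `N → N^` is universally injective under an associated-primes condition (helper31)
-/

set_option autoImplicit false
universe u
open LinearMap TensorProduct

namespace Groth.Agent.Lib.Helper31.AdicUnivInj

open Groth.Agent.Lib.Helper63.ComplFree Groth.Agent.Lib.Helper31.ComplUnivInj

section Hausdorff

variable {R S : Type u} [CommRing R] [CommRing S] [Algebra R S] [IsNoetherianRing S] (I : Ideal R)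

/-- Hausdorffness from the associated primes condition (Krull intersection). -/
theorem isHausdorff_of_assoc (P : Type u) [AddCommGroup P] [Module S P] [Module R P]
    [IsScalarTower R S P] [Module.Finite S P]
    (h : ∀ q ∈ associatedPrimes S P, I.map (algebraMap R S) ⊔ q ≠ ⊤) : IsHausdorff I P := by
  refine ⟨fun x hx => ?_⟩
  by_contra hne
  have hmem : x ∈ (⨅ i : ℕ, (I.map (algebraMap R S)) ^ i • ⊤ : Submodule S P) := by
    rw [Submodule.mem_iInf]
    intro n
    rw [← Ideal.map_pow, Groth.Agent.Lib.Helper31.ComplexFlat.mem_map_smul_top_iff]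
    have := hx n
    rwa [SModEq.zero] at this
  obtain ⟨r, hr⟩ := (Ideal.mem_iInf_smul_pow_eq_bot_iff _ x).1 hmem
  obtain ⟨q, hq, hle⟩ := exists_le_isAssociatedPrime_of_isNoetherianRing S x hne
  apply h q hq
  rw [Ideal.eq_top_iff_one]
  have h1 : (1 - (r : S)) ∈ q := hle (by
    rw [Submodule.mem_colon_singleton, Submodule.mem_bot, sub_smul, one_smul, hr, sub_self])
  have h2 : (1 : S) = (r : S) + (1 - r) := by ring
  rw [h2]
  exact Ideal.add_mem _ (Ideal.mem_sup_left r.2) (Ideal.mem_sup_right h1)

end Hausdorff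

section Theta

variable {R : Type u} [CommRing R] (I : Ideal R) (N Q : Type u) [AddCommGroup N] [Module R N]
  [AddCommGroup Q] [Module R Q]

/-- the comparison map `N^ ⊗ Q → (N ⊗ Q)^`. -/
noncomputable def Θ' : AdicCompletion I N ⊗[R] Q →ₗ[R] AdicCompletion I (N ⊗[R] Q) :=
  TensorProduct.lift (LinearMap.mk₂ R
    (fun x q => AdicCompletion.map I ((TensorProduct.mk R N Q).flip q) x)
    (fun x x' q => map_add _ x x')
    (fun r x q => LinearMap.map_smul_of_tower _ r x)
    (fun x q q' => by rw [map_add, adicMap_add])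
    (fun r x q => by rw [map_smul, adicMap_smul]))

theorem Θ'_tmul (x : AdicCompletion I N) (q : Q) :
    Θ' I N Q (x ⊗ₜ[R] q) = AdicCompletion.map I ((TensorProduct.mk R N Q).flip q) x := rfl

theorem Θ'_comp_of : Θ' I N Q ∘ₗ (AdicCompletion.of I N).rTensor Q = AdicCompletion.of I (N ⊗[R] Q) := by
  apply TensorProduct.ext'
  intro n q
  rw [LinearMap.comp_apply, LinearMap.rTensor_tmul, Θ'_tmul, AdicCompletion.map_of]
  rfl

theorem rTensor_of_injective [IsHausdorff I (N ⊗[R] Q)] :
    Function.Injective ((AdicCompletion.of I N).rTensor Q) := by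
  have h : Function.Injective (Θ' I N Q ∘ₗ (AdicCompletion.of I N).rTensor Q) := by
    rw [Θ'_comp_of]
    exact AdicCompletion.of_injective I (N ⊗[R] Q)
  exact Function.Injective.of_comp h

end Theta

section Main

variable {R S : Type u} [CommRing R] [CommRing S] [Algebra R S]
  (N : Type u) [AddCommGroup N] [Module S N] [Module R N] [IsScalarTower R S N]

theorem finite_tensor [Module.Finite S N] (Q : Type u) [AddCommGroup Q] [Module R Q]
    [Module.Finite R Q] : Module.Finite S (N ⊗[R] Q) := by
  classical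
  obtain ⟨a, n, hn⟩ := Module.Finite.exists_fin (R := S) (M := N)
  obtain ⟨b, q, hq⟩ := Module.Finite.exists_fin (R := R) (M := Q)
  refine ⟨⟨Finset.univ.image (fun ij : Fin a × Fin b => n ij.1 ⊗ₜ[R] q ij.2), ?_⟩⟩
  rw [eq_top_iff]
  rintro x -
  induction x using TensorProduct.induction_on with
  | zero => exact Submodule.zero_mem _
  | tmul n' q' =>
    have hn' : n' ∈ Submodule.span S (Set.range n) := by rw [hn]; trivial
    have hq' : q' ∈ Submodule.span R (Set.range q) := by rw [hq]; trivial
    obtain ⟨c, rfl⟩ := (Submodule.mem_span_range_iff_exists_fun S).mp hn'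
    obtain ⟨d, rfl⟩ := (Submodule.mem_span_range_iff_exists_fun R).mp hq'
    rw [TensorProduct.sum_tmul]
    refine Submodule.sum_mem _ (fun i _ => ?_)
    rw [TensorProduct.tmul_sum]
    refine Submodule.sum_mem _ (fun j _ => ?_)
    rw [TensorProduct.tmul_smul, ← TensorProduct.smul_tmul']
    refine Submodule.smul_of_tower_mem _ (d j) (Submodule.smul_mem _ (c i) ?_)
    apply Submodule.subset_span
    rw [Finset.coe_image]
    exact ⟨(i, j), by simp, rfl⟩
  | add x y hx hy => exact Submodule.add_mem _ hx hy

variable [IsNoetherianRing S] (I : Ideal R) [Module.Finite S N]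

/-- Stacks-type statement: `N → N^` is universally injective over `R`. -/
theorem univInj_of
    (h : ∀ (Q : Type u) [AddCommGroup Q] [Module R Q], Module.Finite R Q →
      ∀ q ∈ associatedPrimes S (N ⊗[R] Q), I.map (algebraMap R S) ⊔ q ≠ ⊤) :
    FlatCA.UnivInj R (AdicCompletion.of I N) := by
  have h1 : CAlgX.UniversallyInjective R (AdicCompletion.of I N) := by
    apply universallyInjective_of_forall_finite
    intro Q _ _ hQ
    have : Module.Finite S (N ⊗[R] Q) := finite_tensor N Q
    have : IsHausdorff I (N ⊗[R] Q) := isHausdorff_of_assoc I (N ⊗[R] Q) (h Q hQ)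
    exact rTensor_of_injective I N Q
  intro Q _ _
  rw [injective_iff_map_eq_zero]
  intro t ht
  have h2 : (AdicCompletion.of I N).rTensor Q (TensorProduct.comm R Q N t) = 0 := by
    rw [comm_lTensor, ht, map_zero]
  have h3 := (injective_iff_map_eq_zero _).mp (h1 Q) _ h2
  exact (LinearEquiv.map_eq_zero_iff _).mp h3

end Main

end Groth.Agent.Lib.Helper31.AdicUnivInj
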