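import Groth.Prelude.Def_BigSite
import Mathlib.CategoryTheory.Sites.Continuous
import Mathlib.CategoryTheory.Sites.LocallyBijective
import Mathlib.CategoryTheory.Adjunction.FullyFaithful
import Mathlib.CategoryTheory.Sites.Limits
import Mathlib.CategoryTheory.Limits.Preserves.FunctorCategory
import Mathlib.CategoryTheory.IsConnected
import Mathlib.CategoryTheory.Limits.Types.Colimits

/-!
# Almost cocontinuous functors: sheafification commutes with `u^p` (Stacks 04B9) (helper31)
-/

set_option autoImplicit false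
open CategoryTheory CategoryTheory.Limits Opposite
universe u

namespace Groth.Agent.Lib.Helper31.AlmostCocont

variable {C D : Type u} [SmallCategory C] [SmallCategory D]
  (J : GrothendieckTopology C) (K : GrothendieckTopology D) (u : C ⥤ D)

/-- A sheaf of types takes singleton values on objects covered by the empty sieve. -/
theorem sheaf_unique_of_bot_mem (F : Sheaf K (Type u)) (V : D) (hV : (⊥ : Sieve V) ∈ K V) :
    Nonempty (Unique (F.obj.obj (op V))) := by
  have hF := (isSheaf_iff_isSheaf_of_type K F.obj).1 F.property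
  have hs := hF (⊥ : Sieve V) hV
  let x : Presieve.FamilyOfElements F.obj (⊥ : Sieve V).arrows := fun _ _ h => False.elim h
  have hx : x.Compatible := fun _ _ _ _ _ _ _ h => False.elim h
  obtain ⟨t, ht, huniq⟩ := hs x hx
  exact ⟨{ default := t, uniq := fun a => huniq a (fun _ _ h => False.elim h) }⟩

variable {J K u}

theorem isLocallyInjective_whiskerLeft (hu : BigSite.IsAlmostCocontinuous u J K)
    {G H : Dᵒᵖ ⥤ Type u} (φ : G ⟶ H) [Presheaf.IsLocallyInjective K φ]
    (hG : ∀ V : D, (⊥ : Sieve V) ∈ K V → Nonempty (Unique (G.obj (op V)))) :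
    Presheaf.IsLocallyInjective J (Functor.whiskerLeft u.op φ) := by
  refine ⟨fun {X} x y h => ?_⟩
  have hR : Presheaf.equalizerSieve (F := G) (X := op (u.obj X.unop)) x y ∈ K (u.obj X.unop) :=
    Presheaf.equalizerSieve_mem K φ (X := op (u.obj X.unop)) x y h
  obtain ⟨R', hR', hR'2⟩ := hu X.unop _ hR
  refine J.superset_covering ?_ hR'
  intro V g hg
  rcases hR'2 g hg with h0 | h1
  · obtain ⟨hU⟩ := hG _ h0
    exact (hU.uniq _).trans (hU.uniq _).symm
  · exact h1

theorem isLocallySurjective_whiskerLeft (hu : BigSite.IsAlmostCocontinuous u J K)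
    {G H : Dᵒᵖ ⥤ Type u} (φ : G ⟶ H) [Presheaf.IsLocallySurjective K φ]
    (hG : ∀ V : D, (⊥ : Sieve V) ∈ K V → Nonempty (G.obj (op V)))
    (hH : ∀ V : D, (⊥ : Sieve V) ∈ K V → Subsingleton (H.obj (op V))) :
    Presheaf.IsLocallySurjective J (Functor.whiskerLeft u.op φ) := by
  refine ⟨fun {X} s => ?_⟩
  have hR : Presheaf.imageSieve φ (U := u.obj X) s ∈ K (u.obj X) :=
    Presheaf.imageSieve_mem K φ (U := op (u.obj X)) s
  obtain ⟨R', hR', hR'2⟩ := hu X _ hR
  refine J.superset_covering ?_ hR'
  intro V g hg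
  rcases hR'2 g hg with h0 | h1
  · obtain ⟨t⟩ := hG _ h0
    have := hH _ h0
    exact ⟨t, Subsingleton.elim _ _⟩
  · exact h1

/-- Stacks 04B9 (second lemma): `(u^p G)^# ⟶ u^p (G^#)` is an isomorphism. -/
theorem isIso_adjunct [u.IsContinuous J K] (hu : BigSite.IsAlmostCocontinuous u J K)
    (G : Dᵒᵖ ⥤ Type u)
    (hG : ∀ V : D, (⊥ : Sieve V) ∈ K V → Nonempty (Unique (G.obj (op V)))) :
    IsIso (((sheafificationAdjunction J (Type u)).homEquiv (u.op ⋙ G)
      ((u.sheafPushforwardContinuous (Type u) J K).obj ((presheafToSheaf K (Type u)).obj G))).symm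
        (Functor.whiskerLeft u.op (toSheafify K G))) := by
  rw [Adjunction.homEquiv_counit]
  have h1 : IsIso ((presheafToSheaf J (Type u)).map
      (Functor.whiskerLeft u.op (toSheafify K G))) := by
    rw [← J.W_iff, J.W_iff_isLocallyBijective]
    refine ⟨isLocallyInjective_whiskerLeft hu _ hG,
      isLocallySurjective_whiskerLeft hu _ (fun V hV => ?_) (fun V hV => ?_)⟩
    · obtain ⟨hU⟩ := hG V hV
      exact ⟨hU.default⟩
    · obtain ⟨hU⟩ := sheaf_unique_of_bot_mem K ((presheafToSheaf K (Type u)).obj G) V hV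
      exact ⟨fun a b => (hU.uniq a).trans (hU.uniq b).symm⟩
  have h2 : IsIso ((sheafificationAdjunction J (Type u)).counit.app
      ((u.sheafPushforwardContinuous (Type u) J K).obj ((presheafToSheaf K (Type u)).obj G))) :=
    inferInstance
  exact @IsIso.comp_isIso _ _ _ _ _ _ _ h1 h2

/-- A connected colimit of singletons (in types) is a singleton. -/
theorem unique_of_isColimit_of_isConnected {I : Type*} [Category I] [IsConnected I]
    {H : I ⥤ Type u} (c : Cocone H) (hc : IsColimit c) (hH : ∀ i, Nonempty (Unique (H.obj i))) :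
    Nonempty (Unique c.pt) := by
  classical
  have hU : ∀ i, Unique (H.obj i) := fun i => (hH i).some
  let x : I → c.pt := fun i => c.ι.app i (hU i).default
  have hx : ∀ (i j : I) (_ : i ⟶ j), x i = x j := by
    intro i j f
    have h1 : c.ι.app j (H.map f (hU i).default) = c.ι.app i (hU i).default :=
      ConcreteCategory.congr_hom (c.w f) (hU i).default
    have h2 : H.map f (hU i).default = (hU j).default := (hU j).uniq _
    rw [h2] at h1
    exact h1.symm
  have i0 : I := Classical.arbitrary I
  refine ⟨{ default := x i0, uniq := fun a => ?_ }⟩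
  obtain ⟨i, y, rfl⟩ := Types.jointly_surjective_of_isColimit hc a
  rw [(hU i).uniq y]
  exact constant_of_preserves_morphisms x hx i i0

/-- Stacks 04B9 (third lemma): `u^s` preserves connected colimits which exist in types. -/
theorem preservesColimitsOfShape_sheafPushforwardContinuous [u.IsContinuous J K]
    (hu : BigSite.IsAlmostCocontinuous u J K) (I : Type) [SmallCategory I] [FinCategory I]
    [IsConnected I] :
    PreservesColimitsOfShape I (u.sheafPushforwardContinuous (Type u) J K) := by
  constructor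
  intro F
  let E := colimit.cocone (F ⋙ sheafToPresheaf K (Type u))
  have hE : IsColimit E := colimit.isColimit (F ⋙ sheafToPresheaf K (Type u))
  apply preservesColimit_of_preserves_colimit_cocone (Sheaf.isColimitSheafifyCocone E hE)
  let us := u.sheafPushforwardContinuous (Type u) J K
  let E' : Cocone ((F ⋙ us) ⋙ sheafToPresheaf J (Type u)) :=
    ((Functor.whiskeringLeft _ _ (Type u)).obj u.op).mapCocone E
  have hE' : IsColimit E' :=
    isColimitOfPreserves ((Functor.whiskeringLeft _ _ (Type u)).obj u.op) hE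
  have hc := Sheaf.isColimitSheafifyCocone E' hE'
  have hG : ∀ V : D, (⊥ : Sieve V) ∈ K V → Nonempty (Unique (E.pt.obj (op V))) := by
    intro V hV
    have hcV : IsColimit (((evaluation Dᵒᵖ (Type u)).obj (op V)).mapCocone E) :=
      isColimitOfPreserves ((evaluation Dᵒᵖ (Type u)).obj (op V)) hE
    exact unique_of_isColimit_of_isConnected _ hcV
      (fun i => sheaf_unique_of_bot_mem K (F.obj i) V hV)
  have hiso := isIso_adjunct hu E.pt hG
  refine IsColimit.ofIsoColimit hc (Cocone.ext (@asIso _ _ _ _
    (((sheafificationAdjunction J (Type u)).homEquiv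
    (u.op ⋙ E.pt) (us.obj ((presheafToSheaf K (Type u)).obj E.pt))).symm
      (Functor.whiskerLeft u.op (toSheafify K E.pt))) hiso) ?_)
  intro i
  apply Sheaf.hom_ext
  have h1 : toSheafify J (u.op ⋙ E.pt) ≫ (((sheafificationAdjunction J (Type u)).homEquiv
      (u.op ⋙ E.pt) (us.obj ((presheafToSheaf K (Type u)).obj E.pt))).symm
        (Functor.whiskerLeft u.op (toSheafify K E.pt))).hom =
      Functor.whiskerLeft u.op (toSheafify K E.pt) := by
    have h := ((sheafificationAdjunction J (Type u)).homEquiv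
      (u.op ⋙ E.pt) (us.obj ((presheafToSheaf K (Type u)).obj E.pt))).apply_symm_apply
        (Functor.whiskerLeft u.op (toSheafify K E.pt))
    rw [Adjunction.homEquiv_unit, sheafificationAdjunction_unit_app] at h
    exact h
  have h2 : ((Sheaf.sheafifyCocone E').ι.app i).hom =
      Functor.whiskerLeft u.op (E.ι.app i : (F.obj i).obj ⟶ E.pt) ≫
        toSheafify J (u.op ⋙ E.pt) := Sheaf.sheafifyCocone_ι_app_val E' i
  have h3 : ((Sheaf.sheafifyCocone E).ι.app i).hom =
      (E.ι.app i : (F.obj i).obj ⟶ E.pt) ≫ toSheafify K E.pt :=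
    Sheaf.sheafifyCocone_ι_app_val E i
  have h4 : (((u.sheafPushforwardContinuous (Type u) J K).mapCocone
      (Sheaf.sheafifyCocone E)).ι.app i).hom =
      Functor.whiskerLeft u.op ((E.ι.app i : (F.obj i).obj ⟶ E.pt) ≫ toSheafify K E.pt) := by
    change Functor.whiskerLeft u.op ((Sheaf.sheafifyCocone E).ι.app i).hom = _
    rw [h3]
    rfl
  have h5 : ((Sheaf.sheafifyCocone E').ι.app i ≫ (@asIso _ _ _ _
      (((sheafificationAdjunction J (Type u)).homEquiv
      (u.op ⋙ E.pt) (us.obj ((presheafToSheaf K (Type u)).obj E.pt))).symm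
        (Functor.whiskerLeft u.op (toSheafify K E.pt))) hiso).hom).hom =
      (Functor.whiskerLeft u.op (E.ι.app i : (F.obj i).obj ⟶ E.pt) ≫
        toSheafify J (u.op ⋙ E.pt)) ≫ (((sheafificationAdjunction J (Type u)).homEquiv
      (u.op ⋙ E.pt) (us.obj ((presheafToSheaf K (Type u)).obj E.pt))).symm
        (Functor.whiskerLeft u.op (toSheafify K E.pt))).hom := by
    change ((Sheaf.sheafifyCocone E').ι.app i).hom ≫ _ = _
    rw [h2]
    rfl
  refine h5.trans (Eq.trans ?_ h4.symm)
  rw [Category.assoc, h1, Functor.whiskerLeft_comp]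
  rfl

end Groth.Agent.Lib.Helper31.AlmostCocont
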