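import Groth.Agent.Lib.Helper31.LocComplIso
import Groth.Agent.Lib.Helper7.SmoothPairLift

/-! Artin approximation for Henselian pairs from Popescu's smoothing theorem (helper31).

`PopescuFor R Λ` is the conclusion of Popescu's theorem (S0595) for the ring map `R → Λ`; everything
here is proved under that hypothesis, to be discharged by `Groth.Agent.S0595.result`. -/

set_option autoImplicit false
universe u
open Polynomial

namespace Groth.Agent.Lib.Helper31
namespace ArtinApprox

/-- the conclusion of Popescu's theorem for `R → Λ`. -/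
def PopescuFor (R Λ : Type u) [CommRing R] [CommRing Λ] [Algebra R Λ] : Prop :=
  ∀ (A : Type u) [CommRing A] [Algebra R A] [Algebra.FinitePresentation R A] (f : A →ₐ[R] Λ),
    ∃ (B : Type u) (_ : CommRing B) (_ : Algebra R B), Algebra.Smooth R B ∧
      ∃ (g : A →ₐ[R] B) (h : B →ₐ[R] Λ), h.comp g = f

section pow

variable {A : Type u} [CommRing A] (I : Ideal A)

theorem isUnit_of_isUnit_mk (hI : I ≤ Ideal.jacobson ⊥) (u : A)
    (hu : IsUnit (Ideal.Quotient.mk I u)) : IsUnit u := by
  obtain ⟨w, hw⟩ := hu.exists_right_inv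
  obtain ⟨v, rfl⟩ := Ideal.Quotient.mk_surjective w
  rw [← map_mul, ← map_one (Ideal.Quotient.mk I), Ideal.Quotient.eq] at hw
  have h1 : u * v - 1 ∈ Ideal.jacobson (⊥ : Ideal A) := hI hw
  have h2 := (Ideal.mem_jacobson_bot.1 h1) 1
  have h3 : (u * v - 1) * 1 + 1 = u * v := by ring
  rw [h3] at h2
  exact isUnit_of_mul_isUnit_left h2

/-- a pair Henselian along `I` is Henselian along every positive power of `I`. -/
theorem henselian_pow [HenselianRing A I] (n : ℕ) : HenselianRing A (I ^ (n + 1)) := by
  have hle : I ^ (n + 1) ≤ I := Ideal.pow_le_self (Nat.succ_ne_zero n)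
  refine ⟨hle.trans HenselianRing.jac, ?_⟩
  intro f hf a₀ h0 hu
  have hu' : IsUnit (Ideal.Quotient.mk I (f.derivative.eval a₀)) := by
    have := hu.map (Ideal.Quotient.factor hle)
    simpa using this
  obtain ⟨a, ha, haa⟩ := HenselianRing.is_henselian f hf a₀ (hle h0) hu'
  refine ⟨a, ha, ?_⟩
  obtain ⟨k, hk⟩ := Polynomial.binomExpansion f a₀ (a - a₀)
  have hroot : f.eval a = 0 := ha
  rw [add_sub_cancel, hroot] at hk
  set e := a - a₀ with he
  set u := f.derivative.eval a₀ + k * e with hu0
  have hue : f.eval a₀ = -(e * u) := by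
    have : f.eval a₀ + e * u = 0 := by
      rw [hu0]
      linear_combination -hk
    linear_combination this
  have huu : IsUnit u := by
    apply isUnit_of_isUnit_mk I HenselianRing.jac
    have : Ideal.Quotient.mk I u = Ideal.Quotient.mk I (f.derivative.eval a₀) := by
      rw [Ideal.Quotient.eq, hu0, add_sub_cancel_left]
      exact I.mul_mem_left _ haa
    rw [this]
    exact hu'
  obtain ⟨u', hu'u⟩ := huu
  have : e = -(f.eval a₀) * ↑u'⁻¹ := by
    rw [hue, ← hu'u]
    simp
  rw [this]
  exact Ideal.mul_mem_right _ _ (Ideal.neg_mem_iff _ |>.2 h0)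

end pow

section core

variable (A : Type u) [CommRing A] (I : Ideal A) [HenselianRing A I]

/-- **Approximation**: under Popescu's theorem for `A → A^`, every `A`-algebra map from a finitely
presented `A`-algebra to the completion is congruent modulo `I^(N+1)` to a map to `A`. -/
theorem exists_algHom_approx (hpop : PopescuFor A (AdicCompletion I A))
    (P : Type u) [CommRing P] [Algebra A P] [Algebra.FinitePresentation A P]
    (f : P →ₐ[A] AdicCompletion I A) (N : ℕ) :
    ∃ σ : P →ₐ[A] A, ∀ p : P,
      Ideal.Quotient.mk (I ^ (N + 1)) (σ p) = AdicCompletion.evalₐ I (N + 1) (f p) := by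
  obtain ⟨B, _, _, hsm, g, h, hgh⟩ := hpop P f
  haveI := henselian_pow I N
  obtain ⟨τ, hτ⟩ := Groth.Agent.Lib.Helper7.SmoothPairLift.exists_algHom_lift_of_smooth
    (A := A) (B := B) (I ^ (N + 1)) ((AdicCompletion.evalₐ I (N + 1)).comp h)
  refine ⟨τ.comp g, fun p => ?_⟩
  have h1 := DFunLike.congr_fun hτ (g p)
  have h2 := DFunLike.congr_fun hgh p
  simp only [AlgHom.comp_apply, Ideal.Quotient.mkₐ_eq_mk] at h1 h2
  rw [AlgHom.comp_apply, h1, h2]

end core

section equations

variable (A : Type u) [CommRing A] [IsNoetherianRing A] (I : Ideal A) [HenselianRing A I]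

/-- **Artin approximation for a Henselian pair** (equation form), under Popescu's theorem. -/
theorem approx_equations (hpop : PopescuFor A (AdicCompletion I A)) (n m : ℕ)
    (F : Fin m → MvPolynomial (Fin n) A) (a : Fin n → AdicCompletion I A)
    (ha : ∀ j, MvPolynomial.eval a
      (MvPolynomial.map (algebraMap A (AdicCompletion I A)) (F j)) = 0) (N : ℕ) :
    ∃ b : Fin n → A, (∀ j, MvPolynomial.eval b (F j) = 0) ∧
      ∀ i, a i - algebraMap A (AdicCompletion I A) (b i) ∈
        (I ^ N).map (algebraMap A (AdicCompletion I A)) := by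
  classical
  let K : Ideal (MvPolynomial (Fin n) A) := Ideal.span (Set.range F)
  have hKfg : K.FG := ⟨Finset.univ.image F, by simp [K]⟩
  haveI : Algebra.FinitePresentation A (MvPolynomial (Fin n) A ⧸ K) :=
    Algebra.FinitePresentation.quotient hKfg
  have hF0 : ∀ j, MvPolynomial.aeval a (F j) = 0 := by
    intro j
    rw [MvPolynomial.aeval_def, ← MvPolynomial.eval_map]
    exact ha j
  have hK0 : ∀ x ∈ K, MvPolynomial.aeval a x = 0 := by
    intro x hx
    have : K ≤ RingHom.ker (MvPolynomial.aeval a : MvPolynomial (Fin n) A →ₐ[A] _).toRingHom := by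
      rw [Ideal.span_le]
      rintro _ ⟨j, rfl⟩
      exact hF0 j
    exact this hx
  let f : (MvPolynomial (Fin n) A ⧸ K) →ₐ[A] AdicCompletion I A :=
    Ideal.Quotient.liftₐ K (MvPolynomial.aeval a) hK0
  obtain ⟨σ, hσ⟩ := exists_algHom_approx A I hpop (MvPolynomial (Fin n) A ⧸ K) f N
  let b : Fin n → A := fun i => σ (Ideal.Quotient.mk K (MvPolynomial.X i))
  have hσb : ∀ p : MvPolynomial (Fin n) A, σ (Ideal.Quotient.mk K p) = MvPolynomial.eval b p := by
    intro p
    have h1 : σ.comp (Ideal.Quotient.mkₐ A K) = MvPolynomial.aeval b := by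
      apply MvPolynomial.algHom_ext
      intro i
      simp [b]
    have h2 := DFunLike.congr_fun h1 p
    have h3 : (MvPolynomial.aeval b) p = MvPolynomial.eval b p :=
      DFunLike.congr_fun (MvPolynomial.coe_aeval_eq_eval b) p
    rw [← h3, ← h2]
    rfl
  refine ⟨b, fun j => ?_, fun i => ?_⟩
  · rw [← hσb]
    have : Ideal.Quotient.mk K (F j) = 0 :=
      Ideal.Quotient.eq_zero_iff_mem.2 (Ideal.subset_span ⟨j, rfl⟩)
    rw [this, map_zero]
  · have hle : (I ^ (N + 1)).map (algebraMap A (AdicCompletion I A)) ≤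
        (I ^ N).map (algebraMap A (AdicCompletion I A)) :=
      Ideal.map_mono (Ideal.pow_le_pow_right (Nat.le_succ N))
    apply hle
    rw [← LocComplIso.ker_evalₐ I (N + 1) (IsNoetherian.noetherian I), RingHom.mem_ker]
    show AdicCompletion.evalₐ I (N + 1) (a i - algebraMap A (AdicCompletion I A) (b i)) = 0
    have h1 := hσ (Ideal.Quotient.mk K (MvPolynomial.X i))
    have h2 : f (Ideal.Quotient.mk K (MvPolynomial.X i)) = a i := by
      show Ideal.Quotient.liftₐ K (MvPolynomial.aeval a) hK0 (Ideal.Quotient.mk K _) = _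
      rw [Ideal.Quotient.liftₐ_apply, Ideal.Quotient.lift_mk]
      simp
    rw [h2] at h1
    rw [map_sub, ← h1, AdicCompletion.algebraMap_apply, Algebra.algebraMap_self, RingHom.id_apply,
      AdicCompletion.evalₐ_of, sub_self]

end equations

end ArtinApprox
end Groth.Agent.Lib.Helper31
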