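import Groth.Agent.Lib.Helper31.ArtinApprox
import Groth.Agent.Lib.Helper3.EtaleSection2

/-! Étale-neighbourhood form of Artin approximation (no Henselian hypothesis), under Popescu's
theorem for `A → A^` (helper31). -/

set_option autoImplicit false
universe u
open TensorProduct

namespace Groth.Agent.Lib.Helper31
namespace ArtinApprox

section etale

variable (A : Type u) [CommRing A] [IsNoetherianRing A] (I : Ideal A)

/-- **Étale approximation**: under Popescu's theorem for `A → A^`, every `A`-algebra map `f` from a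
finitely presented `A`-algebra `P` to the completion is congruent modulo `I^(N+1)` to a map
`P → A' → A^` through an étale `A`-algebra `A'` with `A/I^(N+1) ≅ A'/I^(N+1)A'`. -/
theorem exists_etale_algHom_approx (hpop : PopescuFor A (AdicCompletion I A))
    (P : Type u) [CommRing P] [Algebra A P] [Algebra.FinitePresentation A P]
    (f : P →ₐ[A] AdicCompletion I A) (N : ℕ) :
    ∃ (A' : Type u) (_ : CommRing A') (_ : Algebra A A'), Algebra.Etale A A' ∧
      Function.Bijective (algebraMap (A ⧸ I ^ (N + 1))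
        (A' ⧸ (I ^ (N + 1)).map (algebraMap A A'))) ∧
      ∃ (ψ : A' →ₐ[A] AdicCompletion I A) (σ : P →ₐ[A] A'), ∀ p : P,
        f p - ψ (σ p) ∈ (I ^ (N + 1)).map (algebraMap A (AdicCompletion I A)) := by
  classical
  have hfg : I.FG := IsNoetherian.noetherian I
  obtain ⟨B, _, _, hsm, g, h, hgh⟩ := hpop P f
  obtain ⟨A', _, _, hA', hbij, τ, hτ⟩ :=
    Groth.Agent.Lib.Helper7.SmoothPairLift.exists_etale_lift_bijective (A := A) (B := B)
      (I ^ (N + 1)) ((AdicCompletion.evalₐ I (N + 1)).comp h)
  refine ⟨A', inferInstance, inferInstance, hA', hbij, ?_⟩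
  -- the completion is Henselian along `I^(N+1) A^`
  haveI : IsAdicComplete (I.map (algebraMap A (AdicCompletion I A))) (AdicCompletion I A) :=
    AdicCompletion.isAdicComplete_self I hfg
  haveI : HenselianRing (AdicCompletion I A) (I.map (algebraMap A (AdicCompletion I A))) :=
    inferInstance
  haveI hK : HenselianRing (AdicCompletion I A)
      ((I ^ (N + 1)).map (algebraMap A (AdicCompletion I A))) := by
    have := henselian_pow (I.map (algebraMap A (AdicCompletion I A))) N
    rwa [← Ideal.map_pow] at this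
  set J : Ideal A := I ^ (N + 1) with hJ
  set K : Ideal (AdicCompletion I A) := J.map (algebraMap A (AdicCompletion I A)) with hKdef
  -- `φ : A' → A/J`, the inverse of the bijection composed with the quotient map
  let e : (A ⧸ J) ≃+* (A' ⧸ J.map (algebraMap A A')) := RingEquiv.ofBijective _ hbij
  have he : ∀ r : A, e (Ideal.Quotient.mk J r) =
      Ideal.Quotient.mk (J.map (algebraMap A A')) (algebraMap A A' r) := fun r => rfl
  let φ : A' →ₐ[A] A ⧸ J :=
    { toRingHom := e.symm.toRingHom.comp (Ideal.Quotient.mk (J.map (algebraMap A A')))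
      commutes' := fun r => by
        show e.symm (Ideal.Quotient.mk _ (algebraMap A A' r)) = _
        rw [← he, RingEquiv.symm_apply_apply]
        rfl }
  have hφ : ∀ x : A', e (φ x) = Ideal.Quotient.mk (J.map (algebraMap A A')) x := fun x =>
    e.apply_symm_apply _
  have hφτ : ∀ b : B, φ (τ b) = AdicCompletion.evalₐ I (N + 1) (h b) := by
    intro b
    apply e.injective
    rw [hφ, hτ b]
    rfl
  -- the comparison map `A/J → A^/K`
  have hle : J ≤ K.comap (Algebra.ofId A (AdicCompletion I A)) := by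
    intro x hx
    exact Ideal.mem_map_of_mem _ hx
  let qm : (A ⧸ J) →ₐ[A] (AdicCompletion I A ⧸ K) :=
    Ideal.quotientMapₐ K (Algebra.ofId A (AdicCompletion I A)) hle
  have hqm : ∀ y : AdicCompletion I A,
      qm (AdicCompletion.evalₐ I (N + 1) y) = Ideal.Quotient.mk K y := by
    intro y
    obtain ⟨r, hr⟩ := Ideal.Quotient.mk_surjective (AdicCompletion.evalₐ I (N + 1) y)
    have h1 : y - algebraMap A (AdicCompletion I A) r ∈ K := by
      rw [hKdef, hJ, ← LocComplIso.ker_evalₐ I (N + 1) hfg, RingHom.mem_ker]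
      show AdicCompletion.evalₐ I (N + 1) (y - algebraMap A (AdicCompletion I A) r) = 0
      rw [map_sub, ← hr, AlgHom.commutes, sub_eq_zero]
      rfl
    rw [← hr]
    show Ideal.Quotient.mk K (algebraMap A (AdicCompletion I A) r) = _
    exact ((Ideal.Quotient.eq).2 h1).symm
  -- lift `A' → A/J → A^/K` to `A' → A^` by étale lifting over the Henselian pair `(A^, K)`
  let σE : (AdicCompletion I A ⊗[A] A') →ₐ[AdicCompletion I A] (AdicCompletion I A ⧸ K) :=
    Algebra.TensorProduct.lift (Algebra.ofId _ _) (qm.comp φ) (fun _ _ => Commute.all _ _)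
  obtain ⟨τE, hτE⟩ := Groth.Agent.Lib.Helper3.exists_algHom_lift_of_etale K
    (AdicCompletion I A ⊗[A] A') σE
  let ψ : A' →ₐ[A] AdicCompletion I A :=
    (τE.restrictScalars A).comp Algebra.TensorProduct.includeRight
  have hψ : ∀ x : A', Ideal.Quotient.mk K (ψ x) = qm (φ x) := by
    intro x
    have h1 := DFunLike.congr_fun hτE ((1 : AdicCompletion I A) ⊗ₜ[A] x)
    simp only [AlgHom.comp_apply, Ideal.Quotient.mkₐ_eq_mk] at h1
    rw [show σE (1 ⊗ₜ[A] x) = qm (φ x) by simp [σE]] at h1
    exact h1
  refine ⟨ψ, τ.comp g, fun p => ?_⟩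
  rw [← Ideal.Quotient.eq, hψ, AlgHom.comp_apply, hφτ, hqm]
  have := DFunLike.congr_fun hgh p
  rw [AlgHom.comp_apply] at this
  rw [this]

/-- **Étale approximation, equation form**. -/
theorem etale_approx_equations (hpop : PopescuFor A (AdicCompletion I A)) {n m : ℕ}
    (F : Fin m → MvPolynomial (Fin n) A) (a : Fin n → AdicCompletion I A)
    (ha : ∀ j, MvPolynomial.aeval a (F j) = 0) (N : ℕ) :
    ∃ (A' : Type u) (_ : CommRing A') (_ : Algebra A A'), Algebra.Etale A A' ∧
      Function.Bijective (algebraMap (A ⧸ I ^ (N + 1))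
        (A' ⧸ (I ^ (N + 1)).map (algebraMap A A'))) ∧
      ∃ (ψ : A' →ₐ[A] AdicCompletion I A) (b : Fin n → A'),
        (∀ j, MvPolynomial.aeval b (F j) = 0) ∧
        ∀ i, a i - ψ (b i) ∈ (I ^ (N + 1)).map (algebraMap A (AdicCompletion I A)) := by
  classical
  let K : Ideal (MvPolynomial (Fin n) A) := Ideal.span (Set.range F)
  have hKfg : K.FG := ⟨Finset.univ.image F, by simp [K]⟩
  haveI : Algebra.FinitePresentation A (MvPolynomial (Fin n) A ⧸ K) :=
    Algebra.FinitePresentation.quotient hKfg
  have hK0 : ∀ x ∈ K, MvPolynomial.aeval a x = 0 := by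
    intro x hx
    have : K ≤ RingHom.ker (MvPolynomial.aeval a : MvPolynomial (Fin n) A →ₐ[A] _).toRingHom := by
      rw [Ideal.span_le]
      rintro _ ⟨j, rfl⟩
      exact ha j
    exact this hx
  let f : (MvPolynomial (Fin n) A ⧸ K) →ₐ[A] AdicCompletion I A :=
    Ideal.Quotient.liftₐ K (MvPolynomial.aeval a) hK0
  obtain ⟨A', _, _, hA', hbij, ψ, σ, hσ⟩ :=
    exists_etale_algHom_approx A I hpop (MvPolynomial (Fin n) A ⧸ K) f N
  refine ⟨A', inferInstance, inferInstance, hA', hbij, ψ, ?_⟩
  let b : Fin n → A' := fun i => σ (Ideal.Quotient.mk K (MvPolynomial.X i))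
  have hσb : ∀ p : MvPolynomial (Fin n) A, σ (Ideal.Quotient.mk K p) = MvPolynomial.aeval b p := by
    intro p
    have h1 : σ.comp (Ideal.Quotient.mkₐ A K) = MvPolynomial.aeval b := by
      apply MvPolynomial.algHom_ext
      intro i
      simp [b]
    have h2 := DFunLike.congr_fun h1 p
    rw [← h2]
    rfl
  refine ⟨b, fun j => ?_, fun i => ?_⟩
  · rw [← hσb]
    have : Ideal.Quotient.mk K (F j) = 0 :=
      Ideal.Quotient.eq_zero_iff_mem.2 (Ideal.subset_span ⟨j, rfl⟩)
    rw [this, map_zero]
  · have h1 := hσ (Ideal.Quotient.mk K (MvPolynomial.X i))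
    have h2 : f (Ideal.Quotient.mk K (MvPolynomial.X i)) = a i := by
      show Ideal.Quotient.liftₐ K (MvPolynomial.aeval a) hK0 (Ideal.Quotient.mk K _) = _
      rw [Ideal.Quotient.liftₐ_apply, Ideal.Quotient.lift_mk]
      simp
    rw [h2] at h1
    exact h1

end etale

section local_

open IsLocalRing

/-- **Étale approximation over a Noetherian local ring** (the conclusion of S6825), under Popescu's
theorem for `R → R^`. -/
theorem local_etale_approx (R : Type u) [CommRing R] [IsLocalRing R] [IsNoetherianRing R]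
    (hpop : PopescuFor R (AdicCompletion (maximalIdeal R) R)) {n m : ℕ}
    (F : Fin m → MvPolynomial (Fin n) R)
    (a : Fin n → AdicCompletion (maximalIdeal R) R) (ha : ∀ j, MvPolynomial.aeval a (F j) = 0)
    (N : ℕ) :
    ∃ (R' : Type u) (_ : CommRing R') (_ : Algebra R R'), Algebra.Etale R R' ∧
      ∃ (ψ : R' →ₐ[R] AdicCompletion (maximalIdeal R) R) (m' : Ideal R'), m'.IsMaximal ∧
        m'.comap (algebraMap R R') = maximalIdeal R ∧
        (∀ x : R', ∃ r : R, x - algebraMap R R' r ∈ m') ∧
        (∀ x ∈ m', ψ x ∈ (maximalIdeal R).map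
          (algebraMap R (AdicCompletion (maximalIdeal R) R))) ∧
        ∃ b : Fin n → R', (∀ j, MvPolynomial.aeval b (F j) = 0) ∧
          ∀ i, a i - ψ (b i) ∈ (maximalIdeal R ^ N).map
            (algebraMap R (AdicCompletion (maximalIdeal R) R)) := by
  obtain ⟨R', _, _, hR', hbij, ψ, b, hb, hab⟩ :=
    etale_approx_equations R (maximalIdeal R) hpop F a ha N
  refine ⟨R', inferInstance, inferInstance, hR', ψ, (maximalIdeal R).map (algebraMap R R'), ?_⟩
  set J : Ideal R := maximalIdeal R ^ (N + 1) with hJ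
  have hJle : J ≤ maximalIdeal R := Ideal.pow_le_self (Nat.succ_ne_zero N)
  have hsurj : ∀ x : R', ∃ r : R, x - algebraMap R R' r ∈ (maximalIdeal R).map (algebraMap R R') := by
    intro x
    obtain ⟨y, hy⟩ := hbij.2 (Ideal.Quotient.mk _ x)
    obtain ⟨r, rfl⟩ := Ideal.Quotient.mk_surjective y
    refine ⟨r, Ideal.map_mono hJle ?_⟩
    rw [← Ideal.Quotient.eq, ← hy]
    rfl
  have hne : (maximalIdeal R).map (algebraMap R R') ≠ ⊤ := by
    intro htop
    have h1 : J.map (algebraMap R R') = ⊤ := by
      rw [hJ, Ideal.map_pow, htop, Ideal.top_pow]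
    have h2 : algebraMap (R ⧸ J) (R' ⧸ J.map (algebraMap R R')) 1 =
        algebraMap (R ⧸ J) (R' ⧸ J.map (algebraMap R R')) 0 := by
      rw [map_one, map_zero, ← map_one (Ideal.Quotient.mk _), Ideal.Quotient.eq_zero_iff_mem, h1]
      trivial
    have h3 := hbij.1 h2
    rw [← map_one (Ideal.Quotient.mk J), Ideal.Quotient.eq_zero_iff_mem] at h3
    exact (Ideal.ne_top_iff_one _).1 (IsLocalRing.maximalIdeal.isMaximal R).ne_top (hJle h3)
  have hcomap : ((maximalIdeal R).map (algebraMap R R')).comap (algebraMap R R') =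
      maximalIdeal R := by
    refine le_antisymm ?_ Ideal.le_comap_map
    intro r hr
    by_contra hrm
    have hu : IsUnit r := by
      by_contra hnu
      exact hrm ((IsLocalRing.mem_maximalIdeal r).2 hnu)
    exact hne (Ideal.eq_top_of_isUnit_mem _ (Ideal.mem_comap.1 hr) (hu.map (algebraMap R R')))
  refine ⟨?_, hcomap, hsurj, ?_, b, hb, fun i => ?_⟩
  · rw [Ideal.isMaximal_iff]
    refine ⟨(Ideal.ne_top_iff_one _).1 hne, fun J' x hle hx hxJ => ?_⟩
    obtain ⟨r, hr⟩ := hsurj x
    have hrm : r ∉ maximalIdeal R := by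
      intro hrm
      apply hx
      have := Ideal.add_mem _ hr (Ideal.mem_map_of_mem (algebraMap R R') hrm)
      rwa [sub_add_cancel] at this
    have hu : IsUnit r := by
      by_contra hnu
      exact hrm ((IsLocalRing.mem_maximalIdeal r).2 hnu)
    have h1 : algebraMap R R' r ∈ J' := by
      have := Ideal.sub_mem _ hxJ (hle hr)
      rwa [sub_sub_cancel] at this
    have h2 := Ideal.eq_top_of_isUnit_mem _ h1 (hu.map (algebraMap R R'))
    rw [h2]
    trivial
  · intro x hx
    have hle : (maximalIdeal R).map (algebraMap R R') ≤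
        ((maximalIdeal R).map (algebraMap R (AdicCompletion (maximalIdeal R) R))).comap ψ := by
      rw [Ideal.map_le_iff_le_comap]
      intro r hr
      rw [Ideal.mem_comap, Ideal.mem_comap, AlgHom.commutes]
      exact Ideal.mem_map_of_mem _ hr
    exact hle hx
  · exact Ideal.map_mono (Ideal.pow_le_pow_right (Nat.le_succ N)) (hab i)

end local_

end ArtinApprox
end Groth.Agent.Lib.Helper31
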