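import Groth.Agent.Lib.Helper31.AwayFactor

/-! Spreading out étale algebras over a localization (helper31): an étale algebra `E` over `M⁻¹R`
is the localization at `M` of an étale `R`-algebra. -/

set_option autoImplicit false
universe u
open TensorProduct

namespace Groth.Agent.Lib.Helper31
namespace EtaleSpread

open AwayFactor

/-- **Spreading out étale algebras**: if `A = M⁻¹R` and `E` is an étale `A`-algebra, there is an
étale `R`-algebra `E₀` with an `R`-algebra map `ι : E₀ → E` exhibiting `E` as the localization of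
`E₀` at (the image of) `M`. -/
theorem exists_etale_isLocalization {R : Type u} [CommRing R] (M : Submonoid R) (A : Type u)
    [CommRing A] [Algebra R A] [IsLocalization M A] (E : Type u) [CommRing E] [Algebra A E]
    [Algebra R E] [IsScalarTower R A E] [Algebra.Etale A E] :
    ∃ (E₀ : Type u) (_ : CommRing E₀) (_ : Algebra R E₀), Algebra.Etale R E₀ ∧
      ∃ ι : E₀ →ₐ[R] E,
        letI : Algebra E₀ E := ι.toRingHom.toAlgebra
        IsLocalization (Algebra.algebraMapSubmonoid E₀ M) E := by
  obtain ⟨A₀, T₀, _, _, hfg, hE₀, ⟨e⟩⟩ := Algebra.Etale.exists_subalgebra_fg ℤ A E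
  haveI hft : Algebra.FiniteType ℤ A₀ := A₀.fg_iff_finiteType.mp hfg
  haveI hfp : Algebra.FinitePresentation ℤ A₀ := Algebra.FinitePresentation.of_finiteType.mp hft
  obtain ⟨s, hs, g', hg'⟩ := exists_away_factor (S₀ := ℤ) (S := R) (E := A) (Q := A₀) M A₀.val
  -- algebra structures `A₀ → R_s → A`
  letI alg1 : Algebra A₀ (Localization.Away s) := g'.toRingHom.toAlgebra
  letI alg2 : Algebra (Localization.Away s) A := (awayTo (E := A) M s hs).toRingHom.toAlgebra
  haveI : IsScalarTower A₀ (Localization.Away s) A :=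
    IsScalarTower.of_algebraMap_eq (fun q => (hg' q).symm)
  haveI : IsScalarTower R (Localization.Away s) A :=
    IsScalarTower.of_algebraMap_eq (fun r => ((awayTo (E := A) M s hs).commutes r).symm)
  -- the étale `R_s`-algebra
  let E₀ := Localization.Away s ⊗[A₀] T₀
  haveI : Algebra.Etale (Localization.Away s) E₀ := inferInstance
  letI alg3 : Algebra R E₀ := inferInstance
  haveI : IsScalarTower R (Localization.Away s) E₀ := inferInstance
  haveI hEt : Algebra.Etale R E₀ := Algebra.Etale.comp R (Localization.Away s) E₀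
  refine ⟨E₀, inferInstance, alg3, hEt, ?_⟩
  -- `A ⊗[R_s] E₀ ≃ E`
  let e' : A ⊗[Localization.Away s] E₀ ≃ₐ[A] E :=
    (Algebra.TensorProduct.cancelBaseChange A₀ (Localization.Away s) A A T₀).trans e.symm
  letI alg4 : Algebra (Localization.Away s) E :=
    ((algebraMap A E).comp (algebraMap (Localization.Away s) A)).toAlgebra
  haveI : IsScalarTower (Localization.Away s) A E := IsScalarTower.of_algebraMap_eq (fun _ => rfl)
  haveI : IsScalarTower R (Localization.Away s) E := IsScalarTower.of_algebraMap_eq (fun r => by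
    rw [IsScalarTower.algebraMap_apply R A E, IsScalarTower.algebraMap_apply R (Localization.Away s) A]
    rfl)
  let ι₀ : E₀ →ₐ[Localization.Away s] E :=
    (e'.toAlgHom.restrictScalars (Localization.Away s)).comp
      (Algebra.TensorProduct.includeRight (R := Localization.Away s) (A := A) (B := E₀))
  let ι : E₀ →ₐ[R] E := ι₀.restrictScalars R
  refine ⟨ι, ?_⟩
  letI alg5 : Algebra E₀ E := ι.toRingHom.toAlgebra
  haveI : IsScalarTower (Localization.Away s) E₀ E :=
    IsScalarTower.of_algebraMap_eq (fun x => (ι₀.commutes x).symm)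
  haveI hpush : Algebra.IsPushout (Localization.Away s) A E₀ E :=
    ⟨IsBaseChange.of_equiv e'.toLinearEquiv (fun x => rfl)⟩
  haveI hloc : IsLocalization (M.map (algebraMap R (Localization.Away s))) A :=
    IsLocalization.isLocalization_of_submonoid_le (Localization.Away s) A (Submonoid.powers s) M
      (Submonoid.powers_le.2 hs)
  have h1 : IsLocalization (Algebra.algebraMapSubmonoid E₀
      (M.map (algebraMap R (Localization.Away s)))) E :=
    (Algebra.isLocalization_iff_isPushout (M.map (algebraMap R (Localization.Away s))) A).2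
      hpush.symm
  have h2 : Algebra.algebraMapSubmonoid E₀ (M.map (algebraMap R (Localization.Away s))) =
      Algebra.algebraMapSubmonoid E₀ M := by
    ext x
    simp only [Algebra.algebraMapSubmonoid, Submonoid.mem_map]
    constructor
    · rintro ⟨_, ⟨r, hr, rfl⟩, rfl⟩
      exact ⟨r, hr, IsScalarTower.algebraMap_apply R (Localization.Away s) E₀ r⟩
    · rintro ⟨r, hr, rfl⟩
      exact ⟨_, ⟨r, hr, rfl⟩, (IsScalarTower.algebraMap_apply R (Localization.Away s) E₀ r).symm⟩
  rw [← h2]
  exact h1

/-- **Spreading out solutions in étale algebras**: if `A = M⁻¹R`, `E` is an étale `A`-algebra and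
`b₁` a solution in `E` of a polynomial system `F` over `R`, there is an étale `R`-algebra `R'` with an
`R`-algebra map `ι : R' → E` and a solution `b` of `F` in `R'` mapping to `b₁`. -/
theorem exists_etale_solution {R : Type u} [CommRing R] (M : Submonoid R) (A : Type u)
    [CommRing A] [Algebra R A] [IsLocalization M A] (E : Type u) [CommRing E] [Algebra A E]
    [Algebra R E] [IsScalarTower R A E] [Algebra.Etale A E] {n m : ℕ}
    (F : Fin m → MvPolynomial (Fin n) R) (b₁ : Fin n → E)
    (hb₁ : ∀ j, MvPolynomial.aeval b₁ (F j) = 0) :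
    ∃ (R' : Type u) (_ : CommRing R') (_ : Algebra R R'), Algebra.Etale R R' ∧
      ∃ (ι : R' →ₐ[R] E) (b : Fin n → R'),
        (∀ j, MvPolynomial.aeval b (F j) = 0) ∧ ∀ i, ι (b i) = b₁ i := by
  classical
  obtain ⟨E₀, _, _, hE₀, ι₀, hloc⟩ := exists_etale_isLocalization M A E
  letI alg5 : Algebra E₀ E := ι₀.toRingHom.toAlgebra
  haveI : IsLocalization (Algebra.algebraMapSubmonoid E₀ M) E := hloc
  haveI : IsScalarTower R E₀ E := IsScalarTower.of_algebraMap_eq (fun r => (ι₀.commutes r).symm)
  let K : Ideal (MvPolynomial (Fin n) E₀) :=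
    Ideal.span (Set.range fun j => MvPolynomial.map (algebraMap R E₀) (F j))
  have hKfg : K.FG := ⟨Finset.univ.image fun j => MvPolynomial.map (algebraMap R E₀) (F j), by
    simp [K]⟩
  haveI : Algebra.FinitePresentation E₀ (MvPolynomial (Fin n) E₀ ⧸ K) :=
    Algebra.FinitePresentation.quotient hKfg
  have hK0 : ∀ x ∈ K, (MvPolynomial.aeval b₁ : MvPolynomial (Fin n) E₀ →ₐ[E₀] E) x = 0 := by
    intro x hx
    have : K ≤ RingHom.ker (MvPolynomial.aeval b₁ : MvPolynomial (Fin n) E₀ →ₐ[E₀] E).toRingHom := by
      rw [Ideal.span_le]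
      rintro _ ⟨j, rfl⟩
      show MvPolynomial.aeval b₁ (MvPolynomial.map (algebraMap R E₀) (F j)) = 0
      rw [MvPolynomial.aeval_map_algebraMap]
      exact hb₁ j
    exact this hx
  let g : (MvPolynomial (Fin n) E₀ ⧸ K) →ₐ[E₀] E :=
    Ideal.Quotient.liftₐ K (MvPolynomial.aeval b₁) hK0
  obtain ⟨t, ht, g', hg'⟩ := exists_away_factor (S₀ := E₀) (S := E₀) (E := E)
    (Q := MvPolynomial (Fin n) E₀ ⧸ K) (Algebra.algebraMapSubmonoid E₀ M) g
  haveI : Algebra.Etale R (Localization.Away t) := Algebra.Etale.comp R E₀ (Localization.Away t)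
  refine ⟨Localization.Away t, inferInstance, inferInstance, inferInstance,
    (awayTo (E := E) (Algebra.algebraMapSubmonoid E₀ M) t ht).restrictScalars R,
    fun i => g' (Ideal.Quotient.mk K (MvPolynomial.X i)), fun j => ?_, fun i => ?_⟩
  · have h1 : ∀ p : MvPolynomial (Fin n) E₀, g' (Ideal.Quotient.mk K p) =
        MvPolynomial.aeval (fun i => g' (Ideal.Quotient.mk K (MvPolynomial.X i))) p := by
      intro p
      have h2 : g'.comp (Ideal.Quotient.mkₐ E₀ K) =
          MvPolynomial.aeval (fun i => g' (Ideal.Quotient.mk K (MvPolynomial.X i))) := by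
        apply MvPolynomial.algHom_ext
        intro i
        simp
      exact DFunLike.congr_fun h2 p
    rw [← MvPolynomial.aeval_map_algebraMap E₀, ← h1]
    have : Ideal.Quotient.mk K (MvPolynomial.map (algebraMap R E₀) (F j)) = 0 :=
      Ideal.Quotient.eq_zero_iff_mem.2 (Ideal.subset_span ⟨j, rfl⟩)
    rw [this, map_zero]
  · show awayTo (E := E) (Algebra.algebraMapSubmonoid E₀ M) t ht
      (g' (Ideal.Quotient.mk K (MvPolynomial.X i))) = b₁ i
    rw [hg']
    show Ideal.Quotient.liftₐ K (MvPolynomial.aeval b₁) hK0 (Ideal.Quotient.mk K _) = _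
    rw [Ideal.Quotient.liftₐ_apply, Ideal.Quotient.lift_mk]
    simp

end EtaleSpread
end Groth.Agent.Lib.Helper31
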