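import Groth.Agent.Lib.Helper31.ArtinApproxEtale
import Groth.Agent.Lib.Helper31.EtaleSpread

/-! Étale-neighbourhood Artin approximation at a prime of a Noetherian ring (the conclusion of
S6843), under Popescu's theorem for `R_p → (R_p)^` (helper31). -/

set_option autoImplicit false
universe u
open IsLocalRing

namespace Groth.Agent.Lib.Helper31
namespace ArtinApprox

theorem atPrime_etale_approx {R : Type u} [CommRing R] [IsNoetherianRing R]
    (p : Ideal R) [p.IsPrime]
    (hpop : PopescuFor (Localization.AtPrime p)
      (AdicCompletion (maximalIdeal (Localization.AtPrime p)) (Localization.AtPrime p)))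
    {n m : ℕ} (F : Fin m → MvPolynomial (Fin n) R)
    (a : Fin n → AdicCompletion (maximalIdeal (Localization.AtPrime p)) (Localization.AtPrime p))
    (ha : ∀ j, MvPolynomial.aeval a
      (MvPolynomial.map (algebraMap R (Localization.AtPrime p)) (F j)) = 0) (N : ℕ) :
    ∃ (R' : Type u) (_ : CommRing R') (_ : Algebra R R'), Algebra.Etale R R' ∧
      ∃ (ψ : R' →+* AdicCompletion (maximalIdeal (Localization.AtPrime p)) (Localization.AtPrime p))
        (p' : Ideal R'), p'.IsPrime ∧
        (∀ r : R, ψ (algebraMap R R' r) =
          algebraMap (Localization.AtPrime p) _ (algebraMap R (Localization.AtPrime p) r)) ∧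
        p'.comap (algebraMap R R') = p ∧
        (∀ x : R', ∃ r s : R, s ∉ p ∧ algebraMap R R' s * x - algebraMap R R' r ∈ p') ∧
        (∀ x ∈ p', ψ x ∈ (maximalIdeal (Localization.AtPrime p)).map
          (algebraMap (Localization.AtPrime p)
            (AdicCompletion (maximalIdeal (Localization.AtPrime p)) (Localization.AtPrime p)))) ∧
        ∃ b : Fin n → R', (∀ j, MvPolynomial.aeval b (F j) = 0) ∧
          ∀ i, a i - ψ (b i) ∈ (maximalIdeal (Localization.AtPrime p) ^ N).map
            (algebraMap (Localization.AtPrime p)
              (AdicCompletion (maximalIdeal (Localization.AtPrime p)) (Localization.AtPrime p))) := by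
  haveI : IsNoetherianRing (Localization.AtPrime p) :=
    IsLocalization.isNoetherianRing p.primeCompl _ inferInstance
  obtain ⟨E, _, _, hE, ψ₁, m', hm', hcomap, hres, hψm, b₁, hb₁, hab₁⟩ :=
    local_etale_approx (Localization.AtPrime p) hpop
      (fun j => MvPolynomial.map (algebraMap R (Localization.AtPrime p)) (F j)) a ha N
  letI : Algebra R E :=
    ((algebraMap (Localization.AtPrime p) E).comp (algebraMap R (Localization.AtPrime p))).toAlgebra
  haveI : IsScalarTower R (Localization.AtPrime p) E :=
    IsScalarTower.of_algebraMap_eq (fun _ => rfl)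
  have hb₁' : ∀ j, MvPolynomial.aeval b₁ (F j) = 0 := by
    intro j
    rw [← MvPolynomial.aeval_map_algebraMap (Localization.AtPrime p)]
    exact hb₁ j
  obtain ⟨R', _, _, hR', ι, b, hb, hιb⟩ :=
    EtaleSpread.exists_etale_solution p.primeCompl (Localization.AtPrime p) E F b₁ hb₁'
  refine ⟨R', inferInstance, inferInstance, hR', ψ₁.toRingHom.comp ι.toRingHom,
    m'.comap ι, Ideal.comap_isPrime _ _, ?_, ?_, ?_, ?_, b, hb, ?_⟩
  · intro r
    show ψ₁ (ι (algebraMap R R' r)) = _
    rw [ι.commutes, IsScalarTower.algebraMap_apply R (Localization.AtPrime p) E, ψ₁.commutes]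
  · ext r
    rw [Ideal.mem_comap, Ideal.mem_comap, ι.commutes,
      IsScalarTower.algebraMap_apply R (Localization.AtPrime p) E, ← Ideal.mem_comap, hcomap,
      ← Ideal.mem_comap]
    have := IsLocalization.AtPrime.under_maximalIdeal (Localization.AtPrime p) p
    rw [Ideal.under_def] at this
    rw [this]
  · intro x
    obtain ⟨y, hy⟩ := hres (ι x)
    obtain ⟨⟨r, s⟩, hrs⟩ := IsLocalization.surj p.primeCompl y
    refine ⟨r, s, s.2, ?_⟩
    rw [Ideal.mem_comap, map_sub, map_mul, ι.commutes, ι.commutes,
      IsScalarTower.algebraMap_apply R (Localization.AtPrime p) E,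
      IsScalarTower.algebraMap_apply R (Localization.AtPrime p) E r, ← hrs, map_mul]
    have : algebraMap (Localization.AtPrime p) E (algebraMap R (Localization.AtPrime p) s) * ι x -
        algebraMap (Localization.AtPrime p) E y *
          algebraMap (Localization.AtPrime p) E (algebraMap R (Localization.AtPrime p) s) =
        algebraMap (Localization.AtPrime p) E (algebraMap R (Localization.AtPrime p) s) *
          (ι x - algebraMap (Localization.AtPrime p) E y) := by ring
    rw [this]
    exact Ideal.mul_mem_left _ _ hy
  · intro x hx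
    exact hψm (ι x) hx
  · intro i
    show a i - ψ₁ (ι (b i)) ∈ _
    rw [hιb]
    exact hab₁ i

end ArtinApprox
end Groth.Agent.Lib.Helper31
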