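import Mathlib

/-! Every commutative algebra is the filtered colimit (in `CommAlgCat`) of its finitely generated
subalgebras (helper31). -/

set_option autoImplicit false
universe u
open CategoryTheory CategoryTheory.Limits

namespace Groth.Agent.Lib.Helper31
namespace FGColimit

variable (A : Type u) [CommRing A] (B : Type u) [CommRing B] [Algebra A B]

/-- finitely generated subalgebras. -/
abbrev Idx : Type u := {S : Subalgebra A B // S.FG}

instance : Nonempty (Idx A B) := ⟨⟨⊥, Subalgebra.fg_bot⟩⟩

instance : IsDirected (Idx A B) (· ≤ ·) :=
  ⟨fun S T => ⟨⟨S.1 ⊔ T.1, S.2.sup T.2⟩, le_sup_left (a := S.1), le_sup_right (b := T.1)⟩⟩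

/-- the diagram of finitely generated subalgebras. -/
noncomputable def diagram : Idx A B ⥤ CommAlgCat.{u} A where
  obj S := CommAlgCat.of A S.1
  map {S T} h := CommAlgCat.ofHom (Subalgebra.inclusion (leOfHom h))
  map_id S := by
    ext x
    rfl
  map_comp f g := by
    ext x
    rfl

/-- the cocone of inclusions. -/
noncomputable def cocone : Cocone (diagram A B) where
  pt := CommAlgCat.of A B
  ι :=
    { app := fun S => CommAlgCat.ofHom S.1.val
      naturality := fun S T f => by
        ext x
        rfl }

/-- the cocone of inclusions is a colimit. -/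
noncomputable def isColimit : IsColimit (cocone A B) := by
  haveI : IsConnected (Idx A B) := IsFiltered.isConnected _
  haveI : ReflectsColimitsOfShape (Idx A B) (forget CommRingCat.{u}) :=
    reflectsColimitsOfShape_of_reflectsIsomorphisms
  apply isColimitOfReflects (commAlgCatEquivUnder (CommRingCat.of A)).functor
  apply isColimitOfReflects (Under.forget (CommRingCat.of A))
  apply isColimitOfReflects (forget CommRingCat.{u})
  refine Types.FilteredColimit.isColimitOf' _ _ ?_ ?_
  · intro (b : B)
    have hfg : (Algebra.adjoin A ({b} : Set B)).FG := by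
      have := Subalgebra.fg_adjoin_finset (R := A) ({b} : Finset B)
      simpa using this
    exact ⟨⟨Algebra.adjoin A {b}, hfg⟩, ⟨b, Algebra.subset_adjoin (Set.mem_singleton b)⟩, rfl⟩
  · intro S x y hxy
    refine ⟨S, 𝟙 S, ?_⟩
    have : x = y := Subtype.ext hxy
    rw [this]

end FGColimit
end Groth.Agent.Lib.Helper31
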