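import Groth.Agent.Lib.Helper31.ArtinApprox
import Groth.Agent.Lib.Helper31.FGColimit

/-! Artin approximation for functors commuting with filtered colimits, from Popescu's theorem
(helper31). -/

set_option autoImplicit false
universe u
open CategoryTheory CategoryTheory.Limits

namespace Groth.Agent.Lib.Helper31
namespace ArtinApprox

section one

variable (A : Type u) [CommRing A] (I : Ideal A) [HenselianRing A I]

theorem exists_algHom_approx_one (hpop : PopescuFor A (AdicCompletion I A))
    (P : Type u) [CommRing P] [Algebra A P] [Algebra.FinitePresentation A P]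
    (f : P →ₐ[A] AdicCompletion I A) :
    ∃ σ : P →ₐ[A] A, (Ideal.Quotient.mkₐ A I).comp σ = (AdicCompletion.evalOneₐ I).comp f := by
  obtain ⟨B, _, _, hsm, g, h, hgh⟩ := hpop P f
  obtain ⟨τ, hτ⟩ := Groth.Agent.Lib.Helper7.SmoothPairLift.exists_algHom_lift_of_smooth
    (A := A) (B := B) I ((AdicCompletion.evalOneₐ I).comp h)
  refine ⟨τ.comp g, ?_⟩
  rw [← AlgHom.comp_assoc, hτ, AlgHom.comp_assoc, hgh]

end one

section functor

variable (A : Type u) [CommRing A] [IsNoetherianRing A] (I : Ideal A) [HenselianRing A I]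

theorem finitePresentation_of_fg (B : Type u) [CommRing B] [Algebra A B] (S : Subalgebra A B)
    (hS : S.FG) : Algebra.FinitePresentation A S := by
  haveI : Algebra.FiniteType A S := (Subalgebra.fg_iff_finiteType S).1 hS
  exact Algebra.FinitePresentation.of_finiteType.1 inferInstance

theorem functor_approx (hpop : PopescuFor A (AdicCompletion I A))
    (F : CommAlgCat.{u} A ⥤ Type u) [PreservesFilteredColimitsOfSize.{u, u} F] :
    Function.Injective (F.map (CommAlgCat.ofHom (Algebra.ofId A (AdicCompletion I A)))) ∧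
    ∀ xbar : F.obj (CommAlgCat.of A (A ⧸ I)),
      (∃ x : F.obj (CommAlgCat.of A A),
        F.map (CommAlgCat.ofHom (Ideal.Quotient.mkₐ A I)) x = xbar) ↔
      (∃ y : F.obj (CommAlgCat.of A (AdicCompletion I A)),
        F.map (CommAlgCat.ofHom (AdicCompletion.evalOneₐ I)) y = xbar) := by
  have hcF : IsColimit (F.mapCocone (FGColimit.cocone A (AdicCompletion I A))) :=
    isColimitOfPreserves F (FGColimit.isColimit A (AdicCompletion I A))
  have hσ : ∀ S : FGColimit.Idx A (AdicCompletion I A), ∃ σ : S.1 →ₐ[A] A,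
      (Ideal.Quotient.mkₐ A I).comp σ = (AdicCompletion.evalOneₐ I).comp S.1.val := by
    intro S
    haveI := finitePresentation_of_fg A (AdicCompletion I A) S.1 S.2
    exact exists_algHom_approx_one A I hpop S.1 S.1.val
  constructor
  · intro x x' hxx'
    let S0 : FGColimit.Idx A (AdicCompletion I A) := ⟨⊥, Subalgebra.fg_bot⟩
    let ι₀ : CommAlgCat.of A A ⟶ (FGColimit.diagram A (AdicCompletion I A)).obj S0 :=
      CommAlgCat.ofHom (Algebra.ofId A S0.1)
    have key : ∀ z : F.obj (CommAlgCat.of A A),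
        F.map (CommAlgCat.ofHom (Algebra.ofId A (AdicCompletion I A))) z =
          (F.mapCocone (FGColimit.cocone A (AdicCompletion I A))).ι.app S0 (F.map ι₀ z) := by
      intro z
      show _ = F.map ((FGColimit.cocone A (AdicCompletion I A)).ι.app S0) (F.map ι₀ z)
      rw [← Functor.map_comp_apply]
      rfl
    rw [key, key] at hxx'
    obtain ⟨T, g, hg⟩ := (Types.FilteredColimit.isColimit_eq_iff' hcF _ _).1 hxx'
    obtain ⟨σ, -⟩ := hσ T
    have hg' : F.map ((FGColimit.diagram A (AdicCompletion I A)).map g) (F.map ι₀ x) =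
        F.map ((FGColimit.diagram A (AdicCompletion I A)).map g) (F.map ι₀ x') := hg
    have h2 := congrArg (F.map (CommAlgCat.ofHom σ)) hg'
    have hid : ι₀ ≫ (FGColimit.diagram A (AdicCompletion I A)).map g ≫ CommAlgCat.ofHom σ =
        𝟙 (CommAlgCat.of A A) := by
      apply CommAlgCat.hom_ext
      exact Subsingleton.elim _ _
    have h3 : ∀ z : F.obj (CommAlgCat.of A A),
        F.map (CommAlgCat.ofHom σ) (F.map ((FGColimit.diagram A (AdicCompletion I A)).map g)
          (F.map ι₀ z)) = z := by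
      intro z
      have h4 : F.map (ι₀ ≫ (FGColimit.diagram A (AdicCompletion I A)).map g ≫
          CommAlgCat.ofHom σ) z = F.map (CommAlgCat.ofHom σ)
            (F.map ((FGColimit.diagram A (AdicCompletion I A)).map g) (F.map ι₀ z)) := by
        rw [Functor.map_comp_apply, Functor.map_comp_apply]
        rfl
      rw [← h4, hid, Functor.map_id_apply]
    rw [h3, h3] at h2
    exact h2
  · intro xbar
    constructor
    · rintro ⟨x, rfl⟩
      refine ⟨F.map (CommAlgCat.ofHom (Algebra.ofId A (AdicCompletion I A))) x, ?_⟩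
      rw [← Functor.map_comp_apply]
      have : CommAlgCat.ofHom (Algebra.ofId A (AdicCompletion I A)) ≫
          CommAlgCat.ofHom (AdicCompletion.evalOneₐ I) =
          CommAlgCat.ofHom (Ideal.Quotient.mkₐ A I) := by
        apply CommAlgCat.hom_ext
        exact Subsingleton.elim _ _
      rw [this]
    · rintro ⟨y, rfl⟩
      obtain ⟨S, yS, hyS⟩ := Types.jointly_surjective_of_isColimit hcF y
      have hyS' : F.map ((FGColimit.cocone A (AdicCompletion I A)).ι.app S) yS = y := hyS
      obtain ⟨σ, hσS⟩ := hσ S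
      refine ⟨F.map (CommAlgCat.ofHom σ) yS, ?_⟩
      have : CommAlgCat.ofHom σ ≫ CommAlgCat.ofHom (Ideal.Quotient.mkₐ A I) =
          (FGColimit.cocone A (AdicCompletion I A)).ι.app S ≫
            CommAlgCat.ofHom (AdicCompletion.evalOneₐ I) := by
        apply CommAlgCat.hom_ext
        exact hσS
      have h5 : F.map (CommAlgCat.ofHom σ ≫ CommAlgCat.ofHom (Ideal.Quotient.mkₐ A I)) yS =
          F.map (CommAlgCat.ofHom (Ideal.Quotient.mkₐ A I)) (F.map (CommAlgCat.ofHom σ) yS) := by
        rw [Functor.map_comp_apply]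
      have h6 : F.map ((FGColimit.cocone A (AdicCompletion I A)).ι.app S ≫
            CommAlgCat.ofHom (AdicCompletion.evalOneₐ I)) yS =
          F.map (CommAlgCat.ofHom (AdicCompletion.evalOneₐ I))
            (F.map ((FGColimit.cocone A (AdicCompletion I A)).ι.app S) yS) := by
        rw [Functor.map_comp_apply]
        rfl
      rw [← hyS', ← h5, ← h6, this]
      rfl

end functor

section under

variable (A : Type u) [CommRing A] [IsNoetherianRing A] (I : Ideal A) [HenselianRing A I]

theorem functor_approx_under (hpop : PopescuFor A (AdicCompletion I A))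
    (F : Under (CommRingCat.of A) ⥤ Type u)
    (hF : ∀ (J : Type u) [SmallCategory J] [IsFiltered J], PreservesColimitsOfShape J F)
    (n : ℕ)
    (π : Under.mk (CommRingCat.ofHom (algebraMap A (AdicCompletion I A))) ⟶
      Under.mk (CommRingCat.ofHom (algebraMap A (A ⧸ I ^ (n + 1)))))
    (hπ : π.right = CommRingCat.ofHom
      (AdicCompletion.evalₐ I (n + 1) : AdicCompletion I A →ₐ[A] A ⧸ I ^ (n + 1)).toRingHom)
    (ρ : Under.mk (𝟙 (CommRingCat.of A)) ⟶
      Under.mk (CommRingCat.ofHom (algebraMap A (A ⧸ I ^ (n + 1)))))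
    (ξ : F.obj (Under.mk (CommRingCat.ofHom (algebraMap A (AdicCompletion I A))))) :
    ∃ η : F.obj (Under.mk (𝟙 (CommRingCat.of A))), F.map ρ η = F.map π ξ := by
  let E := (commAlgCatEquivUnder (CommRingCat.of A)).functor
  haveI := hF (FGColimit.Idx A (AdicCompletion I A))
  have hcF : IsColimit ((E ⋙ F).mapCocone (FGColimit.cocone A (AdicCompletion I A))) :=
    isColimitOfPreserves (E ⋙ F) (FGColimit.isColimit A (AdicCompletion I A))
  obtain ⟨S, ξS, hξS⟩ := Types.jointly_surjective_of_isColimit hcF ξ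
  have hξS' : F.map (E.map ((FGColimit.cocone A (AdicCompletion I A)).ι.app S)) ξS = ξ := hξS
  haveI := finitePresentation_of_fg A (AdicCompletion I A) S.1 S.2
  obtain ⟨σ, hσ⟩ := exists_algHom_approx A I hpop S.1 S.1.val n
  let σ' : E.obj ((FGColimit.diagram A (AdicCompletion I A)).obj S) ⟶
      Under.mk (𝟙 (CommRingCat.of A)) :=
    Under.homMk (CommRingCat.ofHom σ.toRingHom) (by
      ext a
      exact σ.commutes a)
  refine ⟨F.map σ' ξS, ?_⟩
  have hcomp : σ' ≫ ρ = E.map ((FGColimit.cocone A (AdicCompletion I A)).ι.app S) ≫ π := by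
    apply Under.UnderMorphism.ext
    have hρ : ρ.right = CommRingCat.ofHom (algebraMap A (A ⧸ I ^ (n + 1))) := by
      have := Under.w ρ
      simpa using this
    rw [Under.comp_right, Under.comp_right, hρ, hπ]
    ext p
    exact hσ p
  have h5 : F.map (σ' ≫ ρ) ξS = F.map ρ (F.map σ' ξS) := by
    rw [Functor.map_comp_apply]
  have h6 : F.map (E.map ((FGColimit.cocone A (AdicCompletion I A)).ι.app S) ≫ π) ξS =
      F.map π (F.map (E.map ((FGColimit.cocone A (AdicCompletion I A)).ι.app S)) ξS) := by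
    rw [Functor.map_comp_apply]
    rfl
  rw [← hξS', ← h5, ← h6, hcomp]

end under

section etale

variable (A : Type u) [CommRing A] [IsNoetherianRing A] (I : Ideal A)

/-- étale-neighbourhood form (no Henselian hypothesis). -/
theorem functor_approx_etale (hpop : PopescuFor A (AdicCompletion I A))
    (F : Under (CommRingCat.of A) ⥤ Type u)
    (hF : ∀ (J : Type u) [SmallCategory J] [IsFiltered J], PreservesColimitsOfShape J F)
    (N : ℕ)
    (π : Under.mk (CommRingCat.ofHom (algebraMap A (AdicCompletion I A))) ⟶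
      Under.mk (CommRingCat.ofHom (algebraMap A (A ⧸ I ^ (N + 1)))))
    (hπ : π.right = CommRingCat.ofHom
      (AdicCompletion.evalₐ I (N + 1) : AdicCompletion I A →ₐ[A] A ⧸ I ^ (N + 1)).toRingHom)
    (ξ : F.obj (Under.mk (CommRingCat.ofHom (algebraMap A (AdicCompletion I A))))) :
    ∃ (A' : Type u) (_ : CommRing A') (_ : Algebra A A') (_ : Algebra.Etale A A')
      (φ : Under.mk (CommRingCat.ofHom (algebraMap A A')) ⟶
        Under.mk (CommRingCat.ofHom (algebraMap A (A ⧸ I ^ (N + 1)))))
      (ξ' : F.obj (Under.mk (CommRingCat.ofHom (algebraMap A A')))),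
      F.map φ ξ' = F.map π ξ := by
  let E := (commAlgCatEquivUnder (CommRingCat.of A)).functor
  haveI := hF (FGColimit.Idx A (AdicCompletion I A))
  have hcF : IsColimit ((E ⋙ F).mapCocone (FGColimit.cocone A (AdicCompletion I A))) :=
    isColimitOfPreserves (E ⋙ F) (FGColimit.isColimit A (AdicCompletion I A))
  obtain ⟨S, ξS, hξS⟩ := Types.jointly_surjective_of_isColimit hcF ξ
  have hξS' : F.map (E.map ((FGColimit.cocone A (AdicCompletion I A)).ι.app S)) ξS = ξ := hξS
  haveI := finitePresentation_of_fg A (AdicCompletion I A) S.1 S.2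
  obtain ⟨B, _, _, hsm, g, h, hgh⟩ := hpop S.1 S.1.val
  obtain ⟨A', _, _, hA', hbij, τ, hτ⟩ :=
    Groth.Agent.Lib.Helper7.SmoothPairLift.exists_etale_lift_bijective (A := A) (B := B)
      (I ^ (N + 1)) ((AdicCompletion.evalₐ I (N + 1)).comp h)
  let e : (A ⧸ I ^ (N + 1)) ≃+* (A' ⧸ (I ^ (N + 1)).map (algebraMap A A')) :=
    RingEquiv.ofBijective _ hbij
  let φr : A' →+* A ⧸ I ^ (N + 1) :=
    (e.symm : (A' ⧸ (I ^ (N + 1)).map (algebraMap A A')) →+* A ⧸ I ^ (N + 1)).comp
      (Ideal.Quotient.mk _)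
  have hφr : ∀ a : A, φr (algebraMap A A' a) = algebraMap A (A ⧸ I ^ (N + 1)) a := by
    intro a
    show e.symm (Ideal.Quotient.mk _ (algebraMap A A' a)) = _
    rw [RingEquiv.symm_apply_eq]
    rfl
  let φ : Under.mk (CommRingCat.ofHom (algebraMap A A')) ⟶
      Under.mk (CommRingCat.ofHom (algebraMap A (A ⧸ I ^ (N + 1)))) :=
    Under.homMk (CommRingCat.ofHom φr) (by
      ext a
      exact hφr a)
  let σ' : E.obj ((FGColimit.diagram A (AdicCompletion I A)).obj S) ⟶
      Under.mk (CommRingCat.ofHom (algebraMap A A')) :=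
    Under.homMk (CommRingCat.ofHom (τ.comp g).toRingHom) (by
      ext a
      exact (τ.comp g).commutes a)
  refine ⟨A', inferInstance, inferInstance, hA', φ, F.map σ' ξS, ?_⟩
  have hcomp : σ' ≫ φ = E.map ((FGColimit.cocone A (AdicCompletion I A)).ι.app S) ≫ π := by
    apply Under.UnderMorphism.ext
    rw [Under.comp_right, Under.comp_right, hπ]
    ext p
    show e.symm (Ideal.Quotient.mk _ (τ (g p))) = AdicCompletion.evalₐ I (N + 1) (S.1.val p)
    rw [RingEquiv.symm_apply_eq, hτ]
    have h7 : h (g p) = S.1.val p := DFunLike.congr_fun hgh p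
    rw [AlgHom.comp_apply, h7]
    rfl
  have h5 : F.map (σ' ≫ φ) ξS = F.map φ (F.map σ' ξS) := by
    rw [Functor.map_comp_apply]
  have h6 : F.map (E.map ((FGColimit.cocone A (AdicCompletion I A)).ι.app S) ≫ π) ξS =
      F.map π (F.map (E.map ((FGColimit.cocone A (AdicCompletion I A)).ι.app S)) ξS) := by
    rw [Functor.map_comp_apply]
    rfl
  rw [← hξS', ← h5, ← h6, hcomp]

end etale

section etaleAlg

variable (A : Type u) [CommRing A] [IsNoetherianRing A] (I : Ideal A)

/-- étale-neighbourhood form for functors on `CommAlgCat` (no Henselian hypothesis). -/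
theorem functor_approx_etale_alg (hpop : PopescuFor A (AdicCompletion I A))
    (F : CommAlgCat.{u} A ⥤ Type u) [PreservesFilteredColimits F]
    (ξ : F.obj (CommAlgCat.of A (AdicCompletion I A))) (N : ℕ) :
    ∃ (A' : Type u) (_ : CommRing A') (_ : Algebra A A') (_ : Algebra.Etale A A')
      (ψ : A' →ₐ[A] (A ⧸ I ^ (N + 1))) (_ : Function.Surjective ψ)
      (ξ' : F.obj (CommAlgCat.of A A')),
      F.map (CommAlgCat.ofHom ψ) ξ' =
        F.map (CommAlgCat.ofHom (AdicCompletion.evalₐ I (N + 1))) ξ := by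
  have hcF : IsColimit (F.mapCocone (FGColimit.cocone A (AdicCompletion I A))) :=
    isColimitOfPreserves F (FGColimit.isColimit A (AdicCompletion I A))
  obtain ⟨S, ξS, hξS⟩ := Types.jointly_surjective_of_isColimit hcF ξ
  have hξS' : F.map ((FGColimit.cocone A (AdicCompletion I A)).ι.app S) ξS = ξ := hξS
  haveI := finitePresentation_of_fg A (AdicCompletion I A) S.1 S.2
  obtain ⟨B, _, _, hsm, g, h, hgh⟩ := hpop S.1 S.1.val
  obtain ⟨A', _, _, hA', hbij, τ, hτ⟩ :=
    Groth.Agent.Lib.Helper7.SmoothPairLift.exists_etale_lift_bijective (A := A) (B := B)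
      (I ^ (N + 1)) ((AdicCompletion.evalₐ I (N + 1)).comp h)
  let e : (A ⧸ I ^ (N + 1)) ≃+* (A' ⧸ (I ^ (N + 1)).map (algebraMap A A')) :=
    RingEquiv.ofBijective _ hbij
  let φr : A' →+* A ⧸ I ^ (N + 1) :=
    (e.symm : (A' ⧸ (I ^ (N + 1)).map (algebraMap A A')) →+* A ⧸ I ^ (N + 1)).comp
      (Ideal.Quotient.mk _)
  have hφr : ∀ a : A, φr (algebraMap A A' a) = algebraMap A (A ⧸ I ^ (N + 1)) a := by
    intro a
    show e.symm (Ideal.Quotient.mk _ (algebraMap A A' a)) = _
    rw [RingEquiv.symm_apply_eq]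
    rfl
  let ψ : A' →ₐ[A] (A ⧸ I ^ (N + 1)) := { φr with commutes' := hφr }
  have hψsurj : Function.Surjective ψ := by
    intro y
    obtain ⟨x, hx⟩ := Ideal.Quotient.mk_surjective (e y)
    refine ⟨x, ?_⟩
    show e.symm (Ideal.Quotient.mk _ x) = y
    rw [hx, RingEquiv.symm_apply_apply]
  refine ⟨A', inferInstance, inferInstance, hA', ψ, hψsurj,
    F.map (CommAlgCat.ofHom (τ.comp g)) ξS, ?_⟩
  have hcomp : CommAlgCat.ofHom (τ.comp g) ≫ CommAlgCat.ofHom ψ =
      (FGColimit.cocone A (AdicCompletion I A)).ι.app S ≫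
        CommAlgCat.ofHom (AdicCompletion.evalₐ I (N + 1)) := by
    apply CommAlgCat.hom_ext
    apply AlgHom.ext
    intro p
    show e.symm (Ideal.Quotient.mk _ (τ (g p))) = AdicCompletion.evalₐ I (N + 1) (S.1.val p)
    rw [RingEquiv.symm_apply_eq, hτ]
    have h7 : h (g p) = S.1.val p := DFunLike.congr_fun hgh p
    rw [AlgHom.comp_apply, h7]
    rfl
  have h5 : F.map (CommAlgCat.ofHom (τ.comp g) ≫ CommAlgCat.ofHom ψ) ξS =
      F.map (CommAlgCat.ofHom ψ) (F.map (CommAlgCat.ofHom (τ.comp g)) ξS) := by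
    rw [Functor.map_comp_apply]
  have h6 : F.map ((FGColimit.cocone A (AdicCompletion I A)).ι.app S ≫
        CommAlgCat.ofHom (AdicCompletion.evalₐ I (N + 1))) ξS =
      F.map (CommAlgCat.ofHom (AdicCompletion.evalₐ I (N + 1)))
        (F.map ((FGColimit.cocone A (AdicCompletion I A)).ι.app S) ξS) := by
    rw [Functor.map_comp_apply]
    rfl
  rw [← hξS', ← h5, ← h6, hcomp]
  rfl

end etaleAlg

end ArtinApprox
end Groth.Agent.Lib.Helper31
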