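import Mathlib

/-! A finitely presented algebra map into a localization `T⁻¹S` factors through `S[1/t]` for some
`t ∈ T` (helper31). -/

set_option autoImplicit false

namespace Groth.Agent.Lib.Helper31
namespace AwayFactor

open MvPolynomial

variable {S₀ S E Q : Type*} [CommRing S₀] [CommRing S] [CommRing E] [CommRing Q]
  [Algebra S₀ S] [Algebra S E] [Algebra S₀ E] [IsScalarTower S₀ S E] [Algebra S₀ Q]

/-- the canonical map `S[1/t] → E` for `t ∈ T`, `E = T⁻¹S`. -/
noncomputable def awayTo (T : Submonoid S) [IsLocalization T E] (t : S) (ht : t ∈ T) :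
    Localization.Away t →ₐ[S] E :=
  IsLocalization.Away.liftAlgHom (A := S) (S := Localization.Away t) t (f := Algebra.ofId S E)
    (IsLocalization.map_units E ⟨t, ht⟩)

theorem awayTo_algebraMap (T : Submonoid S) [IsLocalization T E] (t : S) (ht : t ∈ T) (x : S) :
    awayTo (E := E) T t ht (algebraMap S (Localization.Away t) x) = algebraMap S E x :=
  (awayTo (E := E) T t ht).commutes x

/-- elements of `S[1/t]` dying in `T⁻¹S` are killed by an element of `T`. -/
theorem exists_mul_eq_zero (T : Submonoid S) [IsLocalization T E] (t : S) (ht : t ∈ T)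
    (z : Localization.Away t) (hz : awayTo (E := E) T t ht z = 0) :
    ∃ c : T, algebraMap S (Localization.Away t) c * z = 0 := by
  obtain ⟨⟨y, d⟩, hyd⟩ := IsLocalization.surj (Submonoid.powers t) z
  have h0 : algebraMap S E y = 0 := by
    have := congrArg (awayTo (E := E) T t ht) hyd
    rw [map_mul, hz, zero_mul, awayTo_algebraMap] at this
    exact this.symm
  obtain ⟨c, hc⟩ := (IsLocalization.map_eq_zero_iff T E y).1 h0
  refine ⟨c, ?_⟩
  have hd : IsUnit (algebraMap S (Localization.Away t) d) :=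
    IsLocalization.map_units (Localization.Away t) d
  apply hd.mul_left_injective
  show algebraMap S (Localization.Away t) c * z * algebraMap S (Localization.Away t) d =
    0 * algebraMap S (Localization.Away t) d
  rw [zero_mul, mul_assoc, hyd, ← map_mul, hc, map_zero]

/-- the transition map `S[1/t₁] → S[1/(t₁ c)]`. -/
noncomputable def awayMul (t₁ c : S) : Localization.Away t₁ →ₐ[S] Localization.Away (t₁ * c) :=
  IsLocalization.Away.liftAlgHom (A := S) (S := Localization.Away t₁) t₁
    (f := Algebra.ofId S (Localization.Away (t₁ * c)))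
    (IsLocalization.Away.isUnit_of_dvd (t₁ * c) (dvd_mul_right t₁ c))

theorem awayTo_awayMul (T : Submonoid S) [IsLocalization T E] (t₁ c : S) (h₁ : t₁ ∈ T)
    (h : t₁ * c ∈ T) (z : Localization.Away t₁) :
    awayTo (E := E) T (t₁ * c) h (awayMul t₁ c z) = awayTo (E := E) T t₁ h₁ z := by
  have : ((awayTo (E := E) T (t₁ * c) h).comp (awayMul t₁ c)).toRingHom =
      (awayTo (E := E) T t₁ h₁).toRingHom := by
    apply IsLocalization.ringHom_ext (Submonoid.powers t₁)
    ext x
    simp
  exact DFunLike.congr_fun this z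

/-- **Factoring through a finite stage**: an algebra map from a finitely presented `S₀`-algebra to a
localization `T⁻¹S` of an `S₀`-algebra `S` factors through `S[1/t]` for some `t ∈ T`. -/
theorem exists_away_factor (T : Submonoid S) [IsLocalization T E]
    [Algebra.FinitePresentation S₀ Q] (g : Q →ₐ[S₀] E) :
    ∃ (t : S) (ht : t ∈ T) (g' : Q →ₐ[S₀] Localization.Away t),
      ∀ q, awayTo (E := E) T t ht (g' q) = g q := by
  classical
  obtain ⟨n, π, hπ, H, hH⟩ := (inferInstance : Algebra.FinitePresentation S₀ Q).out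
  -- step 1: clear denominators
  obtain ⟨t₁, hx⟩ := IsLocalization.exist_integer_multiples_of_finite T
    (fun i : Fin n => g (π (X i)))
  choose x hx using hx
  have hu₁ : IsUnit (algebraMap S E (t₁ : S)) := IsLocalization.map_units E t₁
  let b' : Fin n → Localization.Away (t₁ : S) := fun i =>
    IsLocalization.mk' (Localization.Away (t₁ : S)) (x i)
      (⟨t₁, Submonoid.mem_powers _⟩ : Submonoid.powers (t₁ : S))
  have hb' : ∀ i, awayTo (E := E) T t₁ t₁.2 (b' i) = g (π (X i)) := by
    intro i
    have h1 : b' i * algebraMap S (Localization.Away (t₁ : S)) t₁ =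
        algebraMap S (Localization.Away (t₁ : S)) (x i) := IsLocalization.mk'_spec _ _ _
    have h2 := congrArg (awayTo (E := E) T t₁ t₁.2) h1
    rw [map_mul, awayTo_algebraMap, awayTo_algebraMap, hx i, Algebra.smul_def, mul_comm] at h2
    exact hu₁.mul_right_injective h2
  let γ₁ : MvPolynomial (Fin n) S₀ →ₐ[S₀] Localization.Away (t₁ : S) := aeval b'
  have hcomp : ∀ p, awayTo (E := E) T t₁ t₁.2 (γ₁ p) = g (π p) := by
    have : ((awayTo (E := E) T t₁ t₁.2).restrictScalars S₀).comp γ₁ = g.comp π := by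
      apply MvPolynomial.algHom_ext
      intro i
      simp only [AlgHom.comp_apply, γ₁, aeval_X, AlgHom.restrictScalars_apply]
      exact hb' i
    intro p
    exact DFunLike.congr_fun this p
  -- step 2: kill the relations
  have hkill : ∀ h ∈ H, ∃ c : T, algebraMap S (Localization.Away (t₁ : S)) c * γ₁ h = 0 := by
    intro h hh
    apply exists_mul_eq_zero (E := E) T t₁ t₁.2
    rw [hcomp]
    have : h ∈ RingHom.ker π.toRingHom := by
      rw [← hH]
      exact Ideal.subset_span hh
    have h0 : π h = 0 := this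
    rw [h0, map_zero]
  choose! c hc using hkill
  let c₀ : T := ∏ h ∈ H, c h
  have hc₀ : ∀ h ∈ H, algebraMap S (Localization.Away (t₁ : S)) c₀ * γ₁ h = 0 := by
    intro h hh
    have : (c₀ : S) = (∏ h' ∈ H.erase h, (c h' : S)) * c h := by
      simp only [c₀, Submonoid.coe_finsetProd]
      rw [Finset.prod_erase_mul _ _ hh]
    rw [this, map_mul, mul_assoc, hc h hh, mul_zero]
  have ht : (t₁ : S) * c₀ ∈ T := T.mul_mem t₁.2 c₀.2
  let γ₂ : MvPolynomial (Fin n) S₀ →ₐ[S₀] Localization.Away ((t₁ : S) * c₀) :=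
    ((awayMul (t₁ : S) (c₀ : S)).restrictScalars S₀).comp γ₁
  have hγ₂H : ∀ h ∈ H, γ₂ h = 0 := by
    intro h hh
    have h1 := congrArg (awayMul (t₁ : S) (c₀ : S)) (hc₀ h hh)
    rw [map_mul, map_zero, AlgHom.commutes] at h1
    have hu : IsUnit (algebraMap S (Localization.Away ((t₁ : S) * c₀)) c₀) :=
      IsLocalization.Away.isUnit_of_dvd ((t₁ : S) * c₀) (dvd_mul_left _ _)
    exact (hu.mul_right_eq_zero).1 h1
  have hγ₂ : ∀ p ∈ RingHom.ker π.toRingHom, γ₂ p = 0 := by
    intro p hp
    rw [← hH] at hp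
    have : Ideal.span (H : Set (MvPolynomial (Fin n) S₀)) ≤ RingHom.ker γ₂.toRingHom := by
      rw [Ideal.span_le]
      intro h hh
      exact hγ₂H h hh
    exact this hp
  let e := Ideal.quotientKerAlgEquivOfSurjective hπ
  let g' : Q →ₐ[S₀] Localization.Away ((t₁ : S) * c₀) :=
    (Ideal.Quotient.liftₐ (RingHom.ker π.toRingHom) γ₂ hγ₂).comp e.symm.toAlgHom
  have hg' : ∀ p, g' (π p) = γ₂ p := by
    intro p
    have : e.symm (π p) = Ideal.Quotient.mk _ p := by
      rw [AlgEquiv.symm_apply_eq]
      rfl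
    show Ideal.Quotient.liftₐ (RingHom.ker π.toRingHom) γ₂ hγ₂ (e.symm (π p)) = _
    rw [this]
    rfl
  refine ⟨(t₁ : S) * c₀, ht, g', fun q => ?_⟩
  obtain ⟨p, rfl⟩ := hπ q
  rw [hg', ← hcomp]
  exact awayTo_awayMul (E := E) T t₁ c₀ t₁.2 ht (γ₁ p)

end AwayFactor
end Groth.Agent.Lib.Helper31
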