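import Mathlib

/-!
# Big projective modules (Bass) (helper31)

`R` a commutative ring with `R ⧸ rad R` Noetherian, `P` a projective module which is "big" at every
maximal ideal (`P ⧸ 𝔪 P` is not finitely generated).

* `exists_unimodular_add`: if `R s + M = P` then `s + m` is unimodular for some `m ∈ M`.
-/

set_option autoImplicit false
universe u v

namespace Groth.Agent.Lib.Helper31.BassBig

variable {R : Type u} [CommRing R] {P : Type v} [AddCommGroup P] [Module R P]

/-- The order ideal of `x`: the values at `x` of all linear forms. -/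
def ord (x : P) : Ideal R := LinearMap.range (LinearMap.applyₗ x : (P →ₗ[R] R) →ₗ[R] R)

theorem mem_ord {x : P} {r : R} : r ∈ ord x ↔ ∃ φ : P →ₗ[R] R, φ x = r := by
  simp [ord, LinearMap.mem_range]

theorem apply_mem_ord (φ : P →ₗ[R] R) (x : P) : φ x ∈ ord x := mem_ord.2 ⟨φ, rfl⟩

variable (R P) in
/-- `P ⧸ 𝔪 P` is not finitely generated, for every maximal ideal `𝔪`. -/
def Big : Prop :=
  ∀ (𝔪 : Ideal R) [𝔪.IsMaximal] (G : Finset P),
    Submodule.span R (G : Set P) ⊔ 𝔪 • (⊤ : Submodule R P) ≠ ⊤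

section DualBasis

variable (σ : P →ₗ[R] (P →₀ R)) (hσ : Finsupp.linearCombination R id ∘ₗ σ = LinearMap.id)

/-- The coordinate forms of a dual basis. -/
noncomputable def coord (p : P) : P →ₗ[R] R := Finsupp.lapply p ∘ₗ σ

theorem coord_apply (p x : P) : coord σ p x = σ x p := rfl

include hσ in
theorem sum_coord (x : P) : ((σ x).sum fun p a => a • p) = x := by
  have := LinearMap.congr_fun hσ x
  simpa [Finsupp.linearCombination_apply] using this

include hσ in
theorem ord_le_iff (x : P) (I : Ideal R) : ord x ≤ I ↔ ∀ p, coord σ p x ∈ I := by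
  constructor
  · intro h p
    exact h (apply_mem_ord _ _)
  · intro h r hr
    obtain ⟨φ, rfl⟩ := mem_ord.1 hr
    rw [← sum_coord σ hσ x, Finsupp.sum, map_sum]
    refine Ideal.sum_mem _ fun p _ => ?_
    rw [map_smul, smul_eq_mul]
    exact Ideal.mul_mem_right _ _ (h p)

include hσ in
theorem mem_smul_top_of_coord (x : P) (I : Ideal R) (h : ∀ p, coord σ p x ∈ I) :
    x ∈ I • (⊤ : Submodule R P) := by
  rw [← sum_coord σ hσ x, Finsupp.sum]
  exact Submodule.sum_mem _ fun p _ => Submodule.smul_mem_smul (h p) Submodule.mem_top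

end DualBasis


section Main

open Ideal in
theorem jacobson_bot_le_of_isMaximal (𝔪 : Ideal R) [h𝔪 : 𝔪.IsMaximal] :
    (⊥ : Ideal R).jacobson ≤ 𝔪 :=
  sInf_le ⟨bot_le, h𝔪⟩

/-- A module over `R ⧸ J` which is Noetherian over `R ⧸ J` is Noetherian over `R`. -/
theorem isNoetherian_of_quotient (J : Ideal R) (X : Type*) [AddCommGroup X] [Module R X]
    [Module (R ⧸ J) X] [IsScalarTower R (R ⧸ J) X] [IsNoetherian (R ⧸ J) X] : IsNoetherian R X := by
  constructor
  intro N
  let N' : Submodule (R ⧸ J) X :=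
    { carrier := N
      add_mem' := N.add_mem
      zero_mem' := N.zero_mem
      smul_mem' := by
        rintro c x hx
        obtain ⟨r, rfl⟩ := Ideal.Quotient.mk_surjective c
        have : (Ideal.Quotient.mk J r) • x = r • x := by
          rw [← Ideal.Quotient.algebraMap_eq, algebraMap_smul]
        rw [this]
        exact N.smul_mem r hx }
  obtain ⟨G, hG⟩ := (IsNoetherian.noetherian N' : N'.FG)
  refine ⟨G, ?_⟩
  have h1 := Submodule.restrictScalars_span R (R ⧸ J)
    (by rw [Ideal.Quotient.algebraMap_eq]; exact Ideal.Quotient.mk_surjective) (G : Set X)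
  rw [hG] at h1
  rw [← h1]
  ext x
  rfl

/-- Key lemma of Bass. -/
theorem exists_unimodular_add [IsNoetherianRing (R ⧸ (⊥ : Ideal R).jacobson)]
    [Module.Projective R P] (hbig : Big R P) (s₀ : P) (M : Submodule R P)
    (hM : Submodule.span R {s₀} ⊔ M = ⊤) :
    ∃ m ∈ M, ∃ φ : P →ₗ[R] R, φ (s₀ + m) = 1 := by
  classical
  obtain ⟨σ, hσ⟩ := Module.projective_def'.mp ‹Module.Projective R P›
  set J : Ideal R := (⊥ : Ideal R).jacobson with hJ
  let Iof : M → Ideal (R ⧸ J) := fun m => (ord (s₀ + (m : P))).map (Ideal.Quotient.mk J)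
  have hwf : WellFounded ((· > ·) : Ideal (R ⧸ J) → Ideal (R ⧸ J) → Prop) :=
    (isNoetherian_iff'.mp (inferInstance : IsNoetherian (R ⧸ J) (R ⧸ J))).wf
  obtain ⟨I₀, ⟨m₀, rfl⟩, hmax⟩ := hwf.has_min (Set.range Iof) ⟨Iof 0, 0, rfl⟩
  refine ⟨m₀, m₀.2, ?_⟩
  obtain ⟨x₀, hx₀⟩ : ∃ x₀ : P, x₀ = s₀ + (m₀ : P) := ⟨_, rfl⟩
  rw [← hx₀]
  by_contra hne
  have hord : (ord x₀ : Ideal R) ≠ ⊤ := by
    intro h
    have h1 : (1 : R) ∈ (ord x₀ : Ideal R) := h ▸ Submodule.mem_top
    exact hne (mem_ord.1 h1)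
  obtain ⟨𝔪, h𝔪, hle⟩ := Ideal.exists_le_maximal _ hord
  have hJ𝔪 : J ≤ 𝔪 := jacobson_bot_le_of_isMaximal 𝔪
  let T : Finset P := (σ x₀).support
  -- the submodule of elements of `M` whose `T`-coordinates lie in `J`
  let θ : M →ₗ[R] (T → R ⧸ J) :=
    LinearMap.pi fun p => (Submodule.mkQ J) ∘ₗ coord σ p.1 ∘ₗ M.subtype
  have hθ : ∀ (m : M), θ m = 0 ↔ ∀ p ∈ T, coord σ p (m : P) ∈ J := by
    intro m
    constructor
    · intro h p hp
      have := congrFun h ⟨p, hp⟩
      simpa [θ, Ideal.Quotient.eq_zero_iff_mem] using this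
    · intro h
      funext p
      simpa [θ, Ideal.Quotient.eq_zero_iff_mem] using h p.1 p.2
  -- there is `n ∈ M` with `T`-coordinates in `J` and `n ∉ 𝔪 P`
  have hn : ∃ n : M, θ n = 0 ∧ (n : P) ∉ 𝔪 • (⊤ : Submodule R P) := by
    by_contra hcon
    push Not at hcon
    have hnoeth : IsNoetherian R (T → R ⧸ J) := isNoetherian_of_quotient J _
    have hfg : (LinearMap.range θ).FG := IsNoetherian.noetherian _
    obtain ⟨G', hG'⟩ := hfg
    have hG'mem : ∀ g ∈ G', ∃ m : M, θ m = g := fun g hg => by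
      have : g ∈ LinearMap.range θ := hG' ▸ Submodule.subset_span hg
      exact this
    choose! pre hpre using hG'mem
    let GM : Finset P := insert s₀ (G'.image fun g => ((pre g : M) : P))
    apply hbig 𝔪 GM
    rw [eq_top_iff]
    have key : Submodule.span R {s₀} ⊔ M ≤
        Submodule.span R (GM : Set P) ⊔ 𝔪 • (⊤ : Submodule R P) := ?_
    · calc (⊤ : Submodule R P) = _ := hM.symm
        _ ≤ _ := key
    refine sup_le ?_ ?_
    · refine le_sup_of_le_left (Submodule.span_mono ?_)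
      simp [GM]
    · intro m hm
      have hmem : θ ⟨m, hm⟩ ∈ Submodule.span R (G' : Set (T → R ⧸ J)) := by
        rw [hG']; exact LinearMap.mem_range_self _ _
      have hsp : Submodule.span R (G' : Set (T → R ⧸ J)) =
          Submodule.map θ (Submodule.span R ((fun g => pre g) '' (G' : Set (T → R ⧸ J)))) := by
        rw [Submodule.map_span, ← Set.image_comp]
        congr 1
        ext g
        constructor
        · intro hg; exact ⟨g, hg, hpre g hg⟩
        · rintro ⟨g', hg', rfl⟩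
          simp only [Function.comp_apply]
          rw [hpre g' hg']; exact hg'
      rw [hsp] at hmem
      obtain ⟨y, hy, hyθ⟩ := hmem
      have hker : θ (⟨m, hm⟩ - y) = 0 := by rw [map_sub, hyθ, sub_self]
      have h1 : ((⟨m, hm⟩ - y : M) : P) ∈ 𝔪 • (⊤ : Submodule R P) := hcon _ hker
      have h2 : (y : P) ∈ Submodule.span R (GM : Set P) := by
        have : Submodule.map M.subtype
            (Submodule.span R ((fun g => pre g) '' (G' : Set (T → R ⧸ J)))) ≤
            Submodule.span R (GM : Set P) := by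
          rw [Submodule.map_span]
          apply Submodule.span_mono
          rintro _ ⟨_, ⟨g, hg, rfl⟩, rfl⟩
          simp only [GM, Finset.coe_insert, Finset.coe_image]
          exact Set.mem_insert_of_mem _ ⟨g, hg, rfl⟩
        exact this ⟨y, hy, rfl⟩
      have : m = (y : P) + ((⟨m, hm⟩ - y : M) : P) := by simp
      rw [this]
      exact Submodule.add_mem_sup h2 h1
  obtain ⟨n, hnθ, hn𝔪⟩ := hn
  have hnJ : ∀ p ∈ T, coord σ p (n : P) ∈ J := (hθ n).1 hnθ
  -- the new element
  obtain ⟨x₁, hx₁⟩ : ∃ x₁ : P, x₁ = s₀ + ((m₀ + n : M) : P) := ⟨_, rfl⟩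
  have hx₁' : x₁ = x₀ + (n : P) := by simp [hx₁, hx₀, add_assoc]
  have hI₀ : Iof m₀ = (ord x₀).map (Ideal.Quotient.mk J) := by rw [hx₀]
  have hI₁ : Iof (m₀ + n) = (ord x₁).map (Ideal.Quotient.mk J) := by rw [hx₁]
  have hle1 : ord x₀ ≤ ord x₁ ⊔ J := by
    rw [ord_le_iff σ hσ]
    intro p
    by_cases hp : p ∈ T
    · have : coord σ p x₀ = coord σ p x₁ - coord σ p (n : P) := by
        have h := congrArg (coord σ p) hx₁'
        rw [map_add] at h
        exact eq_sub_of_add_eq h.symm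
      rw [this]
      exact Ideal.sub_mem _ (Ideal.mem_sup_left (apply_mem_ord _ _))
        (Ideal.mem_sup_right (hnJ p hp))
    · have : coord σ p x₀ = 0 := by
        rw [coord_apply]; exact Finsupp.notMem_support_iff.mp hp
      rw [this]; exact Ideal.zero_mem _
  have hmapJ : (J.map (Ideal.Quotient.mk J)) = ⊥ := Ideal.map_quotient_self J
  have hI01 : Iof m₀ ≤ Iof (m₀ + n) := by
    calc Iof m₀ = (ord x₀).map (Ideal.Quotient.mk J) := hI₀
      _ ≤ (ord x₁ ⊔ J).map (Ideal.Quotient.mk J) := Ideal.map_mono hle1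
      _ = Iof (m₀ + n) := by rw [Ideal.map_sup, hmapJ, sup_bot_eq, hI₁]
  have hnot : ¬ Iof (m₀ + n) ≤ Iof m₀ := by
    intro hle2
    apply hn𝔪
    apply mem_smul_top_of_coord σ hσ
    intro p
    have h1 : coord σ p (n : P) = coord σ p x₁ - coord σ p x₀ := by
      have h := congrArg (coord σ p) hx₁'
      rw [map_add] at h
      exact eq_sub_of_add_eq' h.symm
    have h2 : Ideal.Quotient.mk J (coord σ p (n : P)) ∈ Iof (m₀ + n) := by
      have : coord σ p (n : P) ∈ ord x₁ ⊔ J := by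
        rw [h1]
        exact Ideal.sub_mem _ (Ideal.mem_sup_left (apply_mem_ord _ _))
          (hle1 (apply_mem_ord _ _))
      have := Ideal.mem_map_of_mem (Ideal.Quotient.mk J) this
      rwa [Ideal.map_sup, hmapJ, sup_bot_eq, ← hI₁] at this
    have h3 : Ideal.Quotient.mk J (coord σ p (n : P)) ∈ (𝔪.map (Ideal.Quotient.mk J)) :=
      Ideal.map_mono hle (hI₀ ▸ hle2 h2)
    have h4 : coord σ p (n : P) ∈ (𝔪.map (Ideal.Quotient.mk J)).comap (Ideal.Quotient.mk J) := h3
    rw [Ideal.comap_map_of_surjective _ Ideal.Quotient.mk_surjective, ← RingHom.ker_eq_comap_bot,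
      Ideal.mk_ker] at h4
    rwa [sup_eq_left.mpr hJ𝔪] at h4
  exact hmax (Iof (m₀ + n)) ⟨_, rfl⟩ (lt_of_le_not_ge hI01 hnot)

end Main

end Groth.Agent.Lib.Helper31.BassBig
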