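import Groth.Agent.Lib.Helper31.BassBigSummand
import Groth.Agent.Lib.Helper62.KaplanskyLocal

/-!
# Bass: countably generated big projective modules are free (helper31)
-/

set_option autoImplicit false
universe u

namespace Groth.Agent.Lib.Helper31.BassBig

open Groth.Agent.Lib.Helper62.KaplanskyLocal

variable {R : Type u} [CommRing R] [IsNoetherianRing (R ⧸ (⊥ : Ideal R).jacobson)]
  {P : Type u} [AddCommGroup P] [Module R P] [Module.Projective R P]

theorem exists_step_big (hbig : Big R P) (A B : Submodule R P) (h : IsCompl A B) (hA : A.FG)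
    (x : P) :
    ∃ F B' : Submodule R P, F ≤ B ∧ Module.Free R F ∧ F.FG ∧ x ∈ A ⊔ F ∧ IsCompl (A ⊔ F) B' := by
  classical
  let pB : P →ₗ[R] B := Submodule.projectionOnto B A h.symm
  let pA : P →ₗ[R] A := Submodule.projectionOnto A B h
  have hsum : ∀ z : P, (pA z : P) + (pB z : P) = z := fun z => by
    simp only [pA, pB, Submodule.coe_projectionOnto_apply]
    exact Submodule.projection_add_projection_eq_self h z
  have hprojB : Module.Projective R B :=
    Module.Projective.of_split B.subtype pB (LinearMap.ext fun z => by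
      simp [pB, Submodule.projectionOnto_apply_left])
  have hbigB : Big R B := big_of_isCompl_fg h hA hbig
  obtain ⟨K, K', hKK', hfree, hfin, hmem⟩ := hasFFS_of_big hbigB (pB x)
  refine ⟨K.map B.subtype, K'.map B.subtype, Submodule.map_subtype_le _ _, ?_, ?_, ?_, ?_⟩
  · exact Module.Free.of_equiv (Submodule.equivMapOfInjective B.subtype B.injective_subtype K)
  · exact (Module.Finite.iff_fg.1 hfin).map _
  · rw [← hsum x]
    exact Submodule.add_mem_sup (pA x).2 (Submodule.mem_map_of_mem hmem)
  · constructor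
    · rw [Submodule.disjoint_def]
      intro z hz hz'
      obtain ⟨a, ha, f, hf, rfl⟩ := Submodule.mem_sup.mp hz
      obtain ⟨k, hk, rfl⟩ := hf
      obtain ⟨w, hw, hwz⟩ := hz'
      have haB : a ∈ B := by
        have : a = (w : P) - (k : P) := by
          have := hwz
          simp only [Submodule.subtype_apply] at this
          rw [this]; simp
        rw [this]
        exact B.sub_mem w.2 k.2
      have ha0 : a = 0 := by
        have : a ∈ A ⊓ B := ⟨ha, haB⟩
        rw [h.inf_eq_bot] at this
        exact (Submodule.mem_bot R).mp this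
      subst ha0
      rw [zero_add] at hwz
      have hwk : w = k := Subtype.ext hwz
      have hk0 : k = 0 := by
        have : k ∈ K ⊓ K' := ⟨hk, hwk ▸ hw⟩
        rw [hKK'.inf_eq_bot] at this
        exact (Submodule.mem_bot R).mp this
      simp [hk0]
    · rw [codisjoint_iff, eq_top_iff]
      intro z _
      rw [← hsum z]
      obtain ⟨k, k', hk, hk', hkk'⟩ :=
        Submodule.codisjoint_iff_exists_add_eq.1 hKK'.codisjoint (pB z)
      have h1 : (pB z : P) = (k : P) + (k' : P) := by
        rw [← hkk']; rfl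
      rw [h1, ← add_assoc]
      refine Submodule.add_mem_sup (Submodule.add_mem_sup (pA z).2 ?_) ?_
      · exact ⟨k, hk, rfl⟩
      · exact ⟨k', hk', rfl⟩

/-- Bass: a countably generated big projective module is free. -/
theorem free_of_countablyGenerated_big (hbig : Big R P)
    (hc : ∃ s : Set P, s.Countable ∧ Submodule.span R s = ⊤) : Module.Free R P := by
  classical
  obtain ⟨s, hs, hspan⟩ := hc
  obtain ⟨g, hg⟩ : ∃ g : ℕ → P, insert (0 : P) s = Set.range g :=
    (hs.insert 0).exists_eq_range ⟨0, Set.mem_insert _ _⟩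
  have hgspan : Submodule.span R (Set.range g) = ⊤ := by
    rw [← hg, eq_top_iff, ← hspan]
    exact Submodule.span_mono (Set.subset_insert _ _)
  have step : ∀ (X : {AB : Submodule R P × Submodule R P // IsCompl AB.1 AB.2 ∧ AB.1.FG}) (x : P),
      ∃ F B' : Submodule R P, F ≤ X.1.2 ∧ Module.Free R F ∧ F.FG ∧ x ∈ X.1.1 ⊔ F ∧
        IsCompl (X.1.1 ⊔ F) B' := fun X x => exists_step_big hbig _ _ X.2.1 X.2.2 x
  choose Fc Bc hFB hFree hFfg hmem hcompl using step
  let seq : ℕ → {AB : Submodule R P × Submodule R P // IsCompl AB.1 AB.2 ∧ AB.1.FG} := fun n =>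
    Nat.rec ⟨(⊥, ⊤), isCompl_bot_top, Submodule.fg_bot⟩
      (fun n X => ⟨(X.1.1 ⊔ Fc X (g n), Bc X (g n)), hcompl X (g n),
        X.2.2.sup (hFfg X (g n))⟩) n
  let A : ℕ → Submodule R P := fun n => (seq n).1.1
  let F : ℕ → Submodule R P := fun n => Fc (seq n) (g n)
  have h0 : A 0 = ⊥ := rfl
  have hsucc : ∀ n, A (n + 1) = A n ⊔ F n := fun n => rfl
  have hdisj : ∀ n, A n ⊓ F n = ⊥ := fun n =>
    le_bot_iff.mp (le_trans (inf_le_inf_left _ (hFB _ _)) (seq n).2.1.inf_eq_bot.le)
  have htop : ⨆ n, A n = ⊤ := by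
    rw [eq_top_iff, ← hgspan, Submodule.span_le]
    rintro _ ⟨n, rfl⟩
    have : g n ∈ A (n + 1) := hmem (seq n) (g n)
    exact (le_iSup A (n + 1)) this
  have hint := isInternal_of_nat_devissage A F h0 hdisj hsucc htop
  have : ∀ n, Module.Free R (F n) := fun n => hFree _ _
  exact Module.Free.of_basis (hint.collectedBasis fun n => Module.Free.chooseBasis R (F n))

end Groth.Agent.Lib.Helper31.BassBig
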