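import Groth.Agent.Lib.Helper31.BassBig
import Groth.Agent.S0582

/-!
# From "infinite rank at every maximal ideal" (localisation form) to `Big` (helper31)
-/

set_option autoImplicit false
universe u

namespace Groth.Agent.Lib.Helper31.BassBig

open IsLocalRing

/-- If `P` is projective and `P_𝔪` is not finite over `R_𝔪` for every maximal ideal, then
`P ⧸ 𝔪 P` is not finitely generated for every maximal ideal. -/
theorem big_of_localization (R : Type u) [CommRing R] (P : Type u) [AddCommGroup P] [Module R P]
    [Module.Projective R P]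
    (hP : ∀ (m : Ideal R) [m.IsMaximal],
      ¬ Module.Finite (Localization.AtPrime m) (LocalizedModule m.primeCompl P)) : Big R P := by
  classical
  intro 𝔪 h𝔪 G hG
  apply hP 𝔪
  have hfree : Module.Free (Localization.AtPrime 𝔪) (LocalizedModule 𝔪.primeCompl P) :=
    Groth.Agent.S0582.result _ _
  obtain ⟨⟨ι, b⟩⟩ := hfree
  let ℓ : P →ₗ[R] LocalizedModule 𝔪.primeCompl P := LocalizedModule.mkLinearMap 𝔪.primeCompl P
  let T' : Finset ι := G.biUnion fun g => (b.repr (ℓ g)).support
  have hall : ∀ i, i ∈ T' := by
    intro i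
    by_contra hi
    let c : LocalizedModule 𝔪.primeCompl P →ₗ[Localization.AtPrime 𝔪] Localization.AtPrime 𝔪 :=
      b.coord i
    let W : Submodule R P := Submodule.comap ((c.restrictScalars R) ∘ₗ ℓ)
      ((maximalIdeal (Localization.AtPrime 𝔪)).restrictScalars R)
    have hW1 : Submodule.span R (G : Set P) ≤ W := by
      rw [Submodule.span_le]
      intro g hg
      have h0 : c (ℓ g) = 0 := by
        have : i ∉ (b.repr (ℓ g)).support := fun h =>
          hi (Finset.mem_biUnion.2 ⟨g, hg, h⟩)
        simpa [c, Module.Basis.coord_apply] using Finsupp.notMem_support_iff.mp this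
      change c (ℓ g) ∈ maximalIdeal _
      rw [h0]; exact Ideal.zero_mem _
    have hW2 : 𝔪 • (⊤ : Submodule R P) ≤ W := by
      rw [Submodule.smul_le]
      intro a ha x _
      change c (ℓ (a • x)) ∈ maximalIdeal _
      rw [map_smul, ← algebraMap_smul (Localization.AtPrime 𝔪) a (ℓ x), map_smul, smul_eq_mul]
      exact Ideal.mul_mem_right _ _ ((IsLocalization.AtPrime.to_map_mem_maximal_iff _ 𝔪 a).2 ha)
    have hWtop : W = ⊤ := by
      rw [eq_top_iff, ← hG]; exact sup_le hW1 hW2
    have hcl : ∀ y : LocalizedModule 𝔪.primeCompl P, c y ∈ maximalIdeal (Localization.AtPrime 𝔪) := by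
      intro y
      obtain ⟨⟨x, s⟩, hxs⟩ := IsLocalizedModule.surj 𝔪.primeCompl ℓ y
      have hx : c (ℓ x) ∈ maximalIdeal (Localization.AtPrime 𝔪) := by
        have : x ∈ W := hWtop ▸ Submodule.mem_top
        exact this
      have hs : c (ℓ x) = algebraMap R (Localization.AtPrime 𝔪) s * c y := by
        rw [← hxs, Submonoid.smul_def, ← algebraMap_smul (Localization.AtPrime 𝔪) (s : R) y,
          map_smul, smul_eq_mul]
      rw [hs] at hx
      have hunit : IsUnit (algebraMap R (Localization.AtPrime 𝔪) s) :=
        IsLocalization.map_units _ s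
      exact (Ideal.unit_mul_mem_iff_mem _ hunit).1 hx
    have h1 := hcl (b i)
    have : c (b i) = 1 := by simp [c, Module.Basis.coord_apply]
    rw [this] at h1
    exact (Ideal.ne_top_iff_one _).1 (IsLocalRing.maximalIdeal.isMaximal _).ne_top h1
  have : Fintype ι := ⟨T', hall⟩
  exact Module.Finite.of_basis b

end Groth.Agent.Lib.Helper31.BassBig
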