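import Groth.Agent.Lib.Helper31.BassBig
import Groth.Agent.S7109

/-!
# Big projective modules: every element lies in a finite free direct summand (helper31)
-/

set_option autoImplicit false
universe u v w

namespace Groth.Agent.Lib.Helper31.BassBig

variable {R : Type u} [CommRing R]

section BigLemmas

variable {X : Type v} [AddCommGroup X] [Module R X] {Y : Type w} [AddCommGroup Y] [Module R Y]

theorem big_of_surjective (f : X →ₗ[R] Y) (hf : Function.Surjective f) (hY : Big R Y) :
    Big R X := by
  classical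
  intro 𝔪 h𝔪 G hG
  apply hY 𝔪 (G.image f)
  have := congrArg (Submodule.map f) hG
  rw [Submodule.map_sup, Submodule.map_span, Submodule.map_smul'', Submodule.map_top,
    LinearMap.range_eq_top.2 hf] at this
  rw [Finset.coe_image]
  exact this

theorem big_of_isCompl_fg {A B : Submodule R X} (h : IsCompl A B) (hA : A.FG) (hX : Big R X) :
    Big R B := by
  classical
  intro 𝔪 h𝔪 G hG
  obtain ⟨GA, hGA⟩ := hA
  apply hX 𝔪 (GA ∪ G.image (fun b : B => (b : X)))
  rw [eq_top_iff]
  intro x _
  obtain ⟨a, b, ha, hb, rfl⟩ := Submodule.codisjoint_iff_exists_add_eq.1 h.codisjoint x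
  have hb' : (⟨b, hb⟩ : B) ∈ Submodule.span R (G : Set B) ⊔ 𝔪 • (⊤ : Submodule R B) := by
    rw [hG]; exact Submodule.mem_top
  obtain ⟨g, hg, y, hy, hgy⟩ := Submodule.mem_sup.1 hb'
  have hb2 : b = (g : X) + (y : X) := by
    have := congrArg (fun z : B => (z : X)) hgy
    simpa using this.symm
  rw [hb2, ← add_assoc]
  refine Submodule.add_mem_sup ?_ ?_
  · refine Submodule.add_mem _ ?_ ?_
    · have : A ≤ Submodule.span R ((GA ∪ G.image (fun b : B => (b : X)) : Finset X) : Set X) := by
        rw [← hGA]; apply Submodule.span_mono; simp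
      exact this ha
    · have : Submodule.map B.subtype (Submodule.span R (G : Set B)) ≤
          Submodule.span R ((GA ∪ G.image (fun b : B => (b : X)) : Finset X) : Set X) := by
        rw [Submodule.map_span]; apply Submodule.span_mono
        rintro _ ⟨b, hb, rfl⟩
        simp only [Finset.coe_union, Finset.coe_image]
        exact Or.inr ⟨b, hb, rfl⟩
      exact this ⟨g, hg, rfl⟩
  · have : Submodule.map B.subtype (𝔪 • (⊤ : Submodule R B)) ≤ 𝔪 • (⊤ : Submodule R X) := by
      rw [Submodule.map_smul'']; exact Submodule.smul_mono le_rfl le_top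
    exact this ⟨y, hy, rfl⟩

end BigLemmas

/-- `x` lies in a finite free direct summand of `X`. -/
def HasFFS (R : Type u) [CommRing R] (X : Type v) [AddCommGroup X] [Module R X] (x : X) : Prop :=
  ∃ K K' : Submodule R X, IsCompl K K' ∧ Module.Free R K ∧ Module.Finite R K ∧ x ∈ K

theorem HasFFS.map {X : Type v} [AddCommGroup X] [Module R X] {Y : Type w} [AddCommGroup Y]
    [Module R Y] (e : X ≃ₗ[R] Y) {x : X} (h : HasFFS R X x) : HasFFS R Y (e x) := by
  obtain ⟨K, K', hKK', hfree, hfin, hx⟩ := h
  refine ⟨K.map (e : X →ₗ[R] Y), K'.map (e : X →ₗ[R] Y), hKK'.map (Submodule.orderIsoMapComap e),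
    Module.Free.of_equiv (e.submoduleMap K), Module.Finite.equiv (e.submoduleMap K),
    ⟨x, hx, rfl⟩⟩


section Step

variable [IsNoetherianRing (R ⧸ (⊥ : Ideal R).jacobson)] {P : Type v} [AddCommGroup P] [Module R P]
  [Module.Projective R P]

/-- One coordinate less. -/
theorem step1 (hbig : Big R P) (s : P) (h : HasFFS R (R × P) ((0 : R), s)) : HasFFS R P s := by
  classical
  obtain ⟨K, K', hKK', hfree, hfin, hsK⟩ := h
  let prC : (R × P) →ₗ[R] K' := Submodule.projectionOnto K' K hKK'.symm
  have hprC_ker : ∀ y, prC y = 0 ↔ y ∈ K := fun y =>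
    Submodule.projectionOnto_apply_eq_zero_iff hKK'.symm
  have hprC_K' : ∀ c : K', prC (c : R × P) = c := fun c =>
    Submodule.projectionOnto_apply_left hKK'.symm c
  have hprojC : Module.Projective R K' :=
    Module.Projective.of_split K'.subtype prC (LinearMap.ext fun c => by simp [hprC_K'])
  have hbigX : Big R (R × P) :=
    big_of_surjective (LinearMap.snd R R P) LinearMap.snd_surjective hbig
  have hKfg : K.FG := Module.Finite.iff_fg.1 hfin
  have hbigC : Big R K' := big_of_isCompl_fg hKK' hKfg hbigX
  let t : R × P := (1, 0)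
  let M : Submodule R K' := LinearMap.range (prC ∘ₗ LinearMap.inr R R P)
  have hM : Submodule.span R {prC t} ⊔ M = ⊤ := by
    rw [eq_top_iff]
    intro c _
    have h1 : (c : R × P) = (c : R × P).1 • t + (0, (c : R × P).2) := by
      ext <;> simp [t]
    have h2 : c = (c : R × P).1 • prC t + prC (0, (c : R × P).2) := by
      rw [← map_smul, ← map_add, ← h1, hprC_K']
    rw [h2]
    exact Submodule.add_mem_sup (Submodule.smul_mem _ _ (Submodule.mem_span_singleton_self _))
      ⟨_, rfl⟩
  obtain ⟨m', ⟨m, rfl⟩, φ, hφ⟩ := exists_unimodular_add hbigC (prC t) M hM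
  let lam : (R × P) →ₗ[R] R := φ ∘ₗ prC
  have hlam_t' : lam (1, m) = 1 := by
    have h1 : ((1 : R), m) = t + (0, m) := by ext <;> simp [t]
    rw [h1]
    simpa [lam] using hφ
  have hlam_K : ∀ k ∈ K, lam k = 0 := fun k hk => by simp [lam, (hprC_ker k).2 hk]
  let ι : P →ₗ[R] (R × P) :=
    LinearMap.inr R R P - LinearMap.smulRight (lam ∘ₗ LinearMap.inr R R P) ((1 : R), m)
  have hι : ∀ p, ι p = (0, p) - lam (0, p) • ((1 : R), m) := fun p => by simp [ι]
  have hlamι : ∀ p, lam (ι p) = 0 := by
    intro p
    rw [hι, map_sub, map_smul, hlam_t']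
    simp
  have hι_inj : Function.Injective ι := by
    rw [injective_iff_map_eq_zero]
    intro p hp
    rw [hι] at hp
    have h1 := congrArg Prod.fst hp
    have h2 := congrArg Prod.snd hp
    simp only [Prod.fst_sub, Prod.smul_fst, smul_eq_mul, mul_one, zero_sub, Prod.fst_zero,
      neg_eq_zero] at h1
    simp only [Prod.snd_zero, h1, zero_smul, sub_zero] at h2
    exact h2
  have hι_surj : ∀ y, lam y = 0 → ∃ p, ι p = y := by
    rintro ⟨r, p⟩ hy
    refine ⟨p - r • m, ?_⟩
    have h1 : ((0 : R), p - r • m) = (r, p) - r • ((1 : R), m) := by ext <;> simp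
    have h2 : lam (0, p - r • m) = -r := by
      rw [h1, map_sub, map_smul, hy, hlam_t']; simp
    rw [hι, h2]
    ext <;> simp
  refine ⟨K.comap ι, K'.comap ι, ?_, ?_, ?_, ?_⟩
  · rw [isCompl_iff]
    constructor
    · rw [Submodule.disjoint_def]
      intro x hx hx'
      have h0 : ι x = 0 := (Submodule.disjoint_def.1 hKK'.disjoint) (ι x) hx hx'
      exact hι_inj (by rw [h0, map_zero])
    · rw [Submodule.codisjoint_iff_exists_add_eq]
      intro x
      obtain ⟨k, k', hk, hk', hsum⟩ :=
        Submodule.codisjoint_iff_exists_add_eq.1 hKK'.codisjoint (ι x)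
      have hk'lam : lam k' = 0 := by
        have h1 := hlamι x
        rw [← hsum, map_add, hlam_K k hk, zero_add] at h1
        exact h1
      obtain ⟨a, ha⟩ := hι_surj k (hlam_K k hk)
      obtain ⟨a', ha'⟩ := hι_surj k' hk'lam
      refine ⟨a, a', ?_, ?_, hι_inj (by rw [map_add, ha, ha', hsum])⟩
      · change ι a ∈ K
        rw [ha]; exact hk
      · change ι a' ∈ K'
        rw [ha']; exact hk'
  · let f : K.comap ι →ₗ[R] K := ι.restrict (fun x hx => hx)
    have hf : Function.Bijective f := by
      constructor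
      · intro x y hxy
        have := congrArg (fun z : K => (z : R × P)) hxy
        exact Subtype.ext (hι_inj this)
      · intro k
        obtain ⟨p, hp⟩ := hι_surj k (hlam_K k k.2)
        exact ⟨⟨p, by change ι p ∈ K; rw [hp]; exact k.2⟩, Subtype.ext hp⟩
    exact Module.Free.of_equiv (LinearEquiv.ofBijective f hf).symm
  · let f : K.comap ι →ₗ[R] K := ι.restrict (fun x hx => hx)
    have hf : Function.Bijective f := by
      constructor
      · intro x y hxy
        have := congrArg (fun z : K => (z : R × P)) hxy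
        exact Subtype.ext (hι_inj this)
      · intro k
        obtain ⟨p, hp⟩ := hι_surj k (hlam_K k k.2)
        exact ⟨⟨p, by change ι p ∈ K; rw [hp]; exact k.2⟩, Subtype.ext hp⟩
    exact Module.Finite.equiv (LinearEquiv.ofBijective f hf).symm
  · change ι s ∈ K
    rw [hι, hlam_K _ hsK, zero_smul, sub_zero]
    exact hsK


/-- Removing `n` coordinates. -/
theorem stepN (n : ℕ) : ∀ (hbig : Big R P) (s : P),
    HasFFS R ((Fin n → R) × P) ((0 : Fin n → R), s) → HasFFS R P s := by
  induction n with
  | zero =>
    intro _ s h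
    have := h.map (LinearEquiv.uniqueProd (R := R) (M := P) (M₂ := Fin 0 → R))
    simpa using this
  | succ n ih =>
    intro hbig s h
    let e : ((Fin (n + 1) → R) × P) ≃ₗ[R] R × ((Fin n → R) × P) :=
      ((Fin.consLinearEquiv R (fun _ : Fin (n + 1) => R)).symm.prodCongr (LinearEquiv.refl R P)) ≪≫ₗ
        (LinearEquiv.prodAssoc R R (Fin n → R) P)
    have he : e ((0 : Fin (n + 1) → R), s) = ((0 : R), ((0 : Fin n → R), s)) := by
      simp only [e, LinearEquiv.trans_apply, LinearEquiv.prodCongr_apply, map_zero,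
        LinearEquiv.refl_apply]
      rfl
    have h1 := h.map e
    rw [he] at h1
    have hbig' : Big R ((Fin n → R) × P) :=
      big_of_surjective (LinearMap.snd R (Fin n → R) P) LinearMap.snd_surjective hbig
    have h2 := step1 hbig' ((0 : Fin n → R), s) h1
    exact ih hbig s h2

end Step

section Final

variable [IsNoetherianRing (R ⧸ (⊥ : Ideal R).jacobson)] {P : Type u} [AddCommGroup P] [Module R P]
  [Module.Projective R P]

/-- Every element of a big projective module lies in a finite free direct summand. -/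
theorem hasFFS_of_big (hbig : Big R P) (s : P) : HasFFS R P s := by
  obtain ⟨n, K, K', h1, h2, h3, h4⟩ := Groth.Agent.S7109.result R P s
  exact stepN n hbig s ⟨K, K', h1, h2, h3, h4⟩

end Final

end Groth.Agent.Lib.Helper31.BassBig
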