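import Mathlib.CategoryTheory.Equivalence
import Mathlib.CategoryTheory.Bicategory.Basic

set_option autoImplicit false
open CategoryTheory
universe w v u

namespace Groth.Agent.Lib.Helper31

theorem bicat_precomp_isEquivalence {B : Type u} [Bicategory.{w, v} B] {a b : B} (c : B) (f : a ⟶ b) (g : b ⟶ a)
    (e1 : f ≫ g ≅ 𝟙 a) (e2 : g ≫ f ≅ 𝟙 b) : (Bicategory.precomp c f).IsEquivalence := by
  let η : 𝟭 (b ⟶ c) ≅ Bicategory.precomp c f ⋙ Bicategory.precomp c g :=
    (Bicategory.leftUnitorNatIso b c).symm ≪≫ (Bicategory.precomposing _ _ c).mapIso e2.symm ≪≫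
      Bicategory.associatorNatIsoRight g f c
  let ε : Bicategory.precomp c g ⋙ Bicategory.precomp c f ≅ 𝟭 (a ⟶ c) :=
    (Bicategory.associatorNatIsoRight f g c).symm ≪≫ (Bicategory.precomposing _ _ c).mapIso e1 ≪≫
      Bicategory.leftUnitorNatIso a c
  exact (CategoryTheory.Equivalence.mk (Bicategory.precomp c f) (Bicategory.precomp c g) η ε).isEquivalence_functor

theorem bicat_postcomp_isEquivalence {B : Type u} [Bicategory.{w, v} B] {b c : B} (a : B) (f : b ⟶ c) (g : c ⟶ b)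
    (e1 : f ≫ g ≅ 𝟙 b) (e2 : g ≫ f ≅ 𝟙 c) : (Bicategory.postcomp a f).IsEquivalence := by
  let η : 𝟭 (a ⟶ b) ≅ Bicategory.postcomp a f ⋙ Bicategory.postcomp a g :=
    (Bicategory.rightUnitorNatIso a b).symm ≪≫ (Bicategory.postcomposing a _ _).mapIso e1.symm ≪≫
      (Bicategory.associatorNatIsoLeft a f g).symm
  let ε : Bicategory.postcomp a g ⋙ Bicategory.postcomp a f ≅ 𝟭 (a ⟶ c) :=
    (Bicategory.associatorNatIsoLeft a g f) ≪≫ (Bicategory.postcomposing a _ _).mapIso e2 ≪≫
      Bicategory.rightUnitorNatIso a c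
  exact (CategoryTheory.Equivalence.mk (Bicategory.postcomp a f) (Bicategory.postcomp a g) η ε).isEquivalence_functor

end Groth.Agent.Lib.Helper31
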