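import Groth.Agent.Lib.Helper31.BootstrapSix

/-! `dim (A/p)_q` is the dimension of the interval `[p, q]` of the spectrum (helper31). -/

set_option autoImplicit false
universe u

namespace Groth.Agent.Lib.Helper31
namespace DimBetween

variable {A : Type u} [CommRing A]

theorem dimBetween_eq_krullDim_Icc (p q : PrimeSpectrum A) (hpq : p ≤ q) :
    Formal2.dimBetween A p.asIdeal q.asIdeal = Order.krullDim (Set.Icc p q) := by
  have hdisj : ∀ y : PrimeSpectrum A, y ≤ q →
      Disjoint (q.asIdeal.primeCompl : Set A) (y.asIdeal : Set A) := by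
    intro y hy
    rw [Set.disjoint_left]
    intro x hx hxp
    exact hx (hy hxp)
  have hprime : ∀ y : PrimeSpectrum A, y ≤ q →
      (y.asIdeal.map (algebraMap A (Localization.AtPrime q.asIdeal))).IsPrime := fun y hy =>
    IsLocalization.isPrime_of_isPrime_disjoint q.asIdeal.primeCompl _ _ y.2 (hdisj y hy)
  let P : PrimeSpectrum (Localization.AtPrime q.asIdeal) := ⟨_, hprime p hpq⟩
  have hqB : (IsLocalRing.maximalIdeal (Localization.AtPrime q.asIdeal)).comap
      (algebraMap A (Localization.AtPrime q.asIdeal)) = q.asIdeal :=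
    Localization.AtPrime.under_maximalIdeal
  show ringKrullDim (Localization.AtPrime q.asIdeal ⧸ P.asIdeal) = _
  rw [← BootstrapSix.krullDim_Icc_closedPoint P]
  apply Order.krullDim_eq_of_orderIso
  refine
    { toFun := fun x => ⟨PrimeSpectrum.comap (algebraMap A (Localization.AtPrime q.asIdeal)) x.1,
        ?_, ?_⟩
      invFun := fun y => ⟨⟨y.1.asIdeal.map (algebraMap A (Localization.AtPrime q.asIdeal)),
        hprime y.1 y.2.2⟩, ?_, ?_⟩
      left_inv := ?_
      right_inv := ?_
      map_rel_iff' := ?_ }
  · show p.asIdeal ≤ x.1.asIdeal.comap (algebraMap A (Localization.AtPrime q.asIdeal))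
    rw [← Ideal.map_le_iff_le_comap]
    exact x.2.1
  · show x.1.asIdeal.comap (algebraMap A (Localization.AtPrime q.asIdeal)) ≤ q.asIdeal
    exact (Ideal.comap_mono (IsLocalRing.le_maximalIdeal x.1.2.ne_top)).trans (le_of_eq hqB)
  · show p.asIdeal.map (algebraMap A (Localization.AtPrime q.asIdeal)) ≤
      y.1.asIdeal.map (algebraMap A (Localization.AtPrime q.asIdeal))
    exact Ideal.map_mono y.2.1
  · exact IsLocalRing.le_maximalIdeal (hprime y.1 y.2.2).ne_top
  · intro x
    apply Subtype.ext
    apply PrimeSpectrum.ext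
    exact IsLocalization.map_under q.asIdeal.primeCompl (Localization.AtPrime q.asIdeal) x.1.asIdeal
  · intro y
    apply Subtype.ext
    apply PrimeSpectrum.ext
    exact IsLocalization.under_map_of_isPrime_disjoint q.asIdeal.primeCompl
      (Localization.AtPrime q.asIdeal) y.1.2 (hdisj y.1 y.2.2)
  · intro x x'
    constructor
    · intro h
      have h' : x.1.asIdeal.comap (algebraMap A (Localization.AtPrime q.asIdeal)) ≤
          x'.1.asIdeal.comap (algebraMap A (Localization.AtPrime q.asIdeal)) := h
      have h1 := Ideal.map_mono (f := algebraMap A (Localization.AtPrime q.asIdeal)) h'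
      have e1 := IsLocalization.map_under q.asIdeal.primeCompl (Localization.AtPrime q.asIdeal)
        x.1.asIdeal
      have e2 := IsLocalization.map_under q.asIdeal.primeCompl (Localization.AtPrime q.asIdeal)
        x'.1.asIdeal
      show x.1.asIdeal ≤ x'.1.asIdeal
      calc x.1.asIdeal = _ := e1.symm
        _ ≤ _ := h1
        _ = _ := e2
    · intro h
      exact Ideal.comap_mono h

end DimBetween
end Groth.Agent.Lib.Helper31
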