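import Groth.Agent.Lib.Helper31.LocComplIso
import Groth.Agent.Lib.Helper31.DimBetween
import Groth.Agent.Lib.Helper87.GrDepth3

/-! The bootstrap conditions pass to the `I`-adic completion (helper31). -/

set_option autoImplicit false
set_option linter.unusedSectionVars false
set_option linter.style.haveILetI false
universe u
open TensorProduct

namespace Groth.Agent.Lib.Helper31
namespace BootstrapCompl

open Groth.Agent.Lib.Helper60 Groth.Agent.Lib.Helper29

section semilinear

variable {A C₀ C₁ M : Type u} [CommRing A] [CommRing C₀] [CommRing C₁] [Algebra A C₀]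
  [Algebra A C₁] [AddCommGroup M] [Module A M] (φ : C₀ ≃ₐ[A] C₁)

theorem congr_smul (c : C₀) (x : C₀ ⊗[A] M) :
    TensorProduct.congr φ.toLinearEquiv (LinearEquiv.refl A M) (c • x) =
      φ c • TensorProduct.congr φ.toLinearEquiv (LinearEquiv.refl A M) x := by
  induction x with
  | zero => rw [smul_zero, map_zero, smul_zero]
  | tmul c' m =>
    rw [TensorProduct.smul_tmul', TensorProduct.congr_tmul, TensorProduct.congr_tmul,
      TensorProduct.smul_tmul']
    simp only [smul_eq_mul, AlgEquiv.toLinearEquiv_apply, map_mul]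
  | add x y hx hy => rw [smul_add, map_add, hx, hy, map_add, smul_add]

end semilinear

section six

variable (A : Type u) [CommRing A] [IsNoetherianRing A] (I : Ideal A)
  (M : Type u) [AddCommGroup M] [Module A M] [Module.Finite A M]
  (q : PrimeSpectrum (AdicCompletion I A))

/-- `(A_{q₀})^`. -/
abbrev C₀ : Type u := AdicCompletion (LocComplIso.I₀ I q.asIdeal) (LocComplIso.B₀ (A := A) q.asIdeal)
/-- `(A^_q)^`. -/
abbrev C₁ : Type u := AdicCompletion (LocComplIso.I₁ I q.asIdeal) (LocComplIso.B q.asIdeal)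
/-- `(M_{q₀})^`. -/
abbrev N₀ : Type u := AdicCompletion (LocComplIso.I₀ I q.asIdeal)
  (LocalizedModule (LocComplIso.q₀ (A := A) q.asIdeal).primeCompl M)
/-- `(M^_q)^`. -/
abbrev N₁ : Type u := AdicCompletion (LocComplIso.I₁ I q.asIdeal)
  (LocalizedModule q.asIdeal.primeCompl (AdicCompletion I M))

variable (hIq : I.map (algebraMap A (AdicCompletion I A)) ≤ q.asIdeal)

theorem finite_adic {R : Type u} [CommRing R] [IsNoetherianRing R] (J : Ideal R) (X : Type u)
    [AddCommGroup X] [Module R X] [Module.Finite R X] :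
    Module.Finite (AdicCompletion J R) (AdicCompletion J X) :=
  Module.Finite.equiv (AdicCompletion.ofTensorProductEquivOfFiniteNoetherian J X)

/-- the `A`-algebra isomorphism of completions. -/
noncomputable def φA : C₀ A I q ≃ₐ[A] C₁ A I q :=
  AlgEquiv.ofRingEquiv (f := LocComplIso.φ I q.asIdeal (IsNoetherian.noetherian I) hIq)
    (LocComplIso.φ_algebraMap I q.asIdeal (IsNoetherian.noetherian I) hIq)

/-- `(M^_q)^ ≅ (A^_q)^ ⊗_A M`. -/
noncomputable def e₁ : N₁ A I M q ≃ₗ[C₁ A I q] (C₁ A I q) ⊗[A] M :=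
  haveI : IsNoetherianRing (AdicCompletion I A) := Groth.Agent.S0543.result A I
  haveI : Module.Finite (AdicCompletion I A) (AdicCompletion I M) := finite_adic I M
  (Bootstrap.cplEquiv (AdicCompletion I A) (I.map (algebraMap A (AdicCompletion I A))) q.asIdeal
      (AdicCompletion I M)) ≪≫ₗ
    (TensorProduct.AlgebraTensorModule.congr (LinearEquiv.refl _ _)
      (AdicCompletion.ofTensorProductEquivOfFiniteNoetherian I M).symm) ≪≫ₗ
    (TensorProduct.AlgebraTensorModule.cancelBaseChange A (AdicCompletion I A) _ _ M)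

/-- the semilinear isomorphism `(M_{q₀})^ ≅ (M^_q)^`. -/
noncomputable def f : N₀ A I M q ≃+ N₁ A I M q :=
  ((Bootstrap.cplEquiv A I (LocComplIso.q₀ (A := A) q.asIdeal) M).toAddEquiv.trans
    (TensorProduct.congr (φA A I q hIq).toLinearEquiv (LinearEquiv.refl A M)).toAddEquiv).trans
    (e₁ A I M q).symm.toAddEquiv

theorem f_smul (c : C₀ A I q) (n : N₀ A I M q) :
    f A I M q hIq (c • n) = (φA A I q hIq) c • f A I M q hIq n := by
  show (e₁ A I M q).symm (TensorProduct.congr (φA A I q hIq).toLinearEquiv (LinearEquiv.refl A M)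
    ((Bootstrap.cplEquiv A I (LocComplIso.q₀ (A := A) q.asIdeal) M) (c • n))) =
    (φA A I q hIq) c • (e₁ A I M q).symm (TensorProduct.congr (φA A I q hIq).toLinearEquiv
      (LinearEquiv.refl A M) ((Bootstrap.cplEquiv A I (LocComplIso.q₀ (A := A) q.asIdeal) M) n))
  rw [map_smul, congr_smul, map_smul]

theorem map_map_C₁ : (I.map (algebraMap A (AdicCompletion I A))).map
    (algebraMap (AdicCompletion I A) (C₁ A I q)) = I.map (algebraMap A (C₁ A I q)) := by
  rw [Ideal.map_map, ← IsScalarTower.algebraMap_eq]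

include hIq in
set_option maxHeartbeats 800000 in
theorem six_transfer (s : ℕ)
    (h6 : ∀ p' : PrimeSpectrum (C₀ A I q), ¬ I.map (algebraMap A (C₀ A I q)) ≤ p'.asIdeal →
      (∀ q' : PrimeSpectrum (C₀ A I q), p' ≤ q' → I.map (algebraMap A (C₀ A I q)) ≤ q'.asIdeal →
        q'.asIdeal.IsMaximal) →
      (s : ℕ∞) < LocCoh.depth (Localization.AtPrime p'.asIdeal)
        (LocalizedModule p'.asIdeal.primeCompl (N₀ A I M q)))
    (p' : PrimeSpectrum (C₁ A I q))
    (hp' : ¬ (I.map (algebraMap A (AdicCompletion I A))).map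
      (algebraMap (AdicCompletion I A) (C₁ A I q)) ≤ p'.asIdeal)
    (hmax : ∀ q' : PrimeSpectrum (C₁ A I q), p' ≤ q' →
      (I.map (algebraMap A (AdicCompletion I A))).map
        (algebraMap (AdicCompletion I A) (C₁ A I q)) ≤ q'.asIdeal → q'.asIdeal.IsMaximal) :
    (s : ℕ∞) < LocCoh.depth (Localization.AtPrime p'.asIdeal)
      (LocalizedModule p'.asIdeal.primeCompl (N₁ A I M q)) := by
  rw [map_map_C₁] at hp'
  simp only [map_map_C₁] at hmax
  have hNB : IsNoetherianRing (LocComplIso.B₀ (A := A) q.asIdeal) :=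
    IsLocalization.isNoetherianRing (LocComplIso.q₀ (A := A) q.asIdeal).primeCompl _ inferInstance
  haveI hNC : IsNoetherianRing (C₀ A I q) :=
    Groth.Agent.S0543.result (LocComplIso.B₀ (A := A) q.asIdeal) (LocComplIso.I₀ I q.asIdeal)
  haveI hfin : Module.Finite (C₀ A I q) (N₀ A I M q) :=
    Module.Finite.equiv (Bootstrap.cplEquiv A I (LocComplIso.q₀ (A := A) q.asIdeal) M).symm
  set φ := φA A I q hIq with hφ
  have hφa : ∀ a : A, φ (algebraMap A (C₀ A I q) a) = algebraMap A (C₁ A I q) a :=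
    fun a => φ.commutes a
  let P : PrimeSpectrum (C₀ A I q) :=
    ⟨p'.asIdeal.comap ((φ : C₀ A I q ≃+* C₁ A I q) : C₀ A I q →+* C₁ A I q), inferInstance⟩
  have hdep := (Groth.Agent.Lib.Helper87.GrDepth.depth_and_supportDim_eq_of_semilinearEquiv
    (φ : C₀ A I q ≃+* C₁ A I q) (f A I M q hIq) (f_smul A I M q hIq) p'.asIdeal P.asIdeal rfl).1
  rw [hdep]
  apply h6 P
  · intro hle
    apply hp'
    rw [Ideal.map_le_iff_le_comap]
    intro a ha
    have h1 : algebraMap A (C₀ A I q) a ∈ P.asIdeal := hle (Ideal.mem_map_of_mem _ ha)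
    have h2 : φ (algebraMap A (C₀ A I q) a) ∈ p'.asIdeal := h1
    rw [hφa] at h2
    exact h2
  · intro q₀' hPq hIq₀
    let Q' : PrimeSpectrum (C₁ A I q) :=
      ⟨q₀'.asIdeal.comap ((φ.symm : C₁ A I q ≃+* C₀ A I q) : C₁ A I q →+* C₀ A I q), inferInstance⟩
    have h1 : p' ≤ Q' := by
      intro x hx
      show φ.symm x ∈ q₀'.asIdeal
      apply hPq
      show φ (φ.symm x) ∈ p'.asIdeal
      rw [AlgEquiv.apply_symm_apply]
      exact hx
    have h2 : I.map (algebraMap A (C₁ A I q)) ≤ Q'.asIdeal := by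
      rw [Ideal.map_le_iff_le_comap]
      intro a ha
      show φ.symm (algebraMap A (C₁ A I q) a) ∈ q₀'.asIdeal
      rw [← hφa, AlgEquiv.symm_apply_apply]
      exact hIq₀ (Ideal.mem_map_of_mem _ ha)
    have h3 := hmax Q' h1 h2
    have h4 : q₀'.asIdeal = Q'.asIdeal.comap
        ((φ : C₀ A I q ≃+* C₁ A I q) : C₀ A I q →+* C₁ A I q) := by
      ext x
      show x ∈ q₀'.asIdeal ↔ φ.symm (φ x) ∈ q₀'.asIdeal
      rw [AlgEquiv.symm_apply_apply]
    rw [h4]
    exact Ideal.comap_isMaximal_of_surjective _ (φ : C₀ A I q ≃+* C₁ A I q).surjective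

end six

section cd

variable (A : Type u) [CommRing A] [IsNoetherianRing A] (I : Ideal A)

theorem cdLE_adic (d : ℕ) (hcd : LocCoh.CdLE A I d) :
    LocCoh.CdLE (AdicCompletion I A) (I.map (algebraMap A (AdicCompletion I A))) d := by
  haveI : IsNoetherianRing (AdicCompletion I A) := Groth.Agent.S0543.result A I
  intro N _ _ i hi
  letI : Module A N := Module.compHom N (algebraMap A (AdicCompletion I A))
  haveI : IsScalarTower A (AdicCompletion I A) N :=
    ⟨fun a x n => by
      show (a • x) • n = algebraMap A (AdicCompletion I A) a • (x • n)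
      rw [Algebra.smul_def, mul_smul]⟩
  obtain ⟨φ, -⟩ := exists_lc_baseChange (R := A) (R' := AdicCompletion I A) I i N
  haveI := hcd N i hi
  exact φ.toEquiv.subsingleton

end cd

section four

variable (A : Type u) [CommRing A] [IsNoetherianRing A] (I : Ideal A)
  (M : Type u) [AddCommGroup M] [Module A M] [Module.Finite A M]

theorem four_adic (ω : Dual.D A) (hω : Dual.IsDualizing A ω) (d s : ℕ)
    (T : Set (PrimeSpectrum A))
    (h4 : ∀ p r q : PrimeSpectrum A, p ≤ r → r ≤ q → ¬ I ≤ p.asIdeal → I ≤ r.asIdeal → r ∉ T →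
      q ∈ T → (s : ℕ∞) ≤ LocCoh.depth (Localization.AtPrime p.asIdeal)
        (LocalizedModule p.asIdeal.primeCompl M) ∨ ((d + s : ℕ) : WithBot ℕ∞) <
        (LocCoh.depth (Localization.AtPrime p.asIdeal)
          (LocalizedModule p.asIdeal.primeCompl M) : WithBot ℕ∞) +
          Formal2.dimBetween A p.asIdeal q.asIdeal)
    (p r q : PrimeSpectrum (AdicCompletion I A)) (hpr : p ≤ r) (hrq : r ≤ q)
    (hp : ¬ (I.map (algebraMap A (AdicCompletion I A))) ≤ p.asIdeal)
    (hr : (I.map (algebraMap A (AdicCompletion I A))) ≤ r.asIdeal)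
    (hrT : r ∉ ((PrimeSpectrum.comap (algebraMap A (AdicCompletion I A))) ⁻¹' T))
    (hqT : q ∈ ((PrimeSpectrum.comap (algebraMap A (AdicCompletion I A))) ⁻¹' T)) :
    (s : ℕ∞) ≤ LocCoh.depth (Localization.AtPrime p.asIdeal)
        (LocalizedModule p.asIdeal.primeCompl (AdicCompletion I M)) ∨
      ((d + s : ℕ) : WithBot ℕ∞) <
        (LocCoh.depth (Localization.AtPrime p.asIdeal)
          (LocalizedModule p.asIdeal.primeCompl (AdicCompletion I M)) : WithBot ℕ∞) +
          Formal2.dimBetween (AdicCompletion I A) p.asIdeal q.asIdeal := by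
  set c := PrimeSpectrum.comap (algebraMap A (AdicCompletion I A)) with hc
  have hpr₀ : c p ≤ c r := Ideal.comap_mono hpr
  have hrq₀ : c r ≤ c q := Ideal.comap_mono hrq
  have hp₀ : ¬ I ≤ (c p).asIdeal := by
    intro h
    apply hp
    rw [Ideal.map_le_iff_le_comap]
    exact h
  have hr₀ : I ≤ (c r).asIdeal := Ideal.map_le_iff_le_comap.1 hr
  obtain ⟨h1, h2⟩ := DepthAdic.main_adic A I ω hω M p q (hpr.trans hrq) (hr.trans hrq)
  rw [DimBetween.dimBetween_eq_krullDim_Icc p q (hpr.trans hrq)]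
  rcases h4 (c p) (c r) (c q) hpr₀ hrq₀ hp₀ hr₀ hrT hqT with h | h
  · left
    exact h.trans h1
  · right
    rw [DimBetween.dimBetween_eq_krullDim_Icc (c p) (c q) (hpr₀.trans hrq₀)] at h
    rw [h2]
    exact h

end four

end BootstrapCompl
end Groth.Agent.Lib.Helper31
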