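import Groth.Agent.Lib.Helper31.DepthAdic
import Groth.Agent.Lib.Helper60.Bootstrap3
import Groth.Agent.Lib.Helper60.LocalCohBC
import Groth.Agent.Lib.Helper29.LocTransfer
import Groth.Agent.Lib.Helper29.AdicLocal
import Groth.Agent.S0327

/-! The bootstrap condition (6) on completions from the depth/dimension condition (helper31). -/

set_option autoImplicit false
set_option linter.unusedSectionVars false
set_option linter.style.haveILetI false
universe u
open CategoryTheory CategoryTheory.Limits DerivedCategory Pretriangulated TensorProduct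
attribute [local instance] HasDerivedCategory.standard

namespace Groth.Agent.Lib.Helper31
namespace BootstrapSix

open Groth.Agent.Lib.Helper6 Groth.Agent.Lib.Helper29 Groth.Agent.Lib.Helper60

section LemB

variable {R : Type u} [CommRing R] [IsLocalRing R]

/-- in a local ring, the interval from `P` to the closed point has dimension `dim R/P`. -/
theorem krullDim_Icc_closedPoint (P : PrimeSpectrum R) :
    Order.krullDim (Set.Icc P (IsLocalRing.closedPoint R)) = ringKrullDim (R ⧸ P.asIdeal) := by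
  have h : Set.Icc P (IsLocalRing.closedPoint R) = Set.Ici P := by
    ext x
    simp only [Set.mem_Icc, Set.mem_Ici, and_iff_left_iff_imp]
    intro _
    exact IsLocalRing.le_maximalIdeal x.2.ne_top
  rw [h, DimFun.ringKrullDim_quotient_eq_coheight, Order.coheight_eq_krullDim_Ici]

end LemB

section LemA

variable {A : Type u} [CommRing A] [IsNoetherianRing A]

/-- If `cd(A, I) ≤ d` and `V(p') ∩ V(IA')` is the closed point of the local `A`-algebra `A'`, then
`dim A'/p' ≤ d`. -/
theorem ringKrullDim_quotient_le_of_cdLE (I : Ideal A) (d : ℕ) (hcd : LocCoh.CdLE A I d)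
    (A' : Type u) [CommRing A'] [IsNoetherianRing A'] [IsLocalRing A'] [Algebra A A']
    (p' : PrimeSpectrum A')
    (hmax : ∀ q' : PrimeSpectrum A', p' ≤ q' → I.map (algebraMap A A') ≤ q'.asIdeal →
      q'.asIdeal.IsMaximal)
    (hI : I.map (algebraMap A A') ≤ IsLocalRing.maximalIdeal A') :
    ringKrullDim (A' ⧸ p'.asIdeal) ≤ (d : WithBot ℕ∞) := by
  haveI hloc : IsLocalRing (A' ⧸ p'.asIdeal) :=
    IsLocalRing.of_surjective' (Ideal.Quotient.mk _) Ideal.Quotient.mk_surjective
  obtain ⟨e, he⟩ := exists_nat_ringKrullDim_eq (A' ⧸ p'.asIdeal)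
  have hnt := Groth.Agent.S0327.result (A' ⧸ p'.asIdeal) e he
  have hIC : I.map (algebraMap A (A' ⧸ p'.asIdeal)) =
      (I.map (algebraMap A A')).map (Ideal.Quotient.mk p'.asIdeal) := by
    rw [Ideal.map_map]
    rfl
  have hmC : (IsLocalRing.maximalIdeal A').map (Ideal.Quotient.mk p'.asIdeal) =
      IsLocalRing.maximalIdeal (A' ⧸ p'.asIdeal) :=
    IsLocalRing.map_maximalIdeal_of_surjective _ Ideal.Quotient.mk_surjective
  have hrad : (I.map (algebraMap A (A' ⧸ p'.asIdeal))).radical =
      (IsLocalRing.maximalIdeal (A' ⧸ p'.asIdeal)).radical := by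
    rw [(IsLocalRing.maximalIdeal.isMaximal (A' ⧸ p'.asIdeal)).isPrime.radical]
    apply le_antisymm
    · rw [← (IsLocalRing.maximalIdeal.isMaximal (A' ⧸ p'.asIdeal)).isPrime.radical]
      apply Ideal.radical_mono
      rw [hIC, ← hmC]
      exact Ideal.map_mono hI
    · rw [Ideal.radical_eq_sInf]
      refine le_sInf (fun J hJ => ?_)
      obtain ⟨hJ1, hJ2⟩ := hJ
      let q'' : PrimeSpectrum A' := ⟨J.comap (Ideal.Quotient.mk p'.asIdeal), inferInstance⟩
      have h1 : p' ≤ q'' := by
        show p'.asIdeal ≤ J.comap (Ideal.Quotient.mk p'.asIdeal)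
        intro x hx
        rw [Ideal.mem_comap, Ideal.Quotient.eq_zero_iff_mem.2 hx]
        exact J.zero_mem
      have h2 : I.map (algebraMap A A') ≤ q''.asIdeal := by
        show _ ≤ J.comap (Ideal.Quotient.mk p'.asIdeal)
        rw [← Ideal.map_le_iff_le_comap, ← hIC]
        exact hJ1
      have h3 := hmax q'' h1 h2
      have h4 : q''.asIdeal = IsLocalRing.maximalIdeal A' := IsLocalRing.eq_maximalIdeal h3
      rw [← hmC, Ideal.map_le_iff_le_comap, ← h4]
  have e1 := (localCohomology.isoOfSameRadical hrad e).app (ModuleCat.of (A' ⧸ p'.asIdeal)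
    (A' ⧸ p'.asIdeal))
  haveI hnt2 : Nontrivial (LocCoh.H (I.map (algebraMap A (A' ⧸ p'.asIdeal))) e
      (A' ⧸ p'.asIdeal)) := e1.toLinearEquiv.toEquiv.nontrivial
  obtain ⟨φ, -⟩ := exists_lc_baseChange (R := A) (R' := A' ⧸ p'.asIdeal) I e (A' ⧸ p'.asIdeal)
  haveI hnt3 : Nontrivial (LocCoh.H I e (A' ⧸ p'.asIdeal)) := φ.symm.toEquiv.nontrivial
  rw [he]
  by_contra hcon
  have hlt : d < e := by
    by_contra h
    exact hcon (by exact_mod_cast (not_lt.1 h))
  exact not_subsingleton _ (hcd (A' ⧸ p'.asIdeal) e hlt)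

end LemA

section Main

variable (A : Type u) [CommRing A] [IsNoetherianRing A]

/-- `A_q`. -/
abbrev Bq (q : PrimeSpectrum A) : Type u := Localization.AtPrime q.asIdeal
/-- `I A_q`. -/
abbrev IBq (I : Ideal A) (q : PrimeSpectrum A) : Ideal (Bq A q) := I.map (algebraMap A (Bq A q))
/-- the `I`-adic completion of `A_q`. -/
abbrev Aq' (I : Ideal A) (q : PrimeSpectrum A) : Type u := AdicCompletion (IBq A I q) (Bq A q)

set_option maxHeartbeats 800000 in
theorem main (ω : Dual.D A) (hω : Dual.IsDualizing A ω) (I : Ideal A) (d : ℕ)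
    (hcd : LocCoh.CdLE A I d) (M : Type u) [AddCommGroup M] [Module A M] [Module.Finite A M]
    (s : ℕ) (q : PrimeSpectrum A) (hIq : I ≤ q.asIdeal)
    (hc : ∀ p : PrimeSpectrum A, p ≤ q → ¬ I ≤ p.asIdeal →
      (s : ℕ∞) < LocCoh.depth (Localization.AtPrime p.asIdeal)
        (LocalizedModule p.asIdeal.primeCompl M) ∨
      (((d + s : ℕ) : ℕ∞) : WithBot ℕ∞) <
        ((LocCoh.depth (Localization.AtPrime p.asIdeal)
          (LocalizedModule p.asIdeal.primeCompl M) : ℕ∞) : WithBot ℕ∞) +
          Formal2.dimBetween A p.asIdeal q.asIdeal)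
    (p' : PrimeSpectrum (Aq' A I q))
    (hp' : ¬ (I.map (algebraMap A (Aq' A I q))) ≤ p'.asIdeal)
    (hmax : ∀ q' : PrimeSpectrum (Aq' A I q), p' ≤ q' →
      (I.map (algebraMap A (Aq' A I q))) ≤ q'.asIdeal → q'.asIdeal.IsMaximal) :
    (s : ℕ∞) < LocCoh.depth (Localization.AtPrime p'.asIdeal)
      (LocalizedModule p'.asIdeal.primeCompl (AdicCompletion (IBq A I q)
        (LocalizedModule q.asIdeal.primeCompl M))) := by
  have hNB : IsNoetherianRing (Bq A q) :=
    IsLocalization.isNoetherianRing q.asIdeal.primeCompl _ inferInstance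
  have hNA' : IsNoetherianRing (Aq' A I q) := Groth.Agent.S0543.result (Bq A q) (IBq A I q)
  have hωB : Dual.IsDualizing (Bq A q) (LocDual.Gat q.asIdeal ω) :=
    LocDual.isDualizing_Gat q.asIdeal ω hω
  have hqB : (IsLocalRing.maximalIdeal (Bq A q)).comap (algebraMap A (Bq A q)) = q.asIdeal :=
    Localization.AtPrime.under_maximalIdeal
  have hIBle : IBq A I q ≤ IsLocalRing.maximalIdeal (Bq A q) := by
    rw [Ideal.map_le_iff_le_comap, hqB]
    exact hIq
  have hIBne : IBq A I q ≠ ⊤ := fun h =>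
    (IsLocalRing.maximalIdeal.isMaximal (Bq A q)).ne_top (top_le_iff.mp (h ▸ hIBle))
  haveI hlocA' : IsLocalRing (Aq' A I q) := isLocalRing_adicCompletion (Bq A q) (IBq A I q) hIBne
  have hmA' := maximalIdeal_adicCompletion_eq_map (Bq A q) (IBq A I q) hIBne
  have hlh := isLocalHom_algebraMap_adicCompletion (Bq A q) (IBq A I q) hIBne
  let q' : PrimeSpectrum (Aq' A I q) := IsLocalRing.closedPoint (Aq' A I q)
  have hpq' : p' ≤ q' := IsLocalRing.le_maximalIdeal p'.2.ne_top
  have hImap : I.map (algebraMap A (Aq' A I q)) =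
      (IBq A I q).map (algebraMap (Bq A q) (Aq' A I q)) := by
    rw [Ideal.map_map, ← IsScalarTower.algebraMap_eq]
  have hq' : (IBq A I q).map (algebraMap (Bq A q) (Aq' A I q)) ≤ q'.asIdeal := by
    show _ ≤ IsLocalRing.maximalIdeal (Aq' A I q)
    rw [hmA']
    exact Ideal.map_mono hIBle
  obtain ⟨h1, h2⟩ := DepthAdic.main_adic (Bq A q) (IBq A I q) (LocDual.Gat q.asIdeal ω) hωB
    (LocalizedModule q.asIdeal.primeCompl M) p' q' hpq' hq'
  have hdl := (depth_and_supportDim_localizedModule_localizedModule q.asIdeal.primeCompl M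
    (p'.asIdeal.comap (algebraMap (Bq A q) (Aq' A I q)))).1
  let p : PrimeSpectrum A := ⟨(p'.asIdeal.comap (algebraMap (Bq A q) (Aq' A I q))).comap
    (algebraMap A (Bq A q)), inferInstance⟩
  have hpq : p ≤ q := by
    show (p'.asIdeal.comap (algebraMap (Bq A q) (Aq' A I q))).comap (algebraMap A (Bq A q)) ≤
      q.asIdeal
    exact (Ideal.comap_mono (IsLocalRing.le_maximalIdeal
      (Ideal.IsPrime.ne_top inferInstance))).trans (le_of_eq hqB)
  have hpI : ¬ I ≤ p.asIdeal := by
    intro h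
    apply hp'
    rw [Ideal.map_le_iff_le_comap]
    have : p.asIdeal = p'.asIdeal.comap (algebraMap A (Aq' A I q)) := by
      show (p'.asIdeal.comap (algebraMap (Bq A q) (Aq' A I q))).comap (algebraMap A (Bq A q)) = _
      rw [Ideal.comap_comap, ← IsScalarTower.algebraMap_eq]
    rw [← this]
    exact h
  rcases hc p hpq hpI with h | h
  · rw [← hdl] at h
    exact lt_of_lt_of_le h h1
  · have hQ : PrimeSpectrum.comap (algebraMap (Bq A q) (Aq' A I q)) q' =
        IsLocalRing.closedPoint (Bq A q) := by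
      apply PrimeSpectrum.ext
      show (IsLocalRing.maximalIdeal (Aq' A I q)).comap (algebraMap (Bq A q) (Aq' A I q)) =
        IsLocalRing.maximalIdeal (Bq A q)
      exact ((IsLocalRing.local_hom_TFAE (algebraMap (Bq A q) (Aq' A I q))).out 0 4).1 hlh
    rw [hQ, krullDim_Icc_closedPoint, krullDim_Icc_closedPoint] at h2
    have hdimB : Formal2.dimBetween A p.asIdeal q.asIdeal =
        ringKrullDim (Bq A q ⧸ p'.asIdeal.comap (algebraMap (Bq A q) (Aq' A I q))) := by
      show ringKrullDim (Bq A q ⧸ ((p'.asIdeal.comap (algebraMap (Bq A q) (Aq' A I q))).comap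
        (algebraMap A (Bq A q))).map (algebraMap A (Bq A q))) = _
      rw [IsLocalization.map_under q.asIdeal.primeCompl (Bq A q)
        (p'.asIdeal.comap (algebraMap (Bq A q) (Aq' A I q)))]
    have hle := ringKrullDim_quotient_le_of_cdLE I d hcd (Aq' A I q) p' hmax (hImap ▸ hq')
    rw [hdimB, ← hdl] at h
    change _ + ringKrullDim (Aq' A I q ⧸ p'.asIdeal) = _ + ringKrullDim (Bq A q ⧸
      p'.asIdeal.comap (algebraMap (Bq A q) (Aq' A I q))) at h2
    rw [← h2] at h
    by_contra hcon
    have hcon' := not_lt.1 hcon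
    have h3 : ((LocCoh.depth (Localization.AtPrime p'.asIdeal)
        (LocalizedModule p'.asIdeal.primeCompl (AdicCompletion (IBq A I q)
          (LocalizedModule q.asIdeal.primeCompl M))) : ℕ∞) : WithBot ℕ∞) +
        ringKrullDim (Aq' A I q ⧸ p'.asIdeal) ≤ ((s : ℕ∞) : WithBot ℕ∞) + (d : WithBot ℕ∞) :=
      add_le_add (by exact_mod_cast hcon') hle
    have h4 : (((d + s : ℕ) : ℕ∞) : WithBot ℕ∞) = ((s : ℕ∞) : WithBot ℕ∞) + (d : WithBot ℕ∞) := by
      push_cast
      exact add_comm _ _
    rw [h4] at h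
    exact absurd (lt_of_lt_of_le h h3) (lt_irrefl _)

end Main

end BootstrapSix
end Groth.Agent.Lib.Helper31
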