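import Groth.Prelude.Def_W4stkcategoriessitesFib

set_option autoImplicit false
open CategoryTheory CategoryTheory.Limits
universe v u

namespace Groth.Agent.Lib.Helper31

variable {X Y Z A B C : Type u} [Category.{v} X] [Category.{v} Y] [Category.{v} Z] [Category.{v} A] [Category.{v} B] [Category.{v} C] {H : X ⥤ Z} {I : Y ⥤ Z} {F : A ⥤ C} {G : B ⥤ C} (ψ : CatCospanTransform H I F G)

theorem cpm_obj_fst (x : CategoricalPullback H I) :
    ((FibCat.categoricalPullbackMap ψ).obj x).fst = ψ.left.obj x.fst := rfl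

theorem cpm_obj_snd (x : CategoricalPullback H I) :
    ((FibCat.categoricalPullbackMap ψ).obj x).snd = ψ.right.obj x.snd := rfl

theorem cpm_map_fst {x y : CategoricalPullback H I} (f : x ⟶ y) :
    ((FibCat.categoricalPullbackMap ψ).map f).fst = ψ.left.map f.fst := rfl

theorem cpm_map_snd {x y : CategoricalPullback H I} (f : x ⟶ y) :
    ((FibCat.categoricalPullbackMap ψ).map f).snd = ψ.right.map f.snd := rfl

theorem cpm_obj_iso_hom (x : CategoricalPullback H I) :
    ((FibCat.categoricalPullbackMap ψ).obj x).iso.hom =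
      ψ.squareLeft.iso.inv.app x.fst ≫ ψ.base.map x.iso.hom ≫ ψ.squareRight.iso.hom.app x.snd := by
  simp [FibCat.categoricalPullbackMap]
  rfl

theorem cpm_faithful [ψ.left.Faithful] [ψ.right.Faithful] :
    (FibCat.categoricalPullbackMap ψ).Faithful := by
  constructor
  intro x y f g h
  apply CategoricalPullback.hom_ext
  · apply ψ.left.map_injective
    exact congrArg (fun k => k.fst) h
  · apply ψ.right.map_injective
    exact congrArg (fun k => k.snd) h

theorem cpm_full [ψ.left.Full] [ψ.right.Full] [ψ.base.Faithful] :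
    (FibCat.categoricalPullbackMap ψ).Full := by
  constructor
  intro x y f
  obtain ⟨a, ha⟩ : ∃ a : x.fst ⟶ y.fst, ψ.left.map a = f.fst := ψ.left.map_surjective f.fst
  obtain ⟨b, hb⟩ : ∃ b : x.snd ⟶ y.snd, ψ.right.map b = f.snd := ψ.right.map_surjective f.snd
  have w : H.map a ≫ y.iso.hom = x.iso.hom ≫ I.map b := by
    apply ψ.base.map_injective
    have hw : F.map (ψ.left.map a) ≫ (ψ.squareLeft.iso.inv.app y.fst ≫ ψ.base.map y.iso.hom ≫
        ψ.squareRight.iso.hom.app y.snd) = (ψ.squareLeft.iso.inv.app x.fst ≫ ψ.base.map x.iso.hom ≫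
        ψ.squareRight.iso.hom.app x.snd) ≫ G.map (ψ.right.map b) := by
      have := f.w
      rw [cpm_obj_iso_hom, cpm_obj_iso_hom, ← ha, ← hb] at this
      exact this
    have n1 := ψ.squareLeft.iso.inv.naturality a
    have n2 := ψ.squareRight.iso.hom.naturality b
    simp only [Functor.comp_map] at n1 n2
    rw [ψ.base.map_comp, ψ.base.map_comp]
    have : ψ.squareLeft.iso.inv.app x.fst ≫ (ψ.base.map (H.map a) ≫ ψ.base.map y.iso.hom) ≫
        ψ.squareRight.iso.hom.app y.snd =
        ψ.squareLeft.iso.inv.app x.fst ≫ (ψ.base.map x.iso.hom ≫ ψ.base.map (I.map b)) ≫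
        ψ.squareRight.iso.hom.app y.snd := by
      simp only [Category.assoc]
      rw [n2]
      have n1' := reassoc_of% n1
      rw [← n1']
      simpa only [Category.assoc] using hw
    have h2 := (cancel_epi _).mp this
    exact (cancel_mono _).mp h2
  refine ⟨⟨a, b, w⟩, ?_⟩
  apply CategoricalPullback.hom_ext
  · exact ha
  · exact hb

theorem cpm_essSurj [ψ.left.EssSurj] [ψ.right.EssSurj] [ψ.base.Full] [ψ.base.Faithful] :
    (FibCat.categoricalPullbackMap ψ).EssSurj := by
  constructor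
  intro t
  let x := ψ.left.objPreimage t.fst
  let ea : ψ.left.obj x ≅ t.fst := ψ.left.objObjPreimageIso t.fst
  let y := ψ.right.objPreimage t.snd
  let eb : ψ.right.obj y ≅ t.snd := ψ.right.objObjPreimageIso t.snd
  let θ : ψ.base.obj (H.obj x) ≅ ψ.base.obj (I.obj y) :=
    ψ.squareLeft.iso.app x ≪≫ F.mapIso ea ≪≫ t.iso ≪≫ (G.mapIso eb).symm ≪≫
      (ψ.squareRight.iso.app y).symm
  let e : H.obj x ≅ I.obj y := ψ.base.preimageIso θ
  let s : CategoricalPullback H I := ⟨x, y, e⟩
  have w : F.map ea.hom ≫ t.iso.hom =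
      ((FibCat.categoricalPullbackMap ψ).obj s).iso.hom ≫ G.map eb.hom := by
    rw [cpm_obj_iso_hom]
    have : ψ.base.map e.hom = θ.hom := by simp [e]
    change _ = (ψ.squareLeft.iso.inv.app x ≫ ψ.base.map e.hom ≫ ψ.squareRight.iso.hom.app y) ≫ _
    rw [this]
    simp [θ]
    have key : F.map ea.hom ≫ t.iso.hom = F.map ea.hom ≫ t.iso.hom ≫ G.map eb.inv ≫ G.map eb.hom := by
      rw [← G.map_comp, Iso.inv_hom_id, G.map_id, Category.comp_id]
    exact key
  exact ⟨s, ⟨CategoricalPullback.mkIso ea eb w⟩⟩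

end Groth.Agent.Lib.Helper31
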