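import Mathlib.CategoryTheory.Limits.Shapes.Pullback.Categorical.Basic
import Mathlib.CategoryTheory.EqToHom
import Mathlib.CategoryTheory.Equivalence

set_option autoImplicit false
open CategoryTheory CategoryTheory.Limits
universe v u

namespace Groth.Agent.Lib.Helper31

variable {A B C D E : Type u} [Category.{v} A] [Category.{v} B] [Category.{v} C] [Category.{v} D] [Category.{v} E]
    (F : A ⥤ B) (G : C ⥤ B) (H : C ⥤ D) (K : E ⥤ D)

def cpAssocFunctor : CategoricalPullback (CategoricalPullback.π₂ F G ⋙ H) K ⥤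
    CategoricalPullback F (CategoricalPullback.π₁ H K ⋙ G) where
  obj x := ⟨x.fst.fst, ⟨x.fst.snd, x.snd, x.iso⟩, x.fst.iso⟩
  map f := ⟨f.fst.fst, ⟨f.fst.snd, f.snd, f.w⟩, f.fst.w⟩
  map_id _ := rfl
  map_comp _ _ := rfl

def cpAssocInverse : CategoricalPullback F (CategoricalPullback.π₁ H K ⋙ G) ⥤
    CategoricalPullback (CategoricalPullback.π₂ F G ⋙ H) K where
  obj y := ⟨⟨y.fst, y.snd.fst, y.iso⟩, y.snd.snd, y.snd.iso⟩
  map f := ⟨⟨f.fst, f.snd.fst, f.w⟩, f.snd.snd, f.snd.w⟩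
  map_id _ := rfl
  map_comp _ _ := rfl

theorem cpAssoc_functor_inverse : cpAssocFunctor F G H K ⋙ cpAssocInverse F G H K = 𝟭 _ := rfl

theorem cpAssoc_inverse_functor : cpAssocInverse F G H K ⋙ cpAssocFunctor F G H K = 𝟭 _ := rfl

theorem cpAssoc_exists :
    ∃ e : CategoricalPullback (CategoricalPullback.π₂ F G ⋙ H) K ≌ CategoricalPullback F (CategoricalPullback.π₁ H K ⋙ G),
      e.functor ⋙ e.inverse = 𝟭 _ ∧ e.inverse ⋙ e.functor = 𝟭 _ ∧
      ∀ x, (e.functor.obj x).fst = x.fst.fst ∧ (e.functor.obj x).snd.fst = x.fst.snd ∧ (e.functor.obj x).snd.snd = x.snd :=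
  ⟨CategoryTheory.Equivalence.mk (cpAssocFunctor F G H K) (cpAssocInverse F G H K)
    (eqToIso (cpAssoc_functor_inverse F G H K).symm) (eqToIso (cpAssoc_inverse_functor F G H K)),
    cpAssoc_functor_inverse F G H K, cpAssoc_inverse_functor F G H K, fun _ => ⟨rfl, rfl, rfl⟩⟩

end Groth.Agent.Lib.Helper31
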