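import Mathlib
import Groth.Prelude.Def_SGA4hB

/-!
# Characteristic series `det(1 - u t)` of endomorphisms of bounded complexes of finite free modules
(helper31)  Linear algebra part.
-/

set_option autoImplicit false

namespace Groth.Agent.Lib.Helper31.CharSeries

open Polynomial TensorProduct

section LinAlg

variable {R : Type*} [CommRing R]

/-- Weinstein–Aronszajn / Sylvester identity for linear maps. -/
theorem det_one_sub_comp_comm {M N : Type*} [AddCommGroup M] [Module R M] [Module.Free R M]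
    [Module.Finite R M] [AddCommGroup N] [Module R N] [Module.Free R N] [Module.Finite R N]
    (x : M →ₗ[R] N) (y : N →ₗ[R] M) :
    LinearMap.det (LinearMap.id - x ∘ₗ y) = LinearMap.det (LinearMap.id - y ∘ₗ x) := by
  classical
  let bM := Module.Free.chooseBasis R M
  let bN := Module.Free.chooseBasis R N
  rw [← LinearMap.det_toMatrix bN, ← LinearMap.det_toMatrix bM, map_sub, map_sub,
    LinearMap.toMatrix_id, LinearMap.toMatrix_id, LinearMap.toMatrix_comp bN bM bN,
    LinearMap.toMatrix_comp bM bN bM]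
  exact Matrix.det_one_sub_mul_comm _ _

/-- Block triangular determinant, in projector form. -/
theorem det_one_sub_of_idem {M : Type*} [AddCommGroup M] [Module R M] [Module.Free R M]
    [Module.Finite R M] (w p : Module.End R M)
    (hwp : (1 - p) * w * p = 0) :
    LinearMap.det (1 - w) =
      LinearMap.det (1 - (1 - p) * w * (1 - p)) * LinearMap.det (1 - w * p) := by
  have hq : (1 - p) * w * (1 - p) = w - p * w := by
    calc (1 - p) * w * (1 - p) = (1 - p) * w - (1 - p) * w * p := by rw [mul_sub, mul_one]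
      _ = (1 - p) * w := by rw [hwp, sub_zero]
      _ = w - p * w := by rw [sub_mul, one_mul]
  have h0 : (w - p * w) * (p * w) = 0 := by
    have : (w - p * w) * p = (1 - p) * w * p := by noncomm_ring
    rw [← mul_assoc, this, hwp, zero_mul]
  have key : 1 - w = (1 - (1 - p) * w * (1 - p)) * (1 - p * w) := by
    rw [hq]
    have : (1 - (w - p * w)) * (1 - p * w) = 1 - w + (w - p * w) * (p * w) := by noncomm_ring
    rw [this, h0, add_zero]
  have hs : LinearMap.det (1 - p * w) = LinearMap.det (1 - w * p) :=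
    (det_one_sub_comp_comm (R := R) w p).symm
  rw [key, map_mul, hs]

end LinAlg

section P

universe u
variable {A : Type u} [CommRing A]
variable {M N : Type*} [AddCommGroup M] [Module A M] [Module.Free A M] [Module.Finite A M]
  [AddCommGroup N] [Module A N] [Module.Free A N] [Module.Finite A N]

/-- `det(1 - u t)`. -/
noncomputable def P {M : Type*} [AddCommGroup M] [Module A M] (u : M →ₗ[A] M) : A[X] :=
  LinearMap.det (LinearMap.id - (X : A[X]) • u.baseChange A[X])

theorem P_comp_comm (x : M →ₗ[A] N) (y : N →ₗ[A] M) : P (x ∘ₗ y) = P (y ∘ₗ x) := by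
  unfold P
  rw [LinearMap.baseChange_comp, LinearMap.baseChange_comp]
  have := det_one_sub_comp_comm (R := A[X]) ((X : A[X]) • x.baseChange A[X]) (y.baseChange A[X])
  rw [LinearMap.smul_comp, LinearMap.comp_smul] at this
  exact this

theorem P_tri (w p : M →ₗ[A] M) (hwp : (LinearMap.id - p) ∘ₗ w ∘ₗ p = 0) :
    P w = P ((LinearMap.id - p) ∘ₗ w ∘ₗ (LinearMap.id - p)) * P (w ∘ₗ p) := by
  unfold P
  have h := det_one_sub_of_idem (R := A[X]) ((X : A[X]) • w.baseChange A[X]) (p.baseChange A[X])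
    (by
      have := congrArg (fun f => (X : A[X]) • f.baseChange A[X]) hwp
      simp only [LinearMap.baseChange_comp, LinearMap.baseChange_sub, LinearMap.baseChange_id,
        LinearMap.baseChange_zero, smul_zero] at this
      rw [← this]
      simp only [Module.End.mul_eq_comp, Module.End.one_eq_id, LinearMap.smul_comp,
        LinearMap.comp_smul, LinearMap.comp_assoc])
  simp only [LinearMap.baseChange_comp, LinearMap.baseChange_sub, LinearMap.baseChange_id]
  simp only [Module.End.mul_eq_comp, Module.End.one_eq_id, LinearMap.smul_comp,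
    LinearMap.comp_smul, LinearMap.comp_assoc] at h
  exact h

/-- Local step in a contractible complex. -/
theorem P_step {M₀ M₁ M₂ : Type*} [AddCommGroup M₀] [Module A M₀]
    [AddCommGroup M₁] [Module A M₁] [Module.Free A M₁] [Module.Finite A M₁]
    [AddCommGroup M₂] [Module A M₂] [Module.Free A M₂] [Module.Finite A M₂]
    (d₀ : M₀ →ₗ[A] M₁) (d₁ : M₁ →ₗ[A] M₂) (σ₁ : M₁ →ₗ[A] M₀) (σ₂ : M₂ →ₗ[A] M₁)
    (w₁ : M₁ →ₗ[A] M₁) (w₂ : M₂ →ₗ[A] M₂)
    (hdd : d₁ ∘ₗ d₀ = 0) (hh : d₀ ∘ₗ σ₁ + σ₂ ∘ₗ d₁ = LinearMap.id)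
    (hw : d₁ ∘ₗ w₁ = w₂ ∘ₗ d₁) :
    P w₁ = P (w₂ ∘ₗ (d₁ ∘ₗ σ₂)) * P (w₁ ∘ₗ (d₀ ∘ₗ σ₁)) := by
  have hdd' : ∀ x, d₁ (d₀ x) = 0 := fun x => LinearMap.congr_fun hdd x
  have hw' : ∀ x, d₁ (w₁ x) = w₂ (d₁ x) := fun x => LinearMap.congr_fun hw x
  have hq : LinearMap.id - d₀ ∘ₗ σ₁ = σ₂ ∘ₗ d₁ := by rw [← hh]; abel
  have hq' : ∀ x, σ₂ (d₁ x) = x - d₀ (σ₁ x) := fun x => (LinearMap.congr_fun hq x).symm
  have hwp : (LinearMap.id - d₀ ∘ₗ σ₁) ∘ₗ w₁ ∘ₗ (d₀ ∘ₗ σ₁) = 0 := by
    rw [hq]
    ext x
    simp only [LinearMap.comp_apply, LinearMap.zero_apply, hw', hdd', map_zero]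
  rw [P_tri w₁ (d₀ ∘ₗ σ₁) hwp, hq]
  congr 1
  have h1 : (σ₂ ∘ₗ d₁) ∘ₗ w₁ ∘ₗ (σ₂ ∘ₗ d₁) = σ₂ ∘ₗ (w₂ ∘ₗ d₁ ∘ₗ σ₂ ∘ₗ d₁) := by
    ext x
    simp only [LinearMap.comp_apply, hw']
  rw [h1, P_comp_comm]
  congr 1
  ext x
  simp only [LinearMap.comp_apply]
  rw [hq', map_sub, hdd', sub_zero]

/-- Splitting the characteristic series along a direct sum with a triangular endomorphism. -/
theorem P_cone {K₁ K₂ C : Type*}
    [AddCommGroup K₁] [Module A K₁] [Module.Free A K₁] [Module.Finite A K₁]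
    [AddCommGroup K₂] [Module A K₂] [Module.Free A K₂] [Module.Finite A K₂]
    [AddCommGroup C] [Module A C] [Module.Free A C] [Module.Finite A C]
    (inl : K₁ →ₗ[A] C) (inr : K₂ →ₗ[A] C) (fst : C →ₗ[A] K₁) (snd : C →ₗ[A] K₂)
    (h1 : fst ∘ₗ inl = LinearMap.id) (h2 : snd ∘ₗ inr = LinearMap.id) (h3 : fst ∘ₗ inr = 0)
    (h4 : inl ∘ₗ fst + inr ∘ₗ snd = LinearMap.id)
    (w : C →ₗ[A] C) (u : K₁ →ₗ[A] K₁) (u' : K₂ →ₗ[A] K₂)
    (hwr : w ∘ₗ inr = inr ∘ₗ u') (hwf : fst ∘ₗ w = u ∘ₗ fst) :
    P w = P u * P u' := by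
  have h1' : ∀ x, fst (inl x) = x := fun x => LinearMap.congr_fun h1 x
  have h2' : ∀ x, snd (inr x) = x := fun x => LinearMap.congr_fun h2 x
  have h3' : ∀ x, fst (inr x) = 0 := fun x => LinearMap.congr_fun h3 x
  have hwr' : ∀ x, w (inr x) = inr (u' x) := fun x => LinearMap.congr_fun hwr x
  have hwf' : ∀ x, fst (w x) = u (fst x) := fun x => LinearMap.congr_fun hwf x
  have hq : LinearMap.id - inr ∘ₗ snd = inl ∘ₗ fst := by rw [← h4]; abel
  have hwp : (LinearMap.id - inr ∘ₗ snd) ∘ₗ w ∘ₗ (inr ∘ₗ snd) = 0 := by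
    rw [hq]
    ext x
    simp only [LinearMap.comp_apply, LinearMap.zero_apply, hwr', h3', map_zero]
  rw [P_tri w (inr ∘ₗ snd) hwp, hq]
  congr 1
  · have e1 : (inl ∘ₗ fst) ∘ₗ w ∘ₗ (inl ∘ₗ fst) = inl ∘ₗ (u ∘ₗ fst) := by
      ext x
      simp only [LinearMap.comp_apply, hwf', h1']
    rw [e1, P_comp_comm]
    congr 1
    ext x
    simp only [LinearMap.comp_apply, h1']
  · have e2 : w ∘ₗ (inr ∘ₗ snd) = inr ∘ₗ (u' ∘ₗ snd) := by
      ext x
      simp only [LinearMap.comp_apply, hwr']
    rw [e2, P_comp_comm]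
    congr 1
    ext x
    simp only [LinearMap.comp_apply, h2']

end P

section Finprod

variable {M : Type*} [CommMonoid M]

lemma hfs_comp {α β : Type*} (g : α → β) (hg : Function.Injective g) {f : β → M}
    (hf : f.HasFiniteMulSupport) : (fun a => f (g a)).HasFiniteMulSupport := by
  have : (fun a => f (g a)) = f ∘ g := rfl
  rw [this]
  unfold Function.HasFiniteMulSupport
  rw [Function.mulSupport_comp_eq_preimage]
  exact Set.Finite.preimage hg.injOn hf

/-- `i ↦ i + 1` from even to odd integers. -/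
def evenOdd : {i : ℤ // Even i} ≃ {j : ℤ // Odd j} where
  toFun i := ⟨i.1 + 1, i.2.add_one⟩
  invFun j := ⟨j.1 - 1, j.2.sub_odd odd_one⟩
  left_inv i := by ext; simp
  right_inv j := by ext; simp

/-- `i ↦ i + 1` from odd to even integers. -/
def oddEven : {i : ℤ // Odd i} ≃ {j : ℤ // Even j} where
  toFun i := ⟨i.1 + 1, i.2.add_one⟩
  invFun j := ⟨j.1 - 1, j.2.sub_odd odd_one⟩
  left_inv i := by ext; simp
  right_inv j := by ext; simp

lemma finprod_even_shift (β γ : ℤ → M) (hβ : β.HasFiniteMulSupport)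
    (hγ : γ.HasFiniteMulSupport) :
    ∏ᶠ i : {i : ℤ // Even i}, (β (i.1 + 1) * γ i.1) =
      (∏ᶠ j : {j : ℤ // Odd j}, β j.1) * ∏ᶠ i : {i : ℤ // Even i}, γ i.1 := by
  rw [finprod_mul_distrib]
  · congr 1
    exact finprod_comp_equiv evenOdd (f := fun j : {j : ℤ // Odd j} => β j.1)
  · exact hfs_comp (fun i : {i : ℤ // Even i} => i.1 + 1)
      (fun x y h => Subtype.ext (by simpa using h)) hβ
  · exact hfs_comp Subtype.val Subtype.val_injective hγ

lemma finprod_odd_shift (β γ : ℤ → M) (hβ : β.HasFiniteMulSupport)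
    (hγ : γ.HasFiniteMulSupport) :
    ∏ᶠ i : {i : ℤ // Odd i}, (β (i.1 + 1) * γ i.1) =
      (∏ᶠ j : {j : ℤ // Even j}, β j.1) * ∏ᶠ i : {i : ℤ // Odd i}, γ i.1 := by
  rw [finprod_mul_distrib]
  · congr 1
    exact finprod_comp_equiv oddEven (f := fun j : {j : ℤ // Even j} => β j.1)
  · exact hfs_comp (fun i : {i : ℤ // Odd i} => i.1 + 1)
      (fun x y h => Subtype.ext (by simpa using h)) hβ
  · exact hfs_comp Subtype.val Subtype.val_injective hγ

end Finprod

section Complex

open CategoryTheory CategoryTheory.Limits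

universe u
variable {A : Type u} [CommRing A]

lemma P_eq_one_of_subsingleton {M : Type*} [AddCommGroup M] [Module A M] [Subsingleton M]
    (u : M →ₗ[A] M) : P u = 1 := by
  unfold P
  haveI : Subsingleton (A[X] ⊗[A] M) := by
    refine ⟨fun x y => ?_⟩
    have h0 : ∀ z : A[X] ⊗[A] M, z = 0 := by
      intro z
      induction z using TensorProduct.induction_on with
      | zero => rfl
      | tmul a m => rw [Subsingleton.elim m 0, TensorProduct.tmul_zero]
      | add a b ha hb => rw [ha, hb, add_zero]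
    rw [h0 x, h0 y]
  have : (LinearMap.id - (X : A[X]) • u.baseChange A[X]) = 1 := Subsingleton.elim _ _
  rw [this, map_one]

lemma hfs_of_bounded (α : ℤ → A[X]) (a b : ℤ) (h : ∀ i, i < a ∨ b < i → α i = 1) :
    α.HasFiniteMulSupport := by
  refine (Set.finite_Icc a b).subset ?_
  intro i hi
  rw [Function.mem_mulSupport] at hi
  by_contra hcon
  rw [Set.mem_Icc, not_and_or, not_le, not_le] at hcon
  exact hi (h i hcon)

/-- For a contractible bounded complex of finite free modules, the characteristic series of any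
endomorphism is trivial. -/
theorem detEven_eq_detOdd_of_contractible (C : CochainComplex (ModuleCat.{u} A) ℤ)
    [∀ i, Module.Finite A (C.X i)] [∀ i, Module.Free A (C.X i)] (a b : ℤ)
    [C.IsStrictlyGE a] [C.IsStrictlyLE b] (ho : Homotopy (𝟙 C) 0) (w : C ⟶ C) :
    SGA4h.detEven C w = SGA4h.detOdd C w := by
  let α : ℤ → A[X] := fun i => P ((w.f i).hom ∘ₗ (ho.hom i (i - 1) ≫ C.d (i - 1) i).hom)
  have hα : ∀ i j, j = i - 1 → α i = P ((w.f i).hom ∘ₗ (ho.hom i j ≫ C.d j i).hom) := by
    rintro i j rfl; rfl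
  have hstep : ∀ i, P (w.f i).hom = α (i + 1) * α i := by
    intro i
    rw [hα (i + 1) i (by omega)]
    have hdd : (C.d i (i + 1)).hom ∘ₗ (C.d (i - 1) i).hom = 0 := by
      rw [← ModuleCat.hom_comp, C.d_comp_d, ModuleCat.hom_zero]
    have hh : (C.d (i - 1) i).hom ∘ₗ (ho.hom i (i - 1)).hom +
        (ho.hom (i + 1) i).hom ∘ₗ (C.d i (i + 1)).hom = LinearMap.id := by
      have h1 := ho.comm i
      rw [dNext_eq ho.hom (show (ComplexShape.up ℤ).Rel i (i + 1) from rfl),
        prevD_eq ho.hom (show (ComplexShape.up ℤ).Rel (i - 1) i by simp)] at h1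
      simp only [HomologicalComplex.id_f, HomologicalComplex.zero_f, add_zero] at h1
      have h2 := congrArg ModuleCat.Hom.hom h1
      rw [ModuleCat.hom_id, ModuleCat.hom_add, ModuleCat.hom_comp, ModuleCat.hom_comp] at h2
      rw [h2, add_comm]
    have hw : (C.d i (i + 1)).hom ∘ₗ (w.f i).hom = (w.f (i + 1)).hom ∘ₗ (C.d i (i + 1)).hom := by
      rw [← ModuleCat.hom_comp, ← ModuleCat.hom_comp, w.comm]
    have h3 := P_step (C.d (i - 1) i).hom (C.d i (i + 1)).hom (ho.hom i (i - 1)).hom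
      (ho.hom (i + 1) i).hom (w.f i).hom (w.f (i + 1)).hom hdd hh hw
    rw [h3, ModuleCat.hom_comp]
    rfl
  have hα1 : ∀ i, i < a ∨ b < i → α i = 1 := by
    intro i hi
    haveI : Subsingleton (C.X i) := by
      apply ModuleCat.subsingleton_of_isZero
      rcases hi with hi | hi
      · exact C.isZero_of_isStrictlyGE a i hi
      · exact C.isZero_of_isStrictlyLE b i hi
    exact P_eq_one_of_subsingleton _
  have hfs : α.HasFiniteMulSupport := hfs_of_bounded α a b hα1
  have e1 : SGA4h.detEven C w = ∏ᶠ i : {i : ℤ // Even i}, (α (i.1 + 1) * α i.1) :=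
    finprod_congr fun i => hstep i.1
  have e2 : SGA4h.detOdd C w = ∏ᶠ i : {i : ℤ // Odd i}, (α (i.1 + 1) * α i.1) :=
    finprod_congr fun i => hstep i.1
  rw [e1, e2, finprod_even_shift α α hfs hfs, finprod_odd_shift α α hfs hfs, mul_comm]

end Complex

section Cone

open CategoryTheory CategoryTheory.Limits CochainComplex HomComplex

universe u
variable {A : Type u} [CommRing A] {K K' : CochainComplex (ModuleCat.{u} A) ℤ} (f : K ⟶ K')

/-- Abbreviations for the four structure maps of the cone in degree `i`, as linear maps. -/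
noncomputable abbrev cFst (i : ℤ) : (mappingCone f).X i →ₗ[A] K.X (i + 1) :=
  ((mappingCone.fst f).1.v i (i + 1) rfl).hom
noncomputable abbrev cSnd (i : ℤ) : (mappingCone f).X i →ₗ[A] K'.X i :=
  ((mappingCone.snd f).v i i (add_zero i)).hom
noncomputable abbrev cInl (i : ℤ) : K.X (i + 1) →ₗ[A] (mappingCone f).X i :=
  ((mappingCone.inl f).v (i + 1) i (by omega)).hom
noncomputable abbrev cInr (i : ℤ) : K'.X i →ₗ[A] (mappingCone f).X i :=
  ((mappingCone.inr f).f i).hom

lemma cFst_cInl (i : ℤ) : cFst f i ∘ₗ cInl f i = LinearMap.id := by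
  rw [← ModuleCat.hom_comp, mappingCone.inl_v_fst_v, ModuleCat.hom_id]

lemma cSnd_cInr (i : ℤ) : cSnd f i ∘ₗ cInr f i = LinearMap.id := by
  rw [← ModuleCat.hom_comp, mappingCone.inr_f_snd_v, ModuleCat.hom_id]

lemma cFst_cInr (i : ℤ) : cFst f i ∘ₗ cInr f i = 0 := by
  rw [← ModuleCat.hom_comp, mappingCone.inr_f_fst_v, ModuleCat.hom_zero]

lemma cSnd_cInl (i : ℤ) : cSnd f i ∘ₗ cInl f i = 0 := by
  rw [← ModuleCat.hom_comp, mappingCone.inl_v_snd_v, ModuleCat.hom_zero]

lemma cone_id (i : ℤ) : cInl f i ∘ₗ cFst f i + cInr f i ∘ₗ cSnd f i = LinearMap.id := by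
  rw [← ModuleCat.hom_comp, ← ModuleCat.hom_comp, ← ModuleCat.hom_add,
    mappingCone.id_X f i (i + 1) rfl, ModuleCat.hom_id]

/-- The degreewise splitting of the mapping cone. -/
noncomputable def coneEquiv (i : ℤ) : (mappingCone f).X i ≃ₗ[A] (K.X (i + 1) × K'.X i) :=
  LinearEquiv.ofLinearMap (LinearMap.prod (cFst f i) (cSnd f i))
    (LinearMap.coprod (cInl f i) (cInr f i))
    (by
      apply LinearMap.ext
      rintro ⟨x, y⟩
      have h1 := LinearMap.congr_fun (cFst_cInl f i) x
      have h2 := LinearMap.congr_fun (cSnd_cInr f i) y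
      have h3 := LinearMap.congr_fun (cFst_cInr f i) y
      have h4 := LinearMap.congr_fun (cSnd_cInl f i) x
      simp only [LinearMap.comp_apply, LinearMap.id_apply, LinearMap.zero_apply] at h1 h2 h3 h4
      simp only [LinearMap.comp_apply, LinearMap.coprod_apply, LinearMap.prod_apply,
        LinearMap.id_apply]
      show ((cFst f i) (cInl f i x + cInr f i y), (cSnd f i) (cInl f i x + cInr f i y)) = (x, y)
      rw [map_add, map_add, h1, h2, h3, h4, add_zero, zero_add])
    (by
      rw [LinearMap.coprod_comp_prod]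
      exact cone_id f i)

variable {f} {u : K ⟶ K} {u' : K' ⟶ K'} (H : Homotopy (f ≫ u') (u ≫ f))

lemma w_inr (i : ℤ) : ((mappingCone.mapOfHomotopy H).f i).hom ∘ₗ cInr f i =
    cInr f i ∘ₗ (u'.f i).hom := by
  rw [← ModuleCat.hom_comp, ← ModuleCat.hom_comp, ← HomologicalComplex.comp_f,
    ← HomologicalComplex.comp_f, mappingCone.triangleMapOfHomotopy_comm₂]

lemma fst_w (i : ℤ) : cFst f i ∘ₗ ((mappingCone.mapOfHomotopy H).f i).hom =
    (u.f (i + 1)).hom ∘ₗ cFst f i := by
  rw [← ModuleCat.hom_comp, ← ModuleCat.hom_comp]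
  congr 1
  simp [mappingCone.mapOfHomotopy, mappingCone.ext_from_iff _ (i + 1) i rfl]

lemma hfs_P (L : CochainComplex (ModuleCat.{u} A) ℤ) (v : L ⟶ L) (a b : ℤ)
    [L.IsStrictlyGE a] [L.IsStrictlyLE b] :
    (fun i : ℤ => P (v.f i).hom).HasFiniteMulSupport := by
  refine hfs_of_bounded _ a b ?_
  intro i hi
  haveI : Subsingleton (L.X i) := by
    apply ModuleCat.subsingleton_of_isZero
    rcases hi with hi | hi
    · exact L.isZero_of_isStrictlyGE a i hi
    · exact L.isZero_of_isStrictlyLE b i hi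
  exact P_eq_one_of_subsingleton _

instance cone_finite [∀ i, Module.Finite A (K.X i)] [∀ i, Module.Finite A (K'.X i)] (i : ℤ) :
    Module.Finite A ((mappingCone f).X i) :=
  Module.Finite.equiv (coneEquiv f i).symm

instance cone_free [∀ i, Module.Free A (K.X i)] [∀ i, Module.Free A (K'.X i)] (i : ℤ) :
    Module.Free A ((mappingCone f).X i) :=
  Module.Free.of_equiv (coneEquiv f i).symm

theorem det_cone [∀ i, Module.Finite A (K.X i)] [∀ i, Module.Free A (K.X i)]
    [∀ i, Module.Finite A (K'.X i)] [∀ i, Module.Free A (K'.X i)] (a b : ℤ)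
    [K.IsStrictlyGE a] [K.IsStrictlyLE b] [K'.IsStrictlyGE a] [K'.IsStrictlyLE b] :
    SGA4h.detEven (mappingCone f) (mappingCone.mapOfHomotopy H) =
        SGA4h.detOdd K u * SGA4h.detEven K' u' ∧
      SGA4h.detOdd (mappingCone f) (mappingCone.mapOfHomotopy H) =
        SGA4h.detEven K u * SGA4h.detOdd K' u' := by
  have hstep : ∀ i, P ((mappingCone.mapOfHomotopy H).f i).hom =
      P (u.f (i + 1)).hom * P (u'.f i).hom := fun i =>
    P_cone (cInl f i) (cInr f i) (cFst f i) (cSnd f i) (cFst_cInl f i) (cSnd_cInr f i)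
      (cFst_cInr f i) (cone_id f i) _ _ _ (w_inr H i) (fst_w H i)
  have hβ := hfs_P K u a b
  have hγ := hfs_P K' u' a b
  constructor
  · have e1 : SGA4h.detEven (mappingCone f) (mappingCone.mapOfHomotopy H) =
        ∏ᶠ i : {i : ℤ // Even i}, (P (u.f (i.1 + 1)).hom * P (u'.f i.1).hom) :=
      finprod_congr fun i => hstep i.1
    rw [e1, finprod_even_shift (fun j => P (u.f j).hom) (fun j => P (u'.f j).hom) hβ hγ]
    rfl
  · have e1 : SGA4h.detOdd (mappingCone f) (mappingCone.mapOfHomotopy H) =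
        ∏ᶠ i : {i : ℤ // Odd i}, (P (u.f (i.1 + 1)).hom * P (u'.f i.1).hom) :=
      finprod_congr fun i => hstep i.1
    rw [e1, finprod_odd_shift (fun j => P (u.f j).hom) (fun j => P (u'.f j).hom) hβ hγ]
    rfl

end Cone

section Main

open CategoryTheory CategoryTheory.Limits CochainComplex DerivedCategory

universe w u
variable {A : Type u} [CommRing A] [HasDerivedCategory.{w} (ModuleCat.{u} A)]

omit [HasDerivedCategory.{w} (ModuleCat.{u} A)] in
lemma acyclic_cone {K K' : CochainComplex (ModuleCat.{u} A) ℤ} (f : K ⟶ K') [QuasiIso f] :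
    (mappingCone f).Acyclic := by
  rw [← HomotopyCategory.quotient_obj_mem_subcategoryAcyclic_iff_acyclic]
  have h1 : (HomotopyCategory.subcategoryAcyclic (ModuleCat.{u} A)).trW
      ((HomotopyCategory.quotient _ _).map f) := by
    rw [← HomotopyCategory.quasiIso_eq_trW_subcategoryAcyclic,
      HomotopyCategory.quotient_map_mem_quasiIso_iff, HomologicalComplex.mem_quasiIso_iff]
    infer_instance
  exact ((HomotopyCategory.subcategoryAcyclic (ModuleCat.{u} A)).trW_iff_of_distinguished _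
    (HomotopyCategory.mappingCone_triangleh_distinguished f)).mp h1

theorem charSeries_invariant (K K' : CochainComplex (ModuleCat.{u} A) ℤ) (a b : ℤ)
    [K.IsStrictlyGE a] [K.IsStrictlyLE b] [K'.IsStrictlyGE a] [K'.IsStrictlyLE b]
    (hK : ∀ i : ℤ, Module.Finite A (K.X i) ∧ Module.Free A (K.X i))
    (hK' : ∀ i : ℤ, Module.Finite A (K'.X i) ∧ Module.Free A (K'.X i))
    (u : K ⟶ K) (u' : K' ⟶ K') (φ : DerivedCategory.Q.obj K ≅ DerivedCategory.Q.obj K')
    (hφ : DerivedCategory.Q.map u ≫ φ.hom = φ.hom ≫ DerivedCategory.Q.map u') :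
    SGA4h.detEven K u * SGA4h.detOdd K' u' = SGA4h.detOdd K u * SGA4h.detEven K' u' := by
  haveI : ∀ i, Module.Finite A (K.X i) := fun i => (hK i).1
  haveI : ∀ i, Module.Free A (K.X i) := fun i => (hK i).2
  haveI : ∀ i, Module.Finite A (K'.X i) := fun i => (hK' i).1
  haveI : ∀ i, Module.Free A (K'.X i) := fun i => (hK' i).2
  haveI : ∀ i, Projective (K.X i) := fun i =>
    ModuleCat.projective_of_free (Module.Free.chooseBasis A (K.X i))
  haveI : ∀ i, Projective (K'.X i) := fun i =>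
    ModuleCat.projective_of_free (Module.Free.chooseBasis A (K'.X i))
  haveI : K.IsKProjective := isKProjective_of_projective K b
  haveI : K'.IsKProjective := isKProjective_of_projective K' b
  -- lift `φ` to a chain map
  obtain ⟨g, hg⟩ := (IsKProjective.Qh_map_bijective K
    ((HomotopyCategory.quotient _ _).obj K')).surjective
    ((quotientCompQhIso _).hom.app K ≫ φ.hom ≫ (quotientCompQhIso _).inv.app K')
  obtain ⟨f, rfl⟩ := (HomotopyCategory.quotient _ _).map_surjective g
  have hQf : Q.map f = φ.hom := by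
    have h1 := quotientCompQhIso_hom_naturality f
    rw [hg, Category.assoc, Category.assoc, Iso.inv_hom_id_app, Category.comp_id] at h1
    exact ((cancel_epi _).mp h1).symm
  haveI : IsIso (Q.map f) := by rw [hQf]; infer_instance
  haveI : QuasiIso f := (DerivedCategory.isIso_Q_map_iff_quasiIso _ f).mp inferInstance
  have hcomm : Q.map (f ≫ u') = Q.map (u ≫ f) := by
    rw [Q.map_comp, Q.map_comp, hQf, hφ]
  have H : Homotopy (f ≫ u') (u ≫ f) := by
    apply HomotopyCategory.homotopyOfEq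
    apply (IsKProjective.Qh_map_bijective K _).injective
    have h1 := quotientCompQhIso_hom_naturality (f ≫ u')
    have h2 := quotientCompQhIso_hom_naturality (u ≫ f)
    rw [hcomm, ← h2] at h1
    exact (cancel_mono _).mp h1
  haveI : (mappingCone f).IsStrictlyGE (a - 1) := isStrictlyGE_mappingCone f a a (a - 1)
  haveI : (mappingCone f).IsStrictlyLE b := by
    rw [isStrictlyLE_iff]
    intro i hi
    rw [mappingCone.isZero_X_iff]
    exact ⟨K.isZero_of_isStrictlyLE b _ (by omega), K'.isZero_of_isStrictlyLE b _ hi⟩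
  haveI : ∀ i, Projective ((mappingCone f).X i) := fun i =>
    ModuleCat.projective_of_free (Module.Free.chooseBasis A ((mappingCone f).X i))
  haveI : (mappingCone f).IsKProjective := isKProjective_of_projective (mappingCone f) b
  have ho : Homotopy (𝟙 (mappingCone f)) 0 :=
    IsKProjective.homotopyZero (𝟙 (mappingCone f)) (acyclic_cone f)
  have h1 := detEven_eq_detOdd_of_contractible (mappingCone f) (a - 1) b ho
    (mappingCone.mapOfHomotopy H)
  obtain ⟨e1, e2⟩ := det_cone H a b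
  rw [e1, e2] at h1
  exact h1.symm

end Main

end Groth.Agent.Lib.Helper31.CharSeries
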