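import Mathlib.Algebra.Module.FinitePresentation
import Mathlib.RingTheory.Finiteness.Finsupp

set_option autoImplicit false
universe u

namespace Groth.Agent.Lib.Helper31

namespace Coh

variable (R : Type u) [CommRing R]

/-- coherent module: finite, and every finitely generated submodule is finitely presented. -/
def IsCoh (M : Type u) [AddCommGroup M] [Module R M] : Prop :=
  Module.Finite R M ∧ ∀ N : Submodule R M, N.FG → Module.FinitePresentation R N

variable {R}

theorem isCoh_of_exact {M₁ M₂ M₃ : Type u}
    [AddCommGroup M₁] [Module R M₁] [AddCommGroup M₂] [Module R M₂] [AddCommGroup M₃] [Module R M₃]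
    (f : M₁ →ₗ[R] M₂) (g : M₂ →ₗ[R] M₃) (hf : Function.Injective f) (hg : Function.Surjective g)
    (hfg : LinearMap.range f = LinearMap.ker g) (h₁ : IsCoh R M₁) (h₃ : IsCoh R M₃) : IsCoh R M₂ := by
  obtain ⟨hfin₁, hfp₁⟩ := h₁
  obtain ⟨hfin₃, hfp₃⟩ := h₃
  constructor
  · constructor
    apply Submodule.fg_of_fg_map_of_fg_inf_ker g
    · rw [Submodule.map_top, LinearMap.range_eq_top.mpr hg]; exact Module.Finite.fg_top
    · rw [top_inf_eq, ← hfg, LinearMap.range_eq_map]
      exact Module.Finite.fg_top.map f
  · intro N hN
    have : Module.Finite R N := Module.Finite.iff_fg.mpr hN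
    have : Module.FinitePresentation R (N.map g) := hfp₃ _ (hN.map g)
    let gN : N →ₗ[R] N.map g := g.submoduleMap N
    have hgN : Function.Surjective gN := g.submoduleMap_surjective N
    have hK : (LinearMap.ker gN).FG := Module.FinitePresentation.fg_ker gN hgN
    -- transport the kernel to `M₁`
    let K₂ : Submodule R M₂ := (LinearMap.ker gN).map N.subtype
    have hK₂ : K₂.FG := hK.map _
    have hK₂le : K₂ ≤ LinearMap.range f := by
      rw [hfg]
      rintro _ ⟨⟨n, hn⟩, hk, rfl⟩
      have hk' : gN ⟨n, hn⟩ = 0 := hk
      rw [LinearMap.mem_ker]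
      have := congrArg Subtype.val hk'
      simpa [gN] using this
    let K₁ : Submodule R M₁ := K₂.comap f
    have hmap : K₁.map f = K₂ := by
      rw [Submodule.map_comap_eq, inf_eq_right.mpr hK₂le]
    have hK₁ : K₁.FG := Submodule.fg_of_fg_map_injective f hf (by rw [hmap]; exact hK₂)
    have : Module.FinitePresentation R K₁ := hfp₁ K₁ hK₁
    let e : LinearMap.ker gN ≃ₗ[R] K₁ :=
      (Submodule.equivMapOfInjective N.subtype N.subtype_injective (LinearMap.ker gN)) ≪≫ₗ
        (LinearEquiv.ofEq K₂ (K₁.map f) hmap.symm) ≪≫ₗ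
          (Submodule.equivMapOfInjective f hf K₁).symm
    have : Module.FinitePresentation R (LinearMap.ker gN) := Module.FinitePresentation.of_equiv e.symm
    exact Module.finitePresentation_of_ker gN hgN

theorem isCoh_of_linearEquiv {M M' : Type u} [AddCommGroup M] [Module R M] [AddCommGroup M'] [Module R M']
    (e : M ≃ₗ[R] M') (h : IsCoh R M) : IsCoh R M' := by
  obtain ⟨hfin, hfp⟩ := h
  refine ⟨Module.Finite.equiv e, fun N hN => ?_⟩
  have h1 : (N.comap e.toLinearMap).FG := by
    apply Submodule.fg_of_fg_map_injective e.toLinearMap e.injective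
    rw [Submodule.map_comap_eq_of_surjective e.surjective]
    exact hN
  have := hfp _ h1
  exact Module.FinitePresentation.of_equiv (e.submoduleMap (N.comap e.toLinearMap) ≪≫ₗ
    LinearEquiv.ofEq _ _ (Submodule.map_comap_eq_of_surjective e.surjective N))

/-- quotient of a coherent module by a finitely generated submodule. -/
theorem isCoh_quotient {M : Type u} [AddCommGroup M] [Module R M] (h : IsCoh R M) (K : Submodule R M)
    (hK : K.FG) : IsCoh R (M ⧸ K) := by
  obtain ⟨hfin, hfp⟩ := h
  refine ⟨inferInstance, fun N hN => ?_⟩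
  let N' : Submodule R M := N.comap K.mkQ
  have hN'map : N'.map K.mkQ = N := Submodule.map_comap_eq_of_surjective K.mkQ_surjective N
  have hKle : K ≤ N' := by
    intro k hk
    change K.mkQ k ∈ N
    rw [Submodule.mkQ_apply, (Submodule.Quotient.mk_eq_zero K).mpr hk]
    exact N.zero_mem
  have hN' : N'.FG := by
    apply Submodule.fg_of_fg_map_of_fg_inf_ker K.mkQ
    · rw [hN'map]; exact hN
    · rw [Submodule.ker_mkQ, inf_eq_right.mpr hKle]; exact hK
  have : Module.FinitePresentation R N' := hfp N' hN'
  let q : N' →ₗ[R] N := K.mkQ.restrict (p := N') (q := N) (fun x hx => hx)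
  have hq : Function.Surjective q := by
    rintro ⟨y, hy⟩
    obtain ⟨m, rfl⟩ := K.mkQ_surjective y
    exact ⟨⟨m, hy⟩, rfl⟩
  have hker : (LinearMap.ker q).FG := by
    apply Submodule.fg_of_fg_map_injective N'.subtype N'.subtype_injective
    have : (LinearMap.ker q).map N'.subtype = K := by
      ext m
      constructor
      · rintro ⟨⟨n, hn⟩, hk, rfl⟩
        have hk' : q ⟨n, hn⟩ = 0 := hk
        have h1 := congrArg Subtype.val hk'
        have h2 : K.mkQ n = 0 := h1
        rwa [Submodule.mkQ_apply, Submodule.Quotient.mk_eq_zero] at h2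
      · intro hm
        refine ⟨⟨m, hKle hm⟩, ?_, rfl⟩
        change q ⟨m, hKle hm⟩ = 0
        apply Subtype.ext
        change K.mkQ m = 0
        rwa [Submodule.mkQ_apply, Submodule.Quotient.mk_eq_zero]
    rw [this]
    exact hK
  exact Module.finitePresentation_of_surjective q hq hker

variable (R) in
/-- over a coherent ring, finite free modules are coherent. -/
theorem isCoh_fin_fun (hR : ∀ I : Ideal R, I.FG → Module.FinitePresentation R I) (n : ℕ) :
    IsCoh R (Fin n → R) := by
  induction n with
  | zero =>
    refine ⟨inferInstance, fun N _ => ?_⟩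
    infer_instance
  | succ n ih =>
    have hRcoh : IsCoh R R := ⟨inferInstance, fun I hI => hR I hI⟩
    -- `0 → R → R^(n+1) → R^n → 0`
    let f : R →ₗ[R] (Fin (n + 1) → R) := LinearMap.single R (fun _ => R) 0
    let g : (Fin (n + 1) → R) →ₗ[R] (Fin n → R) := LinearMap.funLeft R R Fin.succ
    refine isCoh_of_exact f g ?_ ?_ ?_ hRcoh ih
    · intro a b hab
      have := congrFun hab 0
      simpa [f] using this
    · intro y
      refine ⟨Fin.cons 0 y, ?_⟩
      funext i
      simp [g, LinearMap.funLeft_apply]
    · ext v
      constructor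
      · rintro ⟨a, rfl⟩
        rw [LinearMap.mem_ker]
        funext i
        simp [g, f, LinearMap.funLeft_apply, Fin.succ_ne_zero]
      · intro hv
        rw [LinearMap.mem_ker] at hv
        refine ⟨v 0, ?_⟩
        funext i
        refine Fin.cases ?_ (fun j => ?_) i
        · simp [f]
        · have := congrFun hv j
          simp only [g, LinearMap.funLeft_apply, Pi.zero_apply] at this
          simp [f, this, Fin.succ_ne_zero]

variable (R) in
/-- over a coherent ring, finitely presented modules are coherent. -/
theorem isCoh_of_finitePresentation (hR : ∀ I : Ideal R, I.FG → Module.FinitePresentation R I)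
    (M : Type u) [AddCommGroup M] [Module R M] [Module.FinitePresentation R M] : IsCoh R M := by
  obtain ⟨n, K, e, hK⟩ := Module.FinitePresentation.exists_fin R M
  exact isCoh_of_linearEquiv e.symm (isCoh_quotient (isCoh_fin_fun R hR n) K hK)

theorem finitePresentation_of_isCoh {M : Type u} [AddCommGroup M] [Module R M] (h : IsCoh R M) :
    Module.FinitePresentation R M := by
  have := h.2 ⊤ h.1.fg_top
  exact Module.FinitePresentation.of_equiv (Submodule.topEquiv : (⊤ : Submodule R M) ≃ₗ[R] M)

end Coh

end Groth.Agent.Lib.Helper31
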