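import Groth.Agent.Lib.Helper18.ComplMap

/-! `FSch.complMap` is bijective as soon as it is bijective modulo all powers (helper31). -/

set_option autoImplicit false
universe u

namespace Groth.Agent.Lib.Helper31
namespace ComplBij

open AdicCompletion Groth.Agent.Lib.Helper18

variable {S T : Type u} [CommRing S] [CommRing T] (I : Ideal S) (K : Ideal T) (g : S →+* T)
  (h : I.map g ≤ K)

/-- the map `S/Iⁿ → T/Kⁿ`. -/
noncomputable abbrev gq (n : ℕ) : S ⧸ I ^ n →+* T ⧸ K ^ n :=
  Ideal.quotientMap (K ^ n) g (FSch.pow_le_comap_pow_of_map_le I K g h n)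

theorem gq_factorPow {m n : ℕ} (hle : m ≤ n) (x : S ⧸ I ^ n) :
    gq I K g h m (Ideal.Quotient.factorPow I hle x) =
      Ideal.Quotient.factorPow K hle (gq I K g h n x) := by
  obtain ⟨s, rfl⟩ := Ideal.Quotient.mk_surjective x
  rfl

theorem factorPow_evalₐ {m n : ℕ} (hle : m ≤ n) (z : AdicCompletion K T) :
    Ideal.Quotient.factorPow K hle (evalₐ K n z) = evalₐ K m z := by
  obtain ⟨y, rfl⟩ := AdicCompletion.mk_surjective K T z
  simp only [AdicCompletion.evalₐ_mk, Ideal.Quotient.factorPow, Ideal.Quotient.factor_mk]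
  rw [Ideal.Quotient.eq]
  have hy := y.2 hle
  rw [SModEq.sub_mem] at hy
  simp only [smul_eq_mul, Ideal.mul_top] at hy
  rw [← neg_sub]
  exact (K ^ m).neg_mem hy

theorem complMap_injective (hinj : ∀ n, Function.Injective (gq I K g h n)) :
    Function.Injective (FSch.complMap I K g h) := by
  intro x y hxy
  apply AdicCompletion.ext_evalₐ
  intro n
  apply hinj n
  have := congrArg (evalₐ K n) hxy
  rwa [evalₐ_complMap, evalₐ_complMap] at this

theorem complMap_surjective (hbij : ∀ n, Function.Bijective (gq I K g h n)) :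
    Function.Surjective (FSch.complMap I K g h) := by
  intro y
  let e : ∀ n, (S ⧸ I ^ n) ≃+* (T ⧸ K ^ n) := fun n => RingEquiv.ofBijective _ (hbij n)
  have he : ∀ n x, e n x = gq I K g h n x := fun n x => rfl
  let f : ∀ n, AdicCompletion K T →+* S ⧸ I ^ n := fun n =>
    ((e n).symm : (T ⧸ K ^ n) →+* (S ⧸ I ^ n)).comp (evalₐ K n).toRingHom
  have hf : ∀ {m n : ℕ} (hle : m ≤ n), (Ideal.Quotient.factorPow I hle).comp (f n) = f m := by
    intro m n hle
    ext z
    apply (hbij m).1
    show gq I K g h m (Ideal.Quotient.factorPow I hle ((e n).symm (evalₐ K n z))) =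
      gq I K g h m ((e m).symm (evalₐ K m z))
    rw [gq_factorPow, ← he, ← he, RingEquiv.apply_symm_apply, RingEquiv.apply_symm_apply]
    exact factorPow_evalₐ K hle z
  refine ⟨liftRingHom I f hf y, ?_⟩
  apply AdicCompletion.ext_evalₐ
  intro n
  rw [evalₐ_complMap, evalₐ_liftRingHom]
  show gq I K g h n ((e n).symm (evalₐ K n y)) = _
  rw [← he, RingEquiv.apply_symm_apply]

theorem complMap_bijective (hbij : ∀ n, Function.Bijective (gq I K g h n)) :
    Function.Bijective (FSch.complMap I K g h) :=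
  ⟨complMap_injective I K g h (fun n => (hbij n).1), complMap_surjective I K g h hbij⟩

end ComplBij
end Groth.Agent.Lib.Helper31
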