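import Groth.Agent.Lib.Helper63.ComplFree
import Groth.Prelude.Def_CAlgX

/-!
# The completion of a free module embeds universally injectively in the product (helper31)

For a Noetherian ring `R`, an ideal `I` and any index set `α`, the coordinate map
`(⊕_α R)^ → ∏_α R^` is universally injective.
-/

set_option autoImplicit false
universe u
open LinearMap TensorProduct

namespace Groth.Agent.Lib.Helper31.ComplUnivInj

open Groth.Agent.Lib.Helper63.ComplFree

variable {R : Type u} [CommRing R] (I : Ideal R) (α : Type u)

section General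

variable (Q : Type u) [AddCommGroup Q] [Module R Q]

/-- the coordinate map `(⊕_α Q)^ → ∏_α Q^`. -/
noncomputable def jmap : AdicCompletion I (α →₀ Q) →ₗ[R] (α → AdicCompletion I Q) :=
  LinearMap.pi fun a : α =>
    (AdicCompletion.map I (Finsupp.lapply a : (α →₀ Q) →ₗ[R] Q)).restrictScalars R

theorem jmap_apply (x : AdicCompletion I (α →₀ Q)) (a : α) :
    jmap I α Q x a = AdicCompletion.map I (Finsupp.lapply a : (α →₀ Q) →ₗ[R] Q) x := rfl

theorem finsupp_mem_smul_top_iff (J : Ideal R) (u : α →₀ Q) :
    u ∈ (J • ⊤ : Submodule R (α →₀ Q)) ↔ ∀ a, u a ∈ (J • ⊤ : Submodule R Q) := by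
  classical
  have hmap : ∀ {A B : Type u} [AddCommGroup A] [Module R A] [AddCommGroup B] [Module R B]
      (f : A →ₗ[R] B) {x : A}, x ∈ (J • ⊤ : Submodule R A) → f x ∈ (J • ⊤ : Submodule R B) := by
    intro A B _ _ _ _ f x hx
    have h1 : (J • ⊤ : Submodule R A).map f ≤ J • ⊤ := by
      rw [Submodule.map_smul'']
      exact Submodule.smul_mono le_rfl le_top
    exact h1 (Submodule.mem_map_of_mem hx)
  constructor
  · intro h a
    exact hmap (Finsupp.lapply a) h
  · intro h
    have hu : u = ∑ a ∈ u.support, Finsupp.single a (u a) := (Finsupp.sum_single u).symm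
    rw [hu]
    refine Submodule.sum_mem _ fun a _ => ?_
    exact hmap (Finsupp.lsingle a) (h a)

theorem jmap_injective : Function.Injective (jmap I α Q) := by
  rw [← LinearMap.ker_eq_bot, LinearMap.ker_eq_bot']
  intro x hx
  apply AdicCompletion.ext
  intro n
  obtain ⟨u, hu⟩ := Submodule.Quotient.mk_surjective _ (x.val n)
  rw [← hu, AdicCompletion.val_zero_apply, Submodule.Quotient.mk_eq_zero,
    finsupp_mem_smul_top_iff]
  intro a
  have h1 : (jmap I α Q x a).val n = Submodule.Quotient.mk (u a) := by
    rw [jmap_apply, AdicCompletion.map_val_apply, ← hu]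
    rfl
  rw [hx] at h1
  rw [← Submodule.Quotient.mk_eq_zero, ← h1]
  rfl

theorem tss_add (q q' : Q) : LinearMap.toSpanSingleton R Q (q + q') =
    LinearMap.toSpanSingleton R Q q + LinearMap.toSpanSingleton R Q q' := by
  ext
  simp

theorem tss_smul (r : R) (q : Q) : LinearMap.toSpanSingleton R Q (r • q) =
    r • LinearMap.toSpanSingleton R Q q := by
  ext
  simp

variable {Q} in
theorem mr_add {N N' : Type u} [AddCommGroup N] [Module R N] [AddCommGroup N'] [Module R N']
    (f g : N →ₗ[R] N') : mr α (f + g) = mr α f + mr α g := by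
  apply LinearMap.ext
  intro v
  refine Finsupp.ext (fun a => ?_)
  simp [mr, Finsupp.mapRange_apply]

variable {Q} in
theorem mr_smul {N N' : Type u} [AddCommGroup N] [Module R N] [AddCommGroup N'] [Module R N']
    (r : R) (f : N →ₗ[R] N') : mr α (r • f) = r • mr α f := by
  apply LinearMap.ext
  intro v
  refine Finsupp.ext (fun a => ?_)
  simp [mr, Finsupp.mapRange_apply]

/-- the comparison map `(⊕_α R)^ ⊗ Q → (⊕_α Q)^`. -/
noncomputable def Θ : AdicCompletion I (α →₀ R) ⊗[R] Q →ₗ[R] AdicCompletion I (α →₀ Q) :=
  TensorProduct.lift (LinearMap.mk₂ R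
    (fun x q => AdicCompletion.map I (mr α (LinearMap.toSpanSingleton R Q q)) x)
    (fun x x' q => map_add _ x x')
    (fun r x q => LinearMap.map_smul_of_tower _ r x)
    (fun x q q' => by rw [tss_add, mr_add, adicMap_add])
    (fun r x q => by rw [tss_smul, mr_smul, adicMap_smul]))

theorem Θ_tmul (x : AdicCompletion I (α →₀ R)) (q : Q) :
    Θ I α Q (x ⊗ₜ[R] q) = AdicCompletion.map I (mr α (LinearMap.toSpanSingleton R Q q)) x := rfl

/-- the comparison map `(∏_α R^) ⊗ Q → ∏_α Q^`. -/
noncomputable def V : (α → AdicCompletion I R) ⊗[R] Q →ₗ[R] (α → AdicCompletion I Q) :=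
  TensorProduct.lift (LinearMap.mk₂ R
    (fun y q => fun a => AdicCompletion.map I (LinearMap.toSpanSingleton R Q q) (y a))
    (fun y y' q => by
      funext a
      exact map_add _ (y a) (y' a))
    (fun r y q => by
      funext a
      exact LinearMap.map_smul_of_tower _ r (y a))
    (fun y q q' => by
      funext a
      simp only [Pi.add_apply]
      rw [tss_add, adicMap_add])
    (fun r y q => by
      funext a
      simp only [Pi.smul_apply]
      rw [tss_smul, adicMap_smul]))

theorem V_tmul (y : α → AdicCompletion I R) (q : Q) (a : α) :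
    V I α Q (y ⊗ₜ[R] q) a = AdicCompletion.map I (LinearMap.toSpanSingleton R Q q) (y a) := rfl

theorem square : jmap I α Q ∘ₗ Θ I α Q = V I α Q ∘ₗ (jmap I α R).rTensor Q := by
  apply TensorProduct.ext'
  intro x q
  funext a
  rw [LinearMap.comp_apply, LinearMap.comp_apply, LinearMap.rTensor_tmul, V_tmul, Θ_tmul,
    jmap_apply, jmap_apply, AdicCompletion.map_comp_apply, AdicCompletion.map_comp_apply]
  congr 2

theorem Θ_eq_zero (z : AdicCompletion I (α →₀ R) ⊗[R] Q)
    (hz : (jmap I α R).rTensor Q z = 0) : Θ I α Q z = 0 := by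
  apply jmap_injective I α Q
  rw [map_zero, ← LinearMap.comp_apply, square, LinearMap.comp_apply, hz, map_zero]

end General

section Reduction

variable {M N : Type u} [AddCommGroup M] [Module R M] [AddCommGroup N] [Module R N]

theorem comm_lTensor {X A B : Type u} [AddCommGroup X] [Module R X] [AddCommGroup A] [Module R A]
    [AddCommGroup B] [Module R B] (φ : A →ₗ[R] B) (t : X ⊗[R] A) :
    φ.rTensor X (TensorProduct.comm R X A t) = TensorProduct.comm R X B (φ.lTensor X t) := by
  induction t using TensorProduct.induction_on with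
  | zero => simp
  | tmul a b => simp
  | add a b ha hb => simp only [map_add, ha, hb]

/-- universal injectivity can be tested on finite modules. -/
theorem universallyInjective_of_forall_finite (f : M →ₗ[R] N)
    (h : ∀ (Q : Type u) [AddCommGroup Q] [Module R Q] [Module.Finite R Q],
      Function.Injective (f.rTensor Q)) :
    CAlgX.UniversallyInjective R f := by
  intro Q _ _
  rw [injective_iff_map_eq_zero]
  intro z hz
  obtain ⟨Q', hQ', hsub⟩ := TensorProduct.exists_finite_submodule_right_of_setFinite
    ({z} : Set (M ⊗[R] Q)) (Set.finite_singleton z)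
  obtain ⟨z', rfl⟩ := hsub (Set.mem_singleton z)
  have h1 : Q'.subtype.lTensor N (f.rTensor Q' z') = 0 := by
    rw [← LinearMap.comp_apply, LinearMap.lTensor_comp_rTensor, ← LinearMap.rTensor_comp_lTensor,
      LinearMap.comp_apply, hz]
  have h2 : Q'.subtype.rTensor N (TensorProduct.comm R N Q' (f.rTensor Q' z')) =
      Q'.subtype.rTensor N 0 := by
    rw [map_zero, comm_lTensor, h1, map_zero]
  obtain ⟨Q'', hQ''fg, hle, heq⟩ :=
    (Module.Finite.iff_fg.mp hQ').exists_rTensor_fg_inclusion_eq h2
  rw [map_zero, comm_lTensor] at heq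
  have h3 : (Q'.inclusion hle).lTensor N (f.rTensor Q' z') = 0 := by
    have := congrArg (TensorProduct.comm R N Q'').symm heq
    rwa [LinearEquiv.symm_apply_apply, map_zero] at this
  have : Module.Finite R Q'' := Module.Finite.iff_fg.mpr hQ''fg
  have h4 : f.rTensor Q'' ((Q'.inclusion hle).lTensor M z') = 0 := by
    rw [← LinearMap.comp_apply, LinearMap.rTensor_comp_lTensor, ← LinearMap.lTensor_comp_rTensor,
      LinearMap.comp_apply, h3]
  have h5 : (Q'.inclusion hle).lTensor M z' = 0 :=
    (injective_iff_map_eq_zero _).mp (h Q'') _ h4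
  have h6 : Q'.subtype = Q''.subtype ∘ₗ Q'.inclusion hle := by
    ext x
    rfl
  rw [h6, LinearMap.lTensor_comp, LinearMap.comp_apply, h5, map_zero]

end Reduction

section Main

variable [IsNoetherianRing R]

omit [IsNoetherianRing R] in
/-- elements of `N ⊗ Q` as combinations of a generating family of `Q`. -/
theorem exists_sum_tmul_of_span_right {N Q : Type u} [AddCommGroup N] [Module R N]
    [AddCommGroup Q] [Module R Q] {k : ℕ} (q : Fin k → Q)
    (hq : Submodule.span R (Set.range q) = ⊤) (y : N ⊗[R] Q) :
    ∃ x : Fin k → N, y = ∑ j, x j ⊗ₜ[R] q j := by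
  induction y using TensorProduct.induction_on with
  | zero => exact ⟨fun _ => 0, by simp⟩
  | tmul n p =>
    have hp : p ∈ Submodule.span R (Set.range q) := by rw [hq]; trivial
    obtain ⟨c, rfl⟩ := (Submodule.mem_span_range_iff_exists_fun R).mp hp
    refine ⟨fun j => c j • n, ?_⟩
    rw [TensorProduct.tmul_sum]
    apply Finset.sum_congr rfl
    intro j _
    rw [TensorProduct.smul_tmul]
  | add a b ha hb =>
    obtain ⟨xa, rfl⟩ := ha
    obtain ⟨xb, rfl⟩ := hb
    refine ⟨fun j => xa j + xb j, ?_⟩
    rw [← Finset.sum_add_distrib]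
    apply Finset.sum_congr rfl
    intro j _
    rw [TensorProduct.add_tmul]

theorem rTensor_injective_of_finite (Q : Type u) [AddCommGroup Q] [Module R Q]
    [Module.Finite R Q] : Function.Injective ((jmap I α R).rTensor Q) := by
  classical
  rw [injective_iff_map_eq_zero]
  intro z hz
  have hΘ := Θ_eq_zero I α Q z hz
  obtain ⟨l, q, hq⟩ := Module.Finite.exists_fin (R := R) (M := Q)
  obtain ⟨x, rfl⟩ := exists_sum_tmul_of_span_right q hq z
  let φ : (Fin l → R) →ₗ[R] Q := Fintype.linearCombination R q
  have hφ_apply : ∀ c : Fin l → R, φ c = ∑ i, c i • q i := fun c =>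
    Fintype.linearCombination_apply R q c
  obtain ⟨s, v, hv⟩ := Module.Finite.exists_fin (R := R) (M := LinearMap.ker φ)
  let ψ : (Fin s → R) →ₗ[R] (Fin l → R) :=
    Fintype.linearCombination R (fun j => ((v j : LinearMap.ker φ) : Fin l → R))
  have hψ : LinearMap.range ψ = LinearMap.ker φ := by
    rw [Fintype.range_linearCombination]
    have : (Set.range fun j => ((v j : LinearMap.ker φ) : Fin l → R)) =
        (LinearMap.ker φ).subtype '' Set.range v := by
      ext w
      simp [Set.mem_image]
    rw [this, ← Submodule.map_span, hv, Submodule.map_top, Submodule.range_subtype]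
  let sg : ∀ i : Fin l, R →ₗ[R] (Fin l → R) := fun i => LinearMap.single R (fun _ : Fin l => R) i
  let X : AdicCompletion I (α →₀ (Fin l → R)) := ∑ i, AdicCompletion.map I (mr α (sg i)) (x i)
  have hX : AdicCompletion.map I (mr α φ) X = 0 := by
    simp only [X, map_sum, C_comp]
    rw [← hΘ, map_sum]
    refine Finset.sum_congr rfl (fun i _ => ?_)
    rw [Θ_tmul]
    have h1 : φ ∘ₗ sg i = LinearMap.toSpanSingleton R Q (q i) := by
      apply LinearMap.ext
      intro c
      simp [hφ_apply, sg, Pi.single_apply]
    rw [h1]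
  obtain ⟨W, hW⟩ := ker_le_range I α φ ψ hψ hX
  let y : Fin s → AdicCompletion I (α →₀ R) :=
    fun j => AdicCompletion.map I (mr α (LinearMap.proj j : (Fin s → R) →ₗ[R] R)) W
  have hx : ∀ i, x i = ∑ j, (((v j : LinearMap.ker φ) : Fin l → R) i) • y j := by
    intro i
    have h2 : x i = AdicCompletion.map I (mr α (LinearMap.proj i : (Fin l → R) →ₗ[R] R)) X := by
      simp only [X, map_sum, C_comp]
      rw [Finset.sum_eq_single i]
      · have : (LinearMap.proj i : (Fin l → R) →ₗ[R] R) ∘ₗ sg i = LinearMap.id := by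
          apply LinearMap.ext
          intro c
          simp [sg]
        rw [this, C_id]
      · intro i' _ hne
        have : (LinearMap.proj i : (Fin l → R) →ₗ[R] R) ∘ₗ sg i' = 0 := by
          apply LinearMap.ext
          intro c
          simp [sg, hne.symm]
        rw [this]
        have h0 : mr α (0 : R →ₗ[R] R) = 0 := by
          apply LinearMap.ext
          intro w
          refine Finsupp.ext (fun a => ?_)
          simp [mr, Finsupp.mapRange_apply]
        rw [h0, AdicCompletion.map_zero]
        rfl
      · intro h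
        exact absurd (Finset.mem_univ i) h
    rw [h2, ← hW, C_comp]
    have h3 : (LinearMap.proj i : (Fin l → R) →ₗ[R] R) ∘ₗ ψ =
        ∑ j, (((v j : LinearMap.ker φ) : Fin l → R) i) •
          (LinearMap.proj j : (Fin s → R) →ₗ[R] R) := by
      apply LinearMap.ext
      intro c
      simp [ψ, Fintype.linearCombination_apply, LinearMap.sum_apply, mul_comm]
    rw [h3, C_sum_smul]
  have hv0 : ∀ j, ∑ i, (((v j : LinearMap.ker φ) : Fin l → R) i) • q i = 0 := by
    intro j
    have : φ ((v j : LinearMap.ker φ) : Fin l → R) = 0 := (v j).2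
    rw [hφ_apply] at this
    exact this
  calc ∑ i, x i ⊗ₜ[R] q i
      = ∑ i, ∑ j, y j ⊗ₜ[R] ((((v j : LinearMap.ker φ) : Fin l → R) i) • q i) := by
        refine Finset.sum_congr rfl (fun i _ => ?_)
        rw [hx i, TensorProduct.sum_tmul]
        refine Finset.sum_congr rfl (fun j _ => ?_)
        rw [TensorProduct.smul_tmul]
    _ = ∑ j, y j ⊗ₜ[R] (∑ i, (((v j : LinearMap.ker φ) : Fin l → R) i) • q i) := by
        rw [Finset.sum_comm]
        refine Finset.sum_congr rfl (fun j _ => ?_)
        rw [TensorProduct.tmul_sum]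
    _ = 0 := by
        refine Finset.sum_eq_zero (fun j _ => ?_)
        rw [hv0 j, TensorProduct.tmul_zero]

/-- Over a Noetherian ring, the coordinate map `(⊕_α R)^ → ∏_α R^` is universally injective. -/
theorem universallyInjective_jmap : CAlgX.UniversallyInjective R (jmap I α R) :=
  universallyInjective_of_forall_finite _ (fun Q _ _ _ => rTensor_injective_of_finite I α Q)

end Main

end Groth.Agent.Lib.Helper31.ComplUnivInj
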