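import Mathlib.CategoryTheory.Adjunction.Mates
import Mathlib.CategoryTheory.Limits.Shapes.Products

/-!
# Helper library (helper31): coproducts of left adjoints from products of right adjoints

If `L₁ ⊣ R₁` and `L f ⊣ R f` are adjunctions and `π f : R₁ ⟶ R f` are natural transformations
exhibiting each `R₁ d` as the product of the `R f d`, then the conjugate transformations
`L f ⟶ L₁` exhibit each `L₁ c` as the coproduct of the `L f c`.
-/

set_option autoImplicit false
universe w v₁ v₂ u₁ u₂
open CategoryTheory CategoryTheory.Limits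

namespace Groth.Agent.Lib.Helper31.ConjCoprod

variable {C : Type u₁} {D : Type u₂} [Category.{v₁} C] [Category.{v₂} D]
  {L₁ : C ⥤ D} {R₁ : D ⥤ C} (adj₁ : L₁ ⊣ R₁)
  {ι : Type w} {L : ι → (C ⥤ D)} {R : ι → (D ⥤ C)} (adj : ∀ f, L f ⊣ R f)
  (π : ∀ f, R₁ ⟶ R f)

/-- The conjugate of `π f`. -/
noncomputable def conj (f : ι) : L f ⟶ L₁ := (conjugateEquiv adj₁ (adj f)).symm (π f)

theorem homEquiv_conj_comp (f : ι) {c : C} {d : D} (m : L₁.obj c ⟶ d) :
    (adj f).homEquiv c d ((conj adj₁ adj π f).app c ≫ m) =
      adj₁.homEquiv c d m ≫ (π f).app d := by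
  rw [Adjunction.homEquiv_unit, Adjunction.homEquiv_unit, Functor.map_comp, ← Category.assoc,
    conj, ← unit_conjugateEquiv_symm adj₁ (adj f) (π f) c, Category.assoc, Category.assoc,
    (π f).naturality]

/-- The cofan of conjugates. -/
noncomputable def cofan (c : C) : Cofan fun f => (L f).obj c :=
  Cofan.mk (L₁.obj c) (fun f => (conj adj₁ adj π f).app c)

/-- If the `π f` exhibit `R₁ d` as a product for every `d`, the conjugates exhibit `L₁ c` as a
coproduct. -/
noncomputable def isColimitCofan
    (hπ : ∀ d : D, IsLimit (Fan.mk (R₁.obj d) (fun f => (π f).app d))) (c : C) :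
    IsColimit (cofan adj₁ adj π c) :=
  Cofan.IsColimit.mk _
    (fun s => (adj₁.homEquiv c s.pt).symm
      (Fan.IsLimit.lift (hπ s.pt) (fun f => (adj f).homEquiv c s.pt (s.inj f))))
    (fun s f => by
      apply ((adj f).homEquiv c s.pt).injective
      have := homEquiv_conj_comp adj₁ adj π f
        ((adj₁.homEquiv c s.pt).symm
          (Fan.IsLimit.lift (hπ s.pt) (fun f => (adj f).homEquiv c s.pt (s.inj f))))
      dsimp [cofan] at this ⊢
      rw [this, Equiv.apply_symm_apply]
      exact Fan.IsLimit.fac (hπ s.pt) _ f)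
    (fun s m hm => by
      apply (adj₁.homEquiv c s.pt).injective
      rw [Equiv.apply_symm_apply]
      apply Fan.IsLimit.hom_ext (hπ s.pt)
      intro f
      refine Eq.trans ?_ (Fan.IsLimit.fac (hπ s.pt) _ f).symm
      have h1 := homEquiv_conj_comp adj₁ adj π f (c := c) (d := s.pt) m
      have h2 : (conj adj₁ adj π f).app c ≫ m = s.inj f := hm f
      rw [h2] at h1
      exact h1.symm)

end Groth.Agent.Lib.Helper31.ConjCoprod
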