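import Mathlib.CategoryTheory.ConnectedComponents
import Mathlib.CategoryTheory.Filtered.Basic

set_option autoImplicit false
open CategoryTheory
universe v u

namespace Groth.Agent.Lib.Helper31

theorem zigzag_common_target {I : Type u} [Category.{v} I]
    (h1 : ∀ ⦃w x y : I⦄ (a : w ⟶ x) (b : w ⟶ y), ∃ (z : I) (c : x ⟶ z) (d : y ⟶ z), a ≫ c = b ≫ d)
    {x y : I} (h : Zigzag x y) : ∃ (z : I), Nonempty (x ⟶ z) ∧ Nonempty (y ⟶ z) := by
  induction h with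
  | refl => exact ⟨x, ⟨𝟙 x⟩, ⟨𝟙 x⟩⟩
  | tail _ hbc ih =>
    obtain ⟨z, ⟨f⟩, ⟨g⟩⟩ := ih
    rcases hbc with ⟨⟨k⟩⟩ | ⟨⟨k⟩⟩
    · obtain ⟨z', c, d, _⟩ := h1 g k
      exact ⟨z', ⟨f ≫ c⟩, ⟨d⟩⟩
    · exact ⟨z, ⟨f⟩, ⟨k ≫ g⟩⟩

theorem isFiltered_component {I : Type u} [Category.{v} I]
    (h1 : ∀ ⦃w x y : I⦄ (a : w ⟶ x) (b : w ⟶ y), ∃ (z : I) (c : x ⟶ z) (d : y ⟶ z), a ≫ c = b ≫ d)
    (h2 : ∀ ⦃x y : I⦄ (a b : x ⟶ y), ∃ (z : I) (c : y ⟶ z), a ≫ c = b ≫ c)
    (j : ConnectedComponents I) : IsFiltered j.Component := by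
  have hmem : ∀ (x : j.Component) (z : I), (x.obj ⟶ z) → j.objectProperty z := by
    intro x z f
    have hx : Quotient.mk'' x.obj = j := x.property
    change Quotient.mk'' z = j
    rw [← hx]
    exact (Quotient.sound' (Zigzag.of_hom f)).symm
  have : IsFilteredOrEmpty j.Component := by
    constructor
    · intro x y
      have hx : Quotient.mk'' x.obj = j := x.property
      have hy : Quotient.mk'' y.obj = j := y.property
      have hz : Zigzag x.obj y.obj := Quotient.exact' (hx.trans hy.symm)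
      obtain ⟨z, ⟨f⟩, ⟨g⟩⟩ := zigzag_common_target h1 hz
      exact ⟨⟨z, hmem x z f⟩, ObjectProperty.homMk f, ObjectProperty.homMk g, trivial⟩
    · intro x y a b
      obtain ⟨z, c, hc⟩ := h2 a.hom b.hom
      refine ⟨⟨z, hmem y z c⟩, ObjectProperty.homMk c, ?_⟩
      apply ObjectProperty.hom_ext
      exact hc
  constructor

end Groth.Agent.Lib.Helper31
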