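import Mathlib.CategoryTheory.Limits.Types.Colimits

set_option autoImplicit false
open CategoryTheory CategoryTheory.Limits
universe v u

namespace Groth.Agent.Lib.Helper31

section

variable {I : Type v} [SmallCategory I]
    (hI : ∀ ⦃x y z : I⦄ (f : x ⟶ y) (g : x ⟶ z), ∃ (w : I) (f' : y ⟶ w) (g' : z ⟶ w), f ≫ f' = g ≫ g')

/-- the explicit relation -/
def SpanRel (N : I ⥤ Type v) (p q : Σ j, N.obj j) : Prop :=
  ∃ (k : I) (f : p.1 ⟶ k) (g : q.1 ⟶ k), N.map f p.2 = N.map g q.2

include hI in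
theorem spanRel_of_eqvGen (N : I ⥤ Type v) {p q : Σ j, N.obj j}
    (h : Relation.EqvGen N.ColimitTypeRel p q) : SpanRel N p q := by
  induction h with
  | rel x y hxy =>
    obtain ⟨f, hf⟩ := hxy
    exact ⟨y.1, f, 𝟙 _, by simp [hf]⟩
  | refl x => exact ⟨x.1, 𝟙 _, 𝟙 _, rfl⟩
  | symm x y _ ih =>
    obtain ⟨k, f, g, h⟩ := ih
    exact ⟨k, g, f, h.symm⟩
  | trans x y z _ _ ih1 ih2 =>
    obtain ⟨k, f, g, h⟩ := ih1
    obtain ⟨k', f', g', h'⟩ := ih2
    obtain ⟨w, a, b, hab⟩ := hI g f'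
    refine ⟨w, f ≫ a, g' ≫ b, ?_⟩
    rw [N.map_comp, N.map_comp]
    simp only [ConcreteCategory.comp_apply]
    rw [h, ← h']
    have := congrArg (fun t => N.map t y.2) hab
    simpa using this

include hI in
theorem colimMap_injective_of_span {M N : I ⥤ Type v} (φ : M ⟶ N) (hφ : ∀ i, Function.Injective (φ.app i)) :
    Function.Injective (colimMap φ) := by
  intro x y hxy
  obtain ⟨i, m, rfl⟩ := Types.jointly_surjective' x
  obtain ⟨j, n, rfl⟩ := Types.jointly_surjective' y
  have e1 : colimMap φ (colimit.ι M i m) = colimit.ι N i (φ.app i m) :=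
    ConcreteCategory.congr_hom (ι_colimMap φ i) m
  have e2 : colimMap φ (colimit.ι M j n) = colimit.ι N j (φ.app j n) :=
    ConcreteCategory.congr_hom (ι_colimMap φ j) n
  rw [e1, e2] at hxy
  obtain ⟨k, f, g, h⟩ := spanRel_of_eqvGen hI N (Types.colimit_eq hxy)
  dsimp at f g h
  have n1 : N.map f (φ.app i m) = φ.app k (M.map f m) :=
    (ConcreteCategory.congr_hom (φ.naturality f) m).symm
  have n2 : N.map g (φ.app j n) = φ.app k (M.map g n) :=
    (ConcreteCategory.congr_hom (φ.naturality g) n).symm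
  rw [n1, n2] at h
  have h' := hφ k h
  have e3 : colimit.ι M k (M.map f m) = colimit.ι M i m :=
    ConcreteCategory.congr_hom (colimit.w M f) m
  have e4 : colimit.ι M k (M.map g n) = colimit.ι M j n :=
    ConcreteCategory.congr_hom (colimit.w M g) n
  rw [← e3, ← e4, h']

end

end Groth.Agent.Lib.Helper31
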