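import Mathlib.CategoryTheory.Limits.Types.Colimits
import Mathlib.CategoryTheory.Limits.Types.Limits
import Mathlib.CategoryTheory.Limits.FunctorCategory.Basic
import Mathlib.CategoryTheory.IsConnected
import Mathlib.CategoryTheory.FinCategory.Basic
import Mathlib.Data.Fintype.Sigma
import Groth.Agent.Lib.Helper31.TypesColimInj
import Groth.Agent.Lib.Helper31.ConnComp

set_option autoImplicit false
open CategoryTheory CategoryTheory.Limits
universe v u w

namespace Groth.Agent.Lib.Helper31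

namespace ConnColim

section

variable {I : Type u} [Category.{v} I]
  (h1 : ∀ ⦃w x y : I⦄ (a : w ⟶ x) (b : w ⟶ y), ∃ (z : I) (c : x ⟶ z) (d : y ⟶ z), a ≫ c = b ≫ d)
  (h2 : ∀ ⦃x y : I⦄ (a b : x ⟶ y), ∃ (z : I) (c : y ⟶ z), a ≫ c = b ≫ c)

include h1 in
theorem joint_one {ι : Type w} [Finite ι] {k : I} (P : ι → ∀ k', (k ⟶ k') → Prop)
    (hstab : ∀ a k' (t : k ⟶ k'), P a k' t → ∀ k'' (s : k' ⟶ k''), P a k'' (t ≫ s))
    (hex : ∀ a, ∃ k' t, P a k' t) : ∃ k' t, ∀ a, P a k' t := by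
  classical
  letI := Fintype.ofFinite ι
  have key : ∀ S : Finset ι, ∃ k' t, ∀ a ∈ S, P a k' t := by
    intro S
    induction S using Finset.induction_on with
    | empty => exact ⟨k, 𝟙 k, by simp⟩
    | insert a S _ ih =>
      obtain ⟨k', t, ht⟩ := ih
      obtain ⟨ka, ta, hta⟩ := hex a
      obtain ⟨z, c, d, hcd⟩ := h1 t ta
      refine ⟨z, t ≫ c, ?_⟩
      intro b hb
      rcases Finset.mem_insert.1 hb with rfl | hb
      · rw [hcd]
        exact hstab _ _ _ hta _ d
      · exact hstab _ _ _ (ht b hb) _ c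
  obtain ⟨k', t, ht⟩ := key Finset.univ
  exact ⟨k', t, fun a => ht a (Finset.mem_univ a)⟩

include h1 h2 in
theorem joint_two {ι : Type w} [Finite ι] [Nonempty ι] {i i' : I}
    (P : ι → ∀ k, (i ⟶ k) → (i' ⟶ k) → Prop)
    (hstab : ∀ a k (f : i ⟶ k) (g : i' ⟶ k), P a k f g →
      ∀ k' (s : k ⟶ k'), P a k' (f ≫ s) (g ≫ s))
    (hex : ∀ a, ∃ k f g, P a k f g) : ∃ k f g, ∀ a, P a k f g := by
  classical
  letI := Fintype.ofFinite ι
  obtain ⟨a0⟩ := ‹Nonempty ι›
  have key : ∀ S : Finset ι, ∃ k f g, P a0 k f g ∧ ∀ a ∈ S, P a k f g := by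
    intro S
    induction S using Finset.induction_on with
    | empty =>
      obtain ⟨k, f, g, h⟩ := hex a0
      exact ⟨k, f, g, h, by simp⟩
    | insert a S _ ih =>
      obtain ⟨k, f, g, h0, hS⟩ := ih
      obtain ⟨ka, fa, ga, ha⟩ := hex a
      obtain ⟨z, c, d, hcd⟩ := h1 f fa
      obtain ⟨z', e, he⟩ := h2 (g ≫ c) (ga ≫ d)
      refine ⟨z', f ≫ c ≫ e, g ≫ c ≫ e, hstab _ _ _ _ h0 _ _, ?_⟩
      intro b hb
      rcases Finset.mem_insert.1 hb with rfl | hb
      · have e1 : f ≫ c ≫ e = fa ≫ d ≫ e := by rw [← Category.assoc, hcd, Category.assoc]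
        have e2 : g ≫ c ≫ e = ga ≫ d ≫ e := by
          rw [← Category.assoc, he, Category.assoc]
        rw [e1, e2]
        exact hstab _ _ _ _ ha _ _
      · exact hstab _ _ _ _ (hS b hb) _ _
  obtain ⟨k, f, g, _, h⟩ := key Finset.univ
  exact ⟨k, f, g, fun a => h a (Finset.mem_univ a)⟩

include h1 in
theorem exists_common_target {ι : Type w} [Finite ι] (o : ι → I)
    (i0 : I) (h0 : ∀ a, Zigzag i0 (o a)) :
    ∃ k, ∀ a, Nonempty (o a ⟶ k) := by
  classical
  letI := Fintype.ofFinite ι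
  have key : ∀ S : Finset ι, ∃ k, Zigzag i0 k ∧ ∀ a ∈ S, Nonempty (o a ⟶ k) := by
    intro S
    induction S using Finset.induction_on with
    | empty => exact ⟨i0, Relation.ReflTransGen.refl, by simp⟩
    | insert a S _ ih =>
      obtain ⟨k, hk, hS⟩ := ih
      have hak : Zigzag (o a) k := (h0 a).symm.trans hk
      obtain ⟨z, ⟨f⟩, ⟨g⟩⟩ := zigzag_common_target h1 hak
      refine ⟨z, hk.trans (Zigzag.of_hom g), ?_⟩
      intro b hb
      rcases Finset.mem_insert.1 hb with rfl | hb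
      · exact ⟨f⟩
      · obtain ⟨t⟩ := hS b hb
        exact ⟨t ≫ g⟩
  obtain ⟨k, _, h⟩ := key Finset.univ
  exact ⟨k, fun a => h a (Finset.mem_univ a)⟩

theorem zigzag_of_forall_hom {J : Type w} [Category J] {I : Type u} [Category.{v} I] (o : J → I)
    (h : ∀ (j j' : J), (j ⟶ j') → Zigzag (o j) (o j')) {j₁ j₂ : J} (hz : Zigzag j₁ j₂) :
    Zigzag (o j₁) (o j₂) := by
  induction hz with
  | refl => exact Zigzag.refl _
  | tail _ hbc ih =>
    rcases hbc with ⟨⟨k⟩⟩ | ⟨⟨k⟩⟩
    · exact ih.trans (h _ _ k)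
    · exact ih.trans (h _ _ k).symm

end

section main

variable {I : Type v} [SmallCategory I] {J : Type} [SmallCategory J] {K : J ⥤ I ⥤ Type v}
  (c : Cone K) (hc : IsLimit c)

include hc in
theorem cone_ext (i : I) (x y : c.pt.obj i)
    (h : ∀ j, (c.π.app j).app i x = (c.π.app j).app i y) : x = y := by
  have hl := isLimitOfPreserves ((evaluation I (Type v)).obj i) hc
  obtain ⟨z, _, hz⟩ := (Types.isLimit_iff _).1 ⟨hl⟩ _
    (Types.sectionOfCone (((evaluation I (Type v)).obj i).mapCone c) y).2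
  rw [hz x h, hz y (fun _ => rfl)]

include hc in
theorem cone_mk (i : I) (s : ∀ j, (K.obj j).obj i)
    (hs : ∀ (j j' : J) (φ : j ⟶ j'), (K.map φ).app i (s j) = s j') :
    ∃ x : c.pt.obj i, ∀ j, (c.π.app j).app i x = s j := by
  have hl := isLimitOfPreserves ((evaluation I (Type v)).obj i) hc
  obtain ⟨z, hz, _⟩ := (Types.isLimit_iff _).1 ⟨hl⟩ s (fun {j j'} φ => hs j j' φ)
  exact ⟨z, hz⟩

theorem colim_map_ι {F G : I ⥤ Type v} (α : F ⟶ G) (i : I) (m : F.obj i) :
    colim.map α (colimit.ι F i m) = colimit.ι G i (α.app i m) :=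
  ConcreteCategory.congr_hom (ι_colimMap α i) m

theorem ι_map (F : I ⥤ Type v) {i k : I} (f : i ⟶ k) (m : F.obj i) :
    colimit.ι F k (F.map f m) = colimit.ι F i m :=
  ConcreteCategory.congr_hom (colimit.w F f) m

theorem nat_apply {F G : I ⥤ Type v} (α : F ⟶ G) {i k : I} (f : i ⟶ k) (m : F.obj i) :
    G.map f (α.app i m) = α.app k (F.map f m) :=
  (ConcreteCategory.congr_hom (α.naturality f) m).symm

theorem map_comp_apply (F : I ⥤ Type v) {i k l : I} (f : i ⟶ k) (g : k ⟶ l) (m : F.obj i) :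
    F.map (f ≫ g) m = F.map g (F.map f m) := by
  rw [F.map_comp]; rfl

variable (h1 : ∀ ⦃w x y : I⦄ (a : w ⟶ x) (b : w ⟶ y), ∃ (z : I) (c : x ⟶ z) (d : y ⟶ z), a ≫ c = b ≫ d)
  (h2 : ∀ ⦃x y : I⦄ (a b : x ⟶ y), ∃ (z : I) (c : y ⟶ z), a ≫ c = b ≫ c)

include hc h1 h2 in
theorem isLimit_colim_mapCone [FinCategory J] [IsConnected J] :
    Nonempty (IsLimit (colim.mapCone c)) := by
  classical
  rw [Types.isLimit_iff]
  intro s hs
  have hs' : ∀ (j j' : J) (φ : j ⟶ j'), colim.map (K.map φ) (s j) = s j' := fun j j' φ => hs φ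
  show ∃! x : colimit c.pt, ∀ j, colim.map (c.π.app j) x = s j
  -- Existence
  have hex : ∃ x : colimit c.pt, ∀ j, colim.map (c.π.app j) x = s j := by
    have hrep : ∀ j, ∃ (i : I) (x : (K.obj j).obj i), colimit.ι (K.obj j) i x = s j :=
      fun j => Types.jointly_surjective' (s j)
    choose o x hx using hrep
    have hzig : ∀ j j' : J, (j ⟶ j') → Zigzag (o j) (o j') := by
      intro j j' φ
      have e : colimit.ι (K.obj j') (o j) ((K.map φ).app (o j) (x j)) =
          colimit.ι (K.obj j') (o j') (x j') := by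
        rw [← colim_map_ι, hx, hs', hx]
      obtain ⟨k, f, g, _⟩ := spanRel_of_eqvGen h1 _ (Types.colimit_eq e)
      exact Zigzag.of_hom_inv f g
    obtain ⟨j0⟩ : Nonempty J := IsConnected.is_nonempty
    obtain ⟨k, hk⟩ := exists_common_target h1 o (o j0)
      (fun j => zigzag_of_forall_hom o hzig (isPreconnected_zigzag j0 j))
    have u : ∀ j, o j ⟶ k := fun j => (hk j).some
    set y : ∀ j, (K.obj j).obj k := fun j => (K.obj j).map (u j) (x j) with hy_def
    have hy : ∀ j, colimit.ι (K.obj j) k (y j) = s j := by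
      intro j
      rw [hy_def]
      simp only
      rw [ι_map, hx]
    -- coequalize all the compatibility relations
    let P : (Σ (j j' : J), j ⟶ j') → ∀ k', (k ⟶ k') → Prop := fun a k' w =>
      (K.obj a.2.1).map w ((K.map a.2.2).app k (y a.1)) = (K.obj a.2.1).map w (y a.2.1)
    have hstab : ∀ a k' (t : k ⟶ k'), P a k' t → ∀ k'' (r : k' ⟶ k''), P a k'' (t ≫ r) := by
      intro a k' t ht k'' r
      simp only [P] at ht ⊢
      rw [map_comp_apply, map_comp_apply, ht]
    have hexP : ∀ a, ∃ k' t, P a k' t := by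
      rintro ⟨j, j', φ⟩
      have e : colimit.ι (K.obj j') k ((K.map φ).app k (y j)) = colimit.ι (K.obj j') k (y j') := by
        rw [← colim_map_ι, hy, hs', hy]
      obtain ⟨ka, f, g, hfg⟩ := spanRel_of_eqvGen h1 _ (Types.colimit_eq e)
      dsimp only at f g hfg
      obtain ⟨z, r, hr⟩ := h2 f g
      refine ⟨z, f ≫ r, ?_⟩
      simp only [P]
      rw [map_comp_apply, hfg, ← map_comp_apply, hr]
    obtain ⟨k', w, hw⟩ := joint_one h1 P hstab hexP
    set z : ∀ j, (K.obj j).obj k' := fun j => (K.obj j).map w (y j) with hz_def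
    have hz : ∀ (j j' : J) (φ : j ⟶ j'), (K.map φ).app k' (z j) = z j' := by
      intro j j' φ
      have := hw ⟨j, j', φ⟩
      simp only [P] at this
      rw [hz_def]
      simp only
      rw [← nat_apply, this]
    obtain ⟨m, hm⟩ := cone_mk c hc k' z hz
    refine ⟨colimit.ι c.pt k' m, fun j => ?_⟩
    rw [colim_map_ι (F := c.pt) (G := K.obj j) (c.π.app j) k' m, hm, hz_def]
    simp only
    rw [ι_map, hy]
  obtain ⟨x, hx⟩ := hex
  refine ⟨x, hx, ?_⟩
  intro x' hx'
  obtain ⟨i, m, rfl⟩ := Types.jointly_surjective' x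
  obtain ⟨i', m', rfl⟩ := Types.jointly_surjective' x'
  let P : J → ∀ k, (i' ⟶ k) → (i ⟶ k) → Prop := fun j k f g =>
    (K.obj j).map f ((c.π.app j).app i' m') = (K.obj j).map g ((c.π.app j).app i m)
  have hstab : ∀ a k (f : i' ⟶ k) (g : i ⟶ k), P a k f g →
      ∀ k' (r : k ⟶ k'), P a k' (f ≫ r) (g ≫ r) := by
    intro a k f g hfg k' r
    simp only [P] at hfg ⊢
    rw [map_comp_apply, map_comp_apply, hfg]
  have hexP : ∀ a, ∃ k f g, P a k f g := by
    intro j
    have e : colimit.ι (K.obj j) i' ((c.π.app j).app i' m') =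
        colimit.ι (K.obj j) i ((c.π.app j).app i m) := by
      rw [← colim_map_ι (F := c.pt) (G := K.obj j) (c.π.app j) i' m',
        ← colim_map_ι (F := c.pt) (G := K.obj j) (c.π.app j) i m, hx' j, hx j]
    obtain ⟨k, f, g, hfg⟩ := spanRel_of_eqvGen h1 _ (Types.colimit_eq e)
    exact ⟨k, f, g, hfg⟩
  haveI : Nonempty J := IsConnected.is_nonempty
  obtain ⟨k, f, g, hfg⟩ := joint_two h1 h2 P hstab hexP
  have hmm : c.pt.map f m' = c.pt.map g m := by
    apply cone_ext c hc k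
    intro j
    rw [← nat_apply (F := c.pt) (G := K.obj j) (c.π.app j) f m',
      ← nat_apply (F := c.pt) (G := K.obj j) (c.π.app j) g m]
    exact hfg j
  rw [← ι_map c.pt f m', ← ι_map c.pt g m, hmm]

end main

end ConnColim

end Groth.Agent.Lib.Helper31
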