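import Mathlib.CategoryTheory.Limits.Shapes.Pullback.HasPullback
import Mathlib.CategoryTheory.Limits.Shapes.Equalizers
import Mathlib.CategoryTheory.FinCategory.Basic
import Mathlib.CategoryTheory.IsConnected
import Mathlib.Data.Fintype.Sigma
import Mathlib.Data.Fintype.Card

set_option autoImplicit false
open CategoryTheory CategoryTheory.Limits
universe v u

namespace Groth.Agent.Lib.Helper31

namespace ConnLim

variable {C : Type u} [Category.{v} C]

/-- joint equalizer of a finite list of parallel pairs with common source. -/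
theorem exists_joint_equalizer [HasEqualizers C] {P : C} :
    ∀ (l : List (Σ Y : C, (P ⟶ Y) × (P ⟶ Y))),
    ∃ (E : C) (e : E ⟶ P), Mono e ∧ (∀ t ∈ l, e ≫ t.2.1 = e ≫ t.2.2) ∧
      ∀ {A : C} (a : A ⟶ P), (∀ t ∈ l, a ≫ t.2.1 = a ≫ t.2.2) → ∃ a' : A ⟶ E, a' ≫ e = a := by
  intro l
  induction l with
  | nil =>
    exact ⟨P, 𝟙 P, inferInstance, by simp, fun a _ => ⟨a, by simp⟩⟩
  | cons t l ih =>
    obtain ⟨E, e, hmono, heq, hlift⟩ := ih
    refine ⟨equalizer (e ≫ t.2.1) (e ≫ t.2.2), equalizer.ι _ _ ≫ e, mono_comp _ _, ?_, ?_⟩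
    · intro t' ht'
      rcases List.mem_cons.mp ht' with rfl | h'
      · rw [Category.assoc, Category.assoc]
        exact equalizer.condition _ _
      · rw [Category.assoc, Category.assoc, heq t' h']
    · intro A a ha
      obtain ⟨a', ha'⟩ := hlift a (fun t' ht' => ha t' (List.mem_cons_of_mem _ ht'))
      have h1 : a' ≫ (e ≫ t.2.1) = a' ≫ (e ≫ t.2.2) := by
        rw [← Category.assoc, ← Category.assoc, ha']
        exact ha t (List.mem_cons_self)
      exact ⟨equalizer.lift a' h1, by rw [← Category.assoc, equalizer.lift_ι, ha']⟩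

variable {J : Type} [SmallCategory J] (D : J ⥤ C)

/-- a jointly monic family through which all cones factor. -/
def Good (S : Set J) : Prop :=
  ∃ (P : C) (π : ∀ i, i ∈ S → (P ⟶ D.obj i)),
    (∀ s : Cone D, ∃ u : s.pt ⟶ P, ∀ i (hi : i ∈ S), u ≫ π i hi = s.π.app i) ∧
    (∀ {A : C} (u u' : A ⟶ P), (∀ i hi, u ≫ π i hi = u' ≫ π i hi) → u = u')

theorem good_singleton (j₀ : J) : Good D {j₀} := by
  refine ⟨D.obj j₀, fun i hi => eqToHom (by rw [Set.mem_singleton_iff.mp hi]), ?_, ?_⟩
  · intro s
    refine ⟨s.π.app j₀, ?_⟩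
    intro i hi
    have : i = j₀ := Set.mem_singleton_iff.mp hi
    subst this
    simp
  · intro A u u' h
    have := h j₀ rfl
    simpa using this

open Classical in
theorem good_insert [HasPullbacks C] {S : Set J} (hS : Good D S) {k i : J} (hk : k ∈ S) (hi : i ∉ S)
    (hki : Zag k i) : Good D (insert i S) := by
  obtain ⟨P, π, hlift, hmono⟩ := hS
  have hmem : ∀ j, j ∈ insert i S → j ∉ S → j = i := by
    intro j hj hjS
    rcases Set.mem_insert_iff.mp hj with h | h
    · exact h
    · exact (hjS h).elim
  rcases hki with ⟨⟨g⟩⟩ | ⟨⟨g⟩⟩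
  · -- g : k ⟶ i
    refine ⟨P, fun j hj => if h : j ∈ S then π j h else
      π k hk ≫ D.map g ≫ eqToHom (by rw [hmem j hj h]), ?_, ?_⟩
    · intro s
      obtain ⟨u, hu⟩ := hlift s
      refine ⟨u, ?_⟩
      intro j hj
      dsimp only
      by_cases h : j ∈ S
      · rw [dif_pos h]; exact hu j h
      · rw [dif_neg h]
        have := hmem j hj h
        subst this
        rw [← Category.assoc, hu k hk]
        simp
    · intro A u u' h
      apply hmono
      intro j hj
      have := h j (Set.mem_insert_of_mem _ hj)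
      dsimp only at this
      rw [dif_pos hj] at this
      exact this
  · -- g : i ⟶ k
    refine ⟨pullback (π k hk) (D.map g), fun j hj => if h : j ∈ S then pullback.fst _ _ ≫ π j h else
      pullback.snd _ _ ≫ eqToHom (by rw [hmem j hj h]), ?_, ?_⟩
    · intro s
      obtain ⟨u, hu⟩ := hlift s
      have hw : u ≫ π k hk = s.π.app i ≫ D.map g := by
        rw [hu k hk, s.w g]
      refine ⟨pullback.lift u (s.π.app i) hw, ?_⟩
      intro j hj
      dsimp only
      by_cases h : j ∈ S
      · rw [dif_pos h, ← Category.assoc, pullback.lift_fst]; exact hu j h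
      · rw [dif_neg h]
        have := hmem j hj h
        subst this
        rw [← Category.assoc, pullback.lift_snd]
        simp
    · intro A u u' h
      apply pullback.hom_ext
      · apply hmono
        intro j hj
        have := h j (Set.mem_insert_of_mem _ hj)
        dsimp only at this
        rw [dif_pos hj] at this
        simpa using this
      · have := h i (Set.mem_insert _ _)
        dsimp only at this
        rw [dif_neg hi] at this
        simpa using this

/-- a zigzag leaving a set crosses its boundary. -/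
theorem exists_zag_boundary (S : Set J) {j : J} (hj : j ∈ S) {i : J} (h : Zigzag j i) (hi : i ∉ S) :
    ∃ k ∈ S, ∃ i' ∉ S, Zag k i' := by
  induction h with
  | refl => exact (hi hj).elim
  | @tail b c _ hbc ih =>
    by_cases hb : b ∈ S
    · exact ⟨b, hb, c, hi, hbc⟩
    · exact ih hb

section Fin

variable [FinCategory J] [IsConnected J] [HasPullbacks C]

open Classical in
theorem good_of_finset (j₀ : J) : ∀ (n : ℕ) (S : Finset J), j₀ ∈ S →
    Fintype.card J - S.card = n → Good D (S : Set J) → Good D Set.univ := by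
  intro n
  induction n with
  | zero =>
    intro S _ hcard hS
    have h1 : S.card ≤ Fintype.card J := Finset.card_le_univ S
    have h2 : S.card = Fintype.card J := by omega
    have h3 : S = Finset.univ := (Finset.card_eq_iff_eq_univ S).mp h2
    rw [h3, Finset.coe_univ] at hS
    exact hS
  | succ n ih =>
    intro S hj₀ hcard hS
    have hne : S ≠ Finset.univ := by
      intro h
      rw [h, Finset.card_univ] at hcard
      omega
    obtain ⟨i, hi⟩ : ∃ i, i ∉ S := by
      by_contra hcon
      push Not at hcon
      exact hne (Finset.eq_univ_of_forall hcon)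
    have hz : Zigzag j₀ i := isPreconnected_zigzag j₀ i
    obtain ⟨k, hk, i', hi', hzag⟩ := exists_zag_boundary (S : Set J) (Finset.mem_coe.mpr hj₀) hz
      (by simpa using hi)
    have hgood := good_insert D hS hk hi' hzag
    have hi'' : i' ∉ S := by simpa using hi'
    have hcoe : (insert i' (S : Set J)) = ((insert i' S : Finset J) : Set J) := by
      rw [Finset.coe_insert]
    rw [hcoe] at hgood
    apply ih (insert i' S) (Finset.mem_insert_of_mem hj₀) _ hgood
    rw [Finset.card_insert_of_notMem hi'']
    have h1 : S.card ≤ Fintype.card J := Finset.card_le_univ S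
    omega

open Classical in
theorem good_univ : Good D Set.univ := by
  have j₀ : J := Classical.arbitrary J
  exact good_of_finset D j₀ _ {j₀} (Finset.mem_singleton_self j₀) rfl
    (by rw [Finset.coe_singleton]; exact good_singleton D j₀)

open Classical in
theorem hasLimit_of_connected [HasEqualizers C] : HasLimit D := by
  obtain ⟨P, π, hlift, hmono⟩ := good_univ D
  let l : List (Σ Y : C, (P ⟶ Y) × (P ⟶ Y)) :=
    (Finset.univ : Finset (Σ a b : J, a ⟶ b)).toList.map
      (fun t => ⟨D.obj t.2.1, (π t.1 (Set.mem_univ _) ≫ D.map t.2.2, π t.2.1 (Set.mem_univ _))⟩)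
  obtain ⟨E, e, he_mono, he_eq, he_lift⟩ := exists_joint_equalizer l
  have hcond : ∀ {a b : J} (g : a ⟶ b),
      e ≫ π a (Set.mem_univ _) ≫ D.map g = e ≫ π b (Set.mem_univ _) := by
    intro a b g
    have hmem : (⟨D.obj b, (π a (Set.mem_univ _) ≫ D.map g, π b (Set.mem_univ _))⟩ :
        Σ Y : C, (P ⟶ Y) × (P ⟶ Y)) ∈ l := by
      apply List.mem_map.mpr
      exact ⟨⟨a, b, g⟩, by simp, rfl⟩
    exact he_eq _ hmem
  let cone : Cone D :=
    { pt := E
      π := { app := fun i => e ≫ π i (Set.mem_univ _)
             naturality := fun a b g => by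
               simp only [Functor.const_obj_obj, Functor.const_obj_map, Category.id_comp,
                 Category.assoc]
               exact (hcond g).symm } }
  have hlift' : ∀ s : Cone D, ∃ a' : s.pt ⟶ E, ∀ i, a' ≫ e ≫ π i (Set.mem_univ _) = s.π.app i := by
    intro s
    obtain ⟨u, hu⟩ := hlift s
    have hu_eq : ∀ t ∈ l, u ≫ t.2.1 = u ≫ t.2.2 := by
      intro t ht
      obtain ⟨⟨a, b, g⟩, _, rfl⟩ := List.mem_map.mp ht
      dsimp only
      rw [← Category.assoc, hu a (Set.mem_univ _), hu b (Set.mem_univ _), s.w g]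
    obtain ⟨a', ha'⟩ := he_lift u hu_eq
    refine ⟨a', fun i => ?_⟩
    rw [← Category.assoc, ha', hu i (Set.mem_univ _)]
  choose lift hfac using hlift'
  refine ⟨⟨⟨cone, { lift := lift, fac := fun s i => hfac s i, uniq := ?_ }⟩⟩⟩
  intro s m hm
  have h1 : m ≫ e = lift s ≫ e := by
    apply hmono
    intro i _
    rw [Category.assoc, Category.assoc, hfac s i]
    exact hm i
  exact (cancel_mono e).mp h1

end Fin

end ConnLim

/-- a category with pullbacks and equalizers has finite connected limits. -/
theorem hasLimitsOfShape_of_connected_fin {C : Type u} [Category.{v} C] [HasEqualizers C] [HasPullbacks C]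
    (J : Type) [SmallCategory J] [FinCategory J] [IsConnected J] : HasLimitsOfShape J C :=
  ⟨fun D => ConnLim.hasLimit_of_connected D⟩

end Groth.Agent.Lib.Helper31
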