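import Mathlib
import Groth.Prelude.Def_Found

/-!
# Countable generation of finite modules over finite type algebras (helper31)
-/

set_option autoImplicit false
universe u

namespace Groth.Agent.Lib.Helper31.CountGen

theorem isCountablyGenerated_of_finiteType {R S : Type u} [CommRing R] [CommRing S] [Algebra R S]
    [Algebra.FiniteType R S] (N : Type u) [AddCommGroup N] [Module S N] [Module R N]
    [IsScalarTower R S N] [Module.Finite S N] : CAlg.IsCountablyGenerated R N := by
  classical
  obtain ⟨n, f, hf⟩ := (Algebra.FiniteType.iff_quotient_mvPolynomial'' (R := R) (S := S)).mp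
    inferInstance
  obtain ⟨k, g, hg⟩ := Module.Finite.exists_fin (R := S) (M := N)
  let T : Set N := Set.range fun mi : (Fin n →₀ ℕ) × Fin k =>
    f (MvPolynomial.monomial mi.1 1) • g mi.2
  refine ⟨T, Set.countable_range _, ?_⟩
  have h1 : ∀ (P : MvPolynomial (Fin n) R) (i : Fin k), f P • g i ∈ Submodule.span R T := by
    intro P i
    induction P using MvPolynomial.induction_on' with
    | monomial m a =>
      have : MvPolynomial.monomial m a = a • MvPolynomial.monomial m (1 : R) := by
        rw [MvPolynomial.smul_monomial, smul_eq_mul, mul_one]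
      rw [this, map_smul, smul_assoc]
      exact Submodule.smul_mem _ _ (Submodule.subset_span ⟨(m, i), rfl⟩)
    | add P Q hP hQ =>
      rw [map_add, add_smul]
      exact Submodule.add_mem _ hP hQ
  rw [eq_top_iff]
  intro x _
  have hx : x ∈ Submodule.span S (Set.range g) := by rw [hg]; trivial
  obtain ⟨c, rfl⟩ := (Submodule.mem_span_range_iff_exists_fun S).mp hx
  refine Submodule.sum_mem _ fun i _ => ?_
  obtain ⟨P, hP⟩ := hf (c i)
  rw [← hP]
  exact h1 P i

end Groth.Agent.Lib.Helper31.CountGen
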