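import Mathlib.Algebra.Homology.DerivedCategory.TStructure
import Mathlib.Algebra.Homology.DerivedCategory.FullyFaithful
import Mathlib.CategoryTheory.Triangulated.TStructure.TruncLTGE
import Mathlib.CategoryTheory.Triangulated.Yoneda

/-!
# Morphisms in the derived category which vanish on cohomology

Helper lemmas for S3731.
-/

universe w v u

open CategoryTheory CategoryTheory.Limits CategoryTheory.Pretriangulated CategoryTheory.Triangulated

namespace Groth.Agent.Lib.Helper31.DCohZero

variable {A : Type u} [Category.{v} A] [Abelian A] [HasDerivedCategory.{w} A]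

open DerivedCategory

/-- A morphism between objects concentrated in degree `b` which is zero on `H^b` is zero. -/
lemma eq_zero_of_homology_eq_zero_of_conc {U V : DerivedCategory A} (b : ℤ)
    [U.IsGE b] [U.IsLE b] [V.IsGE b] [V.IsLE b] (g : U ⟶ V)
    (hg : (homologyFunctor A b).map g = 0) : g = 0 := by
  obtain ⟨M, ⟨eU⟩⟩ := exists_iso_singleFunctor_obj_of_isGE_of_isLE U b
  obtain ⟨N, ⟨eV⟩⟩ := exists_iso_singleFunctor_obj_of_isGE_of_isLE V b
  obtain ⟨φ, hφ⟩ := (singleFunctor A b).map_surjective (eU.inv ≫ g ≫ eV.hom)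
  have h1 : (homologyFunctor A b).map ((singleFunctor A b).map φ) = 0 := by
    rw [hφ, Functor.map_comp, Functor.map_comp, hg]
    simp
  have h2 : φ = 0 := by
    have := NatIso.naturality_1 (singleFunctorCompHomologyFunctorIso A b) φ
    dsimp at this
    rw [← this, h1]
    simp
  rw [h2, Functor.map_zero] at hφ
  have : g = eU.hom ≫ (eU.inv ≫ g ≫ eV.hom) ≫ eV.inv := by simp
  rw [this, ← hφ]
  simp

/-- `H^b` of the truncation map `X ⟶ τ_{≥ b} X` is an epimorphism. -/
lemma epi_homology_truncGEπ (X : DerivedCategory A) (b : ℤ) :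
    Epi ((homologyFunctor A b).map ((TStructure.t.truncGEπ b).app X)) := by
  have hT := TStructure.t.triangleLTGE_distinguished b X
  have := (HomologySequence.epi_homologyMap_mor₂_iff _ hT b (b + 1) rfl).2
  apply this
  apply IsZero.eq_of_tgt
  exact isZero_of_isLE ((TStructure.t.truncLT b).obj X) (b - 1) (b + 1) (by lia)

/-- `H^b` of the truncation map `τ_{< b + 1} W ⟶ W` is a monomorphism. -/
lemma mono_homology_truncLTι (W : DerivedCategory A) (b : ℤ) :
    Mono ((homologyFunctor A b).map ((TStructure.t.truncLTι (b + 1)).app W)) := by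
  have hT := TStructure.t.triangleLTGE_distinguished (b + 1) W
  have := (HomologySequence.mono_homologyMap_mor₁_iff _ hT (b - 1) b (by lia)).2
  apply this
  apply IsZero.eq_of_src
  exact isZero_of_isGE ((TStructure.t.truncGE (b + 1)).obj W) (b + 1) (b - 1) (by lia)

/-- A morphism from an object `≤ b` to an object `≥ b` which is zero on `H^b` is zero. -/
lemma eq_zero_of_homology_eq_zero {X W : DerivedCategory A} (b : ℤ)
    [X.IsLE b] [W.IsGE b] (g : X ⟶ W)
    (hg : (homologyFunctor A b).map g = 0) : g = 0 := by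
  -- factor through `τ_{≥ b} X`
  have h1 : g = (TStructure.t.truncGEπ b).app X ≫ TStructure.t.descTruncGE g b :=
    (TStructure.t.π_descTruncGE g b).symm
  set g' := TStructure.t.descTruncGE g b with hg'
  -- factor through `τ_{< b+1} W`
  have h2 : g' = TStructure.t.liftTruncLT g' b (b + 1) rfl ≫ (TStructure.t.truncLTι (b + 1)).app W :=
    (TStructure.t.liftTruncLT_ι g' b (b + 1) rfl).symm
  set g'' := TStructure.t.liftTruncLT g' b (b + 1) rfl with hg''
  haveI : TStructure.t.IsLE ((TStructure.t.truncLT (b + 1)).obj W) b := inferInstance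
  have h3 : (homologyFunctor A b).map g'' = 0 := by
    haveI := epi_homology_truncGEπ X b
    haveI := mono_homology_truncLTι W b
    rw [← cancel_epi ((homologyFunctor A b).map ((TStructure.t.truncGEπ b).app X)),
      ← cancel_mono ((homologyFunctor A b).map ((TStructure.t.truncLTι (b + 1)).app W))]
    rw [comp_zero, zero_comp, ← Functor.map_comp, ← Functor.map_comp, Category.assoc, ← h2, ← h1, hg]
  have h4 : g'' = 0 := eq_zero_of_homology_eq_zero_of_conc b g'' h3
  rw [h1, h2, h4]
  simp

/-- A morphism `h : X ⟶ Y` from an object `≤ b` which is zero on `H^b` factors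
through `τ_{< b} Y`. -/
lemma exists_factor_truncLT {X Y : DerivedCategory A} (b : ℤ) [X.IsLE b] (h : X ⟶ Y)
    (hh : (homologyFunctor A b).map h = 0) :
    ∃ a : X ⟶ (TStructure.t.truncLT b).obj Y, h = a ≫ (TStructure.t.truncLTι b).app Y := by
  have hT := TStructure.t.triangleLTGE_distinguished b Y
  have h0 : h ≫ (TStructure.t.truncGEπ b).app Y = 0 := by
    apply eq_zero_of_homology_eq_zero b
    rw [Functor.map_comp, hh, zero_comp]
  exact Triangle.coyoneda_exact₂ _ hT h h0

/-- If `Z ⟶ X ⟶ S ⟶ Z⟦1⟧` is distinguished with `X ≤ k`, `S` concentrated in degree `k`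
and `H^k(X) ⟶ H^k(S)` an isomorphism, then `Z ≤ k - 1`. -/
lemma isLE_of_triangle {X S Z : DerivedCategory A} (k : ℤ) [X.IsLE k] [S.IsGE k] [S.IsLE k]
    (ι : Z ⟶ X) (π : X ⟶ S) (δ : S ⟶ Z⟦(1 : ℤ)⟧)
    (hT : Triangle.mk ι π δ ∈ distTriang (DerivedCategory A))
    (hπ : IsIso ((homologyFunctor A k).map π)) : Z.IsLE (k - 1) := by
  rw [DerivedCategory.isLE_iff]
  intro i hi
  have hex := HomologySequence.exact₁ _ hT (i - 1) i (by lia)
  apply hex.isZero_of_both_zeros
  · -- δ = 0
    by_cases hik : k = i - 1
    · subst hik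
      exact (HomologySequence.epi_homologyMap_mor₂_iff _ hT (i - 1) i (by lia)).1
        (by change Epi ((homologyFunctor A (i - 1)).map π); infer_instance)
    · apply IsZero.eq_of_src
      change IsZero ((homologyFunctor A (i - 1)).obj S)
      rcases lt_or_gt_of_ne hik with h | h
      · exact isZero_of_isLE S k _ h
      · exact isZero_of_isGE S k _ h
  · change (homologyFunctor A i).map ι = 0
    by_cases hik : k = i
    · subst hik
      rw [← cancel_mono ((homologyFunctor A k).map π), zero_comp, ← Functor.map_comp]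
      have : ι ≫ π = 0 := comp_distTriang_mor_zero₁₂ _ hT
      rw [this, Functor.map_zero]
    · apply IsZero.eq_of_tgt
      exact isZero_of_isLE X k i (by lia)

end Groth.Agent.Lib.Helper31.DCohZero
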