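import Groth.Agent.Lib.Helper6.FlatGor8
import Groth.Agent.Lib.Helper6.DimFun2
import Groth.Agent.Lib.Helper6.DimFun
import Groth.Agent.S1722

/-! Dimension functions of dualizing complexes: intervals and flat base change with Gorenstein
fibres (helper31). -/

set_option autoImplicit false
set_option linter.unusedSectionVars false
set_option linter.style.haveILetI false
universe u
open CategoryTheory CategoryTheory.Limits DerivedCategory Pretriangulated TensorProduct
attribute [local instance] HasDerivedCategory.standard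

namespace Groth.Agent.Lib.Helper31
namespace DimFunBC

open Groth.Agent.Lib.Helper6 Groth.Agent.Lib.Helper35 Groth.Agent.Lib.Helper35.FlatBC

section interval

open Order

/-- the Krull dimension of an interval of primes is computed by a dimension function. -/
theorem krullDim_Icc_of_dimFun {A : Type u} [CommRing A] [IsNoetherianRing A]
    (δ : PrimeSpectrum A → ℤ) (hδ : ∀ p q : PrimeSpectrum A, p ⋖ q → δ p = δ q + 1)
    (p q : PrimeSpectrum A) (hpq : p ≤ q) :
    ∃ n : ℕ, Order.krullDim (Set.Icc p q) = (n : WithBot ℕ∞) ∧ δ p = δ q + n := by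
  letI : OrderTop (Set.Icc p q) :=
    { top := ⟨q, hpq, le_rfl⟩
      le_top := fun x => x.2.2 }
  letI : OrderBot (Set.Icc p q) :=
    { bot := ⟨p, le_rfl, hpq⟩
      bot_le := fun x => x.2.1 }
  have hcov : ∀ x y : Set.Icc p q, x ⋖ y → (x : PrimeSpectrum A) ⋖ (y : PrimeSpectrum A) := by
    intro x y hxy
    refine ⟨hxy.lt, fun r hxr hry => ?_⟩
    exact hxy.2 (c := ⟨r, x.2.1.trans hxr.le, hry.le.trans y.2.2⟩) hxr hry
  have hδ' : ∀ x y : Set.Icc p q, x ⋖ y → δ x = δ y + 1 := fun x y h => hδ _ _ (hcov x y h)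
  have hfin : Order.coheight (⊥ : Set.Icc p q) < ⊤ := by
    have hq : Order.height q < ⊤ := DimFun.height_lt_top q
    refine lt_of_le_of_lt ?_ hq
    rw [Order.coheight_le_iff']
    intro s _
    have h1 := Order.length_le_height (x := q) (p := s.map (fun x : Set.Icc p q => (x : PrimeSpectrum A))
      (Subtype.strictMono_coe _)) (by
        rw [LTSeries.last_map]
        exact (s.last).2.2)
    simpa using h1
  obtain ⟨n, hn⟩ := ENat.ne_top_iff_exists.1 hfin.ne
  refine ⟨n, ?_, ?_⟩
  · rw [← Order.coheight_bot_eq_krullDim, ← hn]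
    rfl
  · exact DimFun.eq_add_coheight (fun x : Set.Icc p q => δ x) hδ' n ⊥ hn.symm

end interval

section FF

variable {A B : Type u} [CommRing A] [CommRing B] [Algebra A B] [Module.Flat A B]
  [IsNoetherianRing A] [IsNoetherianRing B]

open FlatGor HomBC LocDual InjDimMax in
set_option maxHeartbeats 800000 in
/-- **Fibre formula.**  For a flat map `A → B`, a prime `n` of `B` over `p` with Gorenstein fibre
local ring of dimension `d`: if `Ext^i_A(A/p, ω)_p` is concentrated in degree `s₀` then
`Ext^i_B(B/n, B ⊗ ω)_n` vanishes for `i ≠ s₀ + d`. -/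
theorem subsingleton_locHom_exact
    (p : Ideal A) [p.IsPrime] (n : Ideal B) [n.IsPrime] [n.LiesOver p]
    [Algebra (Localization.AtPrime p) (Localization.AtPrime n)]
    [Localization.AtPrime.IsLiesOverAlgebra p n]
    (ω : Dual.D A) (hω : Dual.IsDualizing A ω)
    (hGω : Dual.IsDualizing B ((G A B).obj ω)) (s₀ : ℤ)
    (hs₀ : ∀ i : ℤ, i ≠ s₀ →
      Subsingleton (LocalizedModule p.primeCompl (Dual.inD A (A ⧸ p) ⟶ ω⟦i⟧)))
    (d : ℕ)
    (hG : LocCoh.IsGorensteinLocalRing (Localization.AtPrime n ⧸
      (IsLocalRing.maximalIdeal (Localization.AtPrime p)).map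
        (algebraMap (Localization.AtPrime p) (Localization.AtPrime n))))
    (hdim : ringKrullDim (Localization.AtPrime n ⧸
      (IsLocalRing.maximalIdeal (Localization.AtPrime p)).map
        (algebraMap (Localization.AtPrime p) (Localization.AtPrime n))) = (d : WithBot ℕ∞))
    (i : ℤ) (hi : i ≠ s₀ + d) :
    Subsingleton (LocalizedModule n.primeCompl
      (Dual.inD B (B ⧸ n) ⟶ ((G A B).obj ω)⟦i⟧)) := by
  obtain ⟨a, b, hge, hle, hab⟩ := HomBC.isDualizing_bounds hω
  haveI := hge
  have hNp : IsNoetherianRing (Localization.AtPrime p) :=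
    IsLocalization.isNoetherianRing p.primeCompl _ inferInstance
  have hNn : IsNoetherianRing (Localization.AtPrime n) :=
    IsLocalization.isNoetherianRing n.primeCompl _ inferInstance
  have hflat : Module.Flat (Localization.AtPrime p) (Localization.AtPrime n) := inferInstance
  have hflatABn : Module.Flat A (Localization.AtPrime n) :=
    Module.Flat.trans A B (Localization.AtPrime n)
  have hGat : Dual.IsDualizing (Localization.AtPrime p) (Gat p ω) := isDualizing_Gat p ω hω
  obtain ⟨s, hs, hs'⟩ := Groth.Agent.S0364.result (Localization.AtPrime p) (Gat p ω) hGat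
    (IsLocalRing.maximalIdeal (Localization.AtPrime p))
  have hsb : s = s₀ := by
    by_contra hcon
    obtain ⟨e⟩ := nonempty_locHomEquiv_residue ω hω p s
    have := hs₀ s hcon
    have h1 : Subsingleton (Dual.inD (Localization.AtPrime p) (Localization.AtPrime p ⧸
        IsLocalRing.maximalIdeal (Localization.AtPrime p)) ⟶ (Gat p ω)⟦s⟧) := e.symm.subsingleton
    obtain ⟨e'⟩ := hs'
    have h2 : Subsingleton (Localization.AtPrime p ⧸
        IsLocalRing.maximalIdeal (Localization.AtPrime p)) := e'.symm.toEquiv.subsingleton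
    exact not_subsingleton _ h2
  subst hsb
  haveI : IsLocalRing (Localization.AtPrime n ⧸
      (IsLocalRing.maximalIdeal (Localization.AtPrime p)).map
        (algebraMap (Localization.AtPrime p) (Localization.AtPrime n))) := hG.toIsLocalRing
  haveI : (Gat p ω).IsGE a := isGE_G (B := Localization.AtPrime p) ω a
  have hN := fun (j : ℤ) (hj : j ∈ {j : ℤ | j ≠ (d : ℤ)}) => gorExact _ hG d hdim j hj
  have hloc := localThmT (A := Localization.AtPrime p) (B := Localization.AtPrime n)
    (RDual.adjq (qφ (B := Localization.AtPrime n)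
      (IsLocalRing.maximalIdeal (Localization.AtPrime p)))) (Gat p ω) a s hs hs'
      {j : ℤ | j ≠ (d : ℤ)} hN
  have h1 := hloc i (by
    show i - s ≠ (d : ℤ)
    omega)
  let c : (G B (Localization.AtPrime n)).obj ((G A B).obj ω) ≅
      (G (Localization.AtPrime p) (Localization.AtPrime n)).obj (Gat p ω) :=
    GComp.iso A B (Localization.AtPrime n) ω ≪≫
      (GComp.iso A (Localization.AtPrime p) (Localization.AtPrime n) ω).symm
  have h2 : Subsingleton (Dual.inD (Localization.AtPrime n) (Localization.AtPrime n ⧸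
      IsLocalRing.maximalIdeal (Localization.AtPrime n)) ⟶
      ((G B (Localization.AtPrime n)).obj ((G A B).obj ω))⟦i⟧) :=
    (Iso.homCongr (Iso.refl _)
      ((shiftFunctor (Dual.D (Localization.AtPrime n)) i).mapIso c)).subsingleton
  obtain ⟨e⟩ := nonempty_locHomEquiv_residue ((G A B).obj ω) hGω n i
  exact e.subsingleton

open Groth.Agent.Lib.Helper24 in
/-- Dimension functions under a flat base change with Gorenstein fibre local ring of dimension
`d` at `q`: `δ_B(q) = δ_A(q ∩ A) - d`. -/
theorem dimFun_baseChange (ω : Dual.D A) (hω : Dual.IsDualizing A ω)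
    (hGω : Dual.IsDualizing B ((G A B).obj ω))
    (δA : PrimeSpectrum A → ℤ)
    (hδA : ∀ (p : PrimeSpectrum A) (i : ℤ), Nontrivial (LocalizedModule p.asIdeal.primeCompl
      (Dual.inD A (A ⧸ p.asIdeal) ⟶ ω⟦i⟧)) ↔ i = -δA p)
    (δB : PrimeSpectrum B → ℤ)
    (hδB : ∀ (q : PrimeSpectrum B) (i : ℤ), Nontrivial (LocalizedModule q.asIdeal.primeCompl
      (Dual.inD B (B ⧸ q.asIdeal) ⟶ ((G A B).obj ω)⟦i⟧)) ↔ i = -δB q)
    (q : PrimeSpectrum B) (d : ℕ)
    (hG : LocCoh.IsGorensteinLocalRing (Localization.AtPrime q.asIdeal ⧸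
      (q.asIdeal.comap (algebraMap A B)).map (algebraMap A (Localization.AtPrime q.asIdeal))))
    (hdim : ringKrullDim (Localization.AtPrime q.asIdeal ⧸
      (q.asIdeal.comap (algebraMap A B)).map (algebraMap A (Localization.AtPrime q.asIdeal))) =
        (d : WithBot ℕ∞)) :
    δB q = δA (q.comap (algebraMap A B)) - d := by
  set p : Ideal A := q.asIdeal.comap (algebraMap A B) with hp
  haveI hlies : q.asIdeal.LiesOver p := ⟨rfl⟩
  letI := Localization.AtPrime.algebraOfLiesOver p q.asIdeal
  have hmap : (IsLocalRing.maximalIdeal (Localization.AtPrime p)).map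
      (algebraMap (Localization.AtPrime p) (Localization.AtPrime q.asIdeal)) =
      p.map (algebraMap A (Localization.AtPrime q.asIdeal)) := by
    rw [← Localization.AtPrime.map_eq_maximalIdeal, Ideal.map_map,
      ← IsScalarTower.algebraMap_eq]
  have hG' := (isGorensteinLocalRing_quotient_congr hmap).2 hG
  have hdim' : ringKrullDim (Localization.AtPrime q.asIdeal ⧸
      (IsLocalRing.maximalIdeal (Localization.AtPrime p)).map
        (algebraMap (Localization.AtPrime p) (Localization.AtPrime q.asIdeal))) =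
        (d : WithBot ℕ∞) := by
    rw [ringKrullDim_eq_of_ringEquiv (Ideal.quotEquivOfEq hmap)]
    exact hdim
  have hs₀ : ∀ i : ℤ, i ≠ -δA (q.comap (algebraMap A B)) →
      Subsingleton (LocalizedModule p.primeCompl (Dual.inD A (A ⧸ p) ⟶ ω⟦i⟧)) := by
    intro i hi
    have h := (hδA (q.comap (algebraMap A B)) i).not.2 hi
    exact not_nontrivial_iff_subsingleton.1 h
  have key := subsingleton_locHom_exact p q.asIdeal ω hω hGω (-δA (q.comap (algebraMap A B)))
    hs₀ d hG' hdim'
  have hnt := (hδB q (-δB q)).2 rfl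
  by_contra hne
  have := key (-δB q) (by omega)
  exact not_subsingleton _ this

end FF

end DimFunBC
end Groth.Agent.Lib.Helper31
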