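import Groth.Agent.Lib.Helper31.FormalFibreGor
import Groth.Agent.Lib.Helper31.DimFunBC
import Groth.Agent.Lib.Helper29.FormalFibreCMModule
import Groth.Agent.S0543
import Groth.Agent.S9602
import Groth.Agent.S0341

/-! Depth of localizations of an `I`-adic completion, over a ring with a dualizing complex
(helper31). -/

set_option autoImplicit false
set_option linter.unusedSectionVars false
set_option linter.style.haveILetI false
universe u
open CategoryTheory CategoryTheory.Limits DerivedCategory Pretriangulated TensorProduct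
attribute [local instance] HasDerivedCategory.standard

namespace Groth.Agent.Lib.Helper31
namespace DepthAdic

open Groth.Agent.Lib.Helper6 Groth.Agent.Lib.Helper24 Groth.Agent.Lib.Helper29
  Groth.Agent.Lib.Helper35

section adic

variable (A : Type u) [CommRing A] [IsNoetherianRing A] (I : Ideal A)

theorem surj_adic : Function.Surjective
    ((Ideal.Quotient.mk (I.map (algebraMap A (AdicCompletion I A)))).comp
      (algebraMap A (AdicCompletion I A))) := by
  have hfg : I.FG := IsNoetherian.noetherian I
  have hker := AdicCompletion.ker_evalOneₐ_eq_map I hfg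
  have hev : ∀ a : A, AdicCompletion.evalOneₐ I (algebraMap A (AdicCompletion I A) a) =
      Ideal.Quotient.mk I a := by
    intro a
    rw [AdicCompletion.algebraMap_apply]
    simp only [Algebra.algebraMap_self, RingHom.id_apply, AdicCompletion.evalOneₐ_of]
  intro y
  obtain ⟨x, rfl⟩ := Ideal.Quotient.mk_surjective y
  obtain ⟨a, ha⟩ := Ideal.Quotient.mk_surjective (AdicCompletion.evalOneₐ I x)
  refine ⟨a, ?_⟩
  rw [RingHom.comp_apply, Ideal.Quotient.eq, ← hker, RingHom.mem_ker]
  show AdicCompletion.evalOneₐ I (algebraMap A (AdicCompletion I A) a - x) = 0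
  rw [map_sub, hev, ha, sub_self]

theorem jac_adic : I.map (algebraMap A (AdicCompletion I A)) ≤
    (⊥ : Ideal (AdicCompletion I A)).jacobson := (Groth.Agent.S9602.result I).2.2

end adic

section general

variable {A B : Type u} [CommRing A] [CommRing B] [Algebra A B] [IsNoetherianRing A]
  [IsNoetherianRing B] [Module.Flat A B]

/-- a prime of `B` containing `IB` is extended from its contraction. -/
theorem map_comap_eq_of_le (I : Ideal A)
    (hs : Function.Surjective ((Ideal.Quotient.mk (I.map (algebraMap A B))).comp
      (algebraMap A B))) (n : Ideal B) (hIn : I.map (algebraMap A B) ≤ n) :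
    (n.comap (algebraMap A B)).map (algebraMap A B) = n := by
  have hIp : I ≤ n.comap (algebraMap A B) := by
    intro a ha
    exact hIn (Ideal.mem_map_of_mem _ ha)
  apply le_antisymm
  · exact Ideal.map_comap_le
  · intro x hx
    obtain ⟨a, ha⟩ := hs (Ideal.Quotient.mk _ x)
    have h1 : algebraMap A B a - x ∈ I.map (algebraMap A B) := by
      rw [← Ideal.Quotient.eq]
      exact ha
    have h2 : algebraMap A B a ∈ n := by
      have := n.add_mem (hIn h1) hx
      simpa using this
    have h3 : algebraMap A B a ∈ (n.comap (algebraMap A B)).map (algebraMap A B) :=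
      Ideal.mem_map_of_mem _ h2
    have h4 : algebraMap A B a - x ∈ (n.comap (algebraMap A B)).map (algebraMap A B) :=
      Ideal.map_mono hIp h1
    have := ((n.comap (algebraMap A B)).map (algebraMap A B)).sub_mem h3 h4
    simpa using this

set_option maxHeartbeats 800000 in
theorem main (I : Ideal A)
    (hs : Function.Surjective ((Ideal.Quotient.mk (I.map (algebraMap A B))).comp
      (algebraMap A B)))
    (hJ : I.map (algebraMap A B) ≤ (⊥ : Ideal B).jacobson) (ω : Dual.D A)
    (hω : Dual.IsDualizing A ω) (M : Type u) [AddCommGroup M] [Module A M] [Module.Finite A M]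
    (p' q' : PrimeSpectrum B) (hpq : p' ≤ q') (hq : I.map (algebraMap A B) ≤ q'.asIdeal) :
    LocCoh.depth (Localization.AtPrime (p'.asIdeal.comap (algebraMap A B)))
        (LocalizedModule (p'.asIdeal.comap (algebraMap A B)).primeCompl M) ≤
      LocCoh.depth (Localization.AtPrime p'.asIdeal)
        (LocalizedModule p'.asIdeal.primeCompl (B ⊗[A] M)) ∧
    ((LocCoh.depth (Localization.AtPrime p'.asIdeal)
        (LocalizedModule p'.asIdeal.primeCompl (B ⊗[A] M)) : ℕ∞) : WithBot ℕ∞) +
        Order.krullDim (Set.Icc p' q') =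
      ((LocCoh.depth (Localization.AtPrime (p'.asIdeal.comap (algebraMap A B)))
        (LocalizedModule (p'.asIdeal.comap (algebraMap A B)).primeCompl M) : ℕ∞) : WithBot ℕ∞) +
        Order.krullDim (Set.Icc (PrimeSpectrum.comap (algebraMap A B) p')
          (PrimeSpectrum.comap (algebraMap A B) q')) := by
  have hGω := FormalFibreGor.isDualizing_G_of_surj I hs hJ ω hω
  obtain ⟨δA, hδA, hcA⟩ := Groth.Agent.S1722.result A ω hω
  obtain ⟨δB, hδB, hcB⟩ := Groth.Agent.S1722.result B _ hGω
  set p : Ideal A := p'.asIdeal.comap (algebraMap A B) with hp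
  set q : Ideal A := q'.asIdeal.comap (algebraMap A B) with hq0
  haveI hlp : p'.asIdeal.LiesOver p := ⟨rfl⟩
  haveI hlq : q'.asIdeal.LiesOver q := ⟨rfl⟩
  -- fibre at p'
  have hGp := FormalFibreGor.isGorensteinLocalRing_fibre_of_surj I hs hJ ω hω p p'.asIdeal
  haveI hLp : IsLocalRing (Localization.AtPrime p'.asIdeal ⧸
      p.map (algebraMap A (Localization.AtPrime p'.asIdeal))) := hGp.toIsLocalRing
  haveI hNp : IsNoetherianRing (Localization.AtPrime p'.asIdeal ⧸
      p.map (algebraMap A (Localization.AtPrime p'.asIdeal))) := hGp.toIsNoetherian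
  obtain ⟨d, hd⟩ := exists_nat_ringKrullDim_eq (Localization.AtPrime p'.asIdeal ⧸
      p.map (algebraMap A (Localization.AtPrime p'.asIdeal)))
  have h1 : δB p' = δA (p'.comap (algebraMap A B)) - d :=
    DimFunBC.dimFun_baseChange ω hω hGω δA hδA δB hδB p' d hGp hd
  -- fibre at q'
  have hGq := FormalFibreGor.isGorensteinLocalRing_fibre_of_surj I hs hJ ω hω q q'.asIdeal
  have hqq : q.map (algebraMap A (Localization.AtPrime q'.asIdeal)) =
      IsLocalRing.maximalIdeal (Localization.AtPrime q'.asIdeal) := by
    rw [IsScalarTower.algebraMap_eq A B (Localization.AtPrime q'.asIdeal), ← Ideal.map_map,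
      map_comap_eq_of_le I hs q'.asIdeal hq, Localization.AtPrime.map_eq_maximalIdeal]
  have hd0 : ringKrullDim (Localization.AtPrime q'.asIdeal ⧸
      q.map (algebraMap A (Localization.AtPrime q'.asIdeal))) = ((0 : ℕ) : WithBot ℕ∞) := by
    rw [ringKrullDim_eq_of_ringEquiv (Ideal.quotEquivOfEq hqq)]
    have : IsField (Localization.AtPrime q'.asIdeal ⧸
        IsLocalRing.maximalIdeal (Localization.AtPrime q'.asIdeal)) :=
      (Ideal.Quotient.maximal_ideal_iff_isField_quotient _).1 inferInstance
    rw [ringKrullDim_eq_zero_of_isField this]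
    rfl
  have h2 : δB q' = δA (q'.comap (algebraMap A B)) - (0 : ℕ) :=
    DimFunBC.dimFun_baseChange ω hω hGω δA hδA δB hδB q' 0 hGq hd0
  -- intervals
  have hpqA : PrimeSpectrum.comap (algebraMap A B) p' ≤ PrimeSpectrum.comap (algebraMap A B) q' :=
    Ideal.comap_mono hpq
  obtain ⟨n', hn', hn'δ⟩ := DimFunBC.krullDim_Icc_of_dimFun δB hcB p' q' hpq
  obtain ⟨n, hn, hnδ⟩ := DimFunBC.krullDim_Icc_of_dimFun δA hcA _ _ hpqA
  have hnn : n = n' + d := by
    have : (n : ℤ) = n' + d := by
      push_cast at h2
      omega
    exact_mod_cast this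
  -- depth
  have hdep := depth_localizedModule_tensor_of_flat (R := A) (S := B) p p'.asIdeal M
  have hCM : LocCoh.IsCohenMacaulayLocalRing (Localization.AtPrime p'.asIdeal ⧸
      p.map (algebraMap A (Localization.AtPrime p'.asIdeal))) := Groth.Agent.S0341.result _
  have hdF : LocCoh.depth (Localization.AtPrime p'.asIdeal ⧸
      p.map (algebraMap A (Localization.AtPrime p'.asIdeal)))
      (Localization.AtPrime p'.asIdeal ⧸
      p.map (algebraMap A (Localization.AtPrime p'.asIdeal))) = (d : ℕ∞) := by
    have h3 := hCM.supportDim_eq_depth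
    rw [Module.supportDim_self_eq_ringKrullDim, hd] at h3
    exact_mod_cast h3.symm
  rw [hdF] at hdep
  rw [hdep, hn', hn, hnn]
  refine ⟨le_self_add, ?_⟩
  push_cast
  rw [add_assoc]
  congr 1
  exact add_comm _ _

end general

section final

variable (A : Type u) [CommRing A] [IsNoetherianRing A] (I : Ideal A)

theorem depth_localizedModule_adicCompletion (M : Type u) [AddCommGroup M] [Module A M]
    [Module.Finite A M] (p' : Ideal (AdicCompletion I A)) [p'.IsPrime] :
    LocCoh.depth (Localization.AtPrime p') (LocalizedModule p'.primeCompl (AdicCompletion I M)) =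
      LocCoh.depth (Localization.AtPrime p')
        (LocalizedModule p'.primeCompl (AdicCompletion I A ⊗[A] M)) := by
  let e := AdicCompletion.ofTensorProductEquivOfFiniteNoetherian I M
  let e' := IsLocalizedModule.mapEquiv p'.primeCompl
    (LocalizedModule.mkLinearMap p'.primeCompl (AdicCompletion I A ⊗[A] M))
    (LocalizedModule.mkLinearMap p'.primeCompl (AdicCompletion I M)) (Localization.AtPrime p') e
  exact (idealDepth_congr _ e').symm

theorem main_adic (ω : Dual.D A) (hω : Dual.IsDualizing A ω) (M : Type u) [AddCommGroup M]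
    [Module A M] [Module.Finite A M] (p' q' : PrimeSpectrum (AdicCompletion I A)) (hpq : p' ≤ q')
    (hq : Ideal.map (algebraMap A (AdicCompletion I A)) I ≤ q'.asIdeal) :
    LocCoh.depth (Localization.AtPrime (p'.asIdeal.comap (algebraMap A (AdicCompletion I A))))
        (LocalizedModule (p'.asIdeal.comap (algebraMap A (AdicCompletion I A))).primeCompl M) ≤
      LocCoh.depth (Localization.AtPrime p'.asIdeal)
        (LocalizedModule p'.asIdeal.primeCompl (AdicCompletion I M)) ∧
    ((LocCoh.depth (Localization.AtPrime p'.asIdeal)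
        (LocalizedModule p'.asIdeal.primeCompl (AdicCompletion I M)) : ℕ∞) : WithBot ℕ∞) +
        Order.krullDim (Set.Icc p' q') =
      ((LocCoh.depth (Localization.AtPrime (p'.asIdeal.comap (algebraMap A (AdicCompletion I A))))
        (LocalizedModule (p'.asIdeal.comap (algebraMap A (AdicCompletion I A))).primeCompl M) :
          ℕ∞) : WithBot ℕ∞) +
        Order.krullDim (Set.Icc ((PrimeSpectrum.comap (algebraMap A (AdicCompletion I A))) p')
          ((PrimeSpectrum.comap (algebraMap A (AdicCompletion I A))) q')) := by
  haveI hN : IsNoetherianRing (AdicCompletion I A) := Groth.Agent.S0543.result A I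
  haveI hflat : Module.Flat A (AdicCompletion I A) := inferInstance
  rw [depth_localizedModule_adicCompletion A I M p'.asIdeal]
  exact main I (surj_adic A I) (jac_adic A I) ω hω M p' q' hpq hq

end final

end DepthAdic
end Groth.Agent.Lib.Helper31
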