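import Mathlib.Algebra.DirectSum.Module
import Mathlib.LinearAlgebra.DFinsupp
import Mathlib.Order.SuccPred.Limit
import Mathlib.Order.Cover
import Groth.Prelude.Def_Found

set_option autoImplicit false
universe u

open CAlg

namespace Groth.Agent.Lib.Helper31

namespace Devissage

variable {R : Type u} [CommRing R] {M : Type u} [AddCommGroup M] [Module R M]

/-- the complement is isomorphic to the quotient -/
noncomputable def complEquivQuot (A B C : Submodule R M) (h1 : A ⊓ C = ⊥) (h2 : A ⊔ C = B) :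
    C ≃ₗ[R] (↥B ⧸ Submodule.comap B.subtype A) := by
  have hCB : C ≤ B := h2 ▸ le_sup_right
  refine LinearEquiv.ofBijective ((Submodule.mkQ _).comp (Submodule.inclusion hCB)) ⟨?_, ?_⟩
  · rw [← LinearMap.ker_eq_bot, LinearMap.ker_eq_bot']
    intro x hx
    simp only [LinearMap.comp_apply, Submodule.mkQ_apply, Submodule.Quotient.mk_eq_zero,
      Submodule.mem_comap, Submodule.subtype_apply, Submodule.coe_inclusion] at hx
    have : (x : M) ∈ A ⊓ C := ⟨hx, x.2⟩
    rw [h1] at this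
    exact Subtype.ext ((Submodule.mem_bot R).1 this)
  · intro y
    obtain ⟨⟨b, hb⟩, rfl⟩ := Submodule.mkQ_surjective _ y
    rw [← h2] at hb
    obtain ⟨a, ha, c, hc, rfl⟩ := Submodule.mem_sup.1 hb
    refine ⟨⟨c, hc⟩, ?_⟩
    simp only [LinearMap.comp_apply, Submodule.mkQ_apply]
    rw [Submodule.Quotient.eq]
    simp only [Submodule.mem_comap, Submodule.subtype_apply, Submodule.coe_sub,
      Submodule.coe_inclusion]
    have : c - (a + c) = -a := by abel
    rw [this]
    exact A.neg_mem ha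

section

variable {S : Type u} [LinearOrder S] [WellFoundedLT S] (Mf : S → Submodule R M)
  (hmono : Monotone Mf)
  (hlim : ∀ s : S, Order.IsSuccPrelimit s → Mf s = ⨆ t : {t : S // t < s}, Mf t.1)
  (C : {p : S × S // p.1 ⋖ p.2} → Submodule R M)
  (hC1 : ∀ p, Mf p.1.1 ⊓ C p = ⊥) (hC2 : ∀ p, Mf p.1.1 ⊔ C p = Mf p.1.2)

omit [WellFoundedLT S] in
include hC2 in
theorem C_le (p : {p : S × S // p.1 ⋖ p.2}) : C p ≤ Mf p.1.2 := hC2 p ▸ le_sup_right

include hlim hC2 in
theorem Mf_le_iSup (s : S) : Mf s ≤ ⨆ p, C p := by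
  induction s using WellFoundedLT.induction with
  | ind s ih =>
    by_cases hs : Order.IsSuccPrelimit s
    · rw [hlim s hs]
      exact iSup_le fun t => ih t.1 t.2
    · obtain ⟨b, hb⟩ := Order.not_isSuccPrelimit_iff.1 hs
      have := hC2 ⟨(b, s), hb⟩
      simp only at this
      rw [← this]
      exact sup_le (ih b hb.lt) (le_iSup C _)

include hlim hC2 in
theorem iSup_C_eq : ⨆ p, C p = ⨆ s, Mf s :=
  le_antisymm (iSup_le fun p => (C_le Mf C hC2 p).trans (le_iSup Mf _))
    (iSup_le fun s => Mf_le_iSup Mf hlim C hC2 s)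

include hmono hC1 hC2 in
theorem iSupIndep_C : iSupIndep C := by
  classical
  rw [iSupIndep_iff_finsetSum_eq_zero_imp_eq_zero]
  intro s v hv hsum
  by_contra hne
  push Not at hne
  set s' := s.filter (fun i => v i ≠ 0) with hs'
  have hne' : s'.Nonempty := by
    obtain ⟨i, hi, hvi⟩ := hne
    exact ⟨i, Finset.mem_filter.2 ⟨hi, hvi⟩⟩
  obtain ⟨p, hp, hmax⟩ := Finset.exists_max_image s' (fun p => p.1.2) hne'
  have hsum' : ∑ i ∈ s', v i = 0 := by
    rw [hs', Finset.sum_filter_ne_zero]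
    exact hsum
  rw [← Finset.add_sum_erase _ _ hp] at hsum'
  have hmem : ∑ i ∈ s'.erase p, v i ∈ Mf p.1.1 := by
    apply Submodule.sum_mem
    intro i hi
    have hi' := Finset.mem_of_mem_erase hi
    have hine : i ≠ p := Finset.ne_of_mem_erase hi
    have hle : i.1.2 ≤ p.1.2 := hmax i hi'
    have hlt : i.1.2 < p.1.2 := by
      rcases lt_or_eq_of_le hle with h | h
      · exact h
      · exfalso
        apply hine
        have h1 : i.1.1 = p.1.1 := by
          have hi2 := i.2
          rw [h] at hi2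
          exact hi2.unique_left p.2
        exact Subtype.ext (Prod.ext h1 h)
    have hle' : i.1.2 ≤ p.1.1 := p.2.le_of_lt hlt
    exact hmono hle' (C_le Mf C hC2 i (hv i (Finset.mem_filter.1 hi').1))
  have hvp : v p ∈ Mf p.1.1 := by
    have : v p = -∑ i ∈ s'.erase p, v i := eq_neg_of_add_eq_zero_left hsum'
    rw [this]
    exact (Mf p.1.1).neg_mem hmem
  have h0 : v p ∈ Mf p.1.1 ⊓ C p := ⟨hvp, hv p (Finset.mem_filter.1 hp).1⟩
  rw [hC1 p] at h0
  exact (Finset.mem_filter.1 hp).2 ((Submodule.mem_bot R).1 h0)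

include hmono hlim hC1 hC2 in
theorem isInternal_C (htop : ⨆ s, Mf s = ⊤) : DirectSum.IsInternal C :=
  DirectSum.isInternal_submodule_of_iSupIndep_of_iSup_eq_top
    (iSupIndep_C Mf hmono C hC1 hC2) ((iSup_C_eq Mf hlim C hC2).trans htop)

include hmono hlim hC1 hC2 in
/-- Stacks 058T: the module is the direct sum of the successive quotients. -/
theorem nonempty_linearEquiv (htop : ⨆ s, Mf s = ⊤) :
    Nonempty (M ≃ₗ[R] DirectSum {p : S × S // p.1 ⋖ p.2}
      fun p => ↥(Mf p.1.2) ⧸ Submodule.comap (Mf p.1.2).subtype (Mf p.1.1)) := by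
  classical
  have hint := isInternal_C Mf hmono hlim C hC1 hC2 htop
  let e1 : (DirectSum {p : S × S // p.1 ⋖ p.2} fun p => ↥(C p)) ≃ₗ[R] M :=
    LinearEquiv.ofBijective (DirectSum.coeLinearMap C) hint
  let e2 : (DirectSum {p : S × S // p.1 ⋖ p.2} fun p => ↥(C p)) ≃ₗ[R]
      DirectSum {p : S × S // p.1 ⋖ p.2}
        fun p => ↥(Mf p.1.2) ⧸ Submodule.comap (Mf p.1.2).subtype (Mf p.1.1) :=
    DFinsupp.mapRange.linearEquiv
      (fun p => complEquivQuot (Mf p.1.1) (Mf p.1.2) (C p) (hC1 p) (hC2 p))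
  exact ⟨e1.symm.trans e2⟩

end

/-- images of countably generated modules are countably generated -/
theorem isCG_of_surjective {N N' : Type u} [AddCommGroup N] [Module R N] [AddCommGroup N']
    [Module R N'] (f : N →ₗ[R] N') (hf : Function.Surjective f) (h : IsCountablyGenerated R N) :
    IsCountablyGenerated R N' := by
  obtain ⟨s, hs, hspan⟩ := h
  refine ⟨f '' s, hs.image f, ?_⟩
  rw [← Submodule.map_span, hspan, Submodule.map_top, LinearMap.range_eq_top]
  exact hf

/-- Stacks 058U, (⇐): a Kaplansky dévissage gives a decomposition into countably generated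
pieces. -/
theorem exists_isInternal_of_devissage {S : Type u} [LinearOrder S] [WellFoundedLT S]
    (Mf : S → Submodule R M) (hmono : Monotone Mf)
    (hlim : ∀ s : S, Order.IsSuccPrelimit s → Mf s = ⨆ t : {t : S // t < s}, Mf t.1)
    (hstep : ∀ s t : S, s ⋖ t → ∃ C : Submodule R M, Mf s ⊓ C = ⊥ ∧ Mf s ⊔ C = Mf t ∧
      IsCountablyGenerated R (↥(Mf t) ⧸ Submodule.comap (Mf t).subtype (Mf s))) :
    ∃ C : {p : S × S // p.1 ⋖ p.2} → Submodule R M, iSupIndep C ∧ ⨆ p, C p = ⨆ s, Mf s ∧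
      ∀ p, IsCountablyGenerated R (C p) := by
  choose C hC1 hC2 hC3 using fun p : {p : S × S // p.1 ⋖ p.2} => hstep p.1.1 p.1.2 p.2
  refine ⟨C, iSupIndep_C Mf hmono C hC1 hC2, iSup_C_eq Mf hlim C hC2, fun p => ?_⟩
  exact isCG_of_surjective
    (complEquivQuot (Mf p.1.1) (Mf p.1.2) (C p) (hC1 p) (hC2 p)).symm.toLinearMap
    (complEquivQuot (Mf p.1.1) (Mf p.1.2) (C p) (hC1 p) (hC2 p)).symm.surjective (hC3 p)

end Devissage

end Groth.Agent.Lib.Helper31
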