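import Groth.Agent.Lib.Helper31.CatPullback
import Groth.Prelude.Def_FibCat2

set_option autoImplicit false
open CategoryTheory CategoryTheory.Limits
universe v u

namespace Groth.Agent.Lib.Helper31

section General

universe v₁ v₂ v₃ v₄ v₅ v₆ u₁ u₂ u₃ u₄ u₅ u₆

variable {X : Type u₁} {Y : Type u₂} {Z : Type u₃} {A : Type u₄} {B : Type u₅} {C : Type u₆}
  [Category.{v₁} X] [Category.{v₂} Y] [Category.{v₃} Z] [Category.{v₄} A] [Category.{v₅} B]
  [Category.{v₆} C] {H : X ⥤ Z} {I : Y ⥤ Z} {F : A ⥤ C} {G : B ⥤ C} (ψ : CatCospanTransform H I F G)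

theorem cpm_obj_iso_hom' (x : CategoricalPullback H I) :
    ((FibCat.categoricalPullbackMap ψ).obj x).iso.hom =
      ψ.squareLeft.iso.inv.app x.fst ≫ ψ.base.map x.iso.hom ≫ ψ.squareRight.iso.hom.app x.snd := by
  simp [FibCat.categoricalPullbackMap]
  rfl

end General

namespace DiagSq

variable {X Y V : Type u} [Category.{v} X] [Category.{v} Y] [Category.{v} V] (p : X ⥤ Y) (q : V ⥤ Y)

abbrev T : CategoricalPullback p q ⥤ X := CategoricalPullback.π₁ p q

abbrev L : CategoricalPullback p q ⥤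
    CategoricalPullback (CategoricalPullback.π₂ p q) (CategoricalPullback.π₂ p q) :=
  (CategoricalPullback.CatCommSqOver.toFunctorToCategoricalPullback (CategoricalPullback.π₂ p q)
    (CategoricalPullback.π₂ p q) (CategoricalPullback p q)).obj ⟨𝟭 _, 𝟭 _, Iso.refl _⟩

abbrev F : X ⥤ CategoricalPullback p p :=
  (CategoricalPullback.CatCommSqOver.toFunctorToCategoricalPullback p p X).obj ⟨𝟭 _, 𝟭 _, Iso.refl _⟩

abbrev ψ : CatCospanTransform (CategoricalPullback.π₂ p q) (CategoricalPullback.π₂ p q) p p :=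
  ⟨CategoricalPullback.π₁ p q, q, CategoricalPullback.π₁ p q,
    ⟨(CatCommSq.iso (CategoricalPullback.π₁ p q) (CategoricalPullback.π₂ p q) p q).symm⟩,
    ⟨(CatCommSq.iso (CategoricalPullback.π₁ p q) (CategoricalPullback.π₂ p q) p q).symm⟩⟩

noncomputable abbrev G : CategoricalPullback (CategoricalPullback.π₂ p q) (CategoricalPullback.π₂ p q) ⥤
    CategoricalPullback p p :=
  FibCat.categoricalPullbackMap (ψ p q)

lemma G_obj_iso_hom (w : CategoricalPullback (CategoricalPullback.π₂ p q) (CategoricalPullback.π₂ p q)) :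
    ((G p q).obj w).iso.hom =
      w.fst.iso.hom ≫ q.map (w.iso.hom : w.fst.snd ⟶ w.snd.snd) ≫ w.snd.iso.inv := by
  exact (cpm_obj_iso_hom' (ψ p q) w).trans rfl

lemma G_map_fst {w w' : CategoricalPullback (CategoricalPullback.π₂ p q) (CategoricalPullback.π₂ p q)}
    (m : w ⟶ w') : ((G p q).map m).fst = m.fst.fst := rfl

lemma G_map_snd {w w' : CategoricalPullback (CategoricalPullback.π₂ p q) (CategoricalPullback.π₂ p q)}
    (m : w ⟶ w') : ((G p q).map m).snd = m.snd.fst := rfl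

/-- the 2-cell of the square. -/
noncomputable def e : T p q ⋙ F p ≅ L p q ⋙ G p q :=
  NatIso.ofComponents
    (fun u => CategoricalPullback.mkIso (Iso.refl _) (Iso.refl _) (by
      have h : p.map (𝟙 u.fst) ≫ ((G p q).obj ((L p q).obj u)).iso.hom =
          𝟙 (p.obj u.fst) ≫ p.map (𝟙 u.fst) := by
        rw [G_obj_iso_hom]
        change p.map (𝟙 u.fst) ≫ u.iso.hom ≫ q.map (𝟙 u.snd) ≫ u.iso.inv = _
        simp
      exact h))
    (by
      intro u u' f
      apply CategoricalPullback.hom_ext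
      · change f.fst ≫ 𝟙 _ = 𝟙 _ ≫ f.fst
        simp
      · change f.fst ≫ 𝟙 _ = 𝟙 _ ≫ f.fst
        simp)

lemma e_hom_app_fst (u : CategoricalPullback p q) : ((e p q).hom.app u).fst = 𝟙 _ := rfl
lemma e_hom_app_snd (u : CategoricalPullback p q) : ((e p q).hom.app u).snd = 𝟙 _ := rfl

/-- the comparison functor. -/
noncomputable abbrev K : CategoricalPullback p q ⥤ CategoricalPullback (F p) (G p q) :=
  (CategoricalPullback.CatCommSqOver.toFunctorToCategoricalPullback (F p) (G p q)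
    (CategoricalPullback p q)).obj ⟨T p q, L p q, e p q⟩

lemma K_map_fst {u u' : CategoricalPullback p q} (f : u ⟶ u') : ((K p q).map f).fst = f.fst := rfl
lemma K_map_snd_fst {u u' : CategoricalPullback p q} (f : u ⟶ u') : ((K p q).map f).snd.fst = f := rfl
lemma K_map_snd_snd {u u' : CategoricalPullback p q} (f : u ⟶ u') : ((K p q).map f).snd.snd = f := rfl

theorem K_faithful : (K p q).Faithful := by
  constructor
  intro u u' f g hfg
  have := congrArg (fun m => m.snd.fst) hfg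
  exact this

theorem K_full : (K p q).Full := by
  constructor
  intro u u' m
  -- components
  have hw := m.w
  have h1 : ((F p).map m.fst ≫ ((K p q).obj u').iso.hom).fst =
      (((K p q).obj u).iso.hom ≫ (G p q).map m.snd).fst := congrArg (fun k => k.fst) hw
  have h2 : ((F p).map m.fst ≫ ((K p q).obj u').iso.hom).snd =
      (((K p q).obj u).iso.hom ≫ (G p q).map m.snd).snd := congrArg (fun k => k.snd) hw
  have h1' : m.fst ≫ 𝟙 _ = 𝟙 _ ≫ m.snd.fst.fst := h1
  have h2' : m.fst ≫ 𝟙 _ = 𝟙 _ ≫ m.snd.snd.fst := h2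
  have h3 : m.snd.fst.snd ≫ 𝟙 _ = 𝟙 _ ≫ m.snd.snd.snd := m.snd.w
  simp only [Category.comp_id, Category.id_comp] at h1' h2' h3
  have hβ : m.snd.fst = m.snd.snd := by
    apply CategoricalPullback.hom_ext
    · exact h1'.symm.trans h2'
    · exact h3
  refine ⟨m.snd.fst, ?_⟩
  apply CategoricalPullback.hom_ext
  · exact h1'.symm
  · apply CategoricalPullback.hom_ext
    · rfl
    · exact hβ

lemma essSurj_aux {x x₁ x₂ : X} {v₁ v₂ : V} (a : x ⟶ x₁) (b : x ⟶ x₂) [IsIso a]
    (ι₁ : p.obj x₁ ≅ q.obj v₁) (ι₂ : p.obj x₂ ≅ q.obj v₂) (φ : v₁ ⟶ v₂)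
    (hw : p.map a ≫ ι₁.hom ≫ q.map φ ≫ ι₂.inv = p.map b) :
    p.map (inv a ≫ b) ≫ ι₂.hom = ι₁.hom ≫ q.map φ := by
  rw [p.map_comp, ← hw]
  simp only [Category.assoc, Iso.inv_hom_id, Category.comp_id]
  rw [← Category.assoc, ← p.map_comp, IsIso.inv_hom_id, p.map_id, Category.id_comp]

theorem K_essSurj : (K p q).EssSurj := by
  constructor
  intro t
  -- unpack
  have hi1 : IsIso (CategoricalPullback.Hom.fst t.iso.hom) := inferInstance
  have hi2 : IsIso (CategoricalPullback.Hom.snd t.iso.hom) := inferInstance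
  obtain ⟨a, ha⟩ : ∃ a : t.fst ⟶ t.snd.fst.fst, a = t.iso.hom.fst := ⟨_, rfl⟩
  obtain ⟨b, hb⟩ : ∃ b : t.fst ⟶ t.snd.snd.fst, b = t.iso.hom.snd := ⟨_, rfl⟩
  have hai : IsIso a := by rw [ha]; exact hi1
  have hbi : IsIso b := by rw [hb]; exact hi2
  have hw : p.map a ≫ (t.snd.fst.iso.hom ≫
      q.map (t.snd.iso.hom : t.snd.fst.snd ⟶ t.snd.snd.snd) ≫ t.snd.snd.iso.inv) = p.map b := by
    have := t.iso.hom.w
    rw [G_obj_iso_hom] at this
    rw [ha, hb]
    exact this.trans (Category.id_comp _)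
  -- γ : u₁ ≅ u₂
  have hγ : p.map (inv a ≫ b) ≫ t.snd.snd.iso.hom =
      t.snd.fst.iso.hom ≫ q.map (t.snd.iso.hom : t.snd.fst.snd ⟶ t.snd.snd.snd) :=
    essSurj_aux p q a b t.snd.fst.iso t.snd.snd.iso _ hw
  let γ : t.snd.fst ≅ t.snd.snd :=
    CategoricalPullback.mkIso ((asIso a).symm ≪≫ asIso b) t.snd.iso hγ
  let eᵣ : (L p q).obj t.snd.fst ≅ t.snd :=
    CategoricalPullback.mkIso (Iso.refl _) γ (by
      have h : 𝟙 t.snd.fst.snd ≫ t.snd.iso.hom = 𝟙 _ ≫ t.snd.iso.hom := rfl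
      exact h)
  refine ⟨t.snd.fst, ⟨CategoricalPullback.mkIso (asIso a).symm eᵣ ?_⟩⟩
  apply CategoricalPullback.hom_ext
  · have h : inv a ≫ a = 𝟙 _ ≫ 𝟙 _ := by simp
    subst ha
    exact h
  · have h : inv a ≫ b = 𝟙 _ ≫ (inv a ≫ b) := by simp
    subst hb
    exact h

theorem K_isEquivalence : (K p q).IsEquivalence := by
  have := K_faithful p q
  have := K_full p q
  have := K_essSurj p q
  exact { }

end DiagSq

end Groth.Agent.Lib.Helper31
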