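import Groth.Agent.Lib.Helper31.MittagLefflerFP
import Mathlib.Algebra.Colimit.TensorProduct
import Mathlib.LinearAlgebra.TensorProduct.Finiteness

set_option autoImplicit false
open TensorProduct
universe u

namespace Groth.Agent.Lib.Helper31

namespace ML

variable (R : Type u) [CommRing R]

/-- `g` dominates `f`. -/
def Dominates {M N M' : Type u} [AddCommGroup M] [Module R M] [AddCommGroup N] [Module R N]
    [AddCommGroup M'] [Module R M'] (f : M →ₗ[R] N) (g : M →ₗ[R] M') : Prop :=
  ∀ (Q : Type u) [AddCommGroup Q] [Module R Q], LinearMap.ker (f.rTensor Q) ≤ LinearMap.ker (g.rTensor Q)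

section LemmaA

variable {P M X : Type u} [AddCommGroup P] [Module R P] [AddCommGroup M] [Module R M]
  [AddCommGroup X] [Module R X]

/-- an element of `K ⊗ X` comes from a finitely generated submodule of `K`. -/
lemma exists_fg_le_mem_range {E : Type u} [AddCommGroup E] [Module R E] (K : Submodule R E)
    (z : K ⊗[R] X) : ∃ K' : Submodule R E, K'.FG ∧ K' ≤ K ∧
      K.subtype.rTensor X z ∈ LinearMap.range (K'.subtype.rTensor X) := by
  obtain ⟨K₀, hK₀, hz⟩ := TensorProduct.exists_finite_submodule_left_of_setFinite {z}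
    (Set.finite_singleton z)
  obtain ⟨z', hz'⟩ := hz (Set.mem_singleton z)
  refine ⟨K₀.map K.subtype, (Module.Finite.iff_fg.mp hK₀).map _, Submodule.map_subtype_le K K₀, ?_⟩
  let j : K₀ →ₗ[R] (K₀.map K.subtype) :=
    (K.subtype ∘ₗ K₀.subtype).codRestrict _ (fun k => ⟨k.1, k.2, rfl⟩)
  refine ⟨j.rTensor X z', ?_⟩
  rw [← hz', ← LinearMap.comp_apply, ← LinearMap.comp_apply, ← LinearMap.rTensor_comp,
    ← LinearMap.rTensor_comp]
  rfl

/-- **Finitely presented approximation**: if `y ∈ P ⊗ X` (with `P` finitely presented) dies in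
`M ⊗ X` under `f : P → M`, then it already dies in `Q ⊗ X` for a factorization `P → Q → M` with `Q`
finitely presented. -/
theorem exists_fp_factor_of_rTensor_eq_zero [Module.FinitePresentation R P] (f : P →ₗ[R] M)
    (y : P ⊗[R] X) (hy : f.rTensor X y = 0) :
    ∃ (Q : Type u) (_ : AddCommGroup Q) (_ : Module R Q) (_ : Module.FinitePresentation R Q)
      (g : P →ₗ[R] Q) (h : Q →ₗ[R] M), h ∘ₗ g = f ∧ g.rTensor X y = 0 := by
  -- step 1: the range of `f`
  have hfg : (LinearMap.range f).FG := Module.Finite.iff_fg.mp (Module.Finite.range f)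
  have h1 : (LinearMap.range f).subtype.rTensor X (f.rangeRestrict.rTensor X y) =
      (LinearMap.range f).subtype.rTensor X 0 := by
    have h0 : (LinearMap.range f).subtype ∘ₗ f.rangeRestrict = f := by
      ext p; rfl
    rw [map_zero, ← LinearMap.comp_apply, ← LinearMap.rTensor_comp, h0, hy]
  obtain ⟨M₂, hM₂, hle, h2⟩ := hfg.exists_rTensor_fg_inclusion_eq h1
  rw [map_zero, ← LinearMap.comp_apply, ← LinearMap.rTensor_comp] at h2
  set f₂ : P →ₗ[R] M₂ := Submodule.inclusion hle ∘ₗ f.rangeRestrict with hf₂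
  have hf₂f : M₂.subtype ∘ₗ f₂ = f := by
    ext p; rfl
  have : Module.Finite R M₂ := Module.Finite.iff_fg.mpr hM₂
  obtain ⟨l, π, hπ⟩ := Module.Finite.exists_fin' R M₂
  -- step 2: a surjection from a finitely presented module
  set p : (P × (Fin l → R)) →ₗ[R] M₂ := f₂.coprod π with hp
  have hps : Function.Surjective p := by
    intro m
    obtain ⟨a, rfl⟩ := hπ m
    exact ⟨(0, a), by simp [hp]⟩
  have hpinl : p ∘ₗ LinearMap.inl R P (Fin l → R) = f₂ := by
    ext x; simp [hp]
  have hex : Function.Exact (LinearMap.ker p).subtype p := by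
    rw [LinearMap.exact_iff]; simp
  have hexX := rTensor_exact X hex hps
  have h3 : p.rTensor X ((LinearMap.inl R P (Fin l → R)).rTensor X y) = 0 := by
    rw [← LinearMap.comp_apply, ← LinearMap.rTensor_comp, hpinl, h2]
  obtain ⟨z, hz⟩ := (hexX _).mp h3
  obtain ⟨K', hK'fg, hK'le, z', hz'⟩ := exists_fg_le_mem_range R (LinearMap.ker p) z
  have : Module.FinitePresentation R ((P × (Fin l → R)) ⧸ K') :=
    Module.finitePresentation_of_surjective K'.mkQ K'.mkQ_surjective
      (by rw [Submodule.ker_mkQ]; exact hK'fg)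
  refine ⟨(P × (Fin l → R)) ⧸ K', inferInstance, inferInstance, inferInstance,
    K'.mkQ ∘ₗ LinearMap.inl R P (Fin l → R), M₂.subtype ∘ₗ K'.liftQ p hK'le, ?_, ?_⟩
  · rw [← hf₂f, ← hpinl]
    ext x
    simp
  · rw [LinearMap.rTensor_comp, LinearMap.comp_apply, ← hz, ← hz', ← LinearMap.comp_apply,
      ← LinearMap.rTensor_comp]
    have : K'.mkQ ∘ₗ K'.subtype = 0 := by
      ext k
      simp
    rw [this, LinearMap.rTensor_zero, LinearMap.zero_apply]

/-- mirror image of `exists_fp_factor_of_rTensor_eq_zero`. -/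
theorem exists_fp_factor_of_lTensor_eq_zero [Module.FinitePresentation R P] (f : P →ₗ[R] M)
    (y : X ⊗[R] P) (hy : f.lTensor X y = 0) :
    ∃ (Q : Type u) (_ : AddCommGroup Q) (_ : Module R Q) (_ : Module.FinitePresentation R Q)
      (g : P →ₗ[R] Q) (h : Q →ₗ[R] M), h ∘ₗ g = f ∧ g.lTensor X y = 0 := by
  have hcomm : ∀ {A B : Type u} [AddCommGroup A] [Module R A] [AddCommGroup B] [Module R B]
      (φ : A →ₗ[R] B) (t : X ⊗[R] A),
      φ.rTensor X (TensorProduct.comm R X A t) = TensorProduct.comm R X B (φ.lTensor X t) := by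
    intro A B _ _ _ _ φ t
    induction t using TensorProduct.induction_on with
    | zero => simp
    | tmul a b => simp
    | add a b ha hb => simp only [map_add, ha, hb]
  have hy' : f.rTensor X (TensorProduct.comm R X P y) = 0 := by
    rw [hcomm, hy, map_zero]
  obtain ⟨Q, i1, i2, i3, g, h, hgh, hg⟩ := exists_fp_factor_of_rTensor_eq_zero R f _ hy'
  refine ⟨Q, i1, i2, i3, g, h, hgh, ?_⟩
  apply (TensorProduct.comm R X Q).injective
  rw [← hcomm, hg, map_zero]

end LemmaA

section LemmaB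

variable {M N M' Q : Type u} [AddCommGroup M] [Module R M] [AddCommGroup N] [Module R N]
  [AddCommGroup M'] [Module R M'] [AddCommGroup Q] [Module R Q]

/-- every element of `M ⊗ Q` comes from a finite free module mapping to `Q`. -/
lemma exists_free_lTensor_eq (x : M ⊗[R] Q) :
    ∃ (k : ℕ) (u : (Fin k → R) →ₗ[R] Q) (x₀ : M ⊗[R] (Fin k → R)), u.lTensor M x₀ = x := by
  obtain ⟨k, m, q, rfl⟩ := TensorProduct.exists_sum_tmul_eq x
  refine ⟨k, Fintype.linearCombination R q, ∑ j, m j ⊗ₜ[R] Pi.single j (1 : R), ?_⟩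
  rw [map_sum]
  apply Finset.sum_congr rfl
  intro j _
  simp

/-- every element of `P ⊗ Q` comes from a finite free module mapping to `P`. -/
lemma exists_free_rTensor_eq (x : M ⊗[R] Q) :
    ∃ (k : ℕ) (u : (Fin k → R) →ₗ[R] M) (x₀ : (Fin k → R) ⊗[R] Q), u.rTensor Q x₀ = x := by
  obtain ⟨k, m, q, rfl⟩ := TensorProduct.exists_sum_tmul_eq x
  refine ⟨k, Fintype.linearCombination R m, ∑ j, Pi.single j (1 : R) ⊗ₜ[R] q j, ?_⟩
  rw [map_sum]
  apply Finset.sum_congr rfl
  intro j _
  simp

/-- **Lemma B**: elements of `ker (f ⊗ Q)` come from `ker (f ⊗ Q')` with `Q'` finitely presented. -/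
theorem exists_fp_of_mem_ker_rTensor (f : M →ₗ[R] N) (x : M ⊗[R] Q) (hx : f.rTensor Q x = 0) :
    ∃ (Q' : Type u) (_ : AddCommGroup Q') (_ : Module R Q') (_ : Module.FinitePresentation R Q')
      (w : Q' →ₗ[R] Q) (x' : M ⊗[R] Q'), f.rTensor Q' x' = 0 ∧ w.lTensor M x' = x := by
  obtain ⟨k, u, x₀, rfl⟩ := exists_free_lTensor_eq R x
  have hy : u.lTensor N (f.rTensor (Fin k → R) x₀) = 0 := by
    rw [← LinearMap.comp_apply, LinearMap.lTensor_comp_rTensor, ← LinearMap.rTensor_comp_lTensor,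
      LinearMap.comp_apply, hx]
  obtain ⟨Q', i1, i2, i3, v, w, hwv, hv⟩ := exists_fp_factor_of_lTensor_eq_zero R u _ hy
  refine ⟨Q', i1, i2, i3, w, v.lTensor M x₀, ?_, ?_⟩
  · rw [← LinearMap.comp_apply, LinearMap.rTensor_comp_lTensor, ← LinearMap.lTensor_comp_rTensor,
      LinearMap.comp_apply, hv]
  · rw [← LinearMap.comp_apply, ← LinearMap.lTensor_comp, hwv]

/-- domination can be tested on finitely presented modules (Stacks 059B-type lemma). -/
theorem dominates_of_forall_finitePresentation (f : M →ₗ[R] N) (g : M →ₗ[R] M')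
    (h : ∀ (Q : Type u) [AddCommGroup Q] [Module R Q], Module.FinitePresentation R Q →
        LinearMap.ker (f.rTensor Q) ≤ LinearMap.ker (g.rTensor Q)) :
    Dominates R f g := by
  intro Q _ _ x hx
  rw [LinearMap.mem_ker] at hx ⊢
  obtain ⟨Q', i1, i2, i3, w, x', hx', rfl⟩ := exists_fp_of_mem_ker_rTensor R f x hx
  have h1 : g.rTensor Q' x' = 0 := h Q' i3 hx'
  rw [← LinearMap.comp_apply, LinearMap.rTensor_comp_lTensor, ← LinearMap.lTensor_comp_rTensor,
    LinearMap.comp_apply, h1, map_zero]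

end LemmaB

end ML

end Groth.Agent.Lib.Helper31
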