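import Groth.Agent.Lib.Helper31.DominateDL

set_option autoImplicit false
set_option linter.unusedSectionVars false
set_option linter.unusedVariables false
open TensorProduct
universe u

namespace Groth.Agent.Lib.Helper31

namespace ML

variable (R : Type u) [CommRing R]

section DL

variable {ι : Type u} [Preorder ι] [IsDirected ι (· ≤ ·)] [Nonempty ι] [DecidableEq ι] (G : ι → Type u)
  [∀ i, AddCommGroup (G i)] [∀ i, Module R (G i)] [∀ i, Module.FinitePresentation R (G i)]
  (f : ∀ i j, i ≤ j → G i →ₗ[R] G j) [DirectedSystem G fun i j h => f i j h]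

/-- one step of the construction of the countable subsystem. -/
lemma exists_step (hML : CAlg.IsMittagLeffler R (Module.DirectLimit G f)) (a : ι)
    (x : Module.DirectLimit G f) :
    ∃ (a' : ι) (h : a ≤ a'), (∀ y : G a, Module.DirectLimit.of R ι G f a y = 0 → f a a' h y = 0) ∧
      x ∈ LinearMap.range (Module.DirectLimit.of R ι G f a') := by
  obtain ⟨j, haj, hj⟩ := exists_factors_of_isMittagLeffler_directLimit R G f hML a
  obtain ⟨i, y, hy⟩ := Module.DirectLimit.exists_of x
  obtain ⟨a', hja', hia'⟩ := exists_ge_ge j i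
  refine ⟨a', haj.trans hja', ?_, ⟨f i a' hia' y, by rw [Module.DirectLimit.of_f, hy]⟩⟩
  intro z hz
  obtain ⟨m, ham, hm⟩ := Module.DirectLimit.of.zero_exact hz
  obtain ⟨h, hh⟩ := hj m ham
  have h1 : f a j haj z = 0 := by
    rw [hh, LinearMap.comp_apply, hm, map_zero]
  have h2 : f a a' (haj.trans hja') z = f j a' hja' (f a j haj z) :=
    (DirectedSystem.map_map (f := fun i j h => f i j h) haj hja' z).symm
  rw [h2, h1, map_zero]

theorem exists_countable_subsystem (hML : CAlg.IsMittagLeffler R (Module.DirectLimit G f))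
    (hc : CAlg.IsCountablyGenerated R (Module.DirectLimit G f)) :
    ∃ I' : Set ι, I'.Countable ∧ DirectedOn (· ≤ ·) I' ∧
      Function.Bijective (Module.DirectLimit.lift R I' (fun i : I' => G i.1)
        (fun (i j : I') (h : i ≤ j) => f i.1 j.1 h)
        (fun i : I' => Module.DirectLimit.of R ι G f i.1)
        (fun (i j : I') (h : i ≤ j) (x : G i.1) => Module.DirectLimit.of_f)) := by
  obtain ⟨s, hs, hspan⟩ := hc
  have hs' : (s ∪ {0}).Countable := hs.union (Set.countable_singleton 0)
  obtain ⟨x, hx⟩ := hs'.exists_eq_range ⟨0, Or.inr rfl⟩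
  choose step hle hkill hmem using exists_step R G f hML
  let a₀ : ι := Classical.arbitrary ι
  let a : ℕ → ι := fun k => Nat.rec a₀ (fun k ak => step ak (x k)) k
  have ha_succ : ∀ k, a (k + 1) = step (a k) (x k) := fun k => rfl
  have hmono : Monotone a := monotone_nat_of_le_succ (fun k => by rw [ha_succ]; exact hle _ _)
  have hdir : DirectedOn (· ≤ ·) (Set.range a) := by
    rintro _ ⟨i, rfl⟩ _ ⟨j, rfl⟩
    exact ⟨a (max i j), ⟨_, rfl⟩, hmono (le_max_left i j), hmono (le_max_right i j)⟩
  refine ⟨Set.range a, Set.countable_range a, hdir, ?_⟩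
  have : IsDirectedOrder (Set.range a) := hdir.isDirectedOrder
  have : Nonempty (Set.range a) := ⟨⟨a 0, 0, rfl⟩⟩
  have : DirectedSystem (fun i : Set.range a => G i.1)
      (fun (i j : Set.range a) (h : i ≤ j) => f i.1 j.1 h) :=
    ⟨fun i x => DirectedSystem.map_self (f := fun i j h => f i j h) x,
      fun i j k hij hjk x => DirectedSystem.map_map (f := fun i j h => f i j h) hij hjk x⟩
  constructor
  · rw [injective_iff_map_eq_zero]
    intro z hz
    obtain ⟨⟨_, k, rfl⟩, y, rfl⟩ := Module.DirectLimit.exists_of z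
    rw [Module.DirectLimit.lift_of] at hz
    have h1 : f (a k) (a (k + 1)) (hmono (Nat.le_succ k)) y = 0 := hkill (a k) (x k) y hz
    have h2 := Module.DirectLimit.of_f (R := R) (ι := Set.range a) (G := fun i : Set.range a => G i.1)
      (f := fun (i j : Set.range a) (h : i ≤ j) => f i.1 j.1 h)
      (i := ⟨a k, k, rfl⟩) (j := ⟨a (k + 1), k + 1, rfl⟩) (hij := hmono (Nat.le_succ k)) (x := y)
    rw [← h2]
    have h3 : f (a k) (a (k + 1)) (hmono (Nat.le_succ k)) y = 0 := h1
    simp only [h3, map_zero]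
  · rw [← LinearMap.range_eq_top, eq_top_iff, ← hspan, Submodule.span_le]
    intro m hm
    have hm' : m ∈ Set.range x := by
      rw [← hx]; exact Or.inl hm
    obtain ⟨k, rfl⟩ := hm'
    obtain ⟨y, hy⟩ := hmem (a k) (x k)
    refine ⟨Module.DirectLimit.of R (Set.range a) (fun i : Set.range a => G i.1)
      (fun (i j : Set.range a) (h : i ≤ j) => f i.1 j.1 h) ⟨a (k + 1), k + 1, rfl⟩ y, ?_⟩
    rw [Module.DirectLimit.lift_of]
    exact hy

end DL

end ML

end Groth.Agent.Lib.Helper31
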