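import Groth.Agent.Lib.Helper31.Dominate
import Groth.Agent.S6302

set_option autoImplicit false
open TensorProduct
universe u

namespace Groth.Agent.Lib.Helper31

namespace ML

variable (R : Type u) [CommRing R] {M N M' : Type u}
  [AddCommGroup M] [Module R M] [AddCommGroup N] [Module R N] [AddCommGroup M'] [Module R M']
  (f : M →ₗ[R] N) (g : M →ₗ[R] M')

/-- the canonical map `M' → N ⊔_M M'` to the pushout. -/
noncomputable abbrev pushoutInl : M' →ₗ[R] (M' × N) ⧸ LinearMap.range (g.prod (-f)) :=
  (LinearMap.range (g.prod (-f))).mkQ ∘ₗ LinearMap.inl R M' N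

/-- the canonical map `N → N ⊔_M M'` to the pushout. -/
noncomputable abbrev pushoutInr : N →ₗ[R] (M' × N) ⧸ LinearMap.range (g.prod (-f)) :=
  (LinearMap.range (g.prod (-f))).mkQ ∘ₗ LinearMap.inr R M' N

lemma pushout_condition : pushoutInl R f g ∘ₗ g = pushoutInr R f g ∘ₗ f := by
  ext x
  simp only [LinearMap.coe_comp, Function.comp_apply, LinearMap.inl_apply, LinearMap.inr_apply,
    Submodule.mkQ_apply]
  rw [Submodule.Quotient.eq]
  refine ⟨x, ?_⟩
  simp

theorem dominates_iff_universallyInjective_pushoutInl :
    Dominates R f g ↔ CAlgX.UniversallyInjective R (pushoutInl R f g) := by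
  constructor
  · intro hdom Q _ _
    rw [injective_iff_map_eq_zero]
    intro t ht
    have hex : Function.Exact (g.prod (-f)) (LinearMap.range (g.prod (-f))).mkQ := by
      rw [LinearMap.exact_iff]; simp
    have hexQ := rTensor_exact Q hex (LinearMap.range (g.prod (-f))).mkQ_surjective
    rw [LinearMap.rTensor_comp, LinearMap.comp_apply] at ht
    obtain ⟨s, hs⟩ := (hexQ _).mp ht
    -- apply the two projections
    have h1 : (LinearMap.snd R M' N).rTensor Q ((g.prod (-f)).rTensor Q s) = 0 := by
      rw [hs, ← LinearMap.comp_apply, ← LinearMap.rTensor_comp]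
      have : LinearMap.snd R M' N ∘ₗ LinearMap.inl R M' N = 0 := by ext; simp
      rw [this, LinearMap.rTensor_zero, LinearMap.zero_apply]
    rw [← LinearMap.comp_apply, ← LinearMap.rTensor_comp, LinearMap.snd_prod, LinearMap.rTensor_neg,
      LinearMap.neg_apply, neg_eq_zero] at h1
    have h2 : g.rTensor Q s = 0 := hdom Q h1
    have h3 : (LinearMap.fst R M' N).rTensor Q ((g.prod (-f)).rTensor Q s) = t := by
      rw [hs, ← LinearMap.comp_apply, ← LinearMap.rTensor_comp]
      have : LinearMap.fst R M' N ∘ₗ LinearMap.inl R M' N = LinearMap.id := by ext; simp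
      rw [this, LinearMap.rTensor_id, LinearMap.id_apply]
    rw [← LinearMap.comp_apply, ← LinearMap.rTensor_comp, LinearMap.fst_prod, h2] at h3
    exact h3.symm
  · intro hinj Q _ _ s hs
    rw [LinearMap.mem_ker] at hs ⊢
    apply hinj Q
    rw [map_zero, ← LinearMap.comp_apply, ← LinearMap.rTensor_comp, pushout_condition,
      LinearMap.rTensor_comp, LinearMap.comp_apply, hs, map_zero]

/-- if the cokernel of `f` is finitely presented, `g` dominates `f` iff `g` factors through `f`. -/
theorem dominates_iff_exists_factor [Module.FinitePresentation R (N ⧸ LinearMap.range f)] :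
    Dominates R f g ↔ ∃ h : N →ₗ[R] M', g = h ∘ₗ f := by
  constructor
  · intro hdom
    have huinj := (dominates_iff_universallyInjective_pushoutInl R f g).mp hdom
    -- `ι` is injective
    have hinj : Function.Injective (pushoutInl R f g) := by
      intro a b hab
      have h1 := huinj R
      apply (TensorProduct.rid R M').symm.injective
      apply h1
      simp only [rid_symm_apply, LinearMap.rTensor_tmul]
      rw [hab]
    -- the projection to the cokernel of `f`
    have hle : LinearMap.range (g.prod (-f)) ≤
        LinearMap.ker ((LinearMap.range f).mkQ ∘ₗ LinearMap.snd R M' N) := by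
      rintro _ ⟨x, rfl⟩
      simp
    let p : ((M' × N) ⧸ LinearMap.range (g.prod (-f))) →ₗ[R] N ⧸ LinearMap.range f :=
      (LinearMap.range (g.prod (-f))).liftQ _ hle
    have hp : Function.Surjective p := by
      intro c
      obtain ⟨n, rfl⟩ := (LinearMap.range f).mkQ_surjective c
      exact ⟨(LinearMap.range (g.prod (-f))).mkQ (0, n), by simp [p]⟩
    have hex : Function.Exact (pushoutInl R f g) p := by
      intro y
      constructor
      · intro hy
        obtain ⟨⟨m', n⟩, rfl⟩ := (LinearMap.range (g.prod (-f))).mkQ_surjective y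
        have h1 : (LinearMap.range f).mkQ n = 0 := by simpa [p] using hy
        rw [Submodule.mkQ_apply, Submodule.Quotient.mk_eq_zero] at h1
        obtain ⟨x, rfl⟩ := h1
        refine ⟨m' + g x, ?_⟩
        simp only [LinearMap.coe_comp, Function.comp_apply, LinearMap.inl_apply, Submodule.mkQ_apply]
        rw [Submodule.Quotient.eq]
        refine ⟨x, ?_⟩
        simp
      · rintro ⟨m', rfl⟩
        simp [p]
    obtain ⟨s, hs⟩ := Groth.Agent.S6302.result (pushoutInl R f g) p hex hp huinj
    obtain ⟨r, hr⟩ := ((hex.split_tfae hinj hp).out 0 1 rfl rfl).mp ⟨s, hs⟩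
    refine ⟨r ∘ₗ pushoutInr R f g, ?_⟩
    rw [LinearMap.comp_assoc, ← pushout_condition, ← LinearMap.comp_assoc, hr, LinearMap.id_comp]
  · rintro ⟨h, rfl⟩ Q _ _ t ht
    rw [LinearMap.mem_ker] at ht ⊢
    rw [LinearMap.rTensor_comp, LinearMap.comp_apply, ht, map_zero]

end ML

end Groth.Agent.Lib.Helper31
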