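import Groth.Agent.Lib.Helper31.DominateML
import Mathlib.LinearAlgebra.TensorProduct.RightExactness
import Mathlib.LinearAlgebra.TensorProduct.Associator
import Mathlib.RingTheory.TensorProduct.Finite
import Mathlib.LinearAlgebra.FreeModule.Finite.Basic

set_option autoImplicit false
open TensorProduct
universe u

namespace Groth.Agent.Lib.Helper31

namespace ML

variable (R : Type u) [CommRing R]

/-- the tensor product of finitely presented modules is finitely presented. -/
theorem finitePresentation_tensorProduct (Q₁ Q₂ : Type u) [AddCommGroup Q₁] [Module R Q₁]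
    [AddCommGroup Q₂] [Module R Q₂] [Module.FinitePresentation R Q₁] [Module.FinitePresentation R Q₂] :
    Module.FinitePresentation R (Q₁ ⊗[R] Q₂) := by
  obtain ⟨n₁, m₁, f₁, g₁, hf₁, hex₁⟩ := Module.FinitePresentation.exists_fin' R Q₁
  obtain ⟨n₂, m₂, f₂, g₂, hf₂, hex₂⟩ := Module.FinitePresentation.exists_fin' R Q₂
  have hfp : Module.FinitePresentation R ((Fin n₁ → R) ⊗[R] (Fin n₂ → R)) :=
    Module.finitePresentation_of_projective R _
  apply Module.finitePresentation_of_surjective (TensorProduct.map f₁ f₂)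
    (TensorProduct.map_surjective hf₁ hf₂)
  rw [TensorProduct.map_ker hex₁ hf₁ hex₂ hf₂]
  apply Submodule.FG.sup
  · exact Module.Finite.iff_fg.mp (Module.Finite.range _)
  · exact Module.Finite.iff_fg.mp (Module.Finite.range _)

section Dom

variable {A B C : Type u} [AddCommGroup A] [Module R A] [AddCommGroup B] [Module R B]
  [AddCommGroup C] [Module R C]

variable {R}

lemma Dominates.comp_right {f : A →ₗ[R] B} {g : A →ₗ[R] C} (h : Dominates R f g)
    {A' : Type u} [AddCommGroup A'] [Module R A'] (e : A' →ₗ[R] A) :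
    Dominates R (f ∘ₗ e) (g ∘ₗ e) := by
  intro X _ _ t ht
  rw [LinearMap.mem_ker] at ht ⊢
  rw [LinearMap.rTensor_comp, LinearMap.comp_apply] at ht ⊢
  exact h X ht

lemma Dominates.comp_left {f : A →ₗ[R] B} {g : A →ₗ[R] C} (h : Dominates R f g)
    {C' : Type u} [AddCommGroup C'] [Module R C'] (k : C →ₗ[R] C') :
    Dominates R f (k ∘ₗ g) := by
  intro X _ _ t ht
  have h1 := h X ht
  rw [LinearMap.mem_ker] at h1 ⊢
  rw [LinearMap.rTensor_comp, LinearMap.comp_apply, h1, map_zero]

lemma Dominates.equiv_comp {f : A →ₗ[R] B} {g : A →ₗ[R] C} (h : Dominates R f g)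
    {B' : Type u} [AddCommGroup B'] [Module R B'] (e : B ≃ₗ[R] B') :
    Dominates R (e.toLinearMap ∘ₗ f) g := by
  intro X _ _ t ht
  apply h X
  rw [LinearMap.mem_ker] at ht ⊢
  rw [LinearMap.rTensor_comp, LinearMap.comp_apply] at ht
  have hinj : Function.Injective (e.toLinearMap.rTensor X) := by
    apply Function.LeftInverse.injective (g := e.symm.toLinearMap.rTensor X)
    intro x
    rw [← LinearMap.comp_apply, ← LinearMap.rTensor_comp]
    have : e.symm.toLinearMap ∘ₗ e.toLinearMap = LinearMap.id := by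
      ext m; simp
    rw [this, LinearMap.rTensor_id, LinearMap.id_apply]
  apply hinj
  rw [ht, map_zero]

lemma Dominates.trans {f : A →ₗ[R] B} {g : A →ₗ[R] C} {D : Type u} [AddCommGroup D] [Module R D]
    {k : A →ₗ[R] D} (h₁ : Dominates R f g) (h₂ : Dominates R g k) : Dominates R f k :=
  fun X _ _ => (h₁ X).trans (h₂ X)

lemma Dominates.rTensor {f : A →ₗ[R] B} {g : A →ₗ[R] C} (h : Dominates R f g)
    (Y : Type u) [AddCommGroup Y] [Module R Y] :
    Dominates R (f.rTensor Y) (g.rTensor Y) := by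
  intro X _ _ t ht
  rw [LinearMap.mem_ker] at ht ⊢
  have h1 : f.rTensor (Y ⊗[R] X) (TensorProduct.assoc R A Y X t) = 0 := by
    rw [LinearMap.rTensor_tensor]
    simp [ht]
  have h2 : g.rTensor (Y ⊗[R] X) (TensorProduct.assoc R A Y X t) = 0 := h (Y ⊗[R] X) h1
  rw [LinearMap.rTensor_tensor] at h2
  simpa using h2

lemma Dominates.lTensor {f : A →ₗ[R] B} {g : A →ₗ[R] C} (h : Dominates R f g)
    (Y : Type u) [AddCommGroup Y] [Module R Y] :
    Dominates R (f.lTensor Y) (g.lTensor Y) := by
  rw [← LinearMap.comm_comp_rTensor_comp_comm_eq, ← LinearMap.comm_comp_rTensor_comp_comm_eq]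
  have h1 := ((h.rTensor Y).comp_right (TensorProduct.comm R Y A).toLinearMap)
  exact (h1.equiv_comp (TensorProduct.comm R B Y)).comp_left (TensorProduct.comm R C Y).toLinearMap

lemma Dominates.map {A' B' C' : Type u} [AddCommGroup A'] [Module R A'] [AddCommGroup B'] [Module R B']
    [AddCommGroup C'] [Module R C']
    {f : A →ₗ[R] B} {g : A →ₗ[R] C} {f' : A' →ₗ[R] B'} {g' : A' →ₗ[R] C'}
    (h : Dominates R f g) (h' : Dominates R f' g') :
    Dominates R (TensorProduct.map f f') (TensorProduct.map g g') := by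
  have h1 : Dominates R (TensorProduct.map f f') (TensorProduct.map g f') := by
    rw [← LinearMap.rTensor_comp_lTensor, ← LinearMap.rTensor_comp_lTensor]
    exact (h.rTensor B').comp_right _
  have h2 : Dominates R (TensorProduct.map g f') (TensorProduct.map g g') := by
    rw [← LinearMap.lTensor_comp_rTensor, ← LinearMap.lTensor_comp_rTensor]
    exact (h'.lTensor C).comp_right _
  exact h1.trans h2

end Dom

/-- **The tensor product of Mittag-Leffler modules is Mittag-Leffler.** -/
theorem isMittagLeffler_tensorProduct (M N : Type u) [AddCommGroup M] [Module R M]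
    [AddCommGroup N] [Module R N] (hM : CAlg.IsMittagLeffler R M) (hN : CAlg.IsMittagLeffler R N) :
    CAlg.IsMittagLeffler R (M ⊗[R] N) := by
  apply isMittagLeffler_of_forall_free_dominate
  intro n f
  have hrep : ∀ i : Fin n, ∃ (k : ℕ) (m : Fin k → M) (n' : Fin k → N),
      f (Pi.single i 1) = ∑ j, m j ⊗ₜ[R] n' j := fun i => TensorProduct.exists_sum_tmul_eq _
  choose k m n' hmn using hrep
  let J := Σ i : Fin n, Fin (k i)
  let φ : (J → R) →ₗ[R] M := Fintype.linearCombination R (fun p : J => m p.1 p.2)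
  let ψ : (J → R) →ₗ[R] N := Fintype.linearCombination R (fun p : J => n' p.1 p.2)
  let f₀ : (Fin n → R) →ₗ[R] (J → R) ⊗[R] (J → R) :=
    Fintype.linearCombination R
      (fun i => ∑ j : Fin (k i), (Pi.single (⟨i, j⟩ : J) (1 : R)) ⊗ₜ[R] (Pi.single (⟨i, j⟩ : J) (1 : R)))
  have hf : f = TensorProduct.map φ ψ ∘ₗ f₀ := by
    apply LinearMap.pi_ext'
    intro i
    apply LinearMap.ext_ring
    simp only [LinearMap.coe_comp, Function.comp_apply, LinearMap.coe_single]
    rw [hmn i]
    simp [f₀, φ, ψ]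
  obtain ⟨Q₁, _, _, _, g₁, h₁, hgh₁, hdom₁⟩ := exists_fp_dominate_of_isMittagLeffler R hM φ
  obtain ⟨Q₂, _, _, _, g₂, h₂, hgh₂, hdom₂⟩ := exists_fp_dominate_of_isMittagLeffler R hN ψ
  have hfp : Module.FinitePresentation R (Q₁ ⊗[R] Q₂) := finitePresentation_tensorProduct R Q₁ Q₂
  refine ⟨Q₁ ⊗[R] Q₂, inferInstance, inferInstance, isMittagLeffler_of_finitePresentation R,
    TensorProduct.map g₁ g₂ ∘ₗ f₀, ?_⟩
  intro X _ _
  apply le_antisymm
  · rw [hf]
    exact ((hdom₁.map hdom₂).comp_right f₀) X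
  · intro t ht
    rw [LinearMap.mem_ker] at ht ⊢
    have : f = TensorProduct.map h₁ h₂ ∘ₗ (TensorProduct.map g₁ g₂ ∘ₗ f₀) := by
      rw [← LinearMap.comp_assoc, ← TensorProduct.map_comp, hgh₁, hgh₂, hf]
    rw [this, LinearMap.rTensor_comp, LinearMap.comp_apply, ht, map_zero]

end ML

end Groth.Agent.Lib.Helper31
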