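import Groth.Agent.Lib.Helper31.DominateML
import Groth.Agent.Lib.Helper31.DominatePushout
import Groth.Agent.Lib.Helper31.DominateTensor
import Mathlib.LinearAlgebra.TensorProduct.DirectLimit

set_option autoImplicit false
set_option linter.unusedSectionVars false
open TensorProduct
universe u

namespace Groth.Agent.Lib.Helper31

namespace ML

variable (R : Type u) [CommRing R]

/-- **Universal test element**: for a map `f : P → M` from a finitely presented module to a
Mittag-Leffler module, there is an element `y ∈ ker (f ⊗ X)` such that any map `g` killing `y`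
is dominated by `f`. -/
theorem exists_test_element {M : Type u} [AddCommGroup M] [Module R M] (hM : CAlg.IsMittagLeffler R M)
    {P : Type u} [AddCommGroup P] [Module R P] [Module.FinitePresentation R P] (f : P →ₗ[R] M) :
    ∃ (X : Type u) (_ : AddCommGroup X) (_ : Module R X) (y : P ⊗[R] X), f.rTensor X y = 0 ∧
      ∀ (Q : Type u) [AddCommGroup Q] [Module R Q] (g : P →ₗ[R] Q), g.rTensor X y = 0 →
        Dominates R f g := by
  obtain ⟨y, hy⟩ := (piRightHom_bijective_of_finitePresentation R (M := P) (TestMod R f)).2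
    (testElt R f)
  have hfy : f.rTensor (∀ α, TestMod R f α) y = 0 := by
    apply (injective_iff_map_eq_zero _).mp (hM (TestIdx R f) (TestMod R f))
    funext α
    rw [piRightHom_naturality, hy]
    exact testElt_spec R f α
  refine ⟨∀ α, TestMod R f α, inferInstance, inferInstance, y, hfy, ?_⟩
  intro Q _ _ g hg
  apply dominates_of_forall_finitePresentation
  intro N _ _ hN t ht
  rw [LinearMap.mem_ker] at ht ⊢
  obtain ⟨n, K, e, -⟩ := Module.FinitePresentation.exists_fin R N
  set t' : P ⊗[R] ((Fin n → R) ⧸ K) := e.toLinearMap.lTensor P t with ht'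
  have hft' : f.rTensor _ t' = 0 := by
    rw [ht', ← LinearMap.comp_apply, LinearMap.rTensor_comp_lTensor, ← LinearMap.lTensor_comp_rTensor,
      LinearMap.comp_apply, ht, map_zero]
  let α : TestIdx R f := ⟨n, K, t', hft'⟩
  have h1 : g.rTensor (TestMod R f α) (testElt R f α) = 0 := by
    have h2 := piRightHom_naturality R g (TestMod R f) y α
    rw [hg, hy] at h2
    exact h2.symm
  have h3 : t = e.symm.toLinearMap.lTensor P t' := by
    rw [ht', ← LinearMap.comp_apply, ← LinearMap.lTensor_comp]
    have : e.symm.toLinearMap ∘ₗ e.toLinearMap = LinearMap.id := by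
      ext a; simp
    rw [this, LinearMap.lTensor_id, LinearMap.id_apply]
  rw [h3, ← LinearMap.comp_apply, LinearMap.rTensor_comp_lTensor, ← LinearMap.lTensor_comp_rTensor,
    LinearMap.comp_apply]
  have h4 : g.rTensor ((Fin n → R) ⧸ K) t' = 0 := h1
  rw [h4, map_zero]

section DL

variable {ι : Type u} [Preorder ι] [IsDirected ι (· ≤ ·)] [Nonempty ι] [DecidableEq ι] (G : ι → Type u)
  [∀ i, AddCommGroup (G i)] [∀ i, Module R (G i)]
  (f : ∀ i j, i ≤ j → G i →ₗ[R] G j) [DirectedSystem G fun i j h => f i j h]

/-- an element of `G i ⊗ X` dying in the colimit dies at a finite stage. -/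
lemma exists_rTensor_eq_zero_of_of {X : Type u} [AddCommGroup X] [Module R X] {i : ι}
    (s : G i ⊗[R] X) (hs : (Module.DirectLimit.of R ι G f i).rTensor X s = 0) :
    ∃ (k : ι) (hik : i ≤ k), (f i k hik).rTensor X s = 0 := by
  have h1 : Module.DirectLimit.of R ι (G · ⊗[R] X) (fun i j h => (f i j h).rTensor X) i s =
      Module.DirectLimit.of R ι (G · ⊗[R] X) (fun i j h => (f i j h).rTensor X) i 0 := by
    rw [← TensorProduct.directLimitLeft_rTensor_of, hs, map_zero, map_zero]
  obtain ⟨k, hik, hk⟩ := Module.DirectLimit.exists_eq_of_of_eq h1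
  exact ⟨k, hik, by rw [hk, map_zero]⟩

/-- every element of `colim G ⊗ X` comes from a finite stage. -/
lemma exists_rTensor_of_eq {X : Type u} [AddCommGroup X] [Module R X]
    (t : Module.DirectLimit G f ⊗[R] X) :
    ∃ (i : ι) (s : G i ⊗[R] X), (Module.DirectLimit.of R ι G f i).rTensor X s = t := by
  obtain ⟨i, s, hs⟩ := Module.DirectLimit.exists_of (TensorProduct.directLimitLeft f X t)
  refine ⟨i, s, ?_⟩
  apply (TensorProduct.directLimitLeft f X).injective
  rw [TensorProduct.directLimitLeft_rTensor_of, hs]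

theorem isMittagLeffler_directLimit_of_factors [∀ i, Module.FinitePresentation R (G i)]
    (h : ∀ i, ∃ (j : ι) (hij : i ≤ j), ∀ (k : ι) (hik : i ≤ k),
        ∃ h : G k →ₗ[R] G j, f i j hij = h ∘ₗ f i k hik) :
    CAlg.IsMittagLeffler R (Module.DirectLimit G f) := by
  intro κ Q _ _
  rw [injective_iff_map_eq_zero]
  intro t ht
  obtain ⟨i, s, rfl⟩ := exists_rTensor_of_eq R G f t
  obtain ⟨j, hij, hj⟩ := h i
  have h1 : ∀ α, (f i j hij).rTensor (Q α) (TensorProduct.piRightHom R R (G i) Q s α) = 0 := by
    intro α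
    have h2 : (Module.DirectLimit.of R ι G f i).rTensor (Q α)
        (TensorProduct.piRightHom R R (G i) Q s α) = 0 := by
      rw [← piRightHom_naturality, ht]
      rfl
    obtain ⟨k, hik, hk⟩ := exists_rTensor_eq_zero_of_of R G f _ h2
    obtain ⟨h', hh'⟩ := hj k hik
    rw [hh', LinearMap.rTensor_comp, LinearMap.comp_apply, hk, map_zero]
  have h3 : (f i j hij).rTensor (∀ α, Q α) s = 0 := by
    apply (injective_iff_map_eq_zero _).mp (isMittagLeffler_of_finitePresentation R (M := G j) κ Q)
    funext α
    rw [piRightHom_naturality, h1]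
    rfl
  have h4 : Module.DirectLimit.of R ι G f i = Module.DirectLimit.of R ι G f j ∘ₗ f i j hij := by
    ext x
    simp
  rw [h4, LinearMap.rTensor_comp, LinearMap.comp_apply, h3, map_zero]

theorem exists_factors_of_isMittagLeffler_directLimit [∀ i, Module.FinitePresentation R (G i)]
    (hM : CAlg.IsMittagLeffler R (Module.DirectLimit G f)) (i : ι) :
    ∃ (j : ι) (hij : i ≤ j), ∀ (k : ι) (hik : i ≤ k),
        ∃ h : G k →ₗ[R] G j, f i j hij = h ∘ₗ f i k hik := by
  obtain ⟨X, _, _, y, hy, htest⟩ := exists_test_element R hM (Module.DirectLimit.of R ι G f i)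
  obtain ⟨j, hij, hj⟩ := exists_rTensor_eq_zero_of_of R G f y hy
  have hdom : Dominates R (Module.DirectLimit.of R ι G f i) (f i j hij) := htest (G j) (f i j hij) hj
  refine ⟨j, hij, fun k hik => ?_⟩
  have h4 : Module.DirectLimit.of R ι G f i = Module.DirectLimit.of R ι G f k ∘ₗ f i k hik := by
    ext x
    simp
  have hdom' : Dominates R (f i k hik) (f i j hij) := by
    intro X' _ _ t ht
    apply hdom X'
    rw [LinearMap.mem_ker] at ht ⊢
    rw [h4, LinearMap.rTensor_comp, LinearMap.comp_apply, ht, map_zero]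
  have : Module.FinitePresentation R (G k ⧸ LinearMap.range (f i k hik)) :=
    Module.finitePresentation_of_surjective (LinearMap.range (f i k hik)).mkQ
      (Submodule.mkQ_surjective _)
      (by rw [Submodule.ker_mkQ]; exact Module.Finite.iff_fg.mp (Module.Finite.range _))
  exact (dominates_iff_exists_factor R (f i k hik) (f i j hij)).mp hdom'

end DL

end ML

end Groth.Agent.Lib.Helper31
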