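import Groth.Agent.Lib.Helper31.Dominate

set_option autoImplicit false
open TensorProduct
universe u

namespace Groth.Agent.Lib.Helper31

namespace ML

variable (R : Type u) [CommRing R] (M : Type u) [AddCommGroup M] [Module R M]

/-- criterion for Mittag-Leffler: every map from a finite free module is mutually dominated by a map
to a Mittag-Leffler (e.g. finitely presented) module. -/
theorem isMittagLeffler_of_forall_free_dominate
    (h : ∀ (n : ℕ) (f : (Fin n → R) →ₗ[R] M),
      ∃ (Q : Type u) (_ : AddCommGroup Q) (_ : Module R Q) (_ : CAlg.IsMittagLeffler R Q)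
        (g : (Fin n → R) →ₗ[R] Q),
        ∀ (N : Type u) [AddCommGroup N] [Module R N],
          LinearMap.ker (f.rTensor N) = LinearMap.ker (g.rTensor N)) :
    CAlg.IsMittagLeffler R M := by
  intro ι Q _ _
  rw [injective_iff_map_eq_zero]
  intro x hx
  obtain ⟨k, u, x₀, rfl⟩ := exists_free_rTensor_eq R x
  obtain ⟨Q', _, _, hQ', g, hker⟩ := h k u
  have h1 : ∀ i, g.rTensor (Q i) (TensorProduct.piRightHom R R (Fin k → R) Q x₀ i) = 0 := by
    intro i
    have : TensorProduct.piRightHom R R (Fin k → R) Q x₀ i ∈ LinearMap.ker (u.rTensor (Q i)) := by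
      rw [LinearMap.mem_ker, ← piRightHom_naturality, hx]
      rfl
    rw [hker] at this
    exact this
  have h2 : g.rTensor (∀ i, Q i) x₀ = 0 := by
    apply (injective_iff_map_eq_zero _).mp (hQ' ι Q)
    funext i
    rw [piRightHom_naturality, h1]
    rfl
  have h3 : x₀ ∈ LinearMap.ker (u.rTensor (∀ i, Q i)) := by
    rw [hker]
    exact h2
  exact h3

variable {M}

section TestFamily

variable {P : Type u} [AddCommGroup P] [Module R P] (f : P →ₗ[R] M)

/-- index type of all test elements: elements of `ker (f ⊗ (R^n/K))`. -/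
def TestIdx : Type u := Σ (n : ℕ) (K : Submodule R (Fin n → R)),
    {y : P ⊗[R] ((Fin n → R) ⧸ K) // f.rTensor _ y = 0}

/-- the test modules. -/
def TestMod (α : TestIdx R f) : Type u := (Fin α.1 → R) ⧸ α.2.1

noncomputable instance (α : TestIdx R f) : AddCommGroup (TestMod R f α) :=
  inferInstanceAs (AddCommGroup ((Fin α.1 → R) ⧸ α.2.1))

noncomputable instance (α : TestIdx R f) : Module R (TestMod R f α) :=
  inferInstanceAs (Module R ((Fin α.1 → R) ⧸ α.2.1))

/-- the tautological family of test elements. -/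
def testElt (α : TestIdx R f) : P ⊗[R] TestMod R f α := α.2.2.1

lemma testElt_spec (α : TestIdx R f) : f.rTensor (TestMod R f α) (testElt R f α) = 0 := α.2.2.2

end TestFamily

/-- A map from a finitely presented module to a Mittag-Leffler module factors through a map to a
finitely presented module which is dominated by it. -/
theorem exists_fp_dominate_of_isMittagLeffler (hM : CAlg.IsMittagLeffler R M)
    {P : Type u} [AddCommGroup P] [Module R P] [Module.FinitePresentation R P] (f : P →ₗ[R] M) :
    ∃ (Q : Type u) (_ : AddCommGroup Q) (_ : Module R Q) (_ : Module.FinitePresentation R Q)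
      (g : P →ₗ[R] Q) (h : Q →ₗ[R] M), h ∘ₗ g = f ∧ Dominates R f g := by
  obtain ⟨y, hy⟩ := (piRightHom_bijective_of_finitePresentation R (M := P) (TestMod R f)).2
    (testElt R f)
  have hfy : f.rTensor (∀ α, TestMod R f α) y = 0 := by
    apply (injective_iff_map_eq_zero _).mp (hM (TestIdx R f) (TestMod R f))
    funext α
    rw [piRightHom_naturality, hy]
    exact testElt_spec R f α
  obtain ⟨Q, i1, i2, i3, g, h, hgh, hg⟩ := exists_fp_factor_of_rTensor_eq_zero R f y hfy
  refine ⟨Q, i1, i2, i3, g, h, hgh, ?_⟩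
  apply dominates_of_forall_finitePresentation
  intro N _ _ hN t ht
  rw [LinearMap.mem_ker] at ht ⊢
  obtain ⟨n, K, e, -⟩ := Module.FinitePresentation.exists_fin R N
  set t' : P ⊗[R] ((Fin n → R) ⧸ K) := e.toLinearMap.lTensor P t with ht'
  have hft' : f.rTensor _ t' = 0 := by
    rw [ht', ← LinearMap.comp_apply, LinearMap.rTensor_comp_lTensor, ← LinearMap.lTensor_comp_rTensor,
      LinearMap.comp_apply, ht, map_zero]
  let α : TestIdx R f := ⟨n, K, t', hft'⟩
  have h1 : g.rTensor (TestMod R f α) (testElt R f α) = 0 := by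
    have h2 := piRightHom_naturality R g (TestMod R f) y α
    rw [hg, hy] at h2
    exact h2.symm
  have h3 : t = e.symm.toLinearMap.lTensor P t' := by
    rw [ht', ← LinearMap.comp_apply, ← LinearMap.lTensor_comp]
    have : e.symm.toLinearMap ∘ₗ e.toLinearMap = LinearMap.id := by
      ext a; simp
    rw [this, LinearMap.lTensor_id, LinearMap.id_apply]
  rw [h3, ← LinearMap.comp_apply, LinearMap.rTensor_comp_lTensor, ← LinearMap.lTensor_comp_rTensor,
    LinearMap.comp_apply]
  have h4 : g.rTensor ((Fin n → R) ⧸ K) t' = 0 := h1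
  rw [h4, map_zero]

/-- kernel equality version. -/
theorem exists_fp_ker_eq_of_isMittagLeffler (hM : CAlg.IsMittagLeffler R M)
    {P : Type u} [AddCommGroup P] [Module R P] [Module.FinitePresentation R P] (f : P →ₗ[R] M) :
    ∃ (Q : Type u) (_ : AddCommGroup Q) (_ : Module R Q) (_ : Module.FinitePresentation R Q)
      (g : P →ₗ[R] Q), ∀ (N : Type u) [AddCommGroup N] [Module R N],
        LinearMap.ker (f.rTensor N) = LinearMap.ker (g.rTensor N) := by
  obtain ⟨Q, i1, i2, i3, g, h, hgh, hdom⟩ := exists_fp_dominate_of_isMittagLeffler R hM f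
  refine ⟨Q, i1, i2, i3, g, fun N _ _ => le_antisymm (hdom N) ?_⟩
  intro t ht
  rw [LinearMap.mem_ker] at ht ⊢
  rw [← hgh, LinearMap.rTensor_comp, LinearMap.comp_apply, ht, map_zero]

end ML

end Groth.Agent.Lib.Helper31
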