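import Groth.Agent.Lib.Helper31.DominateDL

set_option autoImplicit false
set_option linter.unusedSectionVars false
open TensorProduct
universe u

namespace Groth.Agent.Lib.Helper31

namespace ML

variable (R : Type u) [CommRing R]

lemma Dominates.ker_le {A B C : Type u} [AddCommGroup A] [Module R A] [AddCommGroup B] [Module R B]
    [AddCommGroup C] [Module R C] {f : A →ₗ[R] B} {g : A →ₗ[R] C} (h : Dominates R f g) :
    LinearMap.ker f ≤ LinearMap.ker g := by
  intro y hy
  rw [LinearMap.mem_ker] at hy ⊢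
  have h1 : y ⊗ₜ[R] (1 : R) ∈ LinearMap.ker (f.rTensor R) := by
    rw [LinearMap.mem_ker, LinearMap.rTensor_tmul, hy, zero_tmul]
  have h2 := h R h1
  rw [LinearMap.mem_ker, LinearMap.rTensor_tmul] at h2
  have h3 := congrArg (TensorProduct.rid R C) h2
  simpa using h3

variable (M : Type u) [AddCommGroup M] [Module R M]

/-- a finitely presented module with a map to `M`. -/
structure Approx where
  N : Type u
  [acg : AddCommGroup N]
  [mod : Module R N]
  [fp : Module.FinitePresentation R N]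
  v : N →ₗ[R] M

attribute [instance] Approx.acg Approx.mod Approx.fp

variable {M}

lemma exists_next (hM : CAlg.IsMittagLeffler R M) (s : Approx R M) (m : M) :
    ∃ (s' : Approx R M) (t : s.N →ₗ[R] s'.N), s'.v ∘ₗ t = s.v ∧ Dominates R s.v t ∧
      m ∈ LinearMap.range s'.v := by
  let w : (s.N × R) →ₗ[R] M := s.v.coprod (LinearMap.toSpanSingleton R M m)
  obtain ⟨Q, _, _, _, g, h, hgh, hdom⟩ := exists_fp_dominate_of_isMittagLeffler R hM w
  refine ⟨⟨Q, h⟩, g ∘ₗ LinearMap.inl R s.N R, ?_, ?_, ?_⟩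
  · rw [← LinearMap.comp_assoc]
    change (h ∘ₗ g) ∘ₗ LinearMap.inl R s.N R = s.v
    rw [hgh]
    ext y
    simp [w]
  · have h1 := hdom.comp_right (LinearMap.inl R s.N R)
    have h2 : w ∘ₗ LinearMap.inl R s.N R = s.v := by
      ext y
      simp [w]
    rw [h2] at h1
    exact h1
  · refine ⟨g (0, 1), ?_⟩
    change (h ∘ₗ g) (0, 1) = m
    rw [hgh]
    simp [w]

section Tower

variable (hM : CAlg.IsMittagLeffler R M) (x : ℕ → M) (s₀ : Approx R M)

noncomputable def next (s : Approx R M) (m : M) : Approx R M := (exists_next R hM s m).choose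

noncomputable def nextMap (s : Approx R M) (m : M) : s.N →ₗ[R] (next R hM s m).N :=
  (exists_next R hM s m).choose_spec.choose

lemma next_comp (s : Approx R M) (m : M) : (next R hM s m).v ∘ₗ nextMap R hM s m = s.v :=
  (exists_next R hM s m).choose_spec.choose_spec.1

lemma next_dom (s : Approx R M) (m : M) : Dominates R s.v (nextMap R hM s m) :=
  (exists_next R hM s m).choose_spec.choose_spec.2.1

lemma next_mem (s : Approx R M) (m : M) : m ∈ LinearMap.range (next R hM s m).v :=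
  (exists_next R hM s m).choose_spec.choose_spec.2.2

/-- the tower of approximations. -/
noncomputable def seq : ℕ → Approx R M
  | 0 => s₀
  | k + 1 => next R hM (seq k) (x k)

/-- the modules of the tower. -/
abbrev TG (k : ℕ) : Type u := (seq R hM x s₀ k).N

/-- the maps to `M`. -/
noncomputable abbrev tv (k : ℕ) : TG R hM x s₀ k →ₗ[R] M := (seq R hM x s₀ k).v

/-- the successor maps of the tower. -/
noncomputable def tr (k : ℕ) : TG R hM x s₀ k →ₗ[R] TG R hM x s₀ (k + 1) :=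
  nextMap R hM (seq R hM x s₀ k) (x k)

lemma tv_tr (k : ℕ) : tv R hM x s₀ (k + 1) ∘ₗ tr R hM x s₀ k = tv R hM x s₀ k :=
  next_comp R hM (seq R hM x s₀ k) (x k)

lemma tr_dom (k : ℕ) : Dominates R (tv R hM x s₀ k) (tr R hM x s₀ k) :=
  next_dom R hM (seq R hM x s₀ k) (x k)

lemma x_mem (k : ℕ) : x k ∈ LinearMap.range (tv R hM x s₀ (k + 1)) :=
  next_mem R hM (seq R hM x s₀ k) (x k)

/-- the transition maps of the tower. -/
noncomputable def ttrans (i j : ℕ) (h : i ≤ j) : TG R hM x s₀ i →ₗ[R] TG R hM x s₀ j :=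
  Nat.leRecOn (C := fun k => TG R hM x s₀ i →ₗ[R] TG R hM x s₀ k) h
    (fun {k} g => (tr R hM x s₀ k).comp g) LinearMap.id

lemma ttrans_self (i : ℕ) (h : i ≤ i) : ttrans R hM x s₀ i i h = LinearMap.id :=
  Nat.leRecOn_self _

lemma ttrans_succ (i j : ℕ) (h : i ≤ j) (h' : i ≤ j + 1) :
    ttrans R hM x s₀ i (j + 1) h' = tr R hM x s₀ j ∘ₗ ttrans R hM x s₀ i j h :=
  Nat.leRecOn_succ h _

lemma ttrans_succ_self (i : ℕ) (h : i ≤ i + 1) : ttrans R hM x s₀ i (i + 1) h = tr R hM x s₀ i := by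
  rw [ttrans_succ R hM x s₀ i i le_rfl, ttrans_self, LinearMap.comp_id]

lemma ttrans_trans (i j k : ℕ) (hij : i ≤ j) (hjk : j ≤ k) :
    ttrans R hM x s₀ j k hjk ∘ₗ ttrans R hM x s₀ i j hij = ttrans R hM x s₀ i k (hij.trans hjk) := by
  induction k, hjk using Nat.le_induction with
  | base => rw [ttrans_self, LinearMap.id_comp]
  | succ k hjk ih =>
    rw [ttrans_succ R hM x s₀ j k hjk, ttrans_succ R hM x s₀ i k (hij.trans hjk), LinearMap.comp_assoc,
      ih]

lemma tv_ttrans (i j : ℕ) (h : i ≤ j) :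
    tv R hM x s₀ j ∘ₗ ttrans R hM x s₀ i j h = tv R hM x s₀ i := by
  induction j, h using Nat.le_induction with
  | base => rw [ttrans_self, LinearMap.comp_id]
  | succ k hik ih =>
    rw [ttrans_succ R hM x s₀ i k hik, ← LinearMap.comp_assoc, tv_tr, ih]

noncomputable instance : DirectedSystem (TG R hM x s₀) (fun i j h => ttrans R hM x s₀ i j h) where
  map_self i y := by rw [ttrans_self]; rfl
  map_map _ _ _ hij hjk y := LinearMap.congr_fun (ttrans_trans R hM x s₀ _ _ _ hij hjk) y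

lemma exists_tH (k : ℕ) : ∃ h : TG R hM x s₀ (k + 2) →ₗ[R] TG R hM x s₀ (k + 1),
    tr R hM x s₀ k = h ∘ₗ (tr R hM x s₀ (k + 1) ∘ₗ tr R hM x s₀ k) := by
  have hdom : Dominates R (tr R hM x s₀ (k + 1) ∘ₗ tr R hM x s₀ k) (tr R hM x s₀ k) := by
    intro X _ _ t ht
    apply tr_dom R hM x s₀ k X
    rw [LinearMap.mem_ker] at ht ⊢
    rw [← tv_tr R hM x s₀ k, ← tv_tr R hM x s₀ (k + 1), LinearMap.comp_assoc, LinearMap.rTensor_comp,
      LinearMap.comp_apply, ht, map_zero]
  have : Module.FinitePresentation R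
      (TG R hM x s₀ (k + 2) ⧸ LinearMap.range (tr R hM x s₀ (k + 1) ∘ₗ tr R hM x s₀ k)) :=
    Module.finitePresentation_of_surjective
      (LinearMap.range (tr R hM x s₀ (k + 1) ∘ₗ tr R hM x s₀ k)).mkQ
      (Submodule.mkQ_surjective _)
      (by rw [Submodule.ker_mkQ]; exact Module.Finite.iff_fg.mp (Module.Finite.range _))
  exact (dominates_iff_exists_factor R _ _).mp hdom

noncomputable def tH (k : ℕ) : TG R hM x s₀ (k + 2) →ₗ[R] TG R hM x s₀ (k + 1) :=
  (exists_tH R hM x s₀ k).choose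

lemma tH_spec (k : ℕ) :
    tr R hM x s₀ k = tH R hM x s₀ k ∘ₗ (tr R hM x s₀ (k + 1) ∘ₗ tr R hM x s₀ k) :=
  (exists_tH R hM x s₀ k).choose_spec

noncomputable def ta : (k : ℕ) → (TG R hM x s₀ (k + 1) →ₗ[R] TG R hM x s₀ 1)
  | 0 => LinearMap.id
  | k + 1 => ta k ∘ₗ tH R hM x s₀ k

noncomputable def tb (k : ℕ) : TG R hM x s₀ k →ₗ[R] TG R hM x s₀ 1 :=
  ta R hM x s₀ k ∘ₗ tr R hM x s₀ k

lemma tb_zero : tb R hM x s₀ 0 = tr R hM x s₀ 0 := LinearMap.id_comp _

lemma tb_succ (k : ℕ) : tb R hM x s₀ (k + 1) ∘ₗ tr R hM x s₀ k = tb R hM x s₀ k := by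
  change ((ta R hM x s₀ k ∘ₗ tH R hM x s₀ k) ∘ₗ tr R hM x s₀ (k + 1)) ∘ₗ tr R hM x s₀ k =
    ta R hM x s₀ k ∘ₗ tr R hM x s₀ k
  conv_rhs => rw [tH_spec R hM x s₀ k]
  simp only [LinearMap.comp_assoc]

lemma tb_ttrans (i j : ℕ) (h : i ≤ j) :
    tb R hM x s₀ j ∘ₗ ttrans R hM x s₀ i j h = tb R hM x s₀ i := by
  induction j, h using Nat.le_induction with
  | base => rw [ttrans_self, LinearMap.comp_id]
  | succ k hik ih =>
    rw [ttrans_succ R hM x s₀ i k hik, ← LinearMap.comp_assoc, tb_succ, ih]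

/-- the comparison map from the colimit of the tower to `M`. -/
noncomputable def tV : Module.DirectLimit (TG R hM x s₀) (ttrans R hM x s₀) →ₗ[R] M :=
  Module.DirectLimit.lift R ℕ (TG R hM x s₀) (ttrans R hM x s₀) (tv R hM x s₀)
    (fun i j h y => LinearMap.congr_fun (tv_ttrans R hM x s₀ i j h) y)

/-- the compatible family `tb` glued on the colimit. -/
noncomputable def tB : Module.DirectLimit (TG R hM x s₀) (ttrans R hM x s₀) →ₗ[R] TG R hM x s₀ 1 :=
  Module.DirectLimit.lift R ℕ (TG R hM x s₀) (ttrans R hM x s₀) (tb R hM x s₀)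
    (fun i j h y => LinearMap.congr_fun (tb_ttrans R hM x s₀ i j h) y)

lemma tV_injective : Function.Injective (tV R hM x s₀) := by
  rw [injective_iff_map_eq_zero]
  intro z hz
  obtain ⟨k, y, rfl⟩ := Module.DirectLimit.exists_of z
  rw [tV, Module.DirectLimit.lift_of] at hz
  have h1 : tr R hM x s₀ k y = 0 := (tr_dom R hM x s₀ k).ker_le R hz
  have h2 := Module.DirectLimit.of_f (R := R) (ι := ℕ) (G := TG R hM x s₀) (f := ttrans R hM x s₀)
    (i := k) (j := k + 1) (hij := Nat.le_succ k) (x := y)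
  rw [← h2, ttrans_succ_self, h1, map_zero]

lemma tV_surjective (hx : Submodule.span R (Set.range x) = ⊤) :
    Function.Surjective (tV R hM x s₀) := by
  rw [← LinearMap.range_eq_top, eq_top_iff, ← hx, Submodule.span_le]
  rintro _ ⟨k, rfl⟩
  obtain ⟨y, hy⟩ := x_mem R hM x s₀ k
  refine ⟨Module.DirectLimit.of R ℕ (TG R hM x s₀) (ttrans R hM x s₀) (k + 1) y, ?_⟩
  rw [tV, Module.DirectLimit.lift_of]
  exact hy

end Tower

/-- **Stacks 059Z-type lemma**: a map from a finite module to a countably generated Mittag-Leffler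
module is fixed by an endomorphism factoring through a finitely presented module. -/
theorem exists_endo_factoring (hML : CAlg.IsMittagLeffler R M)
    (hc : CAlg.IsCountablyGenerated R M) {P : Type u} [AddCommGroup P] [Module R P] [Module.Finite R P]
    (f : P →ₗ[R] M) :
    ∃ (Q : Type u) (_ : AddCommGroup Q) (_ : Module R Q) (_ : Module.FinitePresentation R Q)
      (b : M →ₗ[R] Q) (c : Q →ₗ[R] M), (c ∘ₗ b) ∘ₗ f = f := by
  obtain ⟨s, hs, hspan⟩ := hc
  have hs' : (s ∪ {0}).Countable := hs.union (Set.countable_singleton 0)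
  obtain ⟨x, hx⟩ := hs'.exists_eq_range ⟨0, Or.inr rfl⟩
  have hxspan : Submodule.span R (Set.range x) = ⊤ := by
    rw [eq_top_iff, ← hspan, ← hx]
    exact Submodule.span_mono Set.subset_union_left
  obtain ⟨n, π, hπ⟩ := Module.Finite.exists_fin' R P
  let s₀ : Approx R M := ⟨Fin n → R, f ∘ₗ π⟩
  let V : Module.DirectLimit (TG R hML x s₀) (ttrans R hML x s₀) ≃ₗ[R] M :=
    LinearEquiv.ofBijective (tV R hML x s₀) ⟨tV_injective R hML x s₀, tV_surjective R hML x s₀ hxspan⟩
  refine ⟨TG R hML x s₀ 1, inferInstance, inferInstance, inferInstance,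
    tB R hML x s₀ ∘ₗ V.symm.toLinearMap, tv R hML x s₀ 1, ?_⟩
  apply LinearMap.ext
  intro p
  obtain ⟨e, rfl⟩ := hπ p
  have h1 : f (π e) = V (Module.DirectLimit.of R ℕ (TG R hML x s₀) (ttrans R hML x s₀) 0 e) := by
    change f (π e) = tV R hML x s₀ _
    rw [tV, Module.DirectLimit.lift_of]
    rfl
  simp only [LinearMap.coe_comp, Function.comp_apply, LinearEquiv.coe_coe]
  rw [h1, V.symm_apply_apply, tB, Module.DirectLimit.lift_of, tb_zero]
  have h2 := LinearMap.congr_fun (tv_tr R hML x s₀ 0) e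
  rw [LinearMap.comp_apply] at h2
  rw [h2, ← h1]
  rfl

end ML

end Groth.Agent.Lib.Helper31
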