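import Mathlib
import Groth.Agent.Lib.Helper31.FPInjDescent
import Groth.Agent.H76.FlatBaseChange

/-!
# Stacks 046Y at a prime of a finitely presented algebra (helper31)

`key_at`: `R → S` of finite presentation, `t` a prime of `S`, `M`, `N` finitely presented
`S`-modules with `N_t` flat over `R`, `u : M → N` injective at `t` modulo `p = t ∩ R`. Then `u` is
injective at `t` modulo every ideal of `R`.
-/

set_option autoImplicit false
universe u

open TensorProduct Groth.Agent.H76.FlatKernel Groth.Agent.H76.FlatDescentLocal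
  Groth.Agent.Lib.Helper31.FPInjNoeth Groth.Agent.Lib.Helper31.FPInjDescent

namespace Groth.Agent.Lib.Helper31.FPInjAt

section Pres

variable {P N : Type u} [CommRing P] [AddCommGroup N] [Module P N] [Module.FinitePresentation P N]

/-- A finitely presented module is the cokernel of a matrix. -/
theorem exists_matrix_pres :
    ∃ (b b' : ℕ) (c : Fin b' → Fin b → P) (f : (Fin b → P) →ₗ[P] N),
      Function.Surjective f ∧ LinearMap.ker f = Submodule.span P (Set.range c) := by
  obtain ⟨b, b', f, g, hf, hex⟩ := Module.FinitePresentation.exists_fin' P N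
  refine ⟨b, b', fun j => g (Pi.single j 1), f, hf, ?_⟩
  rw [LinearMap.exact_iff.mp hex]
  apply le_antisymm
  · rintro _ ⟨ρ, rfl⟩
    rw [LinearMap.pi_apply_eq_sum_univ g ρ]
    refine Submodule.sum_mem _ fun j _ => Submodule.smul_mem _ _ (Submodule.subset_span ⟨j, ?_⟩)
    show g (Pi.single j 1) = g (fun j' => if j = j' then 1 else 0)
    congr 1
    ext i
    simp [Pi.single_apply, eq_comm]
  · rw [Submodule.span_le]
    rintro _ ⟨j, rfl⟩
    exact ⟨_, rfl⟩

end Pres

section At

variable {R S M N : Type u} [CommRing R] [CommRing S] [Algebra R S]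
  [Algebra.FinitePresentation R S]
  [AddCommGroup M] [Module S M] [Module R M] [IsScalarTower R S M] [Module.FinitePresentation S M]
  [AddCommGroup N] [Module S N] [Module R N] [IsScalarTower R S N] [Module.FinitePresentation S N]

set_option maxHeartbeats 1600000 in
/-- **Stacks 046Y at a prime**. -/
theorem key_at (t : Ideal S) [t.IsPrime] [Module.Flat R (LocalizedModule t.primeCompl N)]
    (u : M →ₗ[S] N)
    (hu : ∀ x : M, (∃ w ∈ t.primeCompl, w • u x ∈
        (t.comap (algebraMap R S)) • (⊤ : Submodule R N)) →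
      ∃ w ∈ t.primeCompl, w • x ∈ (t.comap (algebraMap R S)) • (⊤ : Submodule R M))
    (I : Ideal R) (x : M) (hx : ∃ w ∈ t.primeCompl, w • u x ∈ I • (⊤ : Submodule R N)) :
    ∃ w ∈ t.primeCompl, w • x ∈ I • (⊤ : Submodule R M) := by
  classical
  obtain ⟨n, π, hπ, hkerfg⟩ := Algebra.FinitePresentation.out (R := R) (A := S)
  letI algPS : Algebra (MvPolynomial (Fin n) R) S := π.toRingHom.toAlgebra
  have halg : ∀ f : MvPolynomial (Fin n) R,
      algebraMap (MvPolynomial (Fin n) R) S f = π f := fun f => rfl
  have hsurj : Function.Surjective (algebraMap (MvPolynomial (Fin n) R) S) := hπ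
  haveI : IsScalarTower R (MvPolynomial (Fin n) R) S :=
    IsScalarTower.of_algebraMap_eq (fun r => (π.commutes r).symm)
  letI modPM : Module (MvPolynomial (Fin n) R) M := Module.compHom M π.toRingHom
  letI modPN : Module (MvPolynomial (Fin n) R) N := Module.compHom N π.toRingHom
  haveI : IsScalarTower (MvPolynomial (Fin n) R) S M :=
    IsScalarTower.of_algebraMap_smul (fun _ _ => rfl)
  haveI : IsScalarTower (MvPolynomial (Fin n) R) S N :=
    IsScalarTower.of_algebraMap_smul (fun _ _ => rfl)
  haveI : IsScalarTower R (MvPolynomial (Fin n) R) M := by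
    refine IsScalarTower.of_algebraMap_smul (fun r m => ?_)
    show π (algebraMap R _ r) • m = r • m
    rw [π.commutes, algebraMap_smul]
  haveI : IsScalarTower R (MvPolynomial (Fin n) R) N := by
    refine IsScalarTower.of_algebraMap_smul (fun r m => ?_)
    show π (algebraMap R _ r) • m = r • m
    rw [π.commutes, algebraMap_smul]
  -- `S` is a finitely presented `P`-module, hence so are `M` and `N`
  haveI : Module.FinitePresentation (MvPolynomial (Fin n) R) S :=
    Module.finitePresentation_of_surjective (Algebra.linearMap (MvPolynomial (Fin n) R) S) hsurj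
      (by
        have : LinearMap.ker (Algebra.linearMap (MvPolynomial (Fin n) R) S) =
            RingHom.ker π.toRingHom := by
          ext z; rfl
        rw [this]
        exact hkerfg)
  haveI : Module.FinitePresentation (MvPolynomial (Fin n) R) M :=
    Module.FinitePresentation.trans (MvPolynomial (Fin n) R) M S
  haveI : Module.FinitePresentation (MvPolynomial (Fin n) R) N :=
    Module.FinitePresentation.trans (MvPolynomial (Fin n) R) N S
  obtain ⟨b, b', c, fN, hfN, hkN⟩ := exists_matrix_pres (P := MvPolynomial (Fin n) R) (N := N)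
  obtain ⟨a, a', d, fM, hfM, hkM⟩ := exists_matrix_pres (P := MvPolynomial (Fin n) R) (N := M)
  set q : Ideal (MvPolynomial (Fin n) R) := t.comap (algebraMap (MvPolynomial (Fin n) R) S)
    with hq
  haveI : q.IsPrime := Ideal.comap_isPrime _ _
  let uP : M →ₗ[MvPolynomial (Fin n) R] N := u.restrictScalars (MvPolynomial (Fin n) R)
  have huP : ∀ m, uP m = u m := fun m => rfl
  -- the matrix of `u`
  have hex : ∀ i : Fin a, ∃ y : Fin b → MvPolynomial (Fin n) R, fN y = uP (fM (Pi.single i 1)) :=
    fun i => hfN _
  choose e he using hex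
  have hcomm : ∀ v : Fin a → MvPolynomial (Fin n) R, uP (fM v) = fN (matMap e v) := by
    have hlin : uP ∘ₗ fM = fN ∘ₗ matMap e := by
      apply LinearMap.pi_ext
      intro i r
      have hr : (Pi.single i r : Fin a → MvPolynomial (Fin n) R) = r • Pi.single i 1 := by
        rw [← Pi.single_smul, smul_eq_mul, mul_one]
      rw [hr, map_smul, map_smul]
      congr 1
      show uP (fM (Pi.single i 1)) = fN (matMap e (Pi.single i 1))
      have h1 : matMap e (Pi.single i 1) = e i := by
        show Fintype.linearCombination _ _ _ = _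
        rw [Fintype.linearCombination_apply_single, one_smul]
      rw [h1, he]
    intro v
    exact LinearMap.congr_fun hlin v
  have hcompat : ∀ j, matMap e (d j) ∈ Submodule.span (MvPolynomial (Fin n) R) (Set.range c) := by
    intro j
    rw [← hkN, LinearMap.mem_ker, ← hcomm]
    have : fM (d j) = 0 := by
      rw [← LinearMap.mem_ker, hkM]
      exact Submodule.subset_span ⟨j, rfl⟩
    rw [this, map_zero]
  -- flatness of the localized cokernel
  haveI hflat : Module.Flat R (LocalizedModule q.primeCompl
      ((Fin b → MvPolynomial (Fin n) R) ⧸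
        Submodule.span (MvPolynomial (Fin n) R) (Set.range c))) := by
    let eN : ((Fin b → MvPolynomial (Fin n) R) ⧸
        Submodule.span (MvPolynomial (Fin n) R) (Set.range c)) ≃ₗ[MvPolynomial (Fin n) R] N :=
      (Submodule.quotEquivOfEq _ _ hkN.symm).trans (LinearMap.quotKerEquivOfSurjective fN hfN)
    haveI h1 : IsLocalizedModule q.primeCompl
        ((LocalizedModule.mkLinearMap t.primeCompl N).restrictScalars (MvPolynomial (Fin n) R)) :=
      Groth.Agent.H76.FlatBaseChange.isLocalizedModule_restrictScalars_of_surjective hsurj t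
    haveI h2 : IsLocalizedModule q.primeCompl
        (((LocalizedModule.mkLinearMap t.primeCompl N).restrictScalars
          (MvPolynomial (Fin n) R)) ∘ₗ eN.toLinearMap) :=
      IsLocalizedModule.of_linearEquiv_right q.primeCompl _ eN
    exact Module.Flat.of_linearEquiv ((IsLocalizedModule.iso q.primeCompl
      (((LocalizedModule.mkLinearMap t.primeCompl N).restrictScalars
          (MvPolynomial (Fin n) R)) ∘ₗ eN.toLinearMap)).restrictScalars R)
  -- the contraction of `q`
  have hqC : q.comap (MvPolynomial.C : R →+* MvPolynomial (Fin n) R) =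
      t.comap (algebraMap R S) := by
    rw [hq, Ideal.comap_comap, ← MvPolynomial.algebraMap_eq, ← IsScalarTower.algebraMap_eq]
  -- dictionaries
  have dict : ∀ (Z : Type u) [AddCommGroup Z] [Module (MvPolynomial (Fin n) R) Z] [Module R Z]
      [IsScalarTower R (MvPolynomial (Fin n) R) Z] (k : ℕ)
      (f : (Fin k → MvPolynomial (Fin n) R) →ₗ[MvPolynomial (Fin n) R] Z)
      (_ : Function.Surjective f) (J : Ideal R) (y : Fin k → MvPolynomial (Fin n) R),
      f y ∈ J • (⊤ : Submodule R Z) ↔ y ∈ LinearMap.ker f ⊔
        (Ideal.map (MvPolynomial.C : R →+* MvPolynomial (Fin n) R) J) • ⊤ := by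
    intro Z _ _ _ _ k f hf J y
    rw [← mem_map_smul_top_iff (S := MvPolynomial (Fin n) R), MvPolynomial.algebraMap_eq]
    have h1 : (Ideal.map (MvPolynomial.C : R →+* MvPolynomial (Fin n) R) J) •
        (⊤ : Submodule (MvPolynomial (Fin n) R) Z) =
        ((Ideal.map (MvPolynomial.C : R →+* MvPolynomial (Fin n) R) J) •
          (⊤ : Submodule (MvPolynomial (Fin n) R) (Fin k → MvPolynomial (Fin n) R))).map f := by
      rw [Submodule.map_smul'', Submodule.map_top, LinearMap.range_eq_top.mpr hf]
    rw [h1, Submodule.mem_map]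
    constructor
    · rintro ⟨y', hy', hyy⟩
      have : y - y' ∈ LinearMap.ker f := by
        rw [LinearMap.mem_ker, map_sub, hyy, sub_self]
      have e0 : y = (y - y') + y' := by abel
      rw [e0]
      exact Submodule.add_mem _ (Submodule.mem_sup_left this) (Submodule.mem_sup_right hy')
    · intro h
      obtain ⟨k', hk', y', hy', rfl⟩ := Submodule.mem_sup.mp h
      refine ⟨y', hy', ?_⟩
      rw [map_add, LinearMap.mem_ker.mp hk', zero_add]
  have hprime : ∀ w : MvPolynomial (Fin n) R, w ∈ q.primeCompl ↔
      algebraMap (MvPolynomial (Fin n) R) S w ∈ t.primeCompl := fun w => Iff.rfl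
  have smulP : ∀ (Z : Type u) [AddCommGroup Z] [Module S Z]
      [Module (MvPolynomial (Fin n) R) Z] [IsScalarTower (MvPolynomial (Fin n) R) S Z]
      (w : MvPolynomial (Fin n) R) (z : Z),
      algebraMap (MvPolynomial (Fin n) R) S w • z = w • z := fun Z _ _ _ _ w z =>
    algebraMap_smul S w z
  -- fibre injectivity in matrix form
  have hfib : ∀ v : Fin a → MvPolynomial (Fin n) R,
      (∃ w ∈ q.primeCompl, w • matMap e v ∈
        Submodule.span (MvPolynomial (Fin n) R) (Set.range c) ⊔ baseIdeal q • ⊤) →
      ∃ w ∈ q.primeCompl, w • v ∈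
        Submodule.span (MvPolynomial (Fin n) R) (Set.range d) ⊔ baseIdeal q • ⊤ := by
    rintro v ⟨w, hw, hwv⟩
    have h1 : ∃ w' ∈ t.primeCompl, w' • u (fM v) ∈
        (t.comap (algebraMap R S)) • (⊤ : Submodule R N) := by
      refine ⟨algebraMap _ S w, hw, ?_⟩
      rw [smulP, ← huP, hcomm, ← map_smul, dict N b fN hfN, hkN, ← hqC]
      exact hwv
    obtain ⟨w', hw', h2⟩ := hu (fM v) h1
    obtain ⟨w'', rfl⟩ := hsurj w'
    refine ⟨w'', hw', ?_⟩
    rw [smulP, ← map_smul, dict M a fM hfM, hkM, ← hqC] at h2
    exact h2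
  -- the main step
  obtain ⟨v, rfl⟩ := hfM x
  obtain ⟨w, hw, hwx⟩ := hx
  obtain ⟨w₀, rfl⟩ := hsurj w
  have h3 : ∃ w ∈ q.primeCompl, w • matMap e v ∈
      Submodule.span (MvPolynomial (Fin n) R) (Set.range c) ⊔
        (Ideal.map (MvPolynomial.C : R →+* MvPolynomial (Fin n) R) I) • ⊤ := by
    refine ⟨w₀, hw, ?_⟩
    rw [smulP, ← huP, hcomm, ← map_smul, dict N b fN hfN, hkN] at hwx
    exact hwx
  obtain ⟨w', hw', h4⟩ := descent_core q c d e hcompat hfib I v h3
  refine ⟨algebraMap _ S w', hw', ?_⟩
  rw [smulP, ← map_smul, dict M a fM hfM, hkM]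
  exact h4

end At

end Groth.Agent.Lib.Helper31.FPInjAt
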