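import Mathlib
import Groth.Prelude.Def_FlatCA

/-!
# Associated primes of fibre modules (helper31)

For `N` an `S`-module flat over `R` (with `S` Noetherian), an associated prime `q` of `N/pN`
lies over `p` and its extension to the fibre ring is an associated prime of the fibre module.
-/

set_option autoImplicit false
universe u
open TensorProduct

namespace Groth.Agent.Lib.Helper31.FiberAss

attribute [local instance] Algebra.TensorProduct.rightAlgebra

variable {R S : Type u} [CommRing R] [CommRing S] [Algebra R S]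
  (N : Type u) [AddCommGroup N] [Module S N] [Module R N] [IsScalarTower R S N]
  (p : Ideal R) [p.IsPrime]

omit [Module S N] [IsScalarTower R S N] in
/-- If `N` is flat and `n ⊗ 1 = 0` in `N ⊗ κ(p)` then `n ∈ pN`. -/
theorem mem_smul_top_of_tmul_one_eq_zero [Module.Flat R N] (n : N)
    (hn : n ⊗ₜ[R] (1 : p.ResidueField) = 0) : n ∈ (p • ⊤ : Submodule R N) := by
  let j : (R ⧸ p) →ₗ[R] p.ResidueField :=
    (Algebra.linearMap (R ⧸ p) p.ResidueField).restrictScalars R
  have hj : Function.Injective j := p.injective_algebraMap_quotient_residueField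
  have hinj : Function.Injective (j.lTensor N) :=
    Module.Flat.lTensor_preserves_injective_linearMap j hj
  have h1 : j.lTensor N (n ⊗ₜ 1) = 0 := by
    rw [LinearMap.lTensor_tmul]
    have : j 1 = 1 := map_one (algebraMap (R ⧸ p) p.ResidueField)
    rw [this, hn]
  have h2 : n ⊗ₜ[R] (1 : R ⧸ p) = 0 := hinj (h1.trans (map_zero _).symm)
  have h3 := congrArg (TensorProduct.tensorQuotEquivQuotSMul N p) h2
  rw [map_zero, ← map_one (Ideal.Quotient.mk p), tensorQuotEquivQuotSMul_tmul_mk, one_smul] at h3
  exact (Submodule.Quotient.mk_eq_zero _).mp h3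

/-- the comparison map `(κ(p) ⊗ S) ⊗_S N → N ⊗ κ(p)` -/
noncomputable def theta : FlatCA.fiberMod p S N →ₗ[S] N ⊗[R] p.ResidueField :=
  ((TensorProduct.AlgebraTensorModule.cancelBaseChange R S S N p.ResidueField).toLinearMap ∘ₗ
    (LinearMap.lTensor N
      (Algebra.TensorProduct.commRight R S p.ResidueField).symm.toLinearMap)) ∘ₗ
    (TensorProduct.comm S (p.Fiber S) N).toLinearMap

theorem theta_one_tmul (n : N) :
    theta N p ((1 : p.Fiber S) ⊗ₜ[S] n) = n ⊗ₜ[R] (1 : p.ResidueField) := by
  show (TensorProduct.AlgebraTensorModule.cancelBaseChange R S S N p.ResidueField)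
    ((LinearMap.lTensor N (Algebra.TensorProduct.commRight R S p.ResidueField).symm.toLinearMap)
      ((TensorProduct.comm S (p.Fiber S) N) ((1 : p.Fiber S) ⊗ₜ[S] n))) = _
  rw [TensorProduct.comm_tmul, LinearMap.lTensor_tmul, Algebra.TensorProduct.one_def]
  have : (Algebra.TensorProduct.commRight R S p.ResidueField).symm.toLinearMap
      ((1 : p.ResidueField) ⊗ₜ[R] (1 : S)) = (1 : S) ⊗ₜ[R] (1 : p.ResidueField) := rfl
  rw [this, TensorProduct.AlgebraTensorModule.cancelBaseChange_tmul, one_smul]

omit [Module S N] [IsScalarTower R S N] in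
theorem tmul_one_eq_zero_of_mem (n : N) (hn : n ∈ (p • ⊤ : Submodule R N)) :
    n ⊗ₜ[R] (1 : p.ResidueField) = 0 := by
  refine Submodule.smul_induction_on hn ?_ ?_
  · intro a ha n' _
    rw [TensorProduct.smul_tmul, Algebra.smul_def, mul_one,
      (Ideal.algebraMap_residueField_eq_zero).mpr ha, TensorProduct.tmul_zero]
  · intro x y hx hy
    rw [TensorProduct.add_tmul, hx, hy, add_zero]

theorem mem_map_smul_top_iff (n : N) :
    n ∈ (p.map (algebraMap R S) • ⊤ : Submodule S N) ↔ n ∈ (p • ⊤ : Submodule R N) := by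
  have h := Ideal.smul_restrictScalars p (⊤ : Submodule S N)
  rw [Submodule.restrictScalars_top] at h
  rw [← h]
  rfl

omit [Module S N] [IsScalarTower R S N] in
/-- `N/pN` is torsion-free over `R/p` for flat `N`. -/
theorem mem_smul_top_of_smul_mem [Module.Flat R N] (r : R) (hr : r ∉ p) (x : N)
    (h : r • x ∈ (p • ⊤ : Submodule R N)) : x ∈ (p • ⊤ : Submodule R N) := by
  apply mem_smul_top_of_tmul_one_eq_zero N p
  have h1 := tmul_one_eq_zero_of_mem N p _ h
  set c : p.ResidueField := algebraMap R p.ResidueField r with hc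
  have hc0 : c ≠ 0 := fun h0 => hr ((Ideal.algebraMap_residueField_eq_zero).mp h0)
  rw [TensorProduct.smul_tmul, Algebra.smul_def, mul_one] at h1
  have h2 := congrArg (LinearMap.lTensor N (LinearMap.mulLeft R c⁻¹)) h1
  rw [LinearMap.lTensor_tmul, map_zero, LinearMap.mulLeft_apply, ← hc, inv_mul_cancel₀ hc0] at h2
  exact h2

/-- an element of the fibre ring some `r ∉ p`-multiple of which lies in an ideal lies in it. -/
theorem mem_of_smul_mem (J : Ideal (p.Fiber S)) (r : R) (hr : r ∉ p) (a : p.Fiber S)
    (h : r • a ∈ J) : a ∈ J := by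
  set c : p.ResidueField := algebraMap R p.ResidueField r with hc
  have hc0 : c ≠ 0 := fun h0 => hr ((Ideal.algebraMap_residueField_eq_zero).mp h0)
  have h1 : a = (c⁻¹ ⊗ₜ[R] (1 : S)) * (r • a) := by
    rw [Algebra.smul_def, Algebra.TensorProduct.algebraMap_apply, ← mul_assoc,
      Algebra.TensorProduct.tmul_mul_tmul, ← hc, inv_mul_cancel₀ hc0, mul_one]
    exact (one_mul a).symm
  rw [h1]
  exact Ideal.mul_mem_left _ _ h

theorem one_tmul_eq_zero_of_mem (n : N) (hn : n ∈ (p • ⊤ : Submodule R N)) :
    ((1 : p.Fiber S) ⊗ₜ[S] n : FlatCA.fiberMod p S N) = 0 := by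
  refine Submodule.smul_induction_on hn ?_ ?_
  · intro a ha n' _
    show ((1 : p.Fiber S) ⊗ₜ[S] (a • n') : (p.Fiber S) ⊗[S] N) = 0
    rw [← algebraMap_smul S a n', ← TensorProduct.smul_tmul, algebraMap_smul,
      Algebra.smul_def, mul_one, Algebra.TensorProduct.algebraMap_apply,
      (Ideal.algebraMap_residueField_eq_zero).mpr ha, TensorProduct.zero_tmul,
      TensorProduct.zero_tmul]
  · intro x y hx hy
    show ((1 : p.Fiber S) ⊗ₜ[S] (x + y) : (p.Fiber S) ⊗[S] N) = 0
    rw [TensorProduct.tmul_add]
    exact (congrArg₂ (· + ·) hx hy).trans (add_zero _)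

/-- Main lemma: associated primes of `N/pN` give associated primes of the fibre module. -/
theorem fiberIdeal_mem_associatedPrimes [IsNoetherianRing S] [Module.Flat R N] (q : Ideal S)
    (hq : q ∈ associatedPrimes S (N ⧸ (p.map (algebraMap R S) • ⊤ : Submodule S N))) :
    ∃ (_ : q.IsPrime) (_ : q.LiesOver p),
      FlatCA.fiberIdeal p q ∈ associatedPrimes (p.Fiber S) (FlatCA.fiberMod p S N) := by
  obtain ⟨hqp, xbar, hx⟩ := (isAssociatedPrime_iff).mp hq
  obtain ⟨x, rfl⟩ := Submodule.Quotient.mk_surjective _ xbar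
  have key : ∀ s : S, s ∈ q ↔ s • x ∈ (p • ⊤ : Submodule R N) := by
    intro s
    rw [hx, Submodule.mem_colon_singleton, ← Submodule.Quotient.mk_smul, Submodule.mem_bot,
      Submodule.Quotient.mk_eq_zero, mem_map_smul_top_iff]
  have hx_ne : x ∉ (p • ⊤ : Submodule R N) := by
    intro hmem
    apply hqp.ne_top
    rw [Ideal.eq_top_iff_one, key, one_smul]
    exact hmem
  have hover : q.LiesOver p := by
    refine ⟨le_antisymm ?_ ?_⟩
    · intro r hr
      show algebraMap R S r ∈ q
      rw [key, algebraMap_smul]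
      exact Submodule.smul_mem_smul hr Submodule.mem_top
    · intro r hr
      have hr' : algebraMap R S r ∈ q := hr
      rw [key, algebraMap_smul S r x] at hr'
      by_contra hrp
      exact hx_ne (mem_smul_top_of_smul_mem N p r hrp x hr')
  let y : FlatCA.fiberMod p S N := (1 : p.Fiber S) ⊗ₜ[S] x
  have hy : ∀ s : S, s • y = 0 ↔ s ∈ q := by
    intro s
    have h1 : s • y = ((1 : p.Fiber S) ⊗ₜ[S] (s • x) : (p.Fiber S) ⊗[S] N) :=
      (TensorProduct.tmul_smul s (1 : p.Fiber S) x).symm
    constructor
    · intro h0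
      rw [key]
      apply mem_smul_top_of_tmul_one_eq_zero N p
      have h2 := theta_one_tmul (S := S) N p (s • x)
      rw [← h2]
      have h3 : ((1 : p.Fiber S) ⊗ₜ[S] (s • x) : FlatCA.fiberMod p S N) = 0 := h1.symm.trans h0
      exact (congrArg (theta N p) h3).trans (map_zero _)
    · intro hs
      rw [h1]
      exact one_tmul_eq_zero_of_mem N p _ ((key s).mp hs)
  have hincl : ∀ (s : S) (z : FlatCA.fiberMod p S N),
      (Algebra.TensorProduct.includeRight (R := R) (A := p.ResidueField) (B := S) s) • z
        = s • z := by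
    intro s z
    exact algebraMap_smul (p.Fiber S) s (show (p.Fiber S) ⊗[S] N from z)
  have hann : ∀ a : p.Fiber S, a • y = 0 ↔ a ∈ FlatCA.fiberIdeal p q := by
    intro a
    constructor
    · intro ha
      obtain ⟨r, hr, s, hrs⟩ := Ideal.Fiber.exists_smul_eq_one_tmul p a
      apply mem_of_smul_mem p _ r hr
      rw [hrs]
      have h2 : s • y = 0 := by
        rw [← hincl, Algebra.TensorProduct.includeRight_apply, ← hrs]
        rw [Algebra.smul_def, mul_smul, ha, smul_zero]
      exact Ideal.mem_map_of_mem _ ((hy s).mp h2)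
    · intro ha
      have hle : FlatCA.fiberIdeal p q ≤
          (Module.annihilator (p.Fiber S) (Submodule.span (p.Fiber S) {y})) := by
        unfold FlatCA.fiberIdeal
        rw [Ideal.map_le_iff_le_comap]
        intro s hs
        rw [Ideal.mem_comap, Module.mem_annihilator]
        rintro ⟨z, hz⟩
        obtain ⟨b, rfl⟩ := Submodule.mem_span_singleton.mp hz
        apply Subtype.ext
        show (Algebra.TensorProduct.includeRight (R := R) (A := p.ResidueField) (B := S) s)
          • (b • y) = 0
        rw [smul_comm, hincl, (hy s).mpr hs, smul_zero]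
      have := Module.mem_annihilator.mp (hle ha) ⟨y, Submodule.mem_span_singleton_self y⟩
      exact congrArg Subtype.val this
  have hprime : (FlatCA.fiberIdeal p q).IsPrime := by
    refine ⟨?_, ?_⟩
    · intro htop
      have h1 : (1 : p.Fiber S) • y = 0 := (hann 1).mpr (by rw [htop]; trivial)
      rw [one_smul] at h1
      apply hqp.ne_top
      rw [Ideal.eq_top_iff_one, ← hy, h1, smul_zero]
    · intro a b hab
      obtain ⟨r, hr, s, hrs⟩ := Ideal.Fiber.exists_smul_eq_one_tmul p a
      obtain ⟨r', hr', s', hrs'⟩ := Ideal.Fiber.exists_smul_eq_one_tmul p b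
      have h1 : (Algebra.TensorProduct.includeRight (R := R) (A := p.ResidueField) (B := S)
          (s * s')) ∈ FlatCA.fiberIdeal p q := by
        rw [map_mul, Algebra.TensorProduct.includeRight_apply,
          Algebra.TensorProduct.includeRight_apply, ← hrs, ← hrs', smul_mul_smul_comm,
          Algebra.smul_def]
        exact Ideal.mul_mem_left _ _ hab
      have h2 : (s * s') • y = 0 := by
        rw [← hincl]; exact (hann _).mpr h1
      rcases hqp.mem_or_mem ((hy _).mp h2) with h3 | h3
      · left
        apply mem_of_smul_mem p _ r hr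
        rw [hrs]
        exact Ideal.mem_map_of_mem _ h3
      · right
        apply mem_of_smul_mem p _ r' hr'
        rw [hrs']
        exact Ideal.mem_map_of_mem _ h3
  refine ⟨hqp, hover, hprime, y, ?_⟩
  rw [show ((⊥ : Submodule (p.Fiber S) (FlatCA.fiberMod p S N)).colon {y}) =
      FlatCA.fiberIdeal p q from ?_, hprime.radical]
  ext a
  rw [Submodule.mem_colon_singleton, Submodule.mem_bot, hann]

end Groth.Agent.Lib.Helper31.FiberAss
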