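import Mathlib
import Groth.Prelude.Def_FlatCA
import Groth.Agent.Lib.Helper31.FPInjLocal
import Groth.Agent.Lib.Helper31.FiberAss

/-!
# Universal injectivity of `N → S' ⊗_S N` for flat finitely presented modules (helper31)

Raynaud–Gruson style: `R → S` local, essentially of finite presentation, `N` a finitely presented
`S`-module flat over `R`.
* `nzdFiber_smul_elementwise`: elements acting injectively on the closed fibre module act
  universally injectively on `N`.
* `injective_mk_of_flat`: for flat `S → S'`, an `S`-module `X` without `Σ`-torsion such that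
  every prime disjoint from `Σ` is a contraction from `S'`, the map `X → S' ⊗ X` is injective.
* `univInj_mk_of_assoc`: `N → S' ⊗_S N` is universally injective over `R` when the associated
  primes of the closed fibre module are contractions from `S'`.
-/

set_option autoImplicit false
universe u

open TensorProduct IsLocalRing

namespace Groth.Agent.Lib.Helper31.FPUnivInj

attribute [local instance] Algebra.TensorProduct.rightAlgebra

section L

variable {S S' X : Type*} [CommRing S] [CommRing S'] [Algebra S S'] [Module.Flat S S']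
  [AddCommGroup X] [Module S X]

/-- For flat `S → S'`: if `X` has no `Σ`-torsion and every prime of `S` disjoint from `Σ` is a
contraction from `S'`, then `X → S' ⊗ X` is injective. -/
theorem injective_mk_of_flat (W : Submonoid S) (h1 : ∀ s ∈ W, ∀ x : X, s • x = 0 → x = 0)
    (h2 : ∀ P : Ideal S, P.IsPrime → Disjoint (P : Set S) (W : Set S) →
      ∃ P' : Ideal S', P'.IsPrime ∧ P'.comap (algebraMap S S') = P) :
    Function.Injective (TensorProduct.mk S S' X 1) := by
  rw [injective_iff_map_eq_zero]
  intro x hx
  by_contra hx0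
  let 𝔞 : Ideal S := LinearMap.ker (LinearMap.toSpanSingleton S X x)
  have h𝔞 : ∀ s, s ∈ 𝔞 ↔ s • x = 0 := fun s => by
    rw [LinearMap.mem_ker, LinearMap.toSpanSingleton_apply]
  -- `S/𝔞 ↪ X`
  let ι : (S ⧸ 𝔞) →ₗ[S] X := Submodule.liftQ 𝔞 (LinearMap.toSpanSingleton S X x) le_rfl
  have hι : Function.Injective ι := by
    rw [← LinearMap.ker_eq_bot]
    exact Submodule.ker_liftQ_eq_bot _ _ _ le_rfl
  have hι' : Function.Injective (ι.lTensor S') :=
    Module.Flat.lTensor_preserves_injective_linearMap ι hι
  have h0 : ι.lTensor S' ((1 : S') ⊗ₜ[S] (Submodule.Quotient.mk (1 : S) : S ⧸ 𝔞)) = 0 := by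
    rw [LinearMap.lTensor_tmul]
    have : ι (Submodule.Quotient.mk (1 : S)) = x := by
      show LinearMap.toSpanSingleton S X x 1 = x
      rw [LinearMap.toSpanSingleton_apply, one_smul]
    rw [this]
    exact hx
  have h00 : ((1 : S') ⊗ₜ[S] (Submodule.Quotient.mk (1 : S) : S ⧸ 𝔞)) = 0 :=
    hι' (by rw [h0, map_zero])
  have h1mem : (1 : S') ∈ 𝔞.map (algebraMap S S') := by
    have := congrArg (TensorProduct.tensorQuotEquivQuotSMul S' 𝔞) h00
    rw [map_zero] at this
    have e : TensorProduct.tensorQuotEquivQuotSMul S' 𝔞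
        ((1 : S') ⊗ₜ[S] (Submodule.Quotient.mk (1 : S) : S ⧸ 𝔞)) =
        Submodule.Quotient.mk ((1 : S) • (1 : S')) :=
      TensorProduct.tensorQuotEquivQuotSMul_tmul_mk 𝔞 (1 : S') (1 : S)
    rw [e, Submodule.Quotient.mk_eq_zero, one_smul, Ideal.smul_top_eq_map] at this
    exact this
  -- `𝔞` is disjoint from `W`
  have hdisj : Disjoint (𝔞 : Set S) (W : Set S) := by
    rw [Set.disjoint_left]
    intro s hs hsW
    exact hx0 (h1 s hsW x ((h𝔞 s).mp hs))
  obtain ⟨P, hP, h𝔞P, hPd⟩ := Ideal.exists_le_prime_disjoint 𝔞 W hdisj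
  obtain ⟨P', hP', hPP'⟩ := h2 P hP hPd
  have hle : 𝔞.map (algebraMap S S') ≤ P' := by
    rw [Ideal.map_le_iff_le_comap, hPP']
    exact h𝔞P
  exact hP'.ne_top ((Ideal.eq_top_iff_one _).mpr (hle h1mem))

end L

section Noeth

/-- The fibre rings of an essentially finitely presented algebra are Noetherian. -/
theorem isNoetherianRing_fiber {R S : Type u} [CommRing R] [CommRing S] [Algebra R S]
    (hS : ∃ (S₀ : Type u) (_ : CommRing S₀) (_ : Algebra R S₀) (_ : Algebra S₀ S)
      (_ : IsScalarTower R S₀ S) (T : Submonoid S₀),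
      Algebra.FinitePresentation R S₀ ∧ IsLocalization T S)
    (p : Ideal R) [p.IsPrime] : IsNoetherianRing (p.Fiber S) := by
  obtain ⟨S₀, _, _, _, _, T, hfp, hloc⟩ := hS
  haveI : Algebra.FiniteType R S₀ := Algebra.FiniteType.of_finitePresentation
  haveI : IsNoetherianRing (p.ResidueField ⊗[R] S₀) :=
    Algebra.FiniteType.isNoetherianRing p.ResidueField _
  let φ : p.ResidueField ⊗[R] S₀ →ₐ[p.ResidueField] p.ResidueField ⊗[R] S :=
    Algebra.TensorProduct.map (AlgHom.id _ _) (IsScalarTower.toAlgHom R S₀ S)
  letI : Algebra (p.ResidueField ⊗[R] S₀) (p.ResidueField ⊗[R] S) := φ.toRingHom.toAlgebra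
  haveI : IsScalarTower p.ResidueField (p.ResidueField ⊗[R] S₀) (p.ResidueField ⊗[R] S) :=
    IsScalarTower.of_algebraMap_eq (fun x => (φ.commutes x).symm)
  have hloc' := IsLocalization.tensorProduct_tensorProduct_right R p.ResidueField T S (by
    ext x
    show φ (1 ⊗ₜ x) = 1 ⊗ₜ algebraMap S₀ S x
    simp [φ])
  exact IsLocalization.isNoetherianRing
    (T.map (Algebra.TensorProduct.includeRight (R := R) (A := p.ResidueField))) _ inferInstance

/-- A prime consisting of zero divisors on `F` lies in an associated prime. -/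
theorem exists_le_assoc {S : Type*} (Fb : Type*) {F : Type*} [CommRing S] [CommRing Fb]
    [Algebra S Fb] [IsNoetherianRing Fb]
    [AddCommGroup F] [Module S F] [Module Fb F] [IsScalarTower S Fb F] [Module.Finite Fb F]
    (P : Ideal S)
    (hP : Disjoint (P : Set S) (nonZeroSMulDivisors S F : Set S)) :
    ∃ q ∈ associatedPrimes S F, P ≤ q := by
  classical
  have hfin := associatedPrimes.finite Fb F
  have hsub : (P : Set S) ⊆ ⋃ qb ∈ (hfin.toFinset : Set (Ideal Fb)),
      ((qb.comap (algebraMap S Fb) : Ideal S) : Set S) := by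
    intro a ha
    have hna : a ∉ nonZeroSMulDivisors S F := fun h => Set.disjoint_left.mp hP ha h
    rw [mem_nonZeroSMulDivisors_iff] at hna
    push Not at hna
    obtain ⟨x, hax, hx0⟩ := hna
    have hmem : algebraMap S Fb a ∈ {r : Fb | ∃ x : F, x ≠ 0 ∧ r • x = 0} :=
      ⟨x, hx0, by rw [algebraMap_smul]; exact hax⟩
    rw [← biUnion_associatedPrimes_eq_zero_divisors Fb F] at hmem
    simp only [Set.mem_iUnion] at hmem ⊢
    obtain ⟨qb, hqb, haq⟩ := hmem
    exact ⟨qb, by simpa using hqb, haq⟩
  rw [Ideal.subset_union_prime (⊥ : Ideal Fb) ⊥ (fun qb hqb _ _ => by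
    have : qb ∈ associatedPrimes Fb F := by simpa using hqb
    haveI := this.isPrime
    exact Ideal.comap_isPrime _ _)] at hsub
  obtain ⟨qb, hqb, hPq⟩ := hsub
  have hqb' : qb ∈ associatedPrimes Fb F := by simpa using hqb
  refine ⟨qb.comap (algebraMap S Fb), ?_, hPq⟩
  obtain ⟨hprime, x, hx⟩ := hqb'
  refine ⟨Ideal.comap_isPrime _ _, x, ?_⟩
  rw [hx, Ideal.comap_radical]
  congr 1
  ext a
  rw [Ideal.mem_comap, Submodule.mem_colon_singleton, Submodule.mem_colon_singleton,
    algebraMap_smul]
  exact Iff.rfl

end Noeth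

section Main

open Groth.Agent.Lib.Helper31

variable {R S : Type u} [CommRing R] [IsLocalRing R] [CommRing S] [IsLocalRing S] [Algebra R S]
  [IsLocalHom (algebraMap R S)]
  (hS : ∃ (S₀ : Type u) (_ : CommRing S₀) (_ : Algebra R S₀) (_ : Algebra S₀ S)
      (_ : IsScalarTower R S₀ S) (T : Submonoid S₀),
      Algebra.FinitePresentation R S₀ ∧ IsLocalization T S)
  (N : Type u) [AddCommGroup N] [Module S N] [Module R N] [IsScalarTower R S N]
  [Module.FinitePresentation S N] [Module.Flat R N]

include hS in
/-- Elements acting injectively on the closed fibre module act injectively on `N/IN` for every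
ideal `I` of `R`. -/
theorem nzdFiber_smul_elementwise (s : S) (hs : s ∈ FlatCA.nzdFiber R S N) (I : Ideal R) (x : N)
    (hx : s • x ∈ I • (⊤ : Submodule R N)) : x ∈ I • (⊤ : Submodule R N) := by
  refine FPInjLocal.key hS (LinearMap.lsmul S N s) ?_ I x hx
  intro n hn
  have hn' : s • n ∈ (maximalIdeal R) • (⊤ : Submodule R N) := hn
  have h1 : ((1 : (maximalIdeal R).Fiber S) ⊗ₜ[S] (s • n) :
      FlatCA.fiberMod (maximalIdeal R) S N) = 0 :=
    FiberAss.one_tmul_eq_zero_of_mem N (maximalIdeal R) _ hn'
  have h2 : s • ((1 : (maximalIdeal R).Fiber S) ⊗ₜ[S] n :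
      FlatCA.fiberMod (maximalIdeal R) S N) = 0 := by
    rw [← h1]
    exact (TensorProduct.tmul_smul s (1 : (maximalIdeal R).Fiber S) n).symm
  have h3 : ((1 : (maximalIdeal R).Fiber S) ⊗ₜ[S] n :
      FlatCA.fiberMod (maximalIdeal R) S N) = 0 :=
    (mem_nonZeroSMulDivisors_iff.mp hs) _ h2
  have h4 : n ⊗ₜ[R] (1 : (maximalIdeal R).ResidueField) = 0 := by
    rw [← FiberAss.theta_one_tmul (S := S) N (maximalIdeal R) n]
    exact (congrArg (FiberAss.theta N (maximalIdeal R)) h3).trans (map_zero _)
  exact FiberAss.mem_smul_top_of_tmul_one_eq_zero N (maximalIdeal R) n h4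

include hS in
/-- Multiplication by an element acting injectively on the closed fibre is universally
injective over `R`. -/
theorem nzdFiber_lTensor_injective (s : S) (hs : s ∈ FlatCA.nzdFiber R S N)
    (Q : Type*) [AddCommGroup Q] [Module R Q] :
    Function.Injective (((LinearMap.lsmul S N s).restrictScalars R).lTensor Q) :=
  FPInjLocal.lTensor_injective_of_elementwise ((LinearMap.lsmul S N s).restrictScalars R)
    (fun I x hx => nzdFiber_smul_elementwise hS N s hs I x hx) Q

include hS in
/-- `N → S' ⊗_S N` is universally injective over `R` when `S'` is flat over `S` and the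
associated primes of the closed fibre module are contractions of primes of `S'`. -/
theorem rTensor_mk_injective {S' : Type u} [CommRing S'] [Algebra S S'] [Algebra R S']
    [IsScalarTower R S S'] [Module.Flat S S']
    (h : ∀ q ∈ associatedPrimes S (FlatCA.fiberMod (maximalIdeal R) S N),
      ∃ q' : Ideal S', q'.IsPrime ∧ q'.comap (algebraMap S S') = q)
    (Q : Type u) [AddCommGroup Q] [Module R Q] :
    Function.Injective (((TensorProduct.mk S S' N 1).restrictScalars R).rTensor Q) := by
  -- `X = N ⊗ Q` as an `S`-module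
  have hX : Function.Injective (TensorProduct.mk S S' (N ⊗[R] Q) 1) := by
    apply injective_mk_of_flat (FlatCA.nzdFiber R S N)
    · intro s hs x hx
      have hinj : Function.Injective
          (((LinearMap.lsmul S N s).restrictScalars R).rTensor Q) := by
        rw [← LinearMap.lTensor_inj_iff_rTensor_inj]
        exact nzdFiber_lTensor_injective hS N s hs Q
      have hact : ∀ y : N ⊗[R] Q,
          ((LinearMap.lsmul S N s).restrictScalars R).rTensor Q y = s • y := by
        intro y
        induction y with
        | zero => rw [map_zero, smul_zero]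
        | tmul n q =>
          rw [LinearMap.rTensor_tmul, TensorProduct.smul_tmul']
          rfl
        | add a b ha hb => rw [map_add, ha, hb, smul_add]
      apply hinj
      rw [hact, hx, map_zero]
    · intro P hP hPd
      haveI := hP
      haveI : IsNoetherianRing ((maximalIdeal R).Fiber S) := isNoetherianRing_fiber hS _
      haveI : Module.Finite ((maximalIdeal R).Fiber S) (FlatCA.fiberMod (maximalIdeal R) S N) :=
        inferInstanceAs (Module.Finite ((maximalIdeal R).Fiber S)
          (((maximalIdeal R).Fiber S) ⊗[S] N))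
      haveI : IsScalarTower S ((maximalIdeal R).Fiber S)
          (FlatCA.fiberMod (maximalIdeal R) S N) :=
        inferInstanceAs (IsScalarTower S ((maximalIdeal R).Fiber S)
          (((maximalIdeal R).Fiber S) ⊗[S] N))
      obtain ⟨q, hq, hPq⟩ := exists_le_assoc ((maximalIdeal R).Fiber S)
        (F := FlatCA.fiberMod (maximalIdeal R) S N) P hPd
      obtain ⟨q', hq', hqq'⟩ := h q hq
      haveI := hq'
      haveI : q.IsPrime := hq.isPrime
      haveI : q'.LiesOver q := ⟨hqq'.symm⟩
      obtain ⟨P', hP'le, hP'prime, hP'over⟩ :=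
        Ideal.exists_ideal_le_liesOver_of_le (S := S') q' hPq
      exact ⟨P', hP'prime, hP'over.over.symm⟩
  -- compare with the associator
  let Φ := TensorProduct.AlgebraTensorModule.assoc R S S S' N Q
  have hcomp : ∀ y : N ⊗[R] Q,
      Φ (((TensorProduct.mk S S' N 1).restrictScalars R).rTensor Q y) =
        TensorProduct.mk S S' (N ⊗[R] Q) 1 y := by
    intro y
    induction y with
    | zero => rw [map_zero, map_zero, map_zero]
    | tmul n q =>
      rw [LinearMap.rTensor_tmul]
      exact TensorProduct.AlgebraTensorModule.assoc_tmul _ _ _ _ _ _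
    | add a b ha hb => rw [map_add, map_add, ha, hb, map_add]
  intro y₁ y₂ hy
  apply hX
  rw [← hcomp, ← hcomp, hy]

end Main

end Groth.Agent.Lib.Helper31.FPUnivInj
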