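import Mathlib
import Groth.Prelude.Def_FlatCA
import Groth.Agent.Lib.Helper31.FPInjAt
import Groth.Agent.Lib.Helper31.FPUnivInj
import Groth.Agent.Lib.Helper16.GenFlat.Alg

/-!
# Universal injectivity of `N → S' ⊗_S N`, global version (helper31)

`R → S` of finite presentation, `N` a finitely presented `S`-module flat over `R`, `S'` a flat
`S`-algebra such that every point of the relative assassin of `N` is in the image of `Spec S'`.
Then `N → S' ⊗_S N` is universally injective over `R`.
-/

set_option autoImplicit false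
universe u

open TensorProduct

namespace Groth.Agent.Lib.Helper31.FPUnivInjGlobal

attribute [local instance] Algebra.TensorProduct.rightAlgebra

section L

variable {S S' X : Type*} [CommRing S] [CommRing S'] [Algebra S S'] [Module.Flat S S']
  [AddCommGroup X] [Module S X]

/-- If `1 ⊗ x = 0` in `S' ⊗ X` with `S'` flat, then the annihilator of `x` generates the unit
ideal of `S'`. -/
theorem one_mem_map_ker (x : X) (hx : TensorProduct.mk S S' X 1 x = 0) :
    (1 : S') ∈ Ideal.map (algebraMap S S')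
      (LinearMap.ker (LinearMap.toSpanSingleton S X x) : Ideal S) := by
  let 𝔞 : Ideal S := LinearMap.ker (LinearMap.toSpanSingleton S X x)
  let ι : (S ⧸ 𝔞) →ₗ[S] X := Submodule.liftQ 𝔞 (LinearMap.toSpanSingleton S X x) le_rfl
  have hι : Function.Injective ι := by
    rw [← LinearMap.ker_eq_bot]
    exact Submodule.ker_liftQ_eq_bot _ _ _ le_rfl
  have hι' : Function.Injective (ι.lTensor S') :=
    Module.Flat.lTensor_preserves_injective_linearMap ι hι
  have h0 : ι.lTensor S' ((1 : S') ⊗ₜ[S] (Submodule.Quotient.mk (1 : S) : S ⧸ 𝔞)) = 0 := by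
    rw [LinearMap.lTensor_tmul]
    have : ι (Submodule.Quotient.mk (1 : S)) = x := by
      show LinearMap.toSpanSingleton S X x 1 = x
      rw [LinearMap.toSpanSingleton_apply, one_smul]
    rw [this]
    exact hx
  have h00 : ((1 : S') ⊗ₜ[S] (Submodule.Quotient.mk (1 : S) : S ⧸ 𝔞)) = 0 :=
    hι' (by rw [h0, map_zero])
  have := congrArg (TensorProduct.tensorQuotEquivQuotSMul S' 𝔞) h00
  rw [map_zero] at this
  have e : TensorProduct.tensorQuotEquivQuotSMul S' 𝔞
      ((1 : S') ⊗ₜ[S] (Submodule.Quotient.mk (1 : S) : S ⧸ 𝔞)) =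
      Submodule.Quotient.mk ((1 : S) • (1 : S')) :=
    TensorProduct.tensorQuotEquivQuotSMul_tmul_mk 𝔞 (1 : S') (1 : S)
  rw [e, Submodule.Quotient.mk_eq_zero, one_smul, Ideal.smul_top_eq_map] at this
  exact this

/-- Local version at a prime `t`. -/
theorem exists_smul_eq_zero_of_flat (t : Ideal S) [t.IsPrime] (W : Submonoid S)
    (h1 : ∀ s ∈ W, ∀ x : X, s • x = 0 → ∃ c ∈ t.primeCompl, c • x = 0)
    (h2 : ∀ P : Ideal S, P.IsPrime → Disjoint (P : Set S) (W : Set S) →
      ∃ P' : Ideal S', P'.IsPrime ∧ P'.comap (algebraMap S S') = P)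
    (x : X) (hx : TensorProduct.mk S S' X 1 x = 0) : ∃ c ∈ t.primeCompl, c • x = 0 := by
  by_contra hcon
  push Not at hcon
  let 𝔞 : Ideal S := LinearMap.ker (LinearMap.toSpanSingleton S X x)
  have h𝔞 : ∀ s, s ∈ 𝔞 ↔ s • x = 0 := fun s => by
    rw [LinearMap.mem_ker, LinearMap.toSpanSingleton_apply]
  have h1mem := one_mem_map_ker (S' := S') x hx
  have hdisj : Disjoint (𝔞 : Set S) ((W ⊔ t.primeCompl : Submonoid S) : Set S) := by
    rw [Set.disjoint_left]
    intro a ha haW
    obtain ⟨s, hs, c, hc, rfl⟩ := Submonoid.mem_sup.mp haW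
    have h3 : s • (c • x) = 0 := by
      rw [smul_smul]
      exact (h𝔞 _).mp ha
    obtain ⟨c', hc', h4⟩ := h1 s hs (c • x) h3
    rw [smul_smul] at h4
    exact hcon (c' * c) (t.primeCompl.mul_mem hc' hc) h4
  obtain ⟨P, hP, h𝔞P, hPd⟩ := Ideal.exists_le_prime_disjoint 𝔞 _ hdisj
  have hPW : Disjoint (P : Set S) (W : Set S) :=
    Set.disjoint_of_subset_right (show (W : Set S) ⊆ ((W ⊔ t.primeCompl : Submonoid S) : Set S)
      from fun a ha => (le_sup_left : W ≤ W ⊔ t.primeCompl) ha) hPd
  obtain ⟨P', hP', hPP'⟩ := h2 P hP hPW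
  have hle : 𝔞.map (algebraMap S S') ≤ P' := by
    rw [Ideal.map_le_iff_le_comap, hPP']
    exact h𝔞P
  exact hP'.ne_top ((Ideal.eq_top_iff_one _).mpr (hle h1mem))

end L

section Main

open Groth.Agent.Lib.Helper31 Groth.Agent.Lib.Helper31.FPInjNoeth

variable {R S : Type u} [CommRing R] [CommRing S] [Algebra R S] [Algebra.FinitePresentation R S]
  (N : Type u) [AddCommGroup N] [Module S N] [Module R N] [IsScalarTower R S N]
  [Module.FinitePresentation S N] [Module.Flat R N]

/-- The elements of `S` acting injectively on the fibre module over `p = t ∩ R`, locally at `t`. -/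
def nzdAt (t : Ideal S) [t.IsPrime] : Submonoid S where
  carrier := {s | ∀ y : N, (∃ w ∈ t.primeCompl, w • s • y ∈
      (t.comap (algebraMap R S)) • (⊤ : Submodule R N)) →
    ∃ w ∈ t.primeCompl, w • y ∈ (t.comap (algebraMap R S)) • (⊤ : Submodule R N)}
  one_mem' := by
    intro y h
    simpa using h
  mul_mem' := by
    intro s₁ s₂ h₁ h₂ y hy
    obtain ⟨w, hw, h⟩ := hy
    have h' : ∃ w ∈ t.primeCompl, w • s₁ • (s₂ • y) ∈
        (t.comap (algebraMap R S)) • (⊤ : Submodule R N) := ⟨w, hw, by rwa [smul_smul s₁ s₂]⟩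
    exact h₂ y (h₁ (s₂ • y) h')

omit [Algebra.FinitePresentation R S] [Module.FinitePresentation S N] [Module.Flat R N]
  [IsScalarTower R S N] in
theorem mem_nzdAt (t : Ideal S) [t.IsPrime] (s : S) :
    s ∈ nzdAt (R := R) N t ↔ ∀ y : N, (∃ w ∈ t.primeCompl, w • s • y ∈
      (t.comap (algebraMap R S)) • (⊤ : Submodule R N)) →
    ∃ w ∈ t.primeCompl, w • y ∈ (t.comap (algebraMap R S)) • (⊤ : Submodule R N) := Iff.rfl

/-- `N ⊗ Q` has no `nzdAt`-torsion locally at `t`. -/
theorem exists_smul_eq_zero_of_nzdAt (t : Ideal S) [t.IsPrime] (s : S)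
    (hs : s ∈ nzdAt (R := R) N t) (Q : Type u) [AddCommGroup Q] [Module R Q]
    (x : N ⊗[R] Q) (hx : s • x = 0) : ∃ c ∈ t.primeCompl, c • x = 0 := by
  haveI : Module.Flat R (LocalizedModule t.primeCompl N) :=
    Groth.Agent.Lib.Helper16.GenFlat.flat_of_isLocalizedModule_algebra t.primeCompl
      (LocalizedModule.mkLinearMap t.primeCompl N)
  let σ : LocalizedModule t.primeCompl N →ₗ[R] LocalizedModule t.primeCompl N :=
    (LinearMap.lsmul S (LocalizedModule t.primeCompl N) s).restrictScalars R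
  have hσ : ∀ z, σ z = s • z := fun z => rfl
  -- dictionary for the localized module
  have dict : ∀ (I : Ideal R) (y : N) (c : t.primeCompl),
      LocalizedModule.mk y c ∈ I • (⊤ : Submodule R (LocalizedModule t.primeCompl N)) ↔
        ∃ w ∈ t.primeCompl, w • y ∈ I • (⊤ : Submodule R N) := by
    intro I y c
    rw [← mem_map_smul_top_iff (S := S), mk_mem_smul_top_iff]
    refine exists_congr fun w => and_congr_right fun _ => ?_
    exact mem_map_smul_top_iff I _
  have helt : ∀ (I : Ideal R) (z : LocalizedModule t.primeCompl N),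
      σ z ∈ I • (⊤ : Submodule R (LocalizedModule t.primeCompl N)) →
        z ∈ I • (⊤ : Submodule R (LocalizedModule t.primeCompl N)) := by
    intro I z hz
    induction z using LocalizedModule.induction_on with
    | h y c =>
      rw [hσ, LocalizedModule.smul'_mk, dict] at hz
      rw [dict]
      exact FPInjAt.key_at t (LinearMap.lsmul S N s) (fun y hy => hs y hy) I y hz
  have hinj : Function.Injective (σ.rTensor Q) := by
    rw [← LinearMap.lTensor_inj_iff_rTensor_inj]
    exact FPInjLocal.lTensor_injective_of_elementwise σ helt Q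
  let lam : N ⊗[R] Q →ₗ[S] LocalizedModule t.primeCompl N ⊗[R] Q :=
    AlgebraTensorModule.rTensor R Q (LocalizedModule.mkLinearMap t.primeCompl N)
  have hnat : ∀ y : N ⊗[R] Q, σ.rTensor Q (lam y) = lam (s • y) := by
    intro y
    induction y with
    | zero => rw [smul_zero, map_zero, map_zero]
    | tmul n q =>
      have e1 : lam (n ⊗ₜ[R] q) = LocalizedModule.mkLinearMap t.primeCompl N n ⊗ₜ[R] q := rfl
      have e2 : s • (n ⊗ₜ[R] q) = (s • n) ⊗ₜ[R] q := TensorProduct.smul_tmul' s n q
      have e3 : lam ((s • n) ⊗ₜ[R] q) =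
          LocalizedModule.mkLinearMap t.primeCompl N (s • n) ⊗ₜ[R] q := rfl
      rw [e1, e2, e3, LinearMap.rTensor_tmul, hσ, map_smul]
    | add a b ha hb => rw [smul_add, map_add, map_add, map_add, ha, hb]
  have h0 : lam x = 0 := by
    apply hinj
    rw [hnat, hx, map_zero, map_zero]
  obtain ⟨c, hc⟩ := (IsLocalizedModule.eq_zero_iff t.primeCompl lam).mp h0
  exact ⟨c, c.2, hc⟩

omit [Algebra.FinitePresentation R S] [Module.FinitePresentation S N] [Module.Flat R N] in
/-- Every ideal of the fibre ring is extended from `S`. -/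
theorem map_comap_fiber (p : Ideal R) [p.IsPrime] (J : Ideal (p.Fiber S)) :
    (J.comap (algebraMap S (p.Fiber S))).map (algebraMap S (p.Fiber S)) = J := by
  apply le_antisymm Ideal.map_comap_le
  intro a ha
  obtain ⟨r, hr, s, hrs⟩ := Ideal.Fiber.exists_smul_eq_one_tmul p a
  apply FiberAss.mem_of_smul_mem p _ r hr a
  rw [hrs]
  apply Ideal.mem_map_of_mem
  rw [Ideal.mem_comap]
  show (1 : p.ResidueField) ⊗ₜ[R] s ∈ J
  rw [← hrs]
  exact Submodule.smul_of_tower_mem J r ha

end Main

section Contraction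

open Groth.Agent.Lib.Helper31 Groth.Agent.Lib.Helper31.FPInjNoeth

/-- A set of zero divisors closed under the hypotheses of prime avoidance lies in the contraction
of an associated prime. -/
theorem exists_le_comap_assoc {S : Type*} (Fb : Type*) {F : Type*} [CommRing S] [CommRing Fb]
    [Algebra S Fb] [IsNoetherianRing Fb]
    [AddCommGroup F] [Module S F] [Module Fb F] [IsScalarTower S Fb F] [Module.Finite Fb F]
    (P : Ideal S)
    (hP : Disjoint (P : Set S) (nonZeroSMulDivisors S F : Set S)) :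
    ∃ qb ∈ associatedPrimes Fb F, P ≤ qb.comap (algebraMap S Fb) := by
  classical
  have hfin := associatedPrimes.finite Fb F
  have hsub : (P : Set S) ⊆ ⋃ qb ∈ (hfin.toFinset : Set (Ideal Fb)),
      ((qb.comap (algebraMap S Fb) : Ideal S) : Set S) := by
    intro a ha
    have hna : a ∉ nonZeroSMulDivisors S F := fun h => Set.disjoint_left.mp hP ha h
    rw [mem_nonZeroSMulDivisors_iff] at hna
    push Not at hna
    obtain ⟨x, hax, hx0⟩ := hna
    have hmem : algebraMap S Fb a ∈ {r : Fb | ∃ x : F, x ≠ 0 ∧ r • x = 0} :=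
      ⟨x, hx0, by rw [algebraMap_smul]; exact hax⟩
    rw [← biUnion_associatedPrimes_eq_zero_divisors Fb F] at hmem
    simp only [Set.mem_iUnion] at hmem ⊢
    obtain ⟨qb, hqb, haq⟩ := hmem
    exact ⟨qb, by simpa using hqb, haq⟩
  rw [Ideal.subset_union_prime (⊥ : Ideal Fb) ⊥ (fun qb hqb _ _ => by
    have : qb ∈ associatedPrimes Fb F := by simpa using hqb
    haveI := this.isPrime
    exact Ideal.comap_isPrime _ _)] at hsub
  obtain ⟨qb, hqb, hPq⟩ := hsub
  exact ⟨qb, by simpa using hqb, hPq⟩

variable {R S : Type u} [CommRing R] [CommRing S] [Algebra R S] [Algebra.FinitePresentation R S]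
  (N : Type u) [AddCommGroup N] [Module S N] [Module R N] [IsScalarTower R S N]
  [Module.FinitePresentation S N] [Module.Flat R N]
  {S' : Type u} [CommRing S'] [Algebra S S'] [Module.Flat S S']

/-- Primes disjoint from `nzdAt` are contractions from `S'`. -/
theorem exists_contraction
    (h : ∀ (p : Ideal R) (q : Ideal S) [p.IsPrime] [q.IsPrime] [q.LiesOver p],
      FlatCA.fiberIdeal p q ∈ associatedPrimes (p.Fiber S) (FlatCA.fiberMod p S N) →
      ∃ q' : Ideal S', q'.IsPrime ∧ q'.comap (algebraMap S S') = q)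
    (t : Ideal S) [t.IsPrime] (P : Ideal S) [P.IsPrime]
    (hP : Disjoint (P : Set S) (nzdAt (R := R) N t : Set S)) :
    ∃ P' : Ideal S', P'.IsPrime ∧ P'.comap (algebraMap S S') = P := by
  set p : Ideal R := t.comap (algebraMap R S) with hp
  haveI : p.IsPrime := Ideal.comap_isPrime _ _
  haveI : Algebra.FiniteType R S := Algebra.FiniteType.of_finitePresentation
  haveI : IsNoetherianRing (p.Fiber S) := Algebra.FiniteType.isNoetherianRing p.ResidueField _
  haveI : Module.Finite (p.Fiber S) (FlatCA.fiberMod p S N) :=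
    inferInstanceAs (Module.Finite (p.Fiber S) ((p.Fiber S) ⊗[S] N))
  haveI : IsScalarTower S (p.Fiber S) (FlatCA.fiberMod p S N) :=
    inferInstanceAs (IsScalarTower S (p.Fiber S) ((p.Fiber S) ⊗[S] N))
  have hdisj : Disjoint (P : Set S) (nonZeroSMulDivisors S (FlatCA.fiberMod p S N) : Set S) := by
    rw [Set.disjoint_left]
    intro a haP ha
    have hna : a ∉ nzdAt (R := R) N t := fun h' => Set.disjoint_left.mp hP haP h'
    rw [mem_nzdAt] at hna
    push Not at hna
    obtain ⟨y, ⟨w, hw, hwy⟩, hy⟩ := hna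
    have hz0 : ((1 : p.Fiber S) ⊗ₜ[S] (w • y) : FlatCA.fiberMod p S N) ≠ 0 := by
      intro hz
      have h4 : (w • y) ⊗ₜ[R] (1 : p.ResidueField) = 0 := by
        rw [← FiberAss.theta_one_tmul (S := S) N p (w • y)]
        exact (congrArg (FiberAss.theta N p) hz).trans (map_zero _)
      exact hy w hw (FiberAss.mem_smul_top_of_tmul_one_eq_zero N p _ h4)
    have hz1 : a • ((1 : p.Fiber S) ⊗ₜ[S] (w • y) : FlatCA.fiberMod p S N) = 0 := by
      have e1 : a • ((1 : p.Fiber S) ⊗ₜ[S] (w • y) : FlatCA.fiberMod p S N) =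
          ((1 : p.Fiber S) ⊗ₜ[S] (a • w • y) : FlatCA.fiberMod p S N) :=
        (TensorProduct.tmul_smul a (1 : p.Fiber S) (w • y)).symm
      rw [e1, smul_comm a w y]
      exact FiberAss.one_tmul_eq_zero_of_mem N p _ hwy
    exact hz0 ((mem_nonZeroSMulDivisors_iff.mp ha) _ hz1)
  obtain ⟨qb, hqb, hPq⟩ := exists_le_comap_assoc (p.Fiber S)
    (F := FlatCA.fiberMod p S N) P hdisj
  haveI : qb.IsPrime := hqb.isPrime
  set q : Ideal S := qb.comap (algebraMap S (p.Fiber S)) with hq
  haveI : q.IsPrime := Ideal.comap_isPrime _ _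
  haveI : q.LiesOver p := by
    constructor
    have h1 : p = qb.under R := (inferInstance : qb.LiesOver p).over
    rw [h1, hq, Ideal.under, Ideal.under, Ideal.comap_comap,
      ← IsScalarTower.algebraMap_eq R S (p.Fiber S)]
  have hfib : FlatCA.fiberIdeal p q = qb := map_comap_fiber p qb
  obtain ⟨q', hq', hqq'⟩ := h p q (by rw [hfib]; exact hqb)
  haveI := hq'
  haveI : q'.LiesOver q := ⟨hqq'.symm⟩
  obtain ⟨P', hP'le, hP'prime, hP'over⟩ :=
    Ideal.exists_ideal_le_liesOver_of_le (S := S') q' hPq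
  exact ⟨P', hP'prime, hP'over.over.symm⟩

variable [Algebra R S'] [IsScalarTower R S S']

/-- **Global universal injectivity** of `N → S' ⊗_S N`. -/
theorem rTensor_mk_injective_global
    (h : ∀ (p : Ideal R) (q : Ideal S) [p.IsPrime] [q.IsPrime] [q.LiesOver p],
      FlatCA.fiberIdeal p q ∈ associatedPrimes (p.Fiber S) (FlatCA.fiberMod p S N) →
      ∃ q' : Ideal S', q'.IsPrime ∧ q'.comap (algebraMap S S') = q)
    (Q : Type u) [AddCommGroup Q] [Module R Q] :
    Function.Injective (((TensorProduct.mk S S' N 1).restrictScalars R).rTensor Q) := by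
  have hX : Function.Injective (TensorProduct.mk S S' (N ⊗[R] Q) 1) := by
    rw [injective_iff_map_eq_zero]
    intro x hx
    by_contra hx0
    have h𝔞top : (LinearMap.ker (LinearMap.toSpanSingleton S (N ⊗[R] Q) x) : Ideal S) ≠ ⊤ := by
      intro htop
      apply hx0
      have h1 : (1 : S) ∈ (LinearMap.ker (LinearMap.toSpanSingleton S (N ⊗[R] Q) x) : Ideal S) := by
        rw [htop]; trivial
      rw [LinearMap.mem_ker, LinearMap.toSpanSingleton_apply, one_smul] at h1
      exact h1
    obtain ⟨t, ht, h𝔞t⟩ := Ideal.exists_le_maximal _ h𝔞top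
    haveI := ht.isPrime
    obtain ⟨c, hc, hcx⟩ := exists_smul_eq_zero_of_flat (S' := S') t (nzdAt (R := R) N t)
      (fun s hs y hy => exists_smul_eq_zero_of_nzdAt N t s hs Q y hy)
      (fun P hP hPd => by
        haveI := hP
        exact exists_contraction N h t P hPd) x hx
    exact hc (h𝔞t (by rw [LinearMap.mem_ker, LinearMap.toSpanSingleton_apply]; exact hcx))
  let Φ := TensorProduct.AlgebraTensorModule.assoc R S S S' N Q
  have hcomp : ∀ y : N ⊗[R] Q,
      Φ (((TensorProduct.mk S S' N 1).restrictScalars R).rTensor Q y) =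
        TensorProduct.mk S S' (N ⊗[R] Q) 1 y := by
    intro y
    induction y with
    | zero => rw [map_zero, map_zero, map_zero]
    | tmul n q =>
      rw [LinearMap.rTensor_tmul]
      exact TensorProduct.AlgebraTensorModule.assoc_tmul _ _ _ _ _ _
    | add a b ha hb => rw [map_add, map_add, ha, hb, map_add]
  intro y₁ y₂ hy
  apply hX
  rw [← hcomp, ← hcomp, hy]

end Contraction

end Groth.Agent.Lib.Helper31.FPUnivInjGlobal
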