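import Groth.Prelude.Def_FibCat2
import Groth.Prelude.Def_W4stkcategoriessitesFib
import Mathlib.CategoryTheory.Adjunction.Basic

/-!
# Factorisation of a 1-morphism of fibred categories (Stacks 06N7) (helper31)

For `F : 𝒳 ⥤ᵇ 𝒴` the category `𝒳'` of triples `(x, y, f : y ⟶ F x)` with `f` vertical.
-/

set_option autoImplicit false
universe v u

open CategoryTheory CategoryTheory.Functor

namespace Groth.Agent.Lib.Helper31.FibFactor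

section General

variable {𝒮 : Type*} [Category 𝒮] {𝒜 : Type*} [Category 𝒜] {ℬ : Type*} [Category ℬ]

theorem isHomLift_comp_iff (Φ : 𝒜 ⥤ ℬ) (q : ℬ ⥤ 𝒮) {R S : 𝒮} (f : R ⟶ S) {b a : 𝒜}
    (φ : b ⟶ a) : (Φ ⋙ q).IsHomLift f φ ↔ q.IsHomLift f (Φ.map φ) := by
  constructor
  · intro h
    have h1 := IsHomLift.domain_eq (Φ ⋙ q) f φ
    have h2 := IsHomLift.codomain_eq (Φ ⋙ q) f φ
    have h3 := IsHomLift.fac (Φ ⋙ q) f φ
    exact IsHomLift.of_fac q f (Φ.map φ) h1 h2 h3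
  · intro h
    have h1 := IsHomLift.domain_eq q f (Φ.map φ)
    have h2 := IsHomLift.codomain_eq q f (Φ.map φ)
    have h3 := IsHomLift.fac q f (Φ.map φ)
    exact IsHomLift.of_fac (Φ ⋙ q) f φ h1 h2 h3

theorem isHomLift_id_of_eq (q : ℬ ⥤ 𝒮) {R R' : 𝒮} (h : R = R') {y y' : ℬ} (φ : y ⟶ y')
    [q.IsHomLift (𝟙 R) φ] : q.IsHomLift (𝟙 R') φ := by
  subst h
  infer_instance

/-- If `b ≫ ψ` lifts `g` and `ψ` is vertical then `b` lifts `g`. -/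
theorem isHomLift_of_comp_vertical (q : ℬ ⥤ 𝒮) {y y' z : ℬ} (b : y ⟶ y') (ψ : y' ⟶ z) {S T : 𝒮}
    (g : S ⟶ T) [hψ : q.IsHomLift (𝟙 T) ψ] [hb : q.IsHomLift g (b ≫ ψ)] : q.IsHomLift g b := by
  have h1 := IsHomLift.domain_eq q g (b ≫ ψ)
  have h2 := IsHomLift.domain_eq q (𝟙 T) ψ
  apply IsHomLift.of_fac' q g b h1 h2
  have e1 := IsHomLift.fac' q g (b ≫ ψ)
  have e2 := IsHomLift.fac' q (𝟙 T) ψ
  rw [Functor.map_comp, e2] at e1
  simp only [Category.id_comp] at e1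
  have : q.map b = (q.map b ≫ eqToHom h2 ≫ eqToHom (IsHomLift.codomain_eq q (𝟙 T) ψ).symm) ≫
      eqToHom (IsHomLift.codomain_eq q (𝟙 T) ψ) ≫ eqToHom h2.symm := by simp
  rw [this, e1]
  simp

theorem isStronglyCartesian_of_eq (q : ℬ ⥤ 𝒮) {R S : 𝒮} {g g' : R ⟶ S} (h : g = g') {y z : ℬ}
    (φ : y ⟶ z) [q.IsStronglyCartesian g φ] : q.IsStronglyCartesian g' φ := by
  subst h
  infer_instance

end General

variable {C : Type u} [Category.{v} C] {𝒳 𝒴 : BasedCategory.{v, max u v} C} (F : 𝒳 ⥤ᵇ 𝒴)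

/-- Objects of `𝒳'`. -/
structure Obj where
  x : 𝒳.obj
  y : 𝒴.obj
  f : y ⟶ F.obj x
  hf : 𝒴.p.IsHomLift (𝟙 (𝒳.p.obj x)) f

variable {F}

instance Obj.f_isHomLift (X : Obj F) : 𝒴.p.IsHomLift (𝟙 (𝒳.p.obj X.x)) X.f := X.hf

theorem Obj.proj_y (X : Obj F) : 𝒴.p.obj X.y = 𝒳.p.obj X.x :=
  IsHomLift.domain_eq 𝒴.p (𝟙 (𝒳.p.obj X.x)) X.f

/-- Morphisms of `𝒳'`. -/
@[ext]
structure Hom (X Y : Obj F) where
  a : X.x ⟶ Y.x
  b : X.y ⟶ Y.y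
  w : b ≫ Y.f = X.f ≫ F.map a

attribute [reassoc] Hom.w

instance : Category (Obj F) where
  Hom X Y := Hom X Y
  id X := ⟨𝟙 _, 𝟙 _, by simp⟩
  comp m n := ⟨m.a ≫ n.a, m.b ≫ n.b, by
    rw [Category.assoc, n.w, m.w_assoc, Functor.map_comp]⟩
  id_comp m := by apply Hom.ext <;> simp
  comp_id m := by apply Hom.ext <;> simp
  assoc m n k := by apply Hom.ext <;> simp

@[simp] theorem id_a (X : Obj F) : (𝟙 X : X ⟶ X).a = 𝟙 X.x := rfl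
@[simp] theorem id_b (X : Obj F) : (𝟙 X : X ⟶ X).b = 𝟙 X.y := rfl
@[simp] theorem comp_a {X Y Z : Obj F} (m : X ⟶ Y) (n : Y ⟶ Z) : (m ≫ n).a = m.a ≫ n.a := rfl
@[simp] theorem comp_b {X Y Z : Obj F} (m : X ⟶ Y) (n : Y ⟶ Z) : (m ≫ n).b = m.b ≫ n.b := rfl

theorem hom_ext {X Y : Obj F} {m n : X ⟶ Y} (ha : m.a = n.a) (hb : m.b = n.b) : m = n :=
  Hom.ext ha hb

variable (F)

/-- The functor `w : 𝒳' ⥤ 𝒳`. -/
def wF : Obj F ⥤ 𝒳.obj where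
  obj X := X.x
  map m := m.a

/-- The functor `v : 𝒳' ⥤ 𝒴`. -/
def vF : Obj F ⥤ 𝒴.obj where
  obj X := X.y
  map m := m.b

/-- The functor `u : 𝒳 ⥤ 𝒳'`. -/
def uF : 𝒳.obj ⥤ Obj F where
  obj x := ⟨x, F.obj x, 𝟙 _, inferInstance⟩
  map a := ⟨a, F.map a, by simp⟩

/-- The based category `𝒳'`. -/
def X' : BasedCategory.{v, max u v} C where
  obj := Obj F
  p := wF F ⋙ 𝒳.p

variable {F}

instance hom_a_isHomLift {X Y : Obj F} (m : X ⟶ Y) {R S : C} (g : R ⟶ S)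
    [h : (X' F).p.IsHomLift g m] : 𝒳.p.IsHomLift g m.a :=
  (isHomLift_comp_iff (wF F) 𝒳.p g m).1 h

theorem hom_b_isHomLift {X Y : Obj F} (m : X ⟶ Y) {R S : C} (g : R ⟶ S)
    [h : 𝒳.p.IsHomLift g m.a] : 𝒴.p.IsHomLift g m.b := by
  have : 𝒴.p.IsHomLift g (m.b ≫ Y.f) := by
    rw [m.w]
    have := IsHomLift.codomain_eq 𝒳.p g m.a
    have : 𝒴.p.IsHomLift (𝟙 R) X.f :=
      isHomLift_id_of_eq 𝒴.p (IsHomLift.domain_eq 𝒳.p g m.a) X.f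
    infer_instance
  have : 𝒴.p.IsHomLift (𝟙 S) Y.f :=
    isHomLift_id_of_eq 𝒴.p (IsHomLift.codomain_eq 𝒳.p g m.a) Y.f
  exact isHomLift_of_comp_vertical 𝒴.p m.b Y.f g


theorem hom_a_isHomLift_of_b {X Y : Obj F} (m : X ⟶ Y) {R S : C} (g : R ⟶ S)
    [h : 𝒴.p.IsHomLift g m.b] : 𝒳.p.IsHomLift g m.a := by
  have hb : 𝒴.p.IsHomLift (𝒳.p.map m.a) m.b := hom_b_isHomLift m (𝒳.p.map m.a)
  have h1 : 𝒳.p.obj X.x = R := X.proj_y.symm.trans (IsHomLift.domain_eq 𝒴.p g m.b)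
  have h2 : 𝒳.p.obj Y.x = S := Y.proj_y.symm.trans (IsHomLift.codomain_eq 𝒴.p g m.b)
  apply IsHomLift.of_fac 𝒳.p g m.a h1 h2
  rw [IsHomLift.fac 𝒴.p g m.b, IsHomLift.fac' 𝒴.p (𝒳.p.map m.a) m.b]
  simp

variable (F)

/-- `w` as a based functor. -/
def wB : X' F ⥤ᵇ 𝒳 where
  toFunctor := wF F
  w := rfl

/-- `v` as a based functor. -/
def vB : X' F ⥤ᵇ 𝒴 where
  toFunctor := vF F
  w := by
    refine Functor.ext (fun X => X.proj_y) (fun X Y m => ?_)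
    have hb : 𝒴.p.IsHomLift (𝒳.p.map m.a) m.b := hom_b_isHomLift m (𝒳.p.map m.a)
    exact IsHomLift.fac' 𝒴.p (𝒳.p.map m.a) m.b

/-- `u` as a based functor. -/
def uB : 𝒳 ⥤ᵇ X' F where
  toFunctor := uF F
  w := rfl

theorem uB_comp_vB : BasedFunctor.comp (uB F) (vB F) = F := rfl

instance uF_full : (uF F).Full where
  map_surjective {x x'} m := ⟨m.a, by
    apply hom_ext
    · rfl
    have := m.w
    change m.b ≫ 𝟙 _ = 𝟙 _ ≫ F.map m.a at this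
    rw [Category.comp_id, Category.id_comp] at this
    exact this.symm⟩

instance uF_faithful : (uF F).Faithful where
  map_injective h := congrArg Hom.a h

/-- The adjunction `w ⊣ u`. -/
def adj : wF F ⊣ uF F :=
  Adjunction.mkOfHomEquiv
    { homEquiv := fun X x' =>
        { toFun := fun a => ⟨a, X.f ≫ F.map a, Category.comp_id _⟩
          invFun := fun m => m.a
          left_inv := fun a => rfl
          right_inv := fun m => by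
            apply hom_ext
            · rfl
            have := m.w
            change m.b ≫ 𝟙 _ = X.f ≫ F.map m.a at this
            rw [Category.comp_id] at this
            exact this.symm }
      homEquiv_naturality_left_symm := fun m n => rfl
      homEquiv_naturality_right := fun {X x x'} a a' => by
        apply hom_ext
        · rfl
        change X.f ≫ F.map (a ≫ a') = (X.f ≫ F.map a) ≫ F.map a'
        rw [Functor.map_comp, Category.assoc] }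


variable {F}

/-- A morphism of `𝒳'` both of whose components are strongly cartesian is strongly cartesian. -/
theorem isStronglyCartesian_of_components {X Y : Obj F} (m : X ⟶ Y) {R S : C} (g : R ⟶ S)
    (ha : 𝒳.p.IsStronglyCartesian g m.a) (hb : 𝒴.p.IsStronglyCartesian g m.b)
    (hFa : 𝒴.p.IsStronglyCartesian g (F.map m.a)) :
    (X' F).p.IsStronglyCartesian g m := by
  have hm : (X' F).p.IsHomLift g m := (isHomLift_comp_iff (wF F) 𝒳.p g m).2 ha.toIsHomLift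
  refine ⟨?_⟩
  intro Z g' n hn
  have hna : 𝒳.p.IsHomLift (g' ≫ g) n.a := hom_a_isHomLift n (g' ≫ g)
  have hnb : 𝒴.p.IsHomLift (g' ≫ g) n.b := hom_b_isHomLift n (g' ≫ g)
  let a' : Z.x ⟶ X.x := IsStronglyCartesian.map 𝒳.p g m.a (g := g') rfl n.a
  let b' : Z.y ⟶ X.y := IsStronglyCartesian.map 𝒴.p g m.b (g := g') rfl n.b
  have ha' : 𝒳.p.IsHomLift g' a' := IsStronglyCartesian.map_isHomLift 𝒳.p g m.a rfl n.a
  have hb' : 𝒴.p.IsHomLift g' b' := IsStronglyCartesian.map_isHomLift 𝒴.p g m.b rfl n.b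
  have hfa : a' ≫ m.a = n.a := IsStronglyCartesian.fac 𝒳.p g m.a rfl n.a
  have hfb : b' ≫ m.b = n.b := IsStronglyCartesian.fac 𝒴.p g m.b rfl n.b
  have hXf : 𝒴.p.IsHomLift (𝟙 R) X.f :=
    isHomLift_id_of_eq 𝒴.p (IsHomLift.domain_eq 𝒳.p g m.a) X.f
  have hZf : 𝒴.p.IsHomLift (𝟙 ((X' F).p.obj Z)) Z.f := Z.hf
  have hw : b' ≫ X.f = Z.f ≫ F.map a' := by
    have h1 : 𝒴.p.IsHomLift g' (b' ≫ X.f) := inferInstance
    have h2 : 𝒴.p.IsHomLift g' (Z.f ≫ F.map a') := inferInstance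
    apply IsStronglyCartesian.ext 𝒴.p g (F.map m.a) g'
    rw [Category.assoc, Category.assoc, ← m.w, ← Category.assoc, hfb, ← Functor.map_comp, hfa, n.w]
  refine ⟨⟨a', b', hw⟩, ⟨?_, ?_⟩, ?_⟩
  · exact (isHomLift_comp_iff (wF F) 𝒳.p g' _).2 ha'
  · exact hom_ext hfa hfb
  · rintro χ ⟨hχ1, hχ2⟩
    have hχa : 𝒳.p.IsHomLift g' χ.a := hom_a_isHomLift χ g'
    have hχb : 𝒴.p.IsHomLift g' χ.b := hom_b_isHomLift χ g'
    apply hom_ext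
    · exact IsStronglyCartesian.map_uniq 𝒳.p g m.a rfl n.a χ.a (congrArg Hom.a hχ2)
    · exact IsStronglyCartesian.map_uniq 𝒴.p g m.b rfl n.b χ.b (congrArg Hom.b hχ2)


section Fibered

variable [𝒳.p.IsFibered] [𝒴.p.IsFibered] (hF : FibCat.PreservesStronglyCartesian F)

include hF in
/-- Existence of lifts with strongly cartesian components. -/
theorem exists_lift (Y : Obj F) {R : C} (g : R ⟶ 𝒳.p.obj Y.x) :
    ∃ (X : Obj F) (m : X ⟶ Y), 𝒳.p.IsStronglyCartesian g m.a ∧ 𝒴.p.IsStronglyCartesian g m.b := by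
  obtain ⟨x', φ, hφ⟩ : ∃ (x' : 𝒳.obj) (φ : x' ⟶ Y.x), 𝒳.p.IsStronglyCartesian g φ :=
    ⟨_, IsPreFibered.pullbackMap (p := 𝒳.p) (rfl : 𝒳.p.obj Y.x = _) g, inferInstance⟩
  obtain ⟨y', ψ, hψ⟩ : ∃ (y' : 𝒴.obj) (ψ : y' ⟶ Y.y), 𝒴.p.IsStronglyCartesian g ψ :=
    ⟨_, IsPreFibered.pullbackMap (p := 𝒴.p) Y.proj_y g, inferInstance⟩
  have hFφ : 𝒴.p.IsStronglyCartesian g (F.map φ) := hF g φ hφ
  have h1 : 𝒴.p.IsHomLift g (ψ ≫ Y.f) := inferInstance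
  let f' : y' ⟶ F.obj x' :=
    IsStronglyCartesian.map 𝒴.p g (F.map φ) (g := 𝟙 R) (Category.id_comp g).symm (ψ ≫ Y.f)
  have hf' : 𝒴.p.IsHomLift (𝟙 R) f' :=
    IsStronglyCartesian.map_isHomLift 𝒴.p g (F.map φ) (Category.id_comp g).symm (ψ ≫ Y.f)
  have hfac : f' ≫ F.map φ = ψ ≫ Y.f :=
    IsStronglyCartesian.fac 𝒴.p g (F.map φ) (Category.id_comp g).symm (ψ ≫ Y.f)
  have hx' : 𝒳.p.obj x' = R := IsHomLift.domain_eq 𝒳.p g φ
  refine ⟨⟨x', y', f', isHomLift_id_of_eq 𝒴.p hx'.symm f'⟩, ⟨φ, ψ, hfac.symm⟩, hφ, hψ⟩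

include hF in
theorem X'_isFibered : (X' F).p.IsFibered := by
  apply IsFibered.of_exists_isStronglyCartesian
  intro Y R g
  obtain ⟨X, m, ha, hb⟩ := exists_lift hF Y g
  exact ⟨X, m, isStronglyCartesian_of_components m g ha hb (hF g m.a ha)⟩

include hF in
/-- The components of a strongly cartesian morphism of `𝒳'` are strongly cartesian. -/
theorem components_of_isStronglyCartesian {X Y : Obj F} (m : X ⟶ Y) {R S : C} (g : R ⟶ S)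
    (hm : (X' F).p.IsStronglyCartesian g m) :
    𝒳.p.IsStronglyCartesian g m.a ∧ 𝒴.p.IsStronglyCartesian g m.b := by
  have hS : (X' F).p.obj Y = S := IsHomLift.codomain_eq (X' F).p g m
  subst hS
  obtain ⟨X₀, m₀, ha, hb⟩ := exists_lift hF Y g
  have hm₀ : (X' F).p.IsStronglyCartesian g m₀ :=
    isStronglyCartesian_of_components m₀ g ha hb (hF g m₀.a ha)
  obtain ⟨i, hi, hfac⟩ : ∃ i : X ≅ X₀, (X' F).p.IsHomLift (𝟙 R) i.hom ∧ i.hom ≫ m₀ = m :=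
    ⟨IsCartesian.domainUniqueUpToIso (X' F).p g m₀ m, inferInstance,
      IsCartesian.fac (X' F).p g m₀ m⟩
  have hia : 𝒳.p.IsHomLift (𝟙 R) i.hom.a := hom_a_isHomLift i.hom (𝟙 R)
  have hib : 𝒴.p.IsHomLift (𝟙 R) i.hom.b := hom_b_isHomLift i.hom (𝟙 R)
  have hisoa : IsIso i.hom.a := ⟨i.inv.a, by rw [← comp_a, i.hom_inv_id]; rfl,
    by rw [← comp_a, i.inv_hom_id]; rfl⟩
  have hisob : IsIso i.hom.b := ⟨i.inv.b, by rw [← comp_b, i.hom_inv_id]; rfl,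
    by rw [← comp_b, i.inv_hom_id]; rfl⟩
  have h1 : 𝒳.p.IsStronglyCartesian (𝟙 R) i.hom.a := IsStronglyCartesian.of_isIso 𝒳.p (𝟙 R) _
  have h2 : 𝒴.p.IsStronglyCartesian (𝟙 R) i.hom.b := IsStronglyCartesian.of_isIso 𝒴.p (𝟙 R) _
  constructor
  · have : 𝒳.p.IsStronglyCartesian (𝟙 R ≫ g) (i.hom.a ≫ m₀.a) :=
      @IsStronglyCartesian.comp _ _ _ _ 𝒳.p _ _ _ _ _ _ (𝟙 R) g i.hom.a m₀.a h1 ha
    rw [← comp_a, hfac] at this
    exact isStronglyCartesian_of_eq 𝒳.p (Category.id_comp g) m.a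
  · have : 𝒴.p.IsStronglyCartesian (𝟙 R ≫ g) (i.hom.b ≫ m₀.b) :=
      @IsStronglyCartesian.comp _ _ _ _ 𝒴.p _ _ _ _ _ _ (𝟙 R) g i.hom.b m₀.b h2 hb
    rw [← comp_b, hfac] at this
    exact isStronglyCartesian_of_eq 𝒴.p (Category.id_comp g) m.b

include hF in
theorem wB_preserves : FibCat.PreservesStronglyCartesian (wB F) := fun _ _ g _ _ m hm =>
  (components_of_isStronglyCartesian hF m g hm).1

include hF in
theorem vB_preserves : FibCat.PreservesStronglyCartesian (vB F) := fun _ _ g _ _ m hm =>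
  (components_of_isStronglyCartesian hF m g hm).2

omit [𝒳.p.IsFibered] [𝒴.p.IsFibered] in
include hF in
theorem uB_preserves : FibCat.PreservesStronglyCartesian (uB F) := fun _ _ g _ _ a ha =>
  isStronglyCartesian_of_components ((uF F).map a) g ha (hF g a ha) (hF g a ha)


omit [𝒴.p.IsFibered] in
include hF in
theorem vF_exists_lift (Y : Obj F) (y₀ : 𝒴.obj) (β : y₀ ⟶ Y.y) :
    ∃ (X : Obj F) (m : X ⟶ Y), (vF F).IsStronglyCartesian β m := by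
  have hβ : 𝒴.p.IsHomLift (𝒴.p.map β ≫ eqToHom Y.proj_y) β := inferInstance
  obtain ⟨g, hg⟩ : ∃ g : 𝒴.p.obj y₀ ⟶ 𝒳.p.obj Y.x, g = 𝒴.p.map β ≫ eqToHom Y.proj_y := ⟨_, rfl⟩
  rw [← hg] at hβ
  obtain ⟨x', φ, hφ⟩ : ∃ (x' : 𝒳.obj) (φ : x' ⟶ Y.x), 𝒳.p.IsStronglyCartesian g φ :=
    ⟨_, IsPreFibered.pullbackMap (p := 𝒳.p) (rfl : 𝒳.p.obj Y.x = _) g, inferInstance⟩
  have hFφ : 𝒴.p.IsStronglyCartesian g (F.map φ) := hF g φ hφ
  have h1 : 𝒴.p.IsHomLift g (β ≫ Y.f) := inferInstance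
  obtain ⟨f₀, hf₀, hfac⟩ : ∃ f₀ : y₀ ⟶ F.obj x', 𝒴.p.IsHomLift (𝟙 (𝒴.p.obj y₀)) f₀ ∧
      f₀ ≫ F.map φ = β ≫ Y.f :=
    ⟨IsStronglyCartesian.map 𝒴.p g (F.map φ) (g := 𝟙 _) (Category.id_comp g).symm (β ≫ Y.f),
      IsStronglyCartesian.map_isHomLift 𝒴.p g (F.map φ) (Category.id_comp g).symm (β ≫ Y.f),
      IsStronglyCartesian.fac 𝒴.p g (F.map φ) (Category.id_comp g).symm (β ≫ Y.f)⟩
  have hx' : 𝒳.p.obj x' = 𝒴.p.obj y₀ := IsHomLift.domain_eq 𝒳.p g φ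
  let X₀ : Obj F := ⟨x', y₀, f₀, isHomLift_id_of_eq 𝒴.p hx'.symm f₀⟩
  let m : X₀ ⟶ Y := ⟨φ, β, hfac.symm⟩
  refine ⟨X₀, m, ?_⟩
  have hm : (vF F).IsHomLift β m := IsHomLift.map (vF F) m
  refine ⟨?_⟩
  intro Z γ n hn
  change Z.y ⟶ y₀ at γ
  have hnb : γ ≫ β = n.b := @IsHomLift.eq_of_isHomLift _ _ _ _ (vF F) Z Y (γ ≫ β) n hn
  obtain ⟨g', hg'⟩ : ∃ g' : 𝒳.p.obj Z.x ⟶ 𝒴.p.obj y₀, g' = eqToHom Z.proj_y.symm ≫ 𝒴.p.map γ :=
    ⟨_, rfl⟩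
  have hγ : 𝒴.p.IsHomLift g' γ := by rw [hg']; infer_instance
  have hnb' : 𝒴.p.IsHomLift (g' ≫ g) n.b := by rw [← hnb]; infer_instance
  have hna : 𝒳.p.IsHomLift (g' ≫ g) n.a := hom_a_isHomLift_of_b n (g' ≫ g)
  obtain ⟨a', ha', hfa⟩ : ∃ a' : Z.x ⟶ x', 𝒳.p.IsHomLift g' a' ∧ a' ≫ φ = n.a :=
    ⟨IsStronglyCartesian.map 𝒳.p g φ (g := g') rfl n.a,
      IsStronglyCartesian.map_isHomLift 𝒳.p g φ rfl n.a,
      IsStronglyCartesian.fac 𝒳.p g φ rfl n.a⟩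
  have hw : γ ≫ f₀ = Z.f ≫ F.map a' := by
    have h1 : 𝒴.p.IsHomLift g' (γ ≫ f₀) := inferInstance
    have h2 : 𝒴.p.IsHomLift g' (Z.f ≫ F.map a') := inferInstance
    apply IsStronglyCartesian.ext 𝒴.p g (F.map φ) g'
    rw [Category.assoc, Category.assoc, hfac, ← Category.assoc, hnb, ← Functor.map_comp, hfa, n.w]
  let χ : Z ⟶ X₀ := ⟨a', γ, hw⟩
  refine ⟨χ, ⟨IsHomLift.map (vF F) χ, hom_ext hfa hnb⟩, ?_⟩
  rintro χ' ⟨hχ1, hχ2⟩
  have hχb : γ = χ'.b := @IsHomLift.eq_of_isHomLift _ _ _ _ (vF F) Z X₀ γ χ' hχ1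
  have hχb' : 𝒴.p.IsHomLift g' χ'.b := by rw [← hχb]; exact hγ
  have hχa : 𝒳.p.IsHomLift g' χ'.a := hom_a_isHomLift_of_b χ' g'
  apply hom_ext
  · have e1 := IsStronglyCartesian.map_uniq 𝒳.p g φ (g := g') rfl n.a χ'.a (congrArg Hom.a hχ2)
    have e2 := IsStronglyCartesian.map_uniq 𝒳.p g φ (g := g') rfl n.a a' hfa
    exact e1.trans e2.symm
  · exact hχb.symm

omit [𝒴.p.IsFibered] in
include hF in
theorem vF_isFibered : (vF F).IsFibered :=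
  IsFibered.of_exists_isStronglyCartesian (fun Y y₀ β => vF_exists_lift hF Y y₀ β)

end Fibered

end Groth.Agent.Lib.Helper31.FibFactor
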