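import Groth.Agent.Lib.Helper31.FibSiteKan

/-!
# Helper library (helper31): the functor between total categories induced by a morphism of
fibred sites, and base change of right Kan extensions along fibre inclusions
-/

set_option autoImplicit false
universe w v₁ u₁ v₂ u₂
open CategoryTheory CategoryTheory.Limits Opposite Pseudofunctor Pseudofunctor.CoGrothendieck Bicategory
open scoped CategoryTheory.Pseudofunctor.StrongTrans

set_option backward.isDefEq.respectTransparency false
set_option backward.isDefEq.respectTransparency.types false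
set_option backward.defeqAttrib.useBackward true

namespace Groth.Agent.Lib.Helper31.FibSiteMap

open Groth.Agent.Lib.Helper69 Groth.Agent.Lib.Helper31.FibSiteKan

variable {𝒮 : Type u₁} [Category.{v₁} 𝒮] {F G : Pseudofunctor (LocallyDiscrete 𝒮ᵒᵖ) Cat.{v₂, u₂}}
  (α : G ⟶ F)

/-- The fibre functor of `α` over `j`. -/
abbrev fib (j : 𝒮) : G.obj ⟨op j⟩ ⥤ F.obj ⟨op j⟩ := (α.app ⟨op j⟩).toFunctor

/-- The naturality isomorphism `α_s (f^* W) ≅ f^* (α_t W)`. -/
abbrev nat {s t : 𝒮} (f : s ⟶ t) (W : G.obj ⟨op t⟩) :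
    (fib α s).obj ((FibSite.invImage G f).obj W) ⟶ (FibSite.invImage F f).obj ((fib α t).obj W) :=
  (α.naturality f.op.toLoc).hom.toNatTrans.app W

instance {s t : 𝒮} (f : s ⟶ t) (W : G.obj ⟨op t⟩) : IsIso (nat α f W) := by
  dsimp only [nat]
  infer_instance

theorem map_ι_map (j : 𝒮) {W' W : G.obj ⟨op j⟩} (φ : W' ⟶ W) :
    (CoGrothendieck.map α).map ((ι G j).map φ) = (ι F j).map ((fib α j).map φ) := by
  ext
  · simp
  · simp [StrongTrans.naturality_id_hom_app, Cat.Hom.id_toFunctor,
      ← Category.assoc, ← Functor.map_comp]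
    have h : (G.mapId { as := op j }).inv.toNatTrans.app W ≫
        (G.mapId { as := op j }).hom.toNatTrans.app W = 𝟙 _ := by
      simp [← Cat.Hom₂.comp_app]
    rw [Category.assoc, h]
    erw [Category.comp_id]

theorem map_cart {s t : 𝒮} (f : s ⟶ t) (W : G.obj ⟨op t⟩) :
    (CoGrothendieck.map α).map (cart G f W) =
      (ι F s).map (nat α f W) ≫ cart F f ((fib α t).obj W) := by
  rw [ι_map_cart]
  ext
  · simp
  · simp

/-- The fibre inclusions intertwine `map α` and the fibre functors of `α`. -/
def ιMapIso (j : 𝒮) : ι G j ⋙ CoGrothendieck.map α ≅ fib α j ⋙ ι F j :=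
  NatIso.ofComponents (fun _ => Iso.refl _) (fun {W' W} φ => by
    dsimp only [Functor.comp_map, Iso.refl_hom]
    rw [map_ι_map]
    erw [Category.comp_id, Category.id_comp])

section Presheaf

variable {j : 𝒮}
  [∀ (P : (F.obj ⟨op j⟩)ᵒᵖ ⥤ Type w), (ι F j).op.HasPointwiseRightKanExtension P]

/-- The restriction along `map α` of the right Kan extension of `b` along `ι F j`. -/
noncomputable abbrev pullRan (b : (F.obj ⟨op j⟩)ᵒᵖ ⥤ Type w) : (∫ᶜ G)ᵒᵖ ⥤ Type w :=
  (CoGrothendieck.map α).op ⋙ (ι F j).op.ran.obj b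

/-- The counit of `pullRan`. -/
noncomputable def pullRanCounit (b : (F.obj ⟨op j⟩)ᵒᵖ ⥤ Type w) :
    (ι G j).op ⋙ pullRan α b ⟶ (fib α j).op ⋙ b where
  app W := ((ι F j).op.ranCounit.app b).app (op ((fib α j).obj W.unop))
  naturality W W' φ := by
    have h := ((ι F j).op.ranCounit.app b).naturality ((fib α j).map φ.unop).op
    dsimp at h ⊢
    rw [map_ι_map]
    exact h

theorem pullRan_existsUnique (b : (F.obj ⟨op j⟩)ᵒᵖ ⥤ Type w) (t : 𝒮) (W : G.obj ⟨op t⟩)
    (x : ∀ f : j ⟶ t, ((fib α j).op ⋙ b).obj (op ((FibSite.invImage G f).obj W))) :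
    ∃! y : (pullRan α b).obj (op ((ι G t).obj W)),
      ∀ f, (pullRanCounit α b).app (op ((FibSite.invImage G f).obj W))
        ((pullRan α b).map (cart G f W).op y) = x f := by
  have key : ∀ (f : j ⟶ t) (y : (pullRan α b).obj (op ((ι G t).obj W))),
      (pullRanCounit α b).app (op ((FibSite.invImage G f).obj W))
        ((pullRan α b).map (cart G f W).op y) =
      b.map (nat α f W).op ((projPsh F f b).app (op ((fib α t).obj W)) y) := by
    intro f y
    have h := types_congr_hom
      (((ι F j).op.ranCounit.app b).naturality (nat α f W).op)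
      (((ι F j).op.ran.obj b).map (cart F f ((fib α t).obj W)).op y)
    dsimp at h
    rw [projPsh_app_apply]
    refine Eq.trans ?_ h
    dsimp [pullRan, pullRanCounit]
    rw [map_cart, op_comp, CategoryTheory.Functor.map_comp]
    rfl
  obtain ⟨y, hy, hy'⟩ := existsUnique_ran F b ((fib α t).obj W)
    (fun f => b.map (inv (nat α f W)).op (x f))
  refine ⟨y, fun f => ?_, fun y' h' => hy' y' (fun f => ?_)⟩
  · rw [key, hy f]
    have : b.map (inv (nat α f W)).op ≫ b.map (nat α f W).op = 𝟙 _ := by
      rw [← CategoryTheory.Functor.map_comp, ← op_comp, IsIso.hom_inv_id, op_id, b.map_id]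
    exact types_congr_hom this (x f)
  · rw [← h' f, key]
    have : b.map (nat α f W).op ≫ b.map (inv (nat α f W)).op = 𝟙 _ := by
      rw [← CategoryTheory.Functor.map_comp, ← op_comp, IsIso.inv_hom_id, op_id, b.map_id]
    exact (types_congr_hom this _).symm

end Presheaf

section Sheaf

variable (J : FibSite.Topologies F) (K : FibSite.Topologies G) {j : 𝒮}
  [(ι F j).IsCocontinuous (J j) (FibSite.totalTopology F J)]
  [(ι G j).IsCocontinuous (K j) (FibSite.totalTopology G K)]
  [∀ (P : (F.obj ⟨op j⟩)ᵒᵖ ⥤ Type w), (ι F j).op.HasPointwiseRightKanExtension P]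
  [∀ (P : (G.obj ⟨op j⟩)ᵒᵖ ⥤ Type w), (ι G j).op.HasPointwiseRightKanExtension P]
  [(CoGrothendieck.map α).IsContinuous (FibSite.totalTopology G K) (FibSite.totalTopology F J)]
  [(fib α j).IsContinuous (K j) (J j)]

/-- Base change for the right adjoints of the restrictions to the fibres:
`m_* α^F_{j*} ⟶ α^G_{j*} (α_j)_*`. -/
noncomputable def baseChange :
    FibSite.coextend F J (Type w) j ⋙
      (CoGrothendieck.map α).sheafPushforwardContinuous (Type w)
        (FibSite.totalTopology G K) (FibSite.totalTopology F J) ⟶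
    (fib α j).sheafPushforwardContinuous (Type w) (K j) (J j) ⋙
      FibSite.coextend G K (Type w) j where
  app b := ObjectProperty.homMk
    (((ι G j).op.ranAdjunction (Type w)).homEquiv (pullRan α b.obj) ((fib α j).op ⋙ b.obj)
      (pullRanCounit α b.obj))
  naturality b b' φ := by
    apply Sheaf.hom_ext
    have h1 := ((ι G j).op.ranAdjunction (Type w)).homEquiv_naturality_right
      (pullRanCounit α b.obj) (Functor.whiskerLeft (fib α j).op φ.hom)
    have h2 := ((ι G j).op.ranAdjunction (Type w)).homEquiv_naturality_left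
      (Functor.whiskerLeft (CoGrothendieck.map α).op ((ι F j).op.ran.map φ.hom))
      (pullRanCounit α b'.obj)
    have h3 : ((Functor.whiskeringLeft _ _ _).obj (ι G j).op).map
          (Functor.whiskerLeft (CoGrothendieck.map α).op ((ι F j).op.ran.map φ.hom)) ≫
        pullRanCounit α b'.obj =
        pullRanCounit α b.obj ≫ Functor.whiskerLeft (fib α j).op φ.hom := by
      ext W : 2
      exact congrArg (fun β => β.app (op ((fib α j).obj W.unop)))
        ((ι F j).op.ranCounit.naturality φ.hom)
    rw [h3] at h2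
    exact h2.symm.trans h1

instance isIso_baseChange_app (b : Sheaf (J j) (Type w)) : IsIso ((baseChange α J K).app b) := by
  have h := isIso_homEquiv_of_existsUnique G ((fib α j).op ⋙ b.obj) (pullRan α b.obj)
    (pullRanCounit α b.obj) (pullRan_existsUnique α b.obj)
  have : IsIso ((sheafToPresheaf _ _).map ((baseChange α J K).app b)) := h
  exact isIso_of_fully_faithful (sheafToPresheaf _ _) _

instance isIso_baseChange : IsIso (baseChange.{w} α J K (j := j)) :=
  NatIso.isIso_of_isIso_app _

end Sheaf

end Groth.Agent.Lib.Helper31.FibSiteMap
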