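import Groth.Agent.Lib.Helper31.SheafVK
import Groth.Agent.Lib.Helper31.ConjCoprod
import Groth.Agent.Lib.Helper31.FibSiteMap
import Groth.Agent.S13510
import Groth.Agent.S13512

/-!
# Helper library (helper31): the extension functor from a fibre of a fibred site

For a fibred site `(F, J)` over a small category with small fibres, the left adjoint `extend t` of
the restriction to the fibre over `t` satisfies `restr s ∘ extend t = ∐_{f : s ⟶ t} f^*`
(naturally).  As coproducts of sheaves of sets are van Kampen, `extend t` preserves pullbacks and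
reflects isomorphisms.
-/

set_option autoImplicit false
universe u
open CategoryTheory CategoryTheory.Limits Opposite Pseudofunctor Pseudofunctor.CoGrothendieck
open FibSite

namespace Groth.Agent.Lib.Helper31.FibSiteFibre

open Groth.Agent.Lib.Helper31

variable {𝒮 : Type u} [SmallCategory 𝒮]
  (F : Pseudofunctor (LocallyDiscrete 𝒮ᵒᵖ) Cat.{u, u}) (J : FibSite.Topologies F)

section Restr

variable [∀ S : 𝒮, (ι F S).IsContinuous (J S) (FibSite.totalTopology F J)]

/-- The restrictions to the fibres jointly reflect the preservation of limits of a given shape. -/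
theorem preservesLimitsOfShape_of_restr {E : Type*} [Category* E] {D : Type} [SmallCategory D]
    (G : E ⥤ FibSite.TotSh F J (Type u))
    (h : ∀ j : 𝒮, PreservesLimitsOfShape D (G ⋙ FibSite.restr F J (Type u) j)) :
    PreservesLimitsOfShape D G := by
  refine ⟨fun {K} => ⟨fun {c} hc => ⟨?_⟩⟩⟩
  apply isLimitOfReflects (sheafToPresheaf (FibSite.totalTopology F J) (Type u))
  apply evaluationJointlyReflectsLimits
  intro X
  have h1 : IsLimit ((G ⋙ FibSite.restr F J (Type u) X.unop.base).mapCone c) :=
    isLimitOfPreserves _ hc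
  have h2 := isLimitOfPreserves (sheafToPresheaf (J X.unop.base) (Type u) ⋙
    (evaluation _ _).obj (op X.unop.fiber)) h1
  exact h2

end Restr

section Main

variable
  [∀ S : 𝒮, (ι F S).IsContinuous (J S) (FibSite.totalTopology F J)]
  [∀ S : 𝒮, (ι F S).IsCocontinuous (J S) (FibSite.totalTopology F J)]
  [∀ S : 𝒮, ((ι F S).sheafPushforwardContinuous (Type u) (J S)
    (FibSite.totalTopology F J)).IsRightAdjoint]
  [∀ (R S : 𝒮) (f : R ⟶ S), (FibSite.invImage F f).IsContinuous (J S) (J R)]
  [∀ (R S : 𝒮) (f : R ⟶ S),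
    ((FibSite.invImage F f).sheafPushforwardContinuous (Type u) (J S) (J R)).IsRightAdjoint]

/-- The adjunction `extend t ⋙ restr s ⊣ coextend s ⋙ restr t`. -/
noncomputable abbrev adj₁ (s t : 𝒮) :
    FibSite.extend F J (Type u) t ⋙ FibSite.restr F J (Type u) s ⊣
      FibSite.coextend F J (Type u) s ⋙ FibSite.restr F J (Type u) t :=
  ((ι F t).sheafAdjunctionContinuous (Type u) (J t) (FibSite.totalTopology F J)).comp
    ((ι F s).sheafAdjunctionCocontinuous (Type u) (J s) (FibSite.totalTopology F J))

/-- The injection of `f^*` into `restr s ∘ extend t`, for `f : s ⟶ t`. -/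
noncomputable def κ {s t : 𝒮} (f : s ⟶ t) :
    (FibSite.invImage F f).sheafPullback (Type u) (J t) (J s) ⟶
      FibSite.extend F J (Type u) t ⋙ FibSite.restr F J (Type u) s :=
  ConjCoprod.conj (adj₁ F J s t)
    (fun f : s ⟶ t => (FibSite.invImage F f).sheafAdjunctionContinuous (Type u) (J t) (J s))
    (fun f => FibSiteKan.proj F J f) f

/-- `restr s (extend t a)` is the coproduct of the `f^* a`, `f : s ⟶ t`. -/
noncomputable def isColimitκ (s t : 𝒮) (a : Sheaf (J t) (Type u)) :
    IsColimit (Cofan.mk ((FibSite.extend F J (Type u) t ⋙ FibSite.restr F J (Type u) s).obj a)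
      (fun f : s ⟶ t => (κ F J f).app a)) :=
  ConjCoprod.isColimitCofan (adj₁ F J s t)
    (fun f : s ⟶ t => (FibSite.invImage F f).sheafAdjunctionContinuous (Type u) (J t) (J s))
    (fun f => FibSiteKan.proj F J f)
    (fun d => FibSiteKan.isLimitProjFan F J d) a

/-- The naturality squares of the injections `κ` are cartesian. -/
theorem isPullback_κ {s t : 𝒮} (f : s ⟶ t) {X Y : Sheaf (J t) (Type u)} (φ : X ⟶ Y) :
    IsPullback ((κ F J f).app X)
      (((FibSite.invImage F f).sheafPullback (Type u) (J t) (J s)).map φ)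
      ((FibSite.extend F J (Type u) t ⋙ FibSite.restr F J (Type u) s).map φ)
      ((κ F J f).app Y) :=
  SheafVK.isPullback_of_cofan (fun c hc => SheafVK.isVanKampenColimit_sheaf (J s) c hc)
    (fun f : s ⟶ t => κ F J f) (isColimitκ F J s t) φ f

/-- Inverse image along the identity is the identity. -/
noncomputable def pullbackIdIso (t : 𝒮) :
    (FibSite.invImage F (𝟙 t)).sheafPullback (Type u) (J t) (J t) ≅ 𝟭 _ :=
  (conjugateIsoEquiv Adjunction.id
    ((FibSite.invImage F (𝟙 t)).sheafAdjunctionContinuous (Type u) (J t) (J t))).symm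
    (Functor.sheafPushforwardContinuousId'
      (show FibSite.invImage F (𝟙 t) ≅ 𝟭 _ from Cat.Hom.toNatIso (F.mapId ⟨op t⟩))
      (Type u) (J t)).symm

variable {F J} in
theorem preservesPullbacks_extend_restr (hF : FibSite.IsFibSite F J) (s t : 𝒮) :
    PreservesLimitsOfShape WalkingCospan
      (FibSite.extend F J (Type u) t ⋙ FibSite.restr F J (Type u) s) := by
  have : ∀ f : s ⟶ t, PreservesLimitsOfShape WalkingCospan
      ((FibSite.invImage F f).sheafPullback (Type u) (J t) (J s)) := fun f => by
    obtain ⟨_, _, h⟩ := hF f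
    infer_instance
  exact SheafVK.preservesPullbacks_of_cofan
    (fun c hc => SheafVK.isVanKampenColimit_sheaf (J s) c hc)
    (fun f : s ⟶ t => κ F J f) (isColimitκ F J s t)

variable {F J} in
/-- The extension functor from a fibre of a fibred site preserves pullbacks. -/
theorem preservesPullbacks_extend (hF : FibSite.IsFibSite F J) (t : 𝒮) :
    PreservesLimitsOfShape WalkingCospan (FibSite.extend F J (Type u) t) :=
  preservesLimitsOfShape_of_restr F J _ (fun s => preservesPullbacks_extend_restr hF s t)

/-- The extension functor from a fibre of a fibred site reflects isomorphisms. -/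
theorem reflectsIsomorphisms_extend (t : 𝒮) :
    (FibSite.extend F J (Type u) t).ReflectsIsomorphisms := by
  refine ⟨fun {X Y} φ hφ => ?_⟩
  have h1 : IsIso ((FibSite.extend F J (Type u) t ⋙ FibSite.restr F J (Type u) t).map φ) := by
    rw [Functor.comp_map]
    infer_instance
  have h2 : IsIso (((FibSite.invImage F (𝟙 t)).sheafPullback (Type u) (J t) (J t)).map φ) :=
    SheafVK.isIso_map_of_cofan (fun c hc => SheafVK.isVanKampenColimit_sheaf (J t) c hc)
      (fun f : t ⟶ t => κ F J f) (isColimitκ F J t t) φ (𝟙 t)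
  exact (NatIso.isIso_map_iff (pullbackIdIso F J t) φ).1 h2

/-- A functor into a fibre whose composite with the fibre inclusion is continuous for the total
topology is continuous for the topology of the fibre. -/
theorem isContinuous_of_comp_ι {C' : Type u} [Category.{u} C'] (K' : GrothendieckTopology C')
    (S : 𝒮) (b : C' ⥤ F.obj ⟨op S⟩)
    [(b ⋙ ι F S).IsContinuous K' (FibSite.totalTopology F J)] :
    b.IsContinuous K' (J S) := by
  refine ⟨fun P => (isSheaf_iff_isSheaf_of_type _ _).1 ?_⟩
  let Φ : Sheaf (J S) (Type u) ⥤ C'ᵒᵖ ⥤ Type u :=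
    sheafToPresheaf _ _ ⋙ (Functor.whiskeringLeft _ _ _).obj b.op
  let L₁ := FibSite.extend F J (Type u) S ⋙ FibSite.restr F J (Type u) S
  let Lid := (FibSite.invImage F (𝟙 S)).sheafPullback (Type u) (J S) (J S)
  let η : P ⟶ L₁.obj P :=
    ((ι F S).sheafAdjunctionContinuous (Type u) (J S) (FibSite.totalTopology F J)).unit.app P
  have sq := isPullback_κ F J (𝟙 S) η
  have hL₁ : ∀ X, Presheaf.IsSheaf K' (Φ.obj (L₁.obj X)) := fun X =>
    Functor.op_comp_isSheaf (b ⋙ ι F S) K' (FibSite.totalTopology F J)
      ((FibSite.extend F J (Type u) S).obj X)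
  have hlim := (sq.map Φ).isLimit
  have h1 : Presheaf.IsSheaf K' (Φ.obj (Lid.obj P)) := by
    refine ObjectProperty.prop_of_isLimit (P := Presheaf.IsSheaf K') hlim ?_
    rintro (_ | _ | _)
    · exact hL₁ _
    · exact hL₁ _
    · exact (Presheaf.isSheaf_of_iso_iff (Φ.mapIso ((pullbackIdIso F J S).app (L₁.obj P)))).2
        (hL₁ _)
  exact (Presheaf.isSheaf_of_iso_iff (Φ.mapIso ((pullbackIdIso F J S).app P))).1 h1

end Main

end Groth.Agent.Lib.Helper31.FibSiteFibre
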