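import Groth.Prelude.Def_FibSite
import Groth.Agent.Lib.Helper69.FibSite2
import Mathlib.CategoryTheory.Limits.Types.Limits
import Mathlib.CategoryTheory.Limits.FunctorCategory.Basic

/-!
# Helper library (helper31): Kan extensions along the fibre inclusions of a fibred site

For `f : s ⟶ t` in the base, `cart F f V : ⟨s, f^* V⟩ ⟶ ⟨t, V⟩` is the cartesian lift.  We show
that the restriction to the fibre over `t` of the right Kan extension along the fibre inclusion
`ι F s` of a presheaf `P` on the fibre over `s` is the product over `f : s ⟶ t` of the presheaves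
`P ∘ (f^*)ᵒᵖ`.
-/

set_option autoImplicit false
universe w v₁ u₁ v₂ u₂
open CategoryTheory CategoryTheory.Limits Opposite Pseudofunctor Pseudofunctor.CoGrothendieck Bicategory

set_option backward.isDefEq.respectTransparency false
set_option backward.isDefEq.respectTransparency.types false
set_option backward.defeqAttrib.useBackward true

namespace Groth.Agent.Lib.Helper31.FibSiteKan

open Groth.Agent.Lib.Helper69

variable {𝒮 : Type u₁} [Category.{v₁} 𝒮] (F : Pseudofunctor (LocallyDiscrete 𝒮ᵒᵖ) Cat.{v₂, u₂})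

/-- The cartesian lift `⟨s, f^* V⟩ ⟶ ⟨t, V⟩` of `f : s ⟶ t`. -/
abbrev cart {s t : 𝒮} (f : s ⟶ t) (V : F.obj ⟨op t⟩) :
    (ι F s).obj ((FibSite.invImage F f).obj V) ⟶ (ι F t).obj V :=
  ⟨f, 𝟙 _⟩

theorem ι_map_cart {s t : 𝒮} (f : s ⟶ t) (V : F.obj ⟨op t⟩) {U : F.obj ⟨op s⟩}
    (h : U ⟶ (FibSite.invImage F f).obj V) :
    (ι F s).map h ≫ cart F f V = (⟨f, h⟩ : (⟨s, U⟩ : ∫ᶜ F) ⟶ ⟨t, V⟩) := by
  refine (ι_map_comp F (cart F f V) h).trans ?_
  show (⟨f, h ≫ 𝟙 _⟩ : (⟨s, U⟩ : ∫ᶜ F) ⟶ ⟨t, V⟩) = ⟨f, h⟩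
  rw [Category.comp_id]

theorem cart_ι_map {s t : 𝒮} (f : s ⟶ t) {V' V : F.obj ⟨op t⟩} (ψ : V' ⟶ V) :
    cart F f V' ≫ (ι F t).map ψ =
      (ι F s).map ((FibSite.invImage F f).map ψ) ≫ cart F f V := by
  refine (comp_ι_map F f (𝟙 ((FibSite.invImage F f).obj V')) ψ).trans ?_
  refine Eq.trans ?_ (ι_map_cart F f V ((FibSite.invImage F f).map ψ)).symm
  show (⟨f, 𝟙 _ ≫ (FibSite.invImage F f).map ψ⟩ : (⟨s, _⟩ : ∫ᶜ F) ⟶ ⟨t, V⟩) = ⟨f, _⟩
  rw [Category.id_comp]

theorem eq_ι_map_cart {s t : 𝒮} {U : F.obj ⟨op s⟩} {V : F.obj ⟨op t⟩}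
    (g : (⟨s, U⟩ : ∫ᶜ F) ⟶ ⟨t, V⟩) :
    g = (ι F s).map g.fiber ≫ cart F g.base V :=
  (ι_map_cart F g.base V g.fiber).symm

section Presheaf

variable {s t : 𝒮}
  [∀ (P : (F.obj ⟨op s⟩)ᵒᵖ ⥤ Type w), (ι F s).op.HasPointwiseRightKanExtension P]

/-- The projection from the restriction to the fibre over `t` of the right Kan extension along
`ι F s` to the direct image along `f^*`. -/
noncomputable def projPsh (f : s ⟶ t) (P : (F.obj ⟨op s⟩)ᵒᵖ ⥤ Type w) :
    (ι F t).op ⋙ (ι F s).op.ran.obj P ⟶ (FibSite.invImage F f).op ⋙ P where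
  app V := ((ι F s).op.ran.obj P).map (cart F f V.unop).op ≫
    ((ι F s).op.ranCounit.app P).app (op ((FibSite.invImage F f).obj V.unop))
  naturality V V' ψ := by
    have h1 := cart_ι_map F f ψ.unop
    have h2 := ((ι F s).op.ranCounit.app P).naturality ((FibSite.invImage F f).map ψ.unop).op
    dsimp at h2 ⊢
    rw [← Category.assoc, ← Functor.map_comp, ← op_comp, h1, op_comp, Functor.map_comp,
      Category.assoc, Category.assoc]
    congr 1

omit [∀ (P : (F.obj ⟨op s⟩)ᵒᵖ ⥤ Type w), (ι F s).op.HasPointwiseRightKanExtension P] in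
theorem projPsh_app_apply (f : s ⟶ t) (P : (F.obj ⟨op s⟩)ᵒᵖ ⥤ Type w)
    [∀ (P : (F.obj ⟨op s⟩)ᵒᵖ ⥤ Type w), (ι F s).op.HasPointwiseRightKanExtension P]
    (V : F.obj ⟨op t⟩) (y : ((ι F s).op.ran.obj P).obj (op ((ι F t).obj V))) :
    (projPsh F f P).app (op V) y =
      ((ι F s).op.ranCounit.app P).app (op ((FibSite.invImage F f).obj V))
        (((ι F s).op.ran.obj P).map (cart F f V).op y) := rfl

/-- Every projection of the limit cone computing the right Kan extension at an object of the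
fibre over `t` factors through one of the projections `projPsh`. -/
theorem ran_map_counit (P : (F.obj ⟨op s⟩)ᵒᵖ ⥤ Type w) {U : F.obj ⟨op s⟩} {V : F.obj ⟨op t⟩}
    (g : (⟨s, U⟩ : ∫ᶜ F) ⟶ ⟨t, V⟩) :
    ((ι F s).op.ran.obj P).map g.op ≫ ((ι F s).op.ranCounit.app P).app (op U) =
      (projPsh F g.base P).app (op V) ≫ P.map g.fiber.op := by
  have h2 := ((ι F s).op.ranCounit.app P).naturality g.fiber.op
  dsimp at h2
  have h1 : g.op = (cart F g.base V).op ≫ ((ι F s).map g.fiber).op := by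
    rw [← op_comp, ← eq_ι_map_cart]
  rw [h1, Functor.map_comp]
  dsimp [projPsh]
  rw [Category.assoc, Category.assoc]
  congr 1

/-- The value at `g` of the compatible family attached to a family `x`. -/
def famVal (P : (F.obj ⟨op s⟩)ᵒᵖ ⥤ Type w) (V : F.obj ⟨op t⟩)
    (x : ∀ f : s ⟶ t, P.obj (op ((FibSite.invImage F f).obj V)))
    {U : F.obj ⟨op s⟩} (g : (⟨s, U⟩ : ∫ᶜ F) ⟶ ⟨t, V⟩) : P.obj (op U) :=
  P.map g.fiber.op (x g.base)

omit [∀ (P : (F.obj ⟨op s⟩)ᵒᵖ ⥤ Type w), (ι F s).op.HasPointwiseRightKanExtension P] in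
theorem famVal_ι_map_comp (P : (F.obj ⟨op s⟩)ᵒᵖ ⥤ Type w) (V : F.obj ⟨op t⟩)
    (x : ∀ f : s ⟶ t, P.obj (op ((FibSite.invImage F f).obj V)))
    {U U' : F.obj ⟨op s⟩} (k : U' ⟶ U) (g : (⟨s, U⟩ : ∫ᶜ F) ⟶ ⟨t, V⟩) :
    famVal F P V x ((ι F s).map k ≫ g) = P.map k.op (famVal F P V x g) := by
  have h := ι_map_comp F g k
  have : famVal F P V x ((ι F s).map k ≫ g) =
      famVal F P V x (⟨g.base, k ≫ g.fiber⟩ : (⟨s, U'⟩ : ∫ᶜ F) ⟶ ⟨t, V⟩) := congrArg _ h
  rw [this]
  simp only [famVal, op_comp, Functor.map_comp, types_comp_apply]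

omit [∀ (P : (F.obj ⟨op s⟩)ᵒᵖ ⥤ Type w), (ι F s).op.HasPointwiseRightKanExtension P] in
theorem famVal_cart (P : (F.obj ⟨op s⟩)ᵒᵖ ⥤ Type w) (V : F.obj ⟨op t⟩)
    (x : ∀ f : s ⟶ t, P.obj (op ((FibSite.invImage F f).obj V))) (f : s ⟶ t) :
    famVal F P V x (cart F f V) = x f := by
  show P.map (𝟙 ((FibSite.invImage F f).obj V)).op (x f) = x f
  rw [op_id, P.map_id]
  rfl

/-- The restriction to the fibre over `t` of the right Kan extension along `ι F s` is, sectionwise,
the product over `f : s ⟶ t` of the values at `f^* V`. -/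
theorem existsUnique_ran (P : (F.obj ⟨op s⟩)ᵒᵖ ⥤ Type w) (V : F.obj ⟨op t⟩)
    (x : ∀ f : s ⟶ t, P.obj (op ((FibSite.invImage F f).obj V))) :
    ∃! y : ((ι F s).op.ran.obj P).obj (op ((ι F t).obj V)),
      ∀ f, (projPsh F f P).app (op V) y = x f := by
  have hl : IsLimit ((Functor.RightExtension.mk _ ((ι F s).op.ranCounit.app P)).coneAt
      (op ((ι F t).obj V))) :=
    (ι F s).op.isPointwiseRightKanExtensionRanCounit P (op ((ι F t).obj V))
  let e := Types.isLimitEquivSections hl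
  let σ : (StructuredArrow.proj (op ((ι F t).obj V)) (ι F s).op ⋙ P).sections :=
    ⟨fun X => famVal F P V x (U := X.right.unop) X.hom.unop, by
      intro X X' m
      have hw := StructuredArrow.w m
      have hw' : X'.hom.unop = (ι F s).map m.right.unop ≫ X.hom.unop := by
        rw [← hw]; rfl
      change P.map m.right (famVal F P V x (U := X.right.unop) X.hom.unop) =
        famVal F P V x (U := X'.right.unop) X'.hom.unop
      rw [hw', famVal_ι_map_comp]
      rfl⟩
  have key : ∀ (y : ((ι F s).op.ran.obj P).obj (op ((ι F t).obj V)))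
      (X : StructuredArrow (op ((ι F t).obj V)) (ι F s).op)
      (g : (⟨s, X.right.unop⟩ : ∫ᶜ F) ⟶ ⟨t, V⟩) (_ : g = X.hom.unop),
      (e y).1 X = P.map g.fiber.op ((projPsh F g.base P).app (op V) y) := by
    intro y X g hg
    subst hg
    exact types_congr_hom (ran_map_counit F P (U := X.right.unop) (V := V) X.hom.unop) y
  refine ⟨e.symm σ, ?_, ?_⟩
  · intro f
    have h1 := Types.isLimitEquivSections_symm_apply hl σ
      (StructuredArrow.mk (Y := op ((FibSite.invImage F f).obj V)) (cart F f V).op)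
    refine Eq.trans ?_ (h1.trans (famVal_cart F P V x f))
    rfl
  · intro y' hy'
    apply e.injective
    rw [Equiv.apply_symm_apply]
    apply Subtype.ext
    funext X
    rw [key y' X _ rfl, hy']
    rfl

end Presheaf

section Sheaf

variable (J : FibSite.Topologies F) {s t : 𝒮}
  [(ι F s).IsCocontinuous (J s) (FibSite.totalTopology F J)]
  [(ι F t).IsContinuous (J t) (FibSite.totalTopology F J)]
  [∀ (P : (F.obj ⟨op s⟩)ᵒᵖ ⥤ Type w), (ι F s).op.HasPointwiseRightKanExtension P]

/-- The projection `α_t^* α_{s*} ⟶ (f^*)_*` on sheaves, natural in the sheaf. -/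
noncomputable def proj (f : s ⟶ t) [(FibSite.invImage F f).IsContinuous (J t) (J s)] :
    FibSite.coextend F J (Type w) s ⋙ FibSite.restr F J (Type w) t ⟶
      (FibSite.invImage F f).sheafPushforwardContinuous (Type w) (J t) (J s) where
  app a := ObjectProperty.homMk (projPsh F f a.obj)
  naturality a a' φ := by
    apply Sheaf.hom_ext
    ext V y
    have h1 := types_congr_hom (((ι F s).op.ran.map φ.hom).naturality (cart F f V.unop).op) y
    have h2 := types_congr_hom (congrArg (fun α => α.app (op ((FibSite.invImage F f).obj V.unop)))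
      ((ι F s).op.ranCounit.naturality φ.hom))
      (((ι F s).op.ran.obj a.obj).map (cart F f V.unop).op y)
    dsimp at h1 h2
    change ((ι F s).op.ranCounit.app a'.obj).app (op ((FibSite.invImage F f).obj V.unop))
        (((ι F s).op.ran.obj a'.obj).map (cart F f V.unop).op
          (((ι F s).op.ran.map φ.hom).app (op ((ι F t).obj V.unop)) y)) =
      φ.hom.app (op ((FibSite.invImage F f).obj V.unop))
        (((ι F s).op.ranCounit.app a.obj).app (op ((FibSite.invImage F f).obj V.unop))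
          (((ι F s).op.ran.obj a.obj).map (cart F f V.unop).op y))
    exact (congrArg _ h1.symm).trans h2

variable [∀ f : s ⟶ t, (FibSite.invImage F f).IsContinuous (J t) (J s)]

/-- The fan `α_t^* α_{s*} a ⟶ (f^*)_* a`, `f : s ⟶ t`. -/
noncomputable def projFan (a : Sheaf (J s) (Type w)) :
    Fan fun f : s ⟶ t =>
      ((FibSite.invImage F f).sheafPushforwardContinuous (Type w) (J t) (J s)).obj a :=
  Fan.mk ((FibSite.restr F J (Type w) t).obj ((FibSite.coextend F J (Type w) s).obj a))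
    (fun f => (proj F J f).app a)

/-- `α_t^* α_{s*} a` is the product of the `(f^*)_* a`, `f : s ⟶ t`. -/
noncomputable def isLimitProjFan (a : Sheaf (J s) (Type w)) : IsLimit (projFan F J (t := t) a) := by
  apply isLimitOfReflects (sheafToPresheaf (J t) (Type w))
  apply evaluationJointlyReflectsLimits
  intro V
  refine ((Types.isLimit_iff _).2 ?_).some
  intro x _
  obtain ⟨y, hy, hy'⟩ := existsUnique_ran F a.obj V.unop (fun f => x ⟨f⟩)
  refine ⟨y, ?_, ?_⟩
  · rintro ⟨f⟩
    exact hy f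
  · intro y' h'
    exact hy' y' (fun f => h' ⟨f⟩)

end Sheaf

section Recognition

variable {s : 𝒮}
  [∀ (P : (F.obj ⟨op s⟩)ᵒᵖ ⥤ Type w), (ι F s).op.HasPointwiseRightKanExtension P]

/-- Recognition of the right Kan extension along a fibre inclusion: a presheaf `E` on the total
category with a map `ε' : E ∘ ι_s ⟶ P` satisfying the sectionwise product formula is isomorphic,
through the canonical map, to the right Kan extension of `P`. -/
theorem isIso_homEquiv_of_existsUnique (P : (F.obj ⟨op s⟩)ᵒᵖ ⥤ Type w)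
    (E : (∫ᶜ F)ᵒᵖ ⥤ Type w) (ε' : (ι F s).op ⋙ E ⟶ P)
    (h : ∀ (t : 𝒮) (V : F.obj ⟨op t⟩)
      (x : ∀ f : s ⟶ t, P.obj (op ((FibSite.invImage F f).obj V))),
      ∃! y : E.obj (op ((ι F t).obj V)),
        ∀ f, ε'.app (op ((FibSite.invImage F f).obj V)) (E.map (cart F f V).op y) = x f) :
    IsIso (((ι F s).op.ranAdjunction (Type w)).homEquiv E P ε') := by
  set κ := ((ι F s).op.ranAdjunction (Type w)).homEquiv E P ε' with hκ
  have hκε : Functor.whiskerLeft (ι F s).op κ ≫ (ι F s).op.ranCounit.app P = ε' := by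
    have h2 := (((ι F s).op.ranAdjunction (Type w)).homEquiv E P).symm_apply_apply ε'
    rw [Adjunction.homEquiv_counit, Functor.ranAdjunction_counit] at h2
    exact h2
  have key : ∀ (t : 𝒮) (V : F.obj ⟨op t⟩) (f : s ⟶ t) (y : E.obj (op ((ι F t).obj V))),
      (projPsh F f P).app (op V) (κ.app (op ((ι F t).obj V)) y) =
        ε'.app (op ((FibSite.invImage F f).obj V)) (E.map (cart F f V).op y) := by
    intro t V f y
    have h1 := types_congr_hom (κ.naturality (cart F f V).op) y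
    have h2 := types_congr_hom (congrArg (fun β => β.app (op ((FibSite.invImage F f).obj V))) hκε)
      (E.map (cart F f V).op y)
    dsimp at h1 h2
    rw [projPsh_app_apply, ← h1]
    exact h2
  apply (config := { allowSynthFailures := true }) NatIso.isIso_of_isIso_app
  intro X
  obtain ⟨⟨t, V⟩⟩ := X
  rw [isIso_iff_bijective]
  constructor
  · intro y y' hyy'
    obtain ⟨z, _, hz⟩ := h t V
      (fun f => ε'.app (op ((FibSite.invImage F f).obj V)) (E.map (cart F f V).op y))
    have e1 : y = z := hz y (fun f => rfl)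
    have e2 : y' = z := hz y' (fun f => by
      rw [← key t V f y', ← key t V f y]
      exact congrArg _ hyy'.symm)
    rw [e1, e2]
  · intro z
    obtain ⟨y, hy, _⟩ := h t V (fun f => (projPsh F f P).app (op V) z)
    refine ⟨y, ?_⟩
    obtain ⟨z', _, hz'⟩ := existsUnique_ran F P V (fun f => (projPsh F f P).app (op V) z)
    have e1 : z = z' := hz' z (fun f => rfl)
    have e2 : κ.app (op ((ι F t).obj V)) y = z' := hz' _ (fun f => by rw [key t V f y, hy f])
    rw [e1]
    exact e2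

end Recognition

end Groth.Agent.Lib.Helper31.FibSiteKan
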