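import Mathlib.CategoryTheory.Limits.Constructions.FiniteProductsOfBinaryProducts
import Mathlib.CategoryTheory.Limits.Constructions.LimitsOfProductsAndEqualizers
import Mathlib.CategoryTheory.FinCategory.Basic

set_option autoImplicit false
open CategoryTheory CategoryTheory.Limits
universe w v u

namespace Groth.Agent.Lib.Helper31

variable {C : Type u} [Category.{v} C]

theorem hasProduct_fin_succ [HasBinaryProducts C] : ∀ (n : ℕ) (f : Fin (n + 1) → C), HasProduct f
  | 0 => fun f => by
    have : Subsingleton (Fin (0 + 1)) := inferInstanceAs (Subsingleton (Fin 1))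
    have : Nonempty (Fin (0 + 1)) := ⟨0⟩
    infer_instance
  | n + 1 => fun f =>
    have := hasProduct_fin_succ n
    HasLimit.mk ⟨_, extendFanIsLimit f (limit.isLimit _) (limit.isLimit _)⟩

theorem hasProduct_of_nonempty_finite [HasBinaryProducts C] {ι : Type w} [Finite ι] [Nonempty ι]
    (f : ι → C) : HasProduct f := by
  obtain ⟨n, ⟨e⟩⟩ := Finite.exists_equiv_fin ι
  cases n with
  | zero => exact (IsEmpty.false (e (Classical.arbitrary ι))).elim
  | succ n =>
    have := hasProduct_fin_succ n (fun i => f (e.symm i))
    exact hasProduct_of_equiv_of_iso (fun i => f (e.symm i)) f e (fun j => eqToIso (by simp))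

theorem hasLimitsOfShape_of_nonempty_fin [HasBinaryProducts C] [HasEqualizers C]
    (J : Type w) [SmallCategory J] [FinCategory J] [Nonempty J] : HasLimitsOfShape J C := by
  constructor
  intro F
  have : HasLimit (Discrete.functor F.obj) := hasProduct_of_nonempty_finite _
  have : Nonempty (Σ p : J × J, p.1 ⟶ p.2) := ⟨⟨(Classical.arbitrary J, Classical.arbitrary J), 𝟙 _⟩⟩
  have : Finite (Σ p : J × J, p.1 ⟶ p.2) := by
    have : ∀ p : J × J, Finite (p.1 ⟶ p.2) := fun p => inferInstance
    infer_instance
  have : HasLimit (Discrete.functor fun f : Σ p : J × J, p.1 ⟶ p.2 => F.obj f.1.2) :=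
    hasProduct_of_nonempty_finite _
  exact hasLimit_of_equalizer_and_product F

end Groth.Agent.Lib.Helper31
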