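import Mathlib.CategoryTheory.Limits.Final
import Mathlib.CategoryTheory.Limits.IsConnected
import Mathlib.CategoryTheory.FinCategory.Basic
import Mathlib.CategoryTheory.Category.Preorder
import Mathlib.CategoryTheory.MorphismProperty.Composition
import Mathlib.Data.Fintype.Sum
import Mathlib.Data.Finite.Sum

set_option autoImplicit false
open CategoryTheory
universe v u w

namespace Groth.Agent.Lib.Helper31

namespace FinPresCat

/-- Objects of the subdivision poset. -/
inductive Obj (I : Type u) (G : Type w) : Type (max u w)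
  | y (x : I) : Obj I G
  | z (x : I) : Obj I G
  | w (g : G) : Obj I G

namespace Obj

variable {I : Type u} {G : Type w}

/-- `Obj I G` is a sum. -/
def equivSum : Obj I G ≃ (I ⊕ I) ⊕ G where
  toFun
    | y x => Sum.inl (Sum.inl x)
    | z x => Sum.inl (Sum.inr x)
    | w g => Sum.inr g
  invFun
    | Sum.inl (Sum.inl x) => y x
    | Sum.inl (Sum.inr x) => z x
    | Sum.inr g => w g
  left_inv a := by cases a <;> rfl
  right_inv a := by rcases a with (x | x) | g <;> rfl

instance [Finite I] [Finite G] : Finite (Obj I G) := Finite.of_equiv _ equivSum.symm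

end Obj

section

variable {I : Type u} [Category.{v} I] {G : Type w} (src tgt : G → I)

open Obj

/-- The order relation. -/
def le : Obj I G → Obj I G → Prop
  | y x, y x' => x = x'
  | z x, z x' => x = x'
  | w g, w g' => g = g'
  | y x, w g => src g = x
  | z x, w g => tgt g = x
  | _, _ => False

/-- A synonym carrying the preorder. -/
def P (_src _tgt : G → I) : Type (max u w) := Obj I G

instance : Preorder (P src tgt) where
  le := le src tgt
  le_refl a := by cases a <;> simp [le]
  le_trans a b c := by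
    cases a <;> cases b <;> cases c <;> simp only [le] <;> intros <;> simp_all

variable {src tgt} (arr : ∀ g, src g ⟶ tgt g)

/-- object map -/
def fobj : P src tgt → I
  | y x => x
  | z x => x
  | w g => tgt g

/-- morphism map -/
def fmap : ∀ (a b : P src tgt), le src tgt a b → (fobj a ⟶ fobj b)
  | y _, y _, h => eqToHom h
  | z _, z _, h => eqToHom h
  | w _, w _, h => eqToHom (congrArg tgt h)
  | y _, w g, h => eqToHom h.symm ≫ arr g
  | z _, w _, h => eqToHom h.symm
  | y _, z _, h => False.elim h
  | z _, y _, h => False.elim h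
  | w _, y _, h => False.elim h
  | w _, z _, h => False.elim h

/-- The functor from the subdivision poset. -/
def F : P src tgt ⥤ I where
  obj := fobj
  map {a b} f := fmap arr a b (leOfHom f)
  map_id a := by cases a <;> simp [fmap]
  map_comp {a b c} f g := by
    have hf := leOfHom f
    have hg := leOfHom g
    cases a <;> cases b <;> cases c <;>
      first
      | exact (hf : False).elim
      | exact (hg : False).elim
      | (change _ = _ at hf; change _ = _ at hg; subst hf; subst hg; simp [fmap])


variable (src tgt) in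
/-- constructor -/
def py (x : I) : P src tgt := Obj.y x
variable (src tgt) in
/-- constructor -/
def pz (x : I) : P src tgt := Obj.z x
variable (src tgt) in
/-- constructor -/
def pw (g : G) : P src tgt := Obj.w g

omit [Category.{v} I] in
theorem y_le_w (g : G) : py src tgt (src g) ≤ pw src tgt g := (rfl : src g = src g)
omit [Category.{v} I] in
theorem z_le_w (g : G) : pz src tgt (tgt g) ≤ pw src tgt g := (rfl : tgt g = tgt g)

@[simp] theorem F_obj_y (x : I) : (F arr).obj (py src tgt x) = x := rfl
@[simp] theorem F_obj_z (x : I) : (F arr).obj (pz src tgt x) = x := rfl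
@[simp] theorem F_obj_w (g : G) : (F arr).obj (pw src tgt g) = tgt g := rfl

theorem F_map_yw (g : G) : (F arr).map (homOfLE (y_le_w g)) = arr g := by
  simp only [F, fmap, py, pw]
  exact Category.id_comp _

theorem F_map_zw (g : G) : (F arr).map (homOfLE (z_le_w g)) = 𝟙 (tgt g) := by
  simp only [F, fmap, pz, pw]
  rfl

end

section concrete

variable {I : Type u} [Category.{v} I] (gen : Finset (Σ x y : I, x ⟶ y))

/-- generators together with identities -/
abbrev Gen : Type (max u v) := I ⊕ {a // a ∈ gen}

/-- source -/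
def gsrc : Gen gen → I
  | Sum.inl x => x
  | Sum.inr a => a.1.1

/-- target -/
def gtgt : Gen gen → I
  | Sum.inl x => x
  | Sum.inr a => a.1.2.1

/-- the arrow -/
def garr : ∀ g : Gen gen, gsrc gen g ⟶ gtgt gen g
  | Sum.inl x => 𝟙 x
  | Sum.inr a => a.1.2.2

/-- the subdivision poset -/
abbrev J0 : Type (max u v) := P (gsrc gen) (gtgt gen)

/-- the functor -/
abbrev F0 : J0 gen ⥤ I := F (garr gen)

instance [Finite I] : Finite (J0 gen) := inferInstanceAs (Finite (Obj I (Gen gen)))

variable {gen}

section final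

variable {x : I}

/-- structured arrow at a `y`-object -/
def Ya {x' : I} (a : x ⟶ x') : StructuredArrow x (F0 gen) :=
  StructuredArrow.mk (Y := py _ _ x') a

/-- structured arrow at a `z`-object -/
def Za {x' : I} (a : x ⟶ x') : StructuredArrow x (F0 gen) :=
  StructuredArrow.mk (Y := pz _ _ x') a

/-- structured arrow at a `w`-object -/
def Wa (g : Gen gen) (a : x ⟶ gtgt gen g) : StructuredArrow x (F0 gen) :=
  StructuredArrow.mk (Y := pw _ _ g) a

theorem zig_ZW (g : Gen gen) (a : x ⟶ gtgt gen g) : Zigzag (Za a) (Wa g a) := by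
  refine Zigzag.of_hom (StructuredArrow.homMk (homOfLE (z_le_w g)) ?_)
  simp only [Za, Wa, StructuredArrow.mk_hom_eq_self]
  rw [F_map_zw]
  exact Category.comp_id _

theorem zig_YW (g : Gen gen) (a : x ⟶ gsrc gen g) (b : x ⟶ gtgt gen g)
    (hb : a ≫ garr gen g = b) : Zigzag (Ya a) (Wa g b) := by
  refine Zigzag.of_hom (StructuredArrow.homMk (homOfLE (y_le_w g)) ?_)
  simp only [Ya, Wa, StructuredArrow.mk_hom_eq_self]
  rw [F_map_yw]
  exact hb

theorem zig_YZ {x' : I} (a : x ⟶ x') : Zigzag (Ya (gen := gen) a) (Za a) := by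
  have h1 := zig_YW (gen := gen) (Sum.inl x') a a (Category.comp_id a)
  have h2 := zig_ZW (gen := gen) (Sum.inl x') a
  exact h1.trans h2.symm

theorem zig_gen (g : Gen gen) (a : x ⟶ gsrc gen g) :
    Zigzag (Ya (gen := gen) a) (Ya (gen := gen) (a ≫ garr gen g)) :=
  (zig_YW g a _ rfl).trans ((zig_ZW g _).symm.trans (zig_YZ _).symm)

variable (gen) in
/-- the morphism property used in the induction -/
def PF (x : I) : MorphismProperty I := fun x' _ b =>
  ∀ a : x ⟶ x', Zigzag (Ya (gen := gen) a) (Ya (gen := gen) (a ≫ b))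

instance : (PF gen x).IsMultiplicative where
  id_mem x' := fun a => by rw [Category.comp_id]
  comp_mem b b' hb hb' := fun a => by
    have := (hb a).trans (hb' (a ≫ b))
    rwa [Category.assoc] at this

theorem PF_gen : ∀ a ∈ gen, PF gen x a.2.2 := fun a ha c => zig_gen (Sum.inr ⟨a, ha⟩) c

end final

theorem final_F0
    (hgen : ∀ P : MorphismProperty I, P.IsMultiplicative → (∀ a ∈ gen, P a.2.2) → P = ⊤) :
    (F0 gen).Final := ⟨fun x => by
  have htop := hgen (PF gen x) inferInstance PF_gen
  have hall : ∀ {x'} (b : x ⟶ x'), Zigzag (Ya (gen := gen) (𝟙 x)) (Ya b) := by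
    intro x' b
    have : PF gen x b := by rw [htop]; trivial
    have := this (𝟙 x)
    rwa [Category.id_comp] at this
  haveI : Nonempty (StructuredArrow x (F0 gen)) := ⟨Ya (𝟙 x)⟩
  apply zigzag_isConnected
  have hbase : ∀ X : StructuredArrow x (F0 gen), Zigzag (Ya (gen := gen) (𝟙 x)) X := by
    rintro ⟨⟨⟨⟩⟩, j, a⟩
    cases j with
    | y x' => exact hall a
    | z x' => exact (hall a).trans (zig_YZ a)
    | w g => exact ((hall a).trans (zig_YZ a)).trans (zig_ZW g a)
  intro X Y
  exact (hbase X).symm.trans (hbase Y)⟩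

section initial

variable {x : I}

/-- costructured arrow at a `y`-object -/
def Yc {x' : I} (a : x' ⟶ x) : CostructuredArrow (F0 gen) x :=
  CostructuredArrow.mk (Y := py _ _ x') a

/-- costructured arrow at a `z`-object -/
def Zc {x' : I} (a : x' ⟶ x) : CostructuredArrow (F0 gen) x :=
  CostructuredArrow.mk (Y := pz _ _ x') a

/-- costructured arrow at a `w`-object -/
def Wc (g : Gen gen) (a : gtgt gen g ⟶ x) : CostructuredArrow (F0 gen) x :=
  CostructuredArrow.mk (Y := pw _ _ g) a

theorem zigc_ZW (g : Gen gen) (a : gtgt gen g ⟶ x) : Zigzag (Zc a) (Wc g a) := by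
  refine Zigzag.of_hom (CostructuredArrow.homMk (homOfLE (z_le_w g)) ?_)
  simp only [Zc, Wc, CostructuredArrow.mk_hom_eq_self]
  rw [F_map_zw]
  exact Category.id_comp _

theorem zigc_YW (g : Gen gen) (a : gtgt gen g ⟶ x) (b : gsrc gen g ⟶ x)
    (hb : garr gen g ≫ a = b) : Zigzag (Yc b) (Wc g a) := by
  refine Zigzag.of_hom (CostructuredArrow.homMk (homOfLE (y_le_w g)) ?_)
  simp only [Yc, Wc, CostructuredArrow.mk_hom_eq_self]
  rw [F_map_yw]
  exact hb

theorem zigc_YZ {x' : I} (a : x' ⟶ x) : Zigzag (Yc (gen := gen) a) (Zc a) := by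
  have h1 := zigc_YW (gen := gen) (Sum.inl x') a a (Category.id_comp a)
  have h2 := zigc_ZW (gen := gen) (Sum.inl x') a
  exact h1.trans h2.symm

theorem zigc_gen (g : Gen gen) (a : gtgt gen g ⟶ x) :
    Zigzag (Yc (gen := gen) (garr gen g ≫ a)) (Yc (gen := gen) a) :=
  (zigc_YW g a _ rfl).trans ((zigc_ZW g _).symm.trans (zigc_YZ _).symm)

variable (gen) in
/-- the morphism property used in the induction -/
def PI (x : I) : MorphismProperty I := fun _ x'' b =>
  ∀ a : x'' ⟶ x, Zigzag (Yc (gen := gen) (b ≫ a)) (Yc (gen := gen) a)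

instance : (PI gen x).IsMultiplicative where
  id_mem x' := fun a => by rw [Category.id_comp]
  comp_mem b b' hb hb' := fun a => by
    have := (hb (b' ≫ a)).trans (hb' a)
    rwa [← Category.assoc] at this

theorem PI_gen : ∀ a ∈ gen, PI gen x a.2.2 := fun a ha c => zigc_gen (Sum.inr ⟨a, ha⟩) c

end initial

theorem initial_F0
    (hgen : ∀ P : MorphismProperty I, P.IsMultiplicative → (∀ a ∈ gen, P a.2.2) → P = ⊤) :
    (F0 gen).Initial := ⟨fun x => by
  have htop := hgen (PI gen x) inferInstance PI_gen
  have hall : ∀ {x'} (b : x' ⟶ x), Zigzag (Yc (gen := gen) b) (Yc (𝟙 x)) := by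
    intro x' b
    have : PI gen x b := by rw [htop]; trivial
    have := this (𝟙 x)
    rwa [Category.comp_id] at this
  haveI : Nonempty (CostructuredArrow (F0 gen) x) := ⟨Yc (𝟙 x)⟩
  apply zigzag_isConnected
  have hbase : ∀ X : CostructuredArrow (F0 gen) x, Zigzag X (Yc (gen := gen) (𝟙 x)) := by
    rintro ⟨j, ⟨⟨⟩⟩, a⟩
    cases j with
    | y x' => exact hall a
    | z x' => exact (zigc_YZ a).symm.trans (hall a)
    | w g => exact (zigc_ZW g a).symm.trans ((zigc_YZ a).symm.trans (hall a))
  intro X Y
  exact (hbase X).trans (hbase Y).symm⟩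

end concrete

/-- A copy of `Fin k` carrying the preorder transported from `α`. -/
structure Small {α : Type w} {k : ℕ} (e : α ≃ Fin k) : Type where
  /-- the underlying element -/
  val : Fin k

namespace Small

variable {α : Type w} [Preorder α] {k : ℕ} (e : α ≃ Fin k)

/-- to the original type -/
def toα (a : Small e) : α := e.symm a.val

instance : Preorder (Small e) := Preorder.lift (toα e)

/-- underlying `Fin k` -/
def equivFin : Small e ≃ Fin k := ⟨val, mk, fun _ => rfl, fun _ => rfl⟩

instance : Fintype (Small e) := Fintype.ofEquiv _ (equivFin e).symm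

/-- order iso with the original preorder -/
def orderIso : Small e ≃o α where
  toFun := toα e
  invFun x := ⟨e x⟩
  left_inv a := by cases a; simp [toα]
  right_inv x := by simp [toα]
  map_rel_iff' := Iff.rfl

end Small

theorem exists_fin {I : Type u} [Category.{v} I] [Finite I]
    (gen : Finset (Σ x y : I, x ⟶ y))
    (hgen : ∀ P : MorphismProperty I, P.IsMultiplicative → (∀ a ∈ gen, P a.2.2) → P = ⊤) :
    ∃ (J : Type) (_ : SmallCategory J) (_ : FinCategory J) (F : J ⥤ I),
      F.Final ∧ F.Initial ∧ (IsConnected J ↔ IsConnected I) ∧ (Nonempty J ↔ Nonempty I) := by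
  obtain ⟨k, ⟨e⟩⟩ := Finite.exists_equiv_fin (J0 gen)
  let E : Small e ≌ J0 gen := (Small.orderIso e).equivalence
  haveI := final_F0 hgen
  haveI := initial_F0 hgen
  refine ⟨Small e, inferInstance, inferInstance, E.functor ⋙ F0 gen, inferInstance,
    inferInstance, ?_, ?_⟩
  · exact Functor.isConnected_iff_of_final (E.functor ⋙ F0 gen)
  · constructor
    · rintro ⟨j⟩; exact ⟨(E.functor ⋙ F0 gen).obj j⟩
    · rintro ⟨x⟩; exact ⟨E.inverse.obj (py _ _ x)⟩

end FinPresCat

end Groth.Agent.Lib.Helper31
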