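import Mathlib.CategoryTheory.FiberedCategory.Fiber
import Mathlib.CategoryTheory.Limits.Final

set_option autoImplicit false
open CategoryTheory CategoryTheory.Limits
universe v₁ u₁ v₂ u₂ v₃ u₃

namespace Groth.Agent.Lib.Helper31

section

variable {I : Type u₁} [Category.{v₁} I] {I' : Type u₂} [Category.{v₂} I'] (F : I ⥤ I')

/-- fibre over `e` to structured arrows under `d`, using `u : d ⟶ e`. -/
def fiberToStructuredArrow {d e : I'} (u : d ⟶ e) : F.Fiber e ⥤ StructuredArrow d F where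
  obj c := StructuredArrow.mk (u ≫ eqToHom c.2.symm)
  map {c c'} φ := StructuredArrow.homMk φ.1 (by
    have := φ.2
    have := IsHomLift.fac' F (𝟙 e) φ.1
    simp [this])
  map_id c := by
    apply StructuredArrow.hom_ext
    rfl
  map_comp φ ψ := by
    apply StructuredArrow.hom_ext
    rfl

theorem final_of_connected_fibers
    (h1 : ∀ x' : I', IsConnected (F.Fiber x'))
    (h2 : ∀ ⦃x' y' : I'⦄ (α' : x' ⟶ y'), ∃ (x y : I) (hx : F.obj x = x') (hy : F.obj y = y') (α : x ⟶ y), F.map α = eqToHom hx ≫ α' ≫ eqToHom hy.symm) :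
    F.Final := by
  constructor
  intro d
  have := h1 d
  have a₀ : F.Fiber d := Classical.arbitrary _
  have : Nonempty (StructuredArrow d F) := ⟨(fiberToStructuredArrow F (𝟙 d)).obj a₀⟩
  have key : ∀ X : StructuredArrow d F, Zigzag X ((fiberToStructuredArrow F (𝟙 d)).obj a₀) := by
    intro X
    obtain ⟨a, b, ha, hb, α, hα⟩ := h2 X.hom
    have := h1 (F.obj X.right)
    -- X → Ψ_u ⟨x, rfl⟩
    have z1 : Zigzag X ((fiberToStructuredArrow F X.hom).obj ⟨X.right, rfl⟩) := by
      apply Zigzag.of_hom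
      exact StructuredArrow.homMk (𝟙 _) (by simp [fiberToStructuredArrow])
    have z2 : Zigzag ((fiberToStructuredArrow F X.hom).obj ⟨X.right, rfl⟩)
        ((fiberToStructuredArrow F X.hom).obj ⟨b, hb⟩) :=
      zigzag_obj_of_zigzag _ (isPreconnected_zigzag _ _)
    have z3 : Zigzag ((fiberToStructuredArrow F X.hom).obj ⟨b, hb⟩)
        ((fiberToStructuredArrow F (𝟙 d)).obj ⟨a, ha⟩) := by
      apply Zigzag.of_inv
      exact StructuredArrow.homMk α (by simp [fiberToStructuredArrow, hα])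
    have z4 : Zigzag ((fiberToStructuredArrow F (𝟙 d)).obj ⟨a, ha⟩)
        ((fiberToStructuredArrow F (𝟙 d)).obj a₀) :=
      zigzag_obj_of_zigzag _ (isPreconnected_zigzag _ _)
    exact z1.trans (z2.trans (z3.trans z4))
  apply zigzag_isConnected
  intro X Y
  exact (key X).trans ((key Y).symm)

theorem colimit_of_connected_fibers {C : Type u₃} [Category.{v₃} C]
    (h1 : ∀ x' : I', IsConnected (F.Fiber x'))
    (h2 : ∀ ⦃x' y' : I'⦄ (α' : x' ⟶ y'), ∃ (x y : I) (hx : F.obj x = x') (hy : F.obj y = y') (α : x ⟶ y), F.map α = eqToHom hx ≫ α' ≫ eqToHom hy.symm)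
    (M : I' ⥤ C) :
    (HasColimit (F ⋙ M) ↔ HasColimit M) ∧ ∀ [HasColimit (F ⋙ M)] [HasColimit M], IsIso (colimit.pre M F) := by
  have := final_of_connected_fibers F h1 h2
  refine ⟨⟨fun h => Functor.Final.hasColimit_of_comp F, fun h => inferInstance⟩, ?_⟩
  intro _ _
  infer_instance

end

end Groth.Agent.Lib.Helper31
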