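import Groth.Agent.Lib.Helper31.DominateTower
import Mathlib.RingTheory.Flat.EquationalCriterion
import Mathlib.Algebra.Module.Projective

set_option autoImplicit false
set_option linter.unusedSectionVars false
open TensorProduct
universe u

namespace Groth.Agent.Lib.Helper31

namespace ML

variable (R : Type u) [CommRing R]

/-- The `lim¹`-vanishing argument: in a tower whose transition maps are "stably dominated",
any family of lifts can be corrected to a compatible family of lifts. -/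
theorem exists_compatible_lifts {G : ℕ → Type u} [∀ k, AddCommGroup (G k)] [∀ k, Module R (G k)]
    (t : ∀ k, G k →ₗ[R] G (k + 1)) (H : ∀ k, G (k + 2) →ₗ[R] G (k + 1))
    (hH : ∀ k, t k = H k ∘ₗ (t (k + 1) ∘ₗ t k))
    {N2 N3 : Type u} [AddCommGroup N2] [Module R N2] [AddCommGroup N3] [Module R N3]
    (π : N2 →ₗ[R] N3) (φ : ∀ k, G k →ₗ[R] N3) (hφ : ∀ k, φ (k + 1) ∘ₗ t k = φ k)
    (ψ : ∀ k, G k →ₗ[R] N2) (hψ : ∀ k, π ∘ₗ ψ k = φ k) :
    ∃ ψ' : ∀ k, G k →ₗ[R] N2, (∀ k, π ∘ₗ ψ' k = φ k) ∧ ∀ k, ψ' (k + 1) ∘ₗ t k = ψ' k := by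
  let d : ∀ k, G k →ₗ[R] N2 := fun k => ψ (k + 1) ∘ₗ t k - ψ k
  have hd : ∀ k, π ∘ₗ d k = 0 := by
    intro k
    simp only [d, LinearMap.comp_sub, ← LinearMap.comp_assoc, hψ, hφ, sub_self]
  let a : ∀ k, G (k + 1) →ₗ[R] N2 := fun k =>
    Nat.rec (motive := fun k => G (k + 1) →ₗ[R] N2) 0 (fun k ak => (ak - d (k + 1)) ∘ₗ H k) k
  have ha_succ : ∀ k, a (k + 1) = (a k - d (k + 1)) ∘ₗ H k := fun k => rfl
  have ha : ∀ k, π ∘ₗ a k = 0 := by
    intro k
    induction k with
    | zero => simp [a]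
    | succ k ih =>
      rw [ha_succ, ← LinearMap.comp_assoc, LinearMap.comp_sub, ih, hd, sub_zero,
        LinearMap.zero_comp]
  refine ⟨fun k => (ψ (k + 1) + a k) ∘ₗ t k, fun k => ?_, fun k => ?_⟩
  · rw [← LinearMap.comp_assoc, LinearMap.comp_add, ha, add_zero, hψ, hφ]
  · simp only
    rw [ha_succ]
    have h1 : ((a k - d (k + 1)) ∘ₗ H k) ∘ₗ t (k + 1) ∘ₗ t k = (a k - d (k + 1)) ∘ₗ t k := by
      rw [LinearMap.comp_assoc]
      conv_rhs => rw [hH k]
    rw [LinearMap.comp_assoc, LinearMap.add_comp, h1]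
    simp only [d, LinearMap.sub_comp, LinearMap.add_comp, LinearMap.comp_assoc]
    abel

variable {M : Type u} [AddCommGroup M] [Module R M]

/-- **Stacks 059Z**: a countably generated flat Mittag-Leffler module is projective. -/
theorem projective_of_flat_of_isMittagLeffler_of_isCountablyGenerated [Module.Flat R M]
    (hML : CAlg.IsMittagLeffler R M) (hc : CAlg.IsCountablyGenerated R M) :
    Module.Projective R M := by
  obtain ⟨s, hs, hspan⟩ := hc
  have hs' : (s ∪ {0}).Countable := hs.union (Set.countable_singleton 0)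
  obtain ⟨x, hx⟩ := hs'.exists_eq_range ⟨0, Or.inr rfl⟩
  have hxspan : Submodule.span R (Set.range x) = ⊤ := by
    rw [eq_top_iff, ← hspan, ← hx]
    exact Submodule.span_mono Set.subset_union_left
  let s₀ : Approx R M := ⟨Fin 0 → R, 0⟩
  let V : Module.DirectLimit (TG R hML x s₀) (ttrans R hML x s₀) ≃ₗ[R] M :=
    LinearEquiv.ofBijective (tV R hML x s₀)
      ⟨tV_injective R hML x s₀, tV_surjective R hML x s₀ hxspan⟩
  refine Module.Projective.of_lifting_property'' fun π hπ => ?_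
  -- individual lifts, using flatness
  have hlift : ∀ k, ∃ ψ : TG R hML x s₀ k →ₗ[R] (M →₀ R), π ∘ₗ ψ = tv R hML x s₀ k := by
    intro k
    obtain ⟨n, h₂, h₃, h⟩ := Module.Flat.exists_factorization_of_finitePresentation
      (tv R hML x s₀ k)
    obtain ⟨g, hg⟩ := Module.projective_lifting_property π h₃ hπ
    exact ⟨g ∘ₗ h₂, by rw [← LinearMap.comp_assoc, hg, h]⟩
  choose ψ hψ using hlift
  obtain ⟨ψ', hψ'1, hψ'2⟩ := exists_compatible_lifts R (tr R hML x s₀) (tH R hML x s₀)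
    (tH_spec R hML x s₀) π (tv R hML x s₀) (tv_tr R hML x s₀) ψ hψ
  have hcompat : ∀ (i j : ℕ) (h : i ≤ j), ψ' j ∘ₗ ttrans R hML x s₀ i j h = ψ' i := by
    intro i j h
    induction j, h using Nat.le_induction with
    | base => rw [ttrans_self, LinearMap.comp_id]
    | succ k hik ih =>
      rw [ttrans_succ R hML x s₀ i k hik, ← LinearMap.comp_assoc, hψ'2, ih]
  let Ψ : Module.DirectLimit (TG R hML x s₀) (ttrans R hML x s₀) →ₗ[R] (M →₀ R) :=
    Module.DirectLimit.lift R ℕ (TG R hML x s₀) (ttrans R hML x s₀) ψ'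
      (fun i j h y => LinearMap.congr_fun (hcompat i j h) y)
  refine ⟨Ψ ∘ₗ V.symm.toLinearMap, ?_⟩
  apply LinearMap.ext
  intro m
  obtain ⟨z, rfl⟩ := V.surjective m
  obtain ⟨k, y, rfl⟩ := Module.DirectLimit.exists_of z
  simp only [LinearMap.coe_comp, Function.comp_apply, LinearEquiv.coe_coe, LinearMap.id_coe, id_eq,
    V.symm_apply_apply]
  have h1 : Ψ (Module.DirectLimit.of R ℕ (TG R hML x s₀) (ttrans R hML x s₀) k y) = ψ' k y :=
    Module.DirectLimit.lift_of _ _ _
  rw [h1]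
  have h2 : V (Module.DirectLimit.of R ℕ (TG R hML x s₀) (ttrans R hML x s₀) k y) =
      tv R hML x s₀ k y := by
    change tV R hML x s₀ _ = _
    rw [tV, Module.DirectLimit.lift_of]
  rw [h2]
  exact LinearMap.congr_fun (hψ'1 k) y

end ML

end Groth.Agent.Lib.Helper31
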