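import Mathlib.RingTheory.Flat.EquationalCriterion
import Mathlib.Algebra.FreeAlgebra.Cardinality
import Mathlib.SetTheory.Cardinal.CountableCover
import Mathlib.Data.List.OfFn
import Mathlib.Algebra.Algebra.Subalgebra.Directed

set_option autoImplicit false
universe u

open Cardinal

namespace Groth.Agent.Lib.Helper31

namespace FlatSubalg

variable {A B : Type u} [CommRing A] [CommRing B] [Algebra A B]

/-- Index type of candidate relations with coefficients in `A` and entries in `E`. -/
abbrev Idx (E : Subalgebra A B) : Type u := Σ l : ℕ, Fin l → A × E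

/-- The relation holds. -/
def Rel (E : Subalgebra A B) (i : Idx E) : Prop :=
  ∑ j : Fin i.1, (i.2 j).1 • ((i.2 j).2 : B) = 0

theorem mk_idx_le (E : Subalgebra A B) (hE : #E ≤ max #A ℵ₀) : #(Idx E) ≤ max #A ℵ₀ := by
  have h1 : #(Idx E) = #(List (A × E)) := Cardinal.mk_congr List.equivSigmaTuple.symm
  rw [h1]
  refine (Cardinal.mk_list_le_max _).trans ?_
  apply max_le (le_max_right _ _)
  rw [Cardinal.mk_prod, Cardinal.lift_id, Cardinal.lift_id]
  calc #A * #E ≤ max #A ℵ₀ * max #A ℵ₀ := mul_le_mul' (le_max_left _ _) hE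
    _ = max #A ℵ₀ := Cardinal.mul_eq_self (le_max_right _ _)

variable [Module.Flat A B]

theorem exists_finset (E : Subalgebra A B) (i : Idx E) :
    ∃ T : Finset B, Rel E i → ∃ (k : ℕ) (a : Fin i.1 → Fin k → A) (y : Fin k → B),
      (∀ j, y j ∈ T) ∧ (∀ j, ((i.2 j).2 : B) = ∑ m, a j m • y m) ∧
        ∀ m, ∑ j, (i.2 j).1 * a j m = 0 := by
  classical
  by_cases h : Rel E i
  · obtain ⟨k, a, y, h1, h2⟩ := Module.Flat.isTrivialRelation_of_sum_smul_eq_zero h
    exact ⟨Finset.univ.image y, fun _ => ⟨k, a, y, by simp, h1, h2⟩⟩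
  · exact ⟨∅, fun h' => absurd h' h⟩

/-- chosen finite sets trivialising the relations -/
noncomputable def T (E : Subalgebra A B) (i : Idx E) : Finset B := (exists_finset E i).choose

theorem T_spec (E : Subalgebra A B) (i : Idx E) (h : Rel E i) :
    ∃ (k : ℕ) (a : Fin i.1 → Fin k → A) (y : Fin k → B),
      (∀ j, y j ∈ T E i) ∧ (∀ j, ((i.2 j).2 : B) = ∑ m, a j m • y m) ∧
        ∀ m, ∑ j, (i.2 j).1 * a j m = 0 := (exists_finset E i).choose_spec h

/-- One enlargement step. -/
noncomputable def next (E : Subalgebra A B) : Subalgebra A B :=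
  Algebra.adjoin A ((E : Set B) ∪ ⋃ i : Idx E, (T E i : Set B))

theorem le_next (E : Subalgebra A B) : E ≤ next E := fun _ hx =>
  Algebra.subset_adjoin (Or.inl hx)

theorem T_subset_next (E : Subalgebra A B) (i : Idx E) : (T E i : Set B) ⊆ next E := fun _ hx =>
  Algebra.subset_adjoin (Or.inr (Set.mem_iUnion.2 ⟨i, hx⟩))

theorem mk_next_le (E : Subalgebra A B) (hE : #E ≤ max #A ℵ₀) : #(next E) ≤ max #A ℵ₀ := by
  have hκ : ℵ₀ ≤ max #A ℵ₀ := le_max_right _ _
  refine (Algebra.cardinalMk_adjoin_le A _).trans ?_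
  apply max_le (max_le (le_max_left _ _) ?_) hκ
  refine (Cardinal.mk_union_le _ _).trans ?_
  refine (add_le_add hE ?_).trans (le_of_eq (Cardinal.add_eq_self hκ))
  refine (Cardinal.mk_iUnion_le _).trans ?_
  calc #(Idx E) * ⨆ i, #(T E i : Set B) ≤ max #A ℵ₀ * ℵ₀ := by
        apply mul_le_mul' (mk_idx_le E hE)
        apply ciSup_le'
        intro i
        exact (Cardinal.lt_aleph0_of_finite _).le
    _ ≤ max #A ℵ₀ * max #A ℵ₀ := mul_le_mul' le_rfl hκ
    _ = max #A ℵ₀ := Cardinal.mul_eq_self hκ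

/-- The tower of subalgebras. -/
noncomputable def tower (E : Subalgebra A B) : ℕ → Subalgebra A B
  | 0 => E
  | n + 1 => next (tower E n)

theorem tower_mono (E : Subalgebra A B) : Monotone (tower E) :=
  monotone_nat_of_le_succ fun n => le_next (tower E n)

theorem mk_tower_le (E : Subalgebra A B) (hE : #E ≤ max #A ℵ₀) (n : ℕ) :
    #(tower E n) ≤ max #A ℵ₀ := by
  induction n with
  | zero => exact hE
  | succ n ih => exact mk_next_le _ ih

/-- The union of the tower. -/
noncomputable def hull (E : Subalgebra A B) : Subalgebra A B := ⨆ n, tower E n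

theorem mem_hull {E : Subalgebra A B} {x : B} : x ∈ hull E ↔ ∃ n, x ∈ tower E n := by
  rw [hull, ← SetLike.mem_coe, Subalgebra.coe_iSup_of_directed (tower_mono E).directed_le]
  simp

theorem le_hull (E : Subalgebra A B) : E ≤ hull E := fun _ hx => mem_hull.2 ⟨0, hx⟩

theorem mk_hull_le (E : Subalgebra A B) (hE : #E ≤ max #A ℵ₀) : #(hull E) ≤ max #A ℵ₀ := by
  apply Cardinal.mk_subtype_le_of_countable_eventually_mem (ι := ℕ) (l := Filter.atTop)
    (f := fun n => (tower E n : Set B)) (t := (hull E : Set B))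
  · intro x hx
    obtain ⟨n, hn⟩ := mem_hull.1 hx
    exact Filter.eventually_atTop.2 ⟨n, fun m hm => tower_mono E hm hn⟩
  · intro n
    exact mk_tower_le E hE n

theorem flat_hull (E : Subalgebra A B) : Module.Flat A (hull E) := by
  classical
  apply Module.Flat.of_forall_isTrivialRelation
  intro l f x hx
  -- all entries lie in a common stage
  have hx' : ∀ j, ∃ n, (x j : B) ∈ tower E n := fun j => mem_hull.1 (x j).2
  choose n hn using hx'
  set N := Finset.univ.sup n with hN
  have hxN : ∀ j, (x j : B) ∈ tower E N := fun j =>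
    tower_mono E (Finset.le_sup (f := n) (Finset.mem_univ j)) (hn j)
  let i : Idx (tower E N) := ⟨l, fun j => (f j, ⟨x j, hxN j⟩)⟩
  have hrel : Rel (tower E N) i := by
    have := congrArg (Subtype.val) hx
    simpa [Rel, i] using this
  obtain ⟨k, a, y, hy, h1, h2⟩ := T_spec (tower E N) i hrel
  have hyH : ∀ m, y m ∈ hull E := fun m =>
    mem_hull.2 ⟨N + 1, T_subset_next (tower E N) i (hy m)⟩
  refine ⟨k, a, fun m => ⟨y m, hyH m⟩, ?_, h2⟩
  intro j
  apply Subtype.ext
  have := h1 j
  simpa [i] using this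

end FlatSubalg

end Groth.Agent.Lib.Helper31
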