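import Groth.Agent.Lib.Helper6.GorLocus
import Groth.Agent.Lib.Helper24.GorenFibre
import Groth.Agent.Lib.Helper29.CplQuot
import Groth.Agent.S0377

/-! Formal fibres of a Noetherian local ring with a dualizing complex are Gorenstein (helper31). -/

set_option autoImplicit false
set_option linter.unusedSectionVars false
set_option linter.style.haveILetI false
universe u
open CategoryTheory CategoryTheory.Limits DerivedCategory Pretriangulated TensorProduct
attribute [local instance] HasDerivedCategory.standard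

namespace Groth.Agent.Lib.Helper31
namespace FormalFibreGor

open Groth.Agent.Lib.Helper6 Groth.Agent.Lib.Helper24 Groth.Agent.Lib.Helper29
  Groth.Agent.Lib.Helper35

section supp

variable {A B : Type u} [CommRing A] [CommRing B] [Algebra A B]

/-- the support of a base change lies over the support. -/
theorem notMem_support_baseChange (M : Type u) [AddCommGroup M] [Module A M]
    (Q : PrimeSpectrum B)
    (h : Q.comap (algebraMap A B) ∉ Module.support A M) :
    Q ∉ Module.support B (B ⊗[A] M) := by
  rw [Module.notMem_support_iff'] at h ⊢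
  intro x
  induction x using TensorProduct.induction_on with
  | zero => exact ⟨1, Q.asIdeal.one_notMem, by simp⟩
  | tmul b m =>
    obtain ⟨r, hr, hrm⟩ := h m
    refine ⟨algebraMap A B r, hr, ?_⟩
    rw [TensorProduct.smul_tmul', smul_eq_mul, ← Algebra.smul_def,
      TensorProduct.smul_tmul, hrm, TensorProduct.tmul_zero]
  | add x y hx hy =>
    obtain ⟨r, hr, hrx⟩ := hx
    obtain ⟨s, hs, hsy⟩ := hy
    refine ⟨r * s, Q.asIdeal.primeCompl.mul_mem hr hs, ?_⟩
    rw [smul_add, mul_smul r s y, hsy, smul_zero, mul_comm, mul_smul, hrx, smul_zero, add_zero]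

/-- rank at a stalk of a base change, at a point over the free locus. -/
theorem rankAtStalk_baseChange_of_mem_freeLocus (M : Type u) [AddCommGroup M] [Module A M]
    (Q : PrimeSpectrum B) (h : Q.comap (algebraMap A B) ∈ Module.freeLocus A M) :
    Module.rankAtStalk (B ⊗[A] M) Q = Module.rankAtStalk M (Q.comap (algebraMap A B)) := by
  let q : PrimeSpectrum A := Q.comap (algebraMap A B)
  let _ := Localization.AtPrime.algebraOfLiesOver q.asIdeal Q.asIdeal
  haveI : Module.Free (Localization.AtPrime q.asIdeal)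
      (LocalizedModule q.asIdeal.primeCompl M) := Module.mem_freeLocus.1 h
  let e : LocalizedModule Q.asIdeal.primeCompl (B ⊗[A] M) ≃ₗ[Localization.AtPrime Q.asIdeal]
      Localization.AtPrime Q.asIdeal ⊗[Localization.AtPrime q.asIdeal]
        LocalizedModule q.asIdeal.primeCompl M :=
    LocalizedModule.equivTensorProduct _ _ ≪≫ₗ
      (AlgebraTensorModule.cancelBaseChange A B _ _ M) ≪≫ₗ
      (AlgebraTensorModule.cancelBaseChange A _ _ _ M).symm ≪≫ₗ
      (AlgebraTensorModule.congr (LinearEquiv.refl _ _)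
        (LocalizedModule.equivTensorProduct _ M).symm)
  rw [Module.rankAtStalk, e.finrank_eq]
  apply Module.finrank_baseChange

end supp

section main

variable {A B : Type u} [CommRing A] [CommRing B] [Algebra A B] [IsNoetherianRing A]
  [IsNoetherianRing B] [Module.Flat A B]

/-- membership in the sets `V` ascends along a flat base change. -/
theorem mem_V_of_comap_mem_V (ω : Dual.D A) (n : ℤ) (Q : PrimeSpectrum B)
    (h : Q.comap (algebraMap A B) ∈ GorLocus.V A ω n) :
    Q ∈ GorLocus.V B ((FlatBC.G A B).obj ω) n := by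
  obtain ⟨h1, h2, h3⟩ := h
  refine ⟨fun i hi => ?_, ?_, ?_⟩
  · rw [(HomBC.homologyGEquiv (B := B) ω i).support_eq]
    exact notMem_support_baseChange _ Q (h1 i hi)
  · rw [Module.freeLocus_congr (HomBC.homologyGEquiv (B := B) ω n)]
    exact Module.comap_freeLocus_le h2
  · rw [Module.rankAtStalk_eq_of_equiv (HomBC.homologyGEquiv (B := B) ω n),
      rankAtStalk_baseChange_of_mem_freeLocus _ Q h2]
    exact h3

/-- the localization of a domain at `⊥` is a Gorenstein local ring. -/
theorem isGorensteinLocalRing_atPrime_of_eq_bot [IsDomain A] (P : Ideal A) [P.IsPrime]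
    (hP : P = ⊥) : LocCoh.IsGorensteinLocalRing (Localization.AtPrime P) := by
  have hf : IsField (Localization.AtPrime P) := by
    rw [IsLocalRing.isField_iff_maximalIdeal_eq, ← Localization.AtPrime.map_eq_maximalIdeal]
    have : P.map (algebraMap A (Localization.AtPrime P)) ≤ ⊥ := by
      rw [Ideal.map_le_iff_le_comap]
      intro x hx
      rw [hP, Ideal.mem_bot] at hx
      rw [Ideal.mem_comap, hx, map_zero]
      exact Ideal.zero_mem _
    exact le_bot_iff.1 this
  letI := hf.toField
  exact Groth.Agent.S0342.result (Localization.AtPrime P)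

/-- Let `A → B` be a flat map of Noetherian rings with `A` a domain, and `ω` a dualizing complex
of `A` whose base change is dualizing for `B`. Then `B_Q` is Gorenstein for every prime `Q` over
`(0)`. -/
theorem isGorensteinLocalRing_of_comap_eq_bot [IsDomain A] (ω : Dual.D A)
    (hω : Dual.IsDualizing A ω) (hG : Dual.IsDualizing B ((FlatBC.G A B).obj ω))
    (Q : Ideal B) [Q.IsPrime] (hQ : Q.comap (algebraMap A B) = ⊥) :
    LocCoh.IsGorensteinLocalRing (Localization.AtPrime Q) := by
  let Q' : PrimeSpectrum B := ⟨Q, inferInstance⟩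
  have hK : LocCoh.IsGorensteinLocalRing
      (Localization.AtPrime (Q'.comap (algebraMap A B)).asIdeal) :=
    isGorensteinLocalRing_atPrime_of_eq_bot _ hQ
  obtain ⟨n, hn⟩ := GorLocus.exists_mem_V hω (Q'.comap (algebraMap A B)) hK
  exact GorLocus.gorenstein_of_mem_V hG n Q' (mem_V_of_comap_mem_V ω n Q' hn)

end main

section general

variable {A B : Type u} [CommRing A] [CommRing B] [Algebra A B] [IsNoetherianRing A]
  [IsNoetherianRing B] [Module.Flat A B]

/-- If `A → B/IB` is surjective and `IB` lies in the Jacobson radical, every residue field of `B`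
at a maximal ideal is the base change of a finite `A`-module. -/
theorem hmaxN_of_surj (I : Ideal A)
    (hs : Function.Surjective ((Ideal.Quotient.mk (I.map (algebraMap A B))).comp
      (algebraMap A B)))
    (hJ : I.map (algebraMap A B) ≤ (⊥ : Ideal B).jacobson) (n : Ideal B) (hn : n.IsMaximal) :
    ∃ (N : Type u) (_ : AddCommGroup N) (_ : Module A N) (_ : Module.Finite A N),
      Nonempty ((B ⊗[A] N) ≃ₗ[B] (B ⧸ n)) := by
  let p : Ideal A := n.comap (algebraMap A B)
  have hIn : I.map (algebraMap A B) ≤ n := by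
    refine hJ.trans ?_
    rw [Ideal.jacobson_bot]
    exact Ring.jacobson_le_of_isMaximal n
  have hIp : I ≤ p := by
    intro a ha
    exact hIn (Ideal.mem_map_of_mem _ ha)
  have hpn : p.map (algebraMap A B) = n := by
    apply le_antisymm
    · exact Ideal.map_comap_le
    · intro x hx
      obtain ⟨a, ha⟩ := hs (Ideal.Quotient.mk _ x)
      have h1 : algebraMap A B a - x ∈ I.map (algebraMap A B) := by
        rw [← Ideal.Quotient.eq]
        exact ha
      have h2 : algebraMap A B a ∈ n := by
        have := n.add_mem (hIn h1) hx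
        simpa using this
      have h3 : algebraMap A B a ∈ p.map (algebraMap A B) := Ideal.mem_map_of_mem _ h2
      have h4 : algebraMap A B a - x ∈ p.map (algebraMap A B) := Ideal.map_mono hIp h1
      have := (p.map (algebraMap A B)).sub_mem h3 h4
      simpa using this
  refine ⟨A ⧸ p, inferInstance, inferInstance, inferInstance, ⟨?_⟩⟩
  exact (Algebra.TensorProduct.quotIdealMapEquivTensorQuot B p).symm.toLinearEquiv ≪≫ₗ
    Submodule.quotEquivOfEq _ _ hpn

/-- base change of a dualizing complex along `A → B` flat with `A → B/IB` onto and `IB` in the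
radical is dualizing (no hypothesis on the kernel is needed). -/
theorem isDualizing_G_of_surj (I : Ideal A)
    (hs : Function.Surjective ((Ideal.Quotient.mk (I.map (algebraMap A B))).comp
      (algebraMap A B)))
    (hJ : I.map (algebraMap A B) ≤ (⊥ : Ideal B).jacobson) (ω : Dual.D A)
    (hω : Dual.IsDualizing A ω) : Dual.IsDualizing B ((FlatBC.G A B).obj ω) :=
  InjDimMax.isDualizing_G_of_max (hmaxN_of_surj I hs hJ) ω hω

instance flat_quotient_map' (p : Ideal A) :
    Module.Flat (A ⧸ p) (B ⧸ p.map (algebraMap A B)) :=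
  Module.Flat.of_linearEquiv
    (Algebra.TensorProduct.quotIdealMapEquivQuotTensor B p).toLinearEquiv

theorem surj_quotient (I : Ideal A)
    (hs : Function.Surjective ((Ideal.Quotient.mk (I.map (algebraMap A B))).comp
      (algebraMap A B))) (p : Ideal A) :
    Function.Surjective ((Ideal.Quotient.mk ((I.map (Ideal.Quotient.mk p)).map
      (algebraMap (A ⧸ p) (B ⧸ p.map (algebraMap A B))))).comp
        (algebraMap (A ⧸ p) (B ⧸ p.map (algebraMap A B)))) := by
  intro y
  obtain ⟨y₁, rfl⟩ := Ideal.Quotient.mk_surjective y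
  obtain ⟨x, rfl⟩ := Ideal.Quotient.mk_surjective y₁
  obtain ⟨a, ha⟩ := hs (Ideal.Quotient.mk _ x)
  have h1 : algebraMap A B a - x ∈ I.map (algebraMap A B) := by
    rw [← Ideal.Quotient.eq]
    exact ha
  refine ⟨Ideal.Quotient.mk p a, ?_⟩
  rw [RingHom.comp_apply, Ideal.Quotient.algebraMap_quotient_map_quotient, Ideal.Quotient.eq,
    ← map_sub]
  have h2 : (I.map (Ideal.Quotient.mk p)).map
      (algebraMap (A ⧸ p) (B ⧸ p.map (algebraMap A B))) =
      (I.map (algebraMap A B)).map (Ideal.Quotient.mk (p.map (algebraMap A B))) := by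
    rw [Ideal.map_map, Ideal.map_map]
    rfl
  rw [h2]
  exact Ideal.mem_map_of_mem _ h1

theorem jac_quotient (I : Ideal A)
    (hJ : I.map (algebraMap A B) ≤ (⊥ : Ideal B).jacobson) (p : Ideal A) :
    (I.map (Ideal.Quotient.mk p)).map (algebraMap (A ⧸ p) (B ⧸ p.map (algebraMap A B))) ≤
      (⊥ : Ideal (B ⧸ p.map (algebraMap A B))).jacobson := by
  have h2 : (I.map (Ideal.Quotient.mk p)).map
      (algebraMap (A ⧸ p) (B ⧸ p.map (algebraMap A B))) =
      (I.map (algebraMap A B)).map (Ideal.Quotient.mk (p.map (algebraMap A B))) := by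
    rw [Ideal.map_map, Ideal.map_map]
    rfl
  rw [h2]
  refine (Ideal.map_mono hJ).trans ?_
  intro x hx
  obtain ⟨b, hb, rfl⟩ := (Ideal.mem_map_iff_of_surjective _ Ideal.Quotient.mk_surjective).1 hx
  rw [Ideal.mem_jacobson_bot] at hb ⊢
  intro y
  obtain ⟨c, rfl⟩ := Ideal.Quotient.mk_surjective y
  have := (hb c).map (Ideal.Quotient.mk (p.map (algebraMap A B)))
  simpa using this

/-- **Gorenstein fibres.**  Let `A → B` be a flat map of Noetherian rings with `A → B/IB` onto and
`IB` in the Jacobson radical of `B` (e.g. `B` the `I`-adic completion of `A`).  If `A` has a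
dualizing complex, then for every prime `q` of `B` over `p` the fibre local ring `B_q/pB_q` is
Gorenstein. -/
theorem isGorensteinLocalRing_fibre_of_surj (I : Ideal A)
    (hs : Function.Surjective ((Ideal.Quotient.mk (I.map (algebraMap A B))).comp
      (algebraMap A B)))
    (hJ : I.map (algebraMap A B) ≤ (⊥ : Ideal B).jacobson) (ω : Dual.D A)
    (hω : Dual.IsDualizing A ω) (p : Ideal A) [p.IsPrime] (q : Ideal B) [q.IsPrime]
    [hqp : q.LiesOver p] :
    LocCoh.IsGorensteinLocalRing
      (Localization.AtPrime q ⧸ p.map (algebraMap A (Localization.AtPrime q))) := by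
  obtain ⟨ω', hω'⟩ := Groth.Agent.S0377.result A ω hω (A ⧸ p)
  set J : Ideal B := p.map (algebraMap A B) with hJdef
  have hG : Dual.IsDualizing (B ⧸ J) ((FlatBC.G (A ⧸ p) (B ⧸ J)).obj ω') :=
    isDualizing_G_of_surj (I.map (Ideal.Quotient.mk p)) (surj_quotient I hs p)
      (jac_quotient I hJ p) ω' hω'
  have hIq : J ≤ q := by
    rw [hJdef, Ideal.map_le_iff_le_comap]
    exact le_of_eq hqp.over
  let Q : Ideal (B ⧸ J) := q.map (Ideal.Quotient.mk J)
  have hmemQ : ∀ y : B, Ideal.Quotient.mk J y ∈ Q ↔ y ∈ q := fun y =>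
    Ideal.mem_quotient_iff_mem hIq
  haveI hQ : Q.IsPrime :=
    Ideal.map_isPrime_of_surjective Ideal.Quotient.mk_surjective (by rwa [Ideal.mk_ker])
  have hQbot : Q.comap (algebraMap (A ⧸ p) (B ⧸ J)) = ⊥ := by
    ext a'
    obtain ⟨a, rfl⟩ := Ideal.Quotient.mk_surjective a'
    rw [Ideal.mem_comap, Ideal.Quotient.algebraMap_quotient_map_quotient, hmemQ, Ideal.mem_bot,
      Ideal.Quotient.eq_zero_iff_mem]
    conv_rhs => rw [hqp.over]
    rfl
  have h1 := isGorensteinLocalRing_of_comap_eq_bot ω' hω' hG Q hQbot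
  have hM : Algebra.algebraMapSubmonoid (B ⧸ J) q.primeCompl = Q.primeCompl := by
    ext x
    constructor
    · rintro ⟨s, hs, rfl⟩
      exact fun h => hs ((hmemQ s).1 h)
    · intro hx
      obtain ⟨y, rfl⟩ := Ideal.Quotient.mk_surjective x
      exact ⟨y, fun h => hx ((hmemQ y).2 h), rfl⟩
  haveI hloc : IsLocalization Q.primeCompl
      (Localization.AtPrime q ⧸ J.map (algebraMap B (Localization.AtPrime q))) :=
    hM ▸ (inferInstance : IsLocalization (Algebra.algebraMapSubmonoid (B ⧸ J)
      q.primeCompl) (Localization.AtPrime q ⧸ J.map (algebraMap B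
        (Localization.AtPrime q))))
  have hII : J.map (algebraMap B (Localization.AtPrime q)) =
      p.map (algebraMap A (Localization.AtPrime q)) := by
    rw [hJdef, Ideal.map_map, ← IsScalarTower.algebraMap_eq]
  exact isGorensteinLocalRing_of_ringEquiv
    ((IsLocalization.algEquiv Q.primeCompl (Localization.AtPrime Q)
      (Localization.AtPrime q ⧸ J.map (algebraMap B
        (Localization.AtPrime q)))).toRingEquiv.trans (Ideal.quotEquivOfEq hII)) h1

end general

section loc

variable (A : Type u) [CommRing A] [IsLocalRing A] [IsNoetherianRing A] (p : Ideal A) [p.IsPrime]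

theorem hmaxN_cplQ (n : Ideal (CplQ A p)) (hn : n.IsMaximal) :
    ∃ (N : Type u) (_ : AddCommGroup N) (_ : Module (A ⧸ p) N) (_ : Module.Finite (A ⧸ p) N),
      Nonempty ((CplQ A p ⊗[A ⧸ p] N) ≃ₗ[CplQ A p] (CplQ A p ⧸ n)) := by
  have h1 : (IsLocalRing.maximalIdeal (A ⧸ p)).map (algebraMap (A ⧸ p) (CplQ A p)) = n := by
    rw [map_maximalIdeal_cplQ, IsLocalRing.eq_maximalIdeal hn]
  refine ⟨(A ⧸ p) ⧸ IsLocalRing.maximalIdeal (A ⧸ p), inferInstance, inferInstance,
    inferInstance, ⟨?_⟩⟩
  exact (Algebra.TensorProduct.quotIdealMapEquivTensorQuot (CplQ A p)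
    (IsLocalRing.maximalIdeal (A ⧸ p))).symm.toLinearEquiv ≪≫ₗ Submodule.quotEquivOfEq _ _ h1

/-- The formal fibres of a Noetherian local ring with a dualizing complex are Gorenstein. -/
theorem isGorensteinRing_formalFibre (ω : Dual.D A) (hω : Dual.IsDualizing A ω) :
    LocCoh.IsGorensteinRing (EGA4.formalFibre A p) := by
  haveI hNC : IsNoetherianRing (EGA4.Cpl A) := isNoetherianRing_cpl A
  haveI hNF : IsNoetherianRing (p.Fiber (EGA4.Cpl A)) :=
    Groth.Agent.Lib.Helper29.isNoetherianRing_fiber A (EGA4.Cpl A) p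
  obtain ⟨ω', hω'⟩ := Groth.Agent.S0377.result A ω hω (A ⧸ p)
  have hG : Dual.IsDualizing (CplQ A p) ((FlatBC.G (A ⧸ p) (CplQ A p)).obj ω') :=
    InjDimMax.isDualizing_G_of_max (hmaxN_cplQ A p) ω' hω'
  refine { isGorensteinLocalRing_localization := fun q' hq' => ?_ }
  set q : Ideal (EGA4.Cpl A) := q'.comap
    (Algebra.TensorProduct.includeRight : EGA4.Cpl A →ₐ[A] p.Fiber (EGA4.Cpl A)) with hq
  have hqp : q.LiesOver p := inferInstance
  refine isGorensteinLocalRing_of_ringEquiv (fiberLocalizationEquiv p q').symm ?_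
  set I : Ideal (EGA4.Cpl A) := p.map (algebraMap A (EGA4.Cpl A)) with hI
  have hIq : I ≤ q := by
    rw [hI, Ideal.map_le_iff_le_comap]
    exact le_of_eq hqp.over
  let Q : Ideal (CplQ A p) := q.map (Ideal.Quotient.mk I)
  have hmemQ : ∀ y : EGA4.Cpl A, Ideal.Quotient.mk I y ∈ Q ↔ y ∈ q := fun y =>
    Ideal.mem_quotient_iff_mem hIq
  haveI hQ : Q.IsPrime :=
    Ideal.map_isPrime_of_surjective Ideal.Quotient.mk_surjective (by rwa [Ideal.mk_ker])
  have hQbot : Q.comap (algebraMap (A ⧸ p) (CplQ A p)) = ⊥ := by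
    ext a'
    obtain ⟨a, rfl⟩ := Ideal.Quotient.mk_surjective a'
    rw [Ideal.mem_comap, algebraMap_cplQ_mk, hmemQ, Ideal.mem_bot, Ideal.Quotient.eq_zero_iff_mem]
    conv_rhs => rw [hqp.over]
    rfl
  have h1 := isGorensteinLocalRing_of_comap_eq_bot ω' hω' hG Q hQbot
  have hM : Algebra.algebraMapSubmonoid (EGA4.Cpl A ⧸ I) q.primeCompl = Q.primeCompl := by
    ext x
    constructor
    · rintro ⟨s, hs, rfl⟩
      exact fun h => hs ((hmemQ s).1 h)
    · intro hx
      obtain ⟨y, rfl⟩ := Ideal.Quotient.mk_surjective x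
      exact ⟨y, fun h => hx ((hmemQ y).2 h), rfl⟩
  haveI hloc : IsLocalization Q.primeCompl
      (Localization.AtPrime q ⧸ I.map (algebraMap (EGA4.Cpl A) (Localization.AtPrime q))) :=
    hM ▸ (inferInstance : IsLocalization (Algebra.algebraMapSubmonoid (EGA4.Cpl A ⧸ I)
      q.primeCompl) (Localization.AtPrime q ⧸ I.map (algebraMap (EGA4.Cpl A)
        (Localization.AtPrime q))))
  have hII : I.map (algebraMap (EGA4.Cpl A) (Localization.AtPrime q)) =
      p.map (algebraMap A (Localization.AtPrime q)) := by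
    rw [hI, Ideal.map_map, ← IsScalarTower.algebraMap_eq]
  exact isGorensteinLocalRing_of_ringEquiv
    ((IsLocalization.algEquiv Q.primeCompl (Localization.AtPrime Q)
      (Localization.AtPrime q ⧸ I.map (algebraMap (EGA4.Cpl A)
        (Localization.AtPrime q)))).toRingEquiv.trans (Ideal.quotEquivOfEq hII)) h1

end loc

end FormalFibreGor
end Groth.Agent.Lib.Helper31
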