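import Mathlib

/-!
# Graded naturality of a family of maps `F X ⟶ F' X` (helper31)

For two functors `F F' : C ⥤ D` commuting with shifts, and maps `cK : F K ⟶ F' K`,
`cL : F L ⟶ F' L`, we say that `(cK, cL)` is natural with respect to `α : ShiftedHom K L a`
when `cK ≫ α.map F' = α.map F ≫ cL⟦a⟧'`.
-/

set_option autoImplicit false

universe v₁ v₂ u₁ u₂
open CategoryTheory CategoryTheory.Limits

namespace Groth.Agent.Lib.Helper31.GN

variable {C : Type u₁} [Category.{v₁} C] {D : Type u₂} [Category.{v₂} D]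
  [HasShift C ℤ] [HasShift D ℤ]
  (F F' : C ⥤ D) [F.CommShift ℤ] [F'.CommShift ℤ]

/-- Graded naturality of `(cK, cL)` with respect to `α : K ⟶ L⟦a⟧`. -/
def GNat {K L : C} (cK : F.obj K ⟶ F'.obj K) (cL : F.obj L ⟶ F'.obj L) {a : ℤ}
    (α : ShiftedHom K L a) : Prop :=
  cK ≫ α.map F' = α.map F ≫ cL⟦a⟧'

variable {F F'}

lemma GNat.comp {K L P : C} {cK : F.obj K ⟶ F'.obj K} {cL : F.obj L ⟶ F'.obj L}
    {cP : F.obj P ⟶ F'.obj P} {a b c : ℤ} {α : ShiftedHom K L a} {β : ShiftedHom L P b}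
    (hα : GNat F F' cK cL α) (hβ : GNat F F' cL cP β) (h : b + a = c) :
    GNat F F' cK cP (α.comp β h) := by
  unfold GNat at hα hβ ⊢
  rw [ShiftedHom.map_comp, ShiftedHom.map_comp]
  unfold ShiftedHom.comp
  rw [reassoc_of% hα, ← Functor.map_comp_assoc, hβ, Functor.map_comp_assoc]
  simp only [Category.assoc]
  congr 2
  exact (shiftFunctorAdd' D b a c h).inv.naturality cP

lemma gnat_mk₀_iff {K L : C} (cK : F.obj K ⟶ F'.obj K) (cL : F.obj L ⟶ F'.obj L) (f : K ⟶ L) :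
    GNat F F' cK cL (ShiftedHom.mk₀ (0 : ℤ) rfl f) ↔ cK ≫ F'.map f = F.map f ≫ cL := by
  unfold GNat
  rw [ShiftedHom.map_mk₀, ShiftedHom.map_mk₀]
  unfold ShiftedHom.mk₀
  have h := (shiftFunctorZero' D (0 : ℤ) rfl).inv.naturality cL
  simp only [Functor.id_map] at h
  rw [Category.assoc, ← h, ← Category.assoc, ← Category.assoc]
  exact ⟨fun h' => (cancel_mono _).1 h', fun h' => by rw [h']⟩

/-- Testing lemma: if `β` and `α.comp β` are graded natural, then the defect of `α` is killed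
by `β`. -/
lemma GNat.test {K L P : C} {cK : F.obj K ⟶ F'.obj K} {cL : F.obj L ⟶ F'.obj L}
    {cP : F.obj P ⟶ F'.obj P} {a b c : ℤ} {α : ShiftedHom K L a} {β : ShiftedHom L P b}
    (h : b + a = c) (hβ : GNat F F' cL cP β) (hαβ : GNat F F' cK cP (α.comp β h)) :
    cK ≫ α.map F' ≫ (β.map F')⟦a⟧' = α.map F ≫ cL⟦a⟧' ≫ (β.map F')⟦a⟧' := by
  unfold GNat at hβ hαβ
  rw [ShiftedHom.map_comp, ShiftedHom.map_comp] at hαβ
  unfold ShiftedHom.comp at hαβ
  have h1 := (shiftFunctorAdd' D b a c h).inv.naturality cP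
  have h1' : (cP⟦b⟧')⟦a⟧' ≫ (shiftFunctorAdd' D b a c h).inv.app (F'.obj P) =
      (shiftFunctorAdd' D b a c h).inv.app (F.obj P) ≫ cP⟦c⟧' := h1
  simp only [Category.assoc] at hαβ
  rw [← h1', ← Functor.map_comp_assoc, ← hβ, Functor.map_comp_assoc] at hαβ
  have h2 : (cK ≫ α.map F' ≫ (β.map F')⟦a⟧') ≫ (shiftFunctorAdd' D b a c h).inv.app (F'.obj P) =
      (α.map F ≫ cL⟦a⟧' ≫ (β.map F')⟦a⟧') ≫ (shiftFunctorAdd' D b a c h).inv.app (F'.obj P) := by
    simpa only [Category.assoc] using hαβ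
  exact (cancel_mono _).1 h2

/-- Cancellation: if `α.map F` is an epimorphism (e.g. `α` an identity), graded naturality of
`α` and `α ≫ f⟦a⟧'` implies naturality with respect to `f`. -/
lemma GNat.cancel {K L L' : C} {cK : F.obj K ⟶ F'.obj K} {sL : F.obj L ⟶ F'.obj L}
    {sL' : F.obj L' ⟶ F'.obj L'} {a : ℤ} {α : ShiftedHom K L a} (f : L ⟶ L')
    [Epi (α.map F)]
    (hα : GNat F F' cK sL α)
    (hαf : GNat F F' cK sL' (α.comp (ShiftedHom.mk₀ (0 : ℤ) rfl f) (zero_add a))) :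
    sL ≫ F'.map f = F.map f ≫ sL' := by
  unfold GNat at hα hαf
  rw [ShiftedHom.map_comp, ShiftedHom.map_comp, ShiftedHom.map_mk₀, ShiftedHom.map_mk₀,
    ShiftedHom.comp_mk₀, ShiftedHom.comp_mk₀, reassoc_of% hα, Category.assoc,
    ← Functor.map_comp, ← Functor.map_comp] at hαf
  exact (shiftFunctor D a).map_injective ((cancel_epi _).1 hαf)

section Preadditive

variable [Preadditive C] [Preadditive D] [F.Additive] [F'.Additive]

lemma gnat_zero {K L : C} (cK : F.obj K ⟶ F'.obj K) (cL : F.obj L ⟶ F'.obj L) (a : ℤ) :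
    GNat F F' cK cL (0 : ShiftedHom K L a) := by
  unfold GNat
  rw [ShiftedHom.map_zero, ShiftedHom.map_zero, comp_zero, zero_comp]

end Preadditive

section Triang

open CategoryTheory.Pretriangulated

variable [Preadditive C] [HasZeroObject C] [∀ n : ℤ, (shiftFunctor C n).Additive]
  [Pretriangulated C]
  [Preadditive D] [HasZeroObject D] [∀ n : ℤ, (shiftFunctor D n).Additive] [Pretriangulated D]
  (G : C ⥤ D) [G.CommShift ℤ] [G.IsTriangulated]

/-- Uniqueness lemma: in the image under `G` of a distinguished triangle `T`, shifted by `a`, a map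
`d : W ⟶ (G T₃)⟦a⟧` killed by the (shifted) connecting morphism vanishes as soon as
`Hom(W, (G T₂)⟦a⟧) = 0`. -/
lemma eq_zero_of_comp_map_mor₃ (T : Triangle C) (hT : T ∈ distTriang C) {W : D} (a : ℤ)
    (d : W ⟶ (G.obj T.obj₃)⟦a⟧)
    (hd : d ≫ ((ShiftedHom.map (a := (1 : ℤ)) T.mor₃ G)⟦a⟧') = 0)
    (hW : ∀ e : W ⟶ (G.obj T.obj₂)⟦a⟧, e = 0) : d = 0 := by
  have hT' := G.map_distinguished T hT
  have hT'' := Triangle.shift_distinguished _ hT' a
  obtain ⟨g, hg⟩ := Triangle.coyoneda_exact₃ _ hT'' d (by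
    change d ≫ (a.negOnePow • ((G.map T.mor₃ ≫ (G.commShiftIso (1 : ℤ)).hom.app T.obj₁)⟦a⟧' ≫
      (shiftFunctorComm D 1 a).hom.app (G.obj T.obj₁))) = 0
    rw [Linear.comp_units_smul, ← Category.assoc]
    have hd' : d ≫ (G.map T.mor₃ ≫ (G.commShiftIso (1 : ℤ)).hom.app T.obj₁)⟦a⟧' = 0 := hd
    rw [hd', zero_comp, smul_zero])
  have hg0 : g = 0 := hW g
  rw [hg, hg0]
  exact zero_comp

/-- Unshifted version of `eq_zero_of_comp_map_mor₃`. -/
lemma eq_zero_of_comp_map_mor₃' (T : Triangle C) (hT : T ∈ distTriang C) {W : D}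
    (d : W ⟶ G.obj T.obj₃)
    (hd : d ≫ (ShiftedHom.map (a := (1 : ℤ)) T.mor₃ G) = 0)
    (hW : ∀ e : W ⟶ G.obj T.obj₂, e = 0) : d = 0 := by
  have hT' := G.map_distinguished T hT
  obtain ⟨g, hg⟩ := Triangle.coyoneda_exact₃ _ hT' d hd
  have hg0 : g = 0 := hW g
  rw [hg, hg0]
  exact zero_comp

omit [HasZeroObject D] [∀ n : ℤ, (shiftFunctor D n).Additive] [Pretriangulated D] [Preadditive D] in
/-- A shifted morphism out of the third vertex of a distinguished triangle which is killed by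
`mor₂` factors through the connecting morphism. -/
lemma exists_comp_of_mor₂_comp_eq_zero (T : Triangle C) (hT : T ∈ distTriang C) {L : C}
    {a a' : ℤ} (h : a' + 1 = a) (α : ShiftedHom T.obj₃ L a) (hα : T.mor₂ ≫ α = 0) :
    ∃ h' : ShiftedHom T.obj₁ L a',
      α = ShiftedHom.comp (a := (1 : ℤ)) (T.mor₃ : ShiftedHom T.obj₃ T.obj₁ (1 : ℤ)) h' h := by
  obtain ⟨g, hg⟩ := Triangle.yoneda_exact₃ T hT α hα
  refine ⟨(shiftFunctor C (1 : ℤ)).preimage (g ≫ (shiftFunctorAdd' C a' 1 a h).hom.app L), ?_⟩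
  unfold ShiftedHom.comp
  rw [Functor.map_preimage, Category.assoc, Iso.hom_inv_id_app, Category.comp_id]
  exact hg

end Triang

end Groth.Agent.Lib.Helper31.GN
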