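import Mathlib
import Groth.Prelude.Def_FlatCA
import Groth.Agent.Lib.Helper31.FiberAss

/-!
# Geometrically integral fibres and purity (helper31)

Lemmas for: a flat algebra with geometrically integral fibres is universally pure.
-/

set_option autoImplicit false
universe u
open TensorProduct

namespace Groth.Agent.Lib.Helper31.GeomIntPure

attribute [local instance] Algebra.TensorProduct.rightAlgebra

open AlgebraicGeometry CategoryTheory CategoryTheory.Limits in
/-- geometrically integral fibres: every base change to a field is a domain. -/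
theorem isDomain_tensor_field {A B : Type u} [CommRing A] [CommRing B] [Algebra A B]
    (h : FlatCA.GeomIntegralFibres A B) (K : Type u) [Field K] [Algebra A K] :
    IsDomain (B ⊗[A] K) := by
  let f := Spec.map (CommRingCat.ofHom (algebraMap A B))
  let g := Spec.map (CommRingCat.ofHom (algebraMap A K))
  have hgi : GeometricallyIntegral f := h
  have hint : IsIntegral (pullback f g) :=
    pullback_of_geometrically hgi.geometrically_isIntegral K g
  have h2 : IsIntegral (Spec (.of <| B ⊗[A] K)) :=
    IsIntegral.of_isIso (pullbackSpecIso A B K).hom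
  exact (affine_isIntegral_iff _).mp h2

theorem isScalarTower_residueField {A : Type u} [CommRing A]
    (A' : Type u) [CommRing A'] [Algebra A A'] (q : Ideal A') [q.IsPrime] :
    IsScalarTower A A' q.ResidueField := by
  have h1 : IsScalarTower A A' (Localization.AtPrime q) := inferInstance
  have h2 : IsScalarTower A (Localization.AtPrime q) q.ResidueField := inferInstance
  have h3 : IsScalarTower A' (Localization.AtPrime q) q.ResidueField := inferInstance
  refine IsScalarTower.of_algebraMap_eq fun a => ?_
  rw [IsScalarTower.algebraMap_apply A (Localization.AtPrime q) q.ResidueField,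
    IsScalarTower.algebraMap_apply A A' (Localization.AtPrime q),
    ← IsScalarTower.algebraMap_apply A' (Localization.AtPrime q) q.ResidueField]

/-- geometrically integral fibres are inherited by base change: all fibre rings of a base change
are domains. -/
theorem isDomain_fiber {A B : Type u} [CommRing A] [CommRing B] [Algebra A B]
    (h : FlatCA.GeomIntegralFibres A B)
    (A' B' : Type u) [CommRing A'] [CommRing B'] [Algebra A A'] [Algebra B B']
    [Algebra A' B'] [Algebra A B'] [IsScalarTower A B B'] [IsScalarTower A A' B']
    (hpo : Algebra.IsPushout A B A' B') (q : Ideal A') [q.IsPrime] :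
    IsDomain (q.Fiber B') := by
  have : IsScalarTower A A' q.ResidueField := isScalarTower_residueField A' q
  have : Algebra.IsPushout A A' B B' := hpo.symm
  let e1 : A' ⊗[A] B ≃ₐ[A'] B' := Algebra.IsPushout.equiv A A' B B'
  let e2 : q.ResidueField ⊗[A'] (A' ⊗[A] B) ≃ₐ[A'] q.ResidueField ⊗[A'] B' :=
    Algebra.TensorProduct.congr AlgEquiv.refl e1
  let e3 := Algebra.TensorProduct.cancelBaseChange A A' A' q.ResidueField B
  let e4 := Algebra.TensorProduct.comm A q.ResidueField B
  have := isDomain_tensor_field h q.ResidueField
  let e : q.Fiber B' ≃+* B ⊗[A] q.ResidueField :=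
    (e2.symm.toRingEquiv.trans e3.toRingEquiv).trans e4.toRingEquiv
  exact e.toMulEquiv.isDomain _

theorem eq_bot_of_mem_associatedPrimes_self {D : Type u} [CommRing D] [IsDomain D] (I : Ideal D)
    (hI : I ∈ associatedPrimes D D) : I = ⊥ := by
  obtain ⟨hp, x, hx⟩ := hI
  by_cases hx0 : x = 0
  · exfalso
    apply hp.ne_top
    rw [hx, hx0]
    rw [Ideal.eq_top_iff_one]
    apply Ideal.le_radical
    rw [Submodule.mem_colon_singleton]
    simp
  · rw [hx]
    have : (Submodule.colon (⊥ : Submodule D D) {x}) = ⊥ := by
      ext r
      rw [Submodule.mem_colon_singleton]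
      simp [hx0]
    rw [this]
    exact (Ideal.radical_eq_iff.mpr (Ideal.isRadical_bot))

theorem exists_liesOver_of_nontrivial_fiber {A' B' : Type u} [CommRing A'] [CommRing B']
    [Algebra A' B'] (t : Ideal A') [t.IsPrime] [Nontrivial (t.Fiber B')] :
    ∃ (Q : Ideal B') (_ : Q.IsPrime), Q.LiesOver t := by
  obtain ⟨q⟩ : Nonempty (PrimeSpectrum (t.Fiber B')) := inferInstance
  obtain ⟨Q, hQ⟩ := (PrimeSpectrum.preimageEquivFiber A' B' ⟨t, inferInstance⟩).symm q
  refine ⟨Q.asIdeal, Q.isPrime, ⟨?_⟩⟩
  have := congrArg PrimeSpectrum.asIdeal hQ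
  exact this.symm

/-- the fibre module of a base change of the ring itself is the fibre ring -/
noncomputable def fiberModEquiv {B B' N' : Type u} [CommRing B] [CommRing B'] [Algebra B B']
    [AddCommGroup N'] [Module B' N'] [Module B N'] [IsScalarTower B B' N']
    (f : B →ₗ[B] N') (hbc : IsBaseChange B' f)
    (F : Type u) [CommRing F] [Algebra B' F] :
    F ⊗[B'] N' ≃ₗ[F] F :=
  (TensorProduct.AlgebraTensorModule.congr (LinearEquiv.refl F F)
    ((hbc.equiv.symm).trans (TensorProduct.AlgebraTensorModule.rid B B' B'))).trans
    (TensorProduct.AlgebraTensorModule.rid B' F F)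

end Groth.Agent.Lib.Helper31.GeomIntPure
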