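import Groth.Prelude.Def_Coh
import Groth.Agent.Lib.Helper17.HZero
import Groth.Agent.Lib.Helper49.QcqsModules

/-! On a scheme isomorphic to `Spec A` through its structure map, `Hom(F, G) → Hom_A(H⁰F, H⁰G)` is
bijective for `F` quasi-coherent (helper31, wishlist (Z) of helper56). -/

set_option autoImplicit false
universe u
open CategoryTheory CategoryTheory.Limits AlgebraicGeometry TopologicalSpace Opposite

namespace Groth.Agent.Lib.Helper31
namespace HomH0Affine

section general

variable {C D : Type*} [Category C] [Category D] {L : C ⥤ D} {R : D ⥤ C} (adj : L ⊣ R)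

/-- for an adjunction whose counit at `M` is an isomorphism, `R` is bijective on `Hom(M, N)`. -/
theorem bijective_map_of_isIso_counit (M N : D) [IsIso (adj.counit.app M)] :
    Function.Bijective (fun φ : M ⟶ N => R.map φ) := by
  have h : (fun φ : M ⟶ N => R.map φ) =
      (fun φ : M ⟶ N => adj.homEquiv (R.obj M) N (adj.counit.app M ≫ φ)) := by
    funext φ
    rw [Adjunction.homEquiv_unit, Functor.map_comp, ← Category.assoc,
      adj.right_triangle_components, Category.id_comp]
  rw [h]
  refine (adj.homEquiv (R.obj M) N).bijective.comp ?_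
  constructor
  · intro φ₁ φ₂ h12
    exact (cancel_epi (adj.counit.app M)).1 h12
  · intro g
    exact ⟨inv (adj.counit.app M) ≫ g, by simp⟩

end general

section counit

theorem isIso_counit_of_qcoh {R : CommRingCat.{u}} (M : (Spec R).Modules)
    [hM : M.IsQuasicoherent] : IsIso ((tilde.adjunction (R := R)).counit.app M) := by
  have h : (tilde.adjunction (R := R)).counit.app M = M.fromTildeΓ := rfl
  rw [h]
  exact Scheme.Modules.isIso_fromTildeΓ_of_isQuasicoherent M

end counit

section main

open Groth.Agent.Lib.Helper17.HZero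

variable {A : Type u} [CommRing A] {X : Scheme.{u}}
    [X.Over (Spec (CommRingCat.of A))] [IsIso (X ↘ Spec (CommRingCat.of A))]

/-- pushforward to `Spec A` along the structure isomorphism. -/
noncomputable abbrev P : X.Modules ⥤ (Spec (CommRingCat.of A)).Modules :=
  Scheme.Modules.pushforward (X ↘ Spec (CommRingCat.of A))

/-- global sections on `Spec A` as an `A`-module. -/
noncomputable abbrev Gam : (Spec (CommRingCat.of A)).Modules ⥤ ModuleCat (CommRingCat.of A) :=
  moduleSpecΓFunctor (R := CommRingCat.of A)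

/-- `φ ↦ Γ(Spec A, f_* φ)` is bijective for quasi-coherent `F`. -/
theorem bijective_Gam_P (F G : X.Modules) (hF : Coh.IsQCoh F) :
    Function.Bijective (fun φ : F ⟶ G => (Gam (A := A)).map ((P (A := A)).map φ)) := by
  haveI : F.IsQuasicoherent := hF
  haveI : ((P (A := A)).obj F).IsQuasicoherent :=
    Groth.Agent.Lib.Helper49.isQuasicoherent_pushforward F (X ↘ Spec (CommRingCat.of A))
  haveI := isIso_counit_of_qcoh ((P (A := A)).obj F)
  have h1 := bijective_map_of_isIso_counit (tilde.adjunction (R := CommRingCat.of A))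
    ((P (A := A)).obj F) ((P (A := A)).obj G)
  have h2 : Function.Bijective (fun φ : F ⟶ G => (P (A := A)).map φ) :=
    ⟨(P (A := A)).map_injective, (P (A := A)).map_surjective⟩
  exact h1.comp h2

/-- naturality of `H⁰ ≃ Γ`. -/
theorem hh0Equiv_map {F G : X.Modules} (φ : F ⟶ G) (x : Coh.HH X F 0) :
    hh0Equiv G (Sheaf.H.map ((SheafOfModules.toSheaf X.ringCatSheaf).map φ) 0 x) =
      (φ.val.app (op ⊤)).hom (hh0Equiv F x) := by
  have h2 := CategoryTheory.Sheaf.H.equiv₀_naturality
    (CategoryTheory.Limits.isTerminalTop (α := TopologicalSpace.Opens X))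
    ((SheafOfModules.toSheaf X.ringCatSheaf).map φ) x
  exact h2.symm

theorem existsUnique_hom_of_isIso_structure
    (F G : X.Modules) (hF : Coh.IsQCoh F)
    (ψ : Coh.HH X F 0 →ₗ[A] Coh.HH X G 0) :
    ∃! φ : F ⟶ G, ∀ x : Coh.HH X F 0,
      ψ x = Sheaf.H.map ((SheafOfModules.toSheaf X.ringCatSheaf).map φ) 0 x := by
  classical
  -- semilinearity of `H⁰ ≃ Γ`
  have hsmul : ∀ (H : X.Modules) (a : A) (x : Coh.HH X H 0),
      hh0Equiv H (a • x) =
        (a • (show ((Gam (A := A)).obj ((P (A := A)).obj H) : Type u) from hh0Equiv H x) :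
          ((Gam (A := A)).obj ((P (A := A)).obj H) : Type u)) := by
    intro H a x
    exact hh0Equiv_smul H (Coh.toGlobal (X ↘ Spec (CommRingCat.of A)) a) x
  -- the `A`-linear map on global sections induced by `ψ`
  let g₀ : ((Gam (A := A)).obj ((P (A := A)).obj F) : Type u) →ₗ[A]
      ((Gam (A := A)).obj ((P (A := A)).obj G) : Type u) :=
    { toFun := fun m => hh0Equiv G (ψ ((hh0Equiv F).symm m))
      map_add' := fun m₁ m₂ => by
        have h1 : (hh0Equiv F).symm (m₁ + m₂) =
            (hh0Equiv F).symm m₁ + (hh0Equiv F).symm m₂ := (hh0Equiv F).symm.map_add m₁ m₂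
        show hh0Equiv G (ψ ((hh0Equiv F).symm (m₁ + m₂))) = _
        rw [h1, map_add]
        exact (hh0Equiv G).map_add _ _
      map_smul' := fun a m => by
        have h1 : (hh0Equiv F).symm (a • m) = a • (hh0Equiv F).symm m := by
          apply (hh0Equiv F).injective
          rw [AddEquiv.apply_symm_apply, hsmul F a, AddEquiv.apply_symm_apply]
        simp only [RingHom.id_apply]
        rw [h1, map_smul, hsmul G a] }
  let g : (Gam (A := A)).obj ((P (A := A)).obj F) ⟶ (Gam (A := A)).obj ((P (A := A)).obj G) :=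
    ModuleCat.ofHom (R := CommRingCat.of A)
      (X := ((Gam (A := A)).obj ((P (A := A)).obj F) : Type u))
      (Y := ((Gam (A := A)).obj ((P (A := A)).obj G) : Type u)) g₀
  obtain ⟨hinj, hsurj⟩ := bijective_Gam_P (A := A) F G hF
  obtain ⟨φ, hφ⟩ := hsurj g
  replace hφ : (Gam (A := A)).map ((P (A := A)).map φ) = g := hφ
  have hφ' : ∀ m, ((Gam (A := A)).map ((P (A := A)).map φ)).hom m = g₀ m := by
    intro m
    have := congrArg (fun k => k.hom m) hφ
    exact this
  have hkey : ∀ (φ' : F ⟶ G) (x : Coh.HH X F 0),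
      hh0Equiv G (Sheaf.H.map ((SheafOfModules.toSheaf X.ringCatSheaf).map φ') 0 x) =
        ((Gam (A := A)).map ((P (A := A)).map φ')).hom (hh0Equiv F x) := fun φ' x =>
    hh0Equiv_map φ' x
  refine ⟨φ, fun x => ?_, fun φ' hφ'' => ?_⟩
  · apply (hh0Equiv G).injective
    rw [hkey, hφ']
    show hh0Equiv G (ψ x) = hh0Equiv G (ψ ((hh0Equiv F).symm (hh0Equiv F x)))
    rw [AddEquiv.symm_apply_apply]
  · apply hinj
    show (Gam (A := A)).map ((P (A := A)).map φ') = (Gam (A := A)).map ((P (A := A)).map φ)
    rw [hφ]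
    ext m
    show ((Gam (A := A)).map ((P (A := A)).map φ')).hom m = g₀ m
    obtain ⟨x, rfl⟩ := (hh0Equiv F).surjective m
    rw [← hkey, ← hφ'' x]
    show hh0Equiv G (ψ x) = hh0Equiv G (ψ ((hh0Equiv F).symm (hh0Equiv F x)))
    rw [AddEquiv.symm_apply_apply]

end main

end HomH0Affine
end Groth.Agent.Lib.Helper31
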