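import Groth.Agent.Lib.Helper31.Diag

set_option autoImplicit false
open CategoryTheory CategoryTheory.Limits CategoryTheory.Functor
universe v₃ u₃ v₂ u₂ v u

namespace Groth.Agent.Lib.Helper31

namespace InertiaFP

variable {C : Type u} [Category.{v} C] {𝒳 : BasedCategory.{v₂, u₂} C} {𝒴 : BasedCategory.{v₃, u₃} C}
  (F : 𝒳 ⥤ᵇ 𝒴)

/-- the automorphism `(α, 𝟙)` of `Δ x`. -/
def autIso (Z : FibCat.InertiaObj F) : (FibCat.diag F).obj Z.pt ≅ (FibCat.diag F).obj Z.pt where
  hom := ObjectProperty.homMk ⟨Z.aut.hom, 𝟙 Z.pt, by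
    have h : F.map Z.aut.hom ≫ 𝟙 (F.obj Z.pt) = 𝟙 (F.obj Z.pt) ≫ F.map (𝟙 Z.pt) := by
      rw [Z.map_aut]; simp
    exact h⟩
  inv := ObjectProperty.homMk ⟨Z.aut.inv, 𝟙 Z.pt, by
    have h0 : F.map Z.aut.inv = 𝟙 (F.obj Z.pt) := by
      have h1 : F.map Z.aut.inv = F.map Z.aut.hom ≫ F.map Z.aut.inv := by
        rw [Z.map_aut, Category.id_comp]
      rw [h1, ← F.map_comp, Iso.hom_inv_id, F.map_id]
    have h : F.map Z.aut.inv ≫ 𝟙 (F.obj Z.pt) = 𝟙 (F.obj Z.pt) ≫ F.map (𝟙 Z.pt) := by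
      rw [h0]; simp
    exact h⟩
  hom_inv_id := by
    apply ObjectProperty.hom_ext
    apply CategoricalPullback.hom_ext
    · exact Z.aut.hom_inv_id
    · exact Category.id_comp _
  inv_hom_id := by
    apply ObjectProperty.hom_ext
    apply CategoricalPullback.hom_ext
    · exact Z.aut.inv_hom_id
    · exact Category.id_comp _

lemma autIso_hom_fst (Z : FibCat.InertiaObj F) : (autIso F Z).hom.hom.fst = Z.aut.hom := rfl
lemma autIso_hom_snd (Z : FibCat.InertiaObj F) : (autIso F Z).hom.hom.snd = 𝟙 Z.pt := rfl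

/-- the object of the fibre product of the diagonals attached to `(x, α)`. -/
def toFPObj (Z : FibCat.InertiaObj F) : (FibCat.fp (FibCat.diag F) (FibCat.diag F)).obj :=
  ⟨⟨Z.pt, Z.pt, autIso F Z⟩, by
    have h := inertia_aut_isHomLift F Z
    exact (fp_isHomLift_iff F F (𝟙 (𝒳.p.obj Z.pt)) (autIso F Z).hom).mpr h⟩

/-- the functor `I_{𝒳/𝒴} ⥤ 𝒳 ×_{Δ,Δ} 𝒳`. -/
def toFPFunctor : FibCat.InertiaObj F ⥤ (FibCat.fp (FibCat.diag F) (FibCat.diag F)).obj where
  obj Z := toFPObj F Z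
  map {Z Z'} φ := ObjectProperty.homMk ⟨φ.hom, φ.hom, by
    apply ObjectProperty.hom_ext
    apply CategoricalPullback.hom_ext
    · exact φ.comm.symm
    · have h : φ.hom ≫ 𝟙 Z'.pt = 𝟙 Z.pt ≫ φ.hom := by simp
      exact h⟩
  map_id Z := rfl
  map_comp φ ψ := rfl

/-- the functor over `C`. -/
def toFP : FibCat.inertia F ⥤ᵇ FibCat.fp (FibCat.diag F) (FibCat.diag F) where
  toFunctor := toFPFunctor F
  w := rfl

lemma toFP_fst : BasedFunctor.comp (toFP F) (FibCat.fpFst _ _) = FibCat.inertiaToBase F := rfl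
lemma toFP_snd : BasedFunctor.comp (toFP F) (FibCat.fpSnd _ _) = FibCat.inertiaToBase F := rfl

section Inverse

/-- first component `a : x ⟶ y` of the structural isomorphism. -/
def compA (Z : (FibCat.fp (FibCat.diag F) (FibCat.diag F)).obj) : Z.obj.fst ≅ Z.obj.snd :=
  (FibCat.fpFst F F).toFunctor.mapIso Z.obj.iso

/-- second component `b : x ⟶ y` of the structural isomorphism. -/
def compB (Z : (FibCat.fp (FibCat.diag F) (FibCat.diag F)).obj) : Z.obj.fst ≅ Z.obj.snd :=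
  (FibCat.fpSnd F F).toFunctor.mapIso Z.obj.iso

lemma compA_hom (Z : (FibCat.fp (FibCat.diag F) (FibCat.diag F)).obj) :
    (compA F Z).hom = Z.obj.iso.hom.hom.fst := rfl
lemma compB_hom (Z : (FibCat.fp (FibCat.diag F) (FibCat.diag F)).obj) :
    (compB F Z).hom = Z.obj.iso.hom.hom.snd := rfl

lemma map_compA_eq (Z : (FibCat.fp (FibCat.diag F) (FibCat.diag F)).obj) :
    F.map (compA F Z).hom = F.map (compB F Z).hom := by
  have h := Z.obj.iso.hom.hom.w
  have h' : F.map (compA F Z).hom ≫ 𝟙 (F.obj Z.obj.snd) = 𝟙 (F.obj Z.obj.fst) ≫ F.map (compB F Z).hom := h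
  simpa using h'

/-- naturality of the components. -/
lemma compA_naturality {Z Z' : (FibCat.fp (FibCat.diag F) (FibCat.diag F)).obj} (Φ : Z ⟶ Z') :
    Φ.hom.fst ≫ (compA F Z').hom = (compA F Z).hom ≫ Φ.hom.snd := by
  have h := Φ.hom.w
  have h1 := congrArg (fun k => k.hom.fst) h
  exact h1

lemma compB_naturality {Z Z' : (FibCat.fp (FibCat.diag F) (FibCat.diag F)).obj} (Φ : Z ⟶ Z') :
    Φ.hom.fst ≫ (compB F Z').hom = (compB F Z).hom ≫ Φ.hom.snd := by
  have h := Φ.hom.w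
  have h1 := congrArg (fun k => k.hom.snd) h
  exact h1

/-- the inertia object attached to `(x, y, (a, b))`. -/
def fromFPObj (Z : (FibCat.fp (FibCat.diag F) (FibCat.diag F)).obj) : FibCat.InertiaObj F where
  pt := Z.obj.fst
  aut := compA F Z ≪≫ (compB F Z).symm
  map_aut := by
    change F.map ((compA F Z).hom ≫ (compB F Z).inv) = 𝟙 _
    rw [F.map_comp, map_compA_eq, ← F.map_comp, Iso.hom_inv_id, F.map_id]

/-- the quasi-inverse functor. -/
def fromFPFunctor : (FibCat.fp (FibCat.diag F) (FibCat.diag F)).obj ⥤ FibCat.InertiaObj F where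
  obj Z := fromFPObj F Z
  map {Z Z'} Φ := ⟨Φ.hom.fst, by
    change ((compA F Z).hom ≫ (compB F Z).inv) ≫ Φ.hom.fst =
      Φ.hom.fst ≫ ((compA F Z').hom ≫ (compB F Z').inv)
    have hA := compA_naturality F Φ
    have hB := compB_naturality F Φ
    have hB' : (compB F Z).inv ≫ Φ.hom.fst = Φ.hom.snd ≫ (compB F Z').inv := by
      rw [Iso.inv_comp_eq, ← Category.assoc, ← hB, Category.assoc, Iso.hom_inv_id, Category.comp_id]
    rw [Category.assoc, hB', ← Category.assoc, ← hA, Category.assoc]⟩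
  map_id Z := rfl
  map_comp Φ Ψ := rfl

/-- the quasi-inverse functor over `C`. -/
def fromFP : FibCat.fp (FibCat.diag F) (FibCat.diag F) ⥤ᵇ FibCat.inertia F where
  toFunctor := fromFPFunctor F
  w := rfl

end Inverse

section Equiv

/-- isomorphisms of the inertia from isomorphisms of `𝒳` commuting with the automorphisms. -/
def inertiaIsoMk {Z Z' : FibCat.InertiaObj F} (e : Z.pt ≅ Z'.pt)
    (comm : Z.aut.hom ≫ e.hom = e.hom ≫ Z'.aut.hom) : Z ≅ Z' where
  hom := ⟨e.hom, comm⟩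
  inv := ⟨e.inv, by
    rw [Iso.comp_inv_eq, Category.assoc, comm, ← Category.assoc, Iso.inv_hom_id, Category.id_comp]⟩
  hom_inv_id := by
    apply FibCat.InertiaObj.hom_ext
    exact e.hom_inv_id
  inv_hom_id := by
    apply FibCat.InertiaObj.hom_ext
    exact e.inv_hom_id

/-- the counit component `(𝟙, b)`. -/
def tau (Z : (FibCat.fp (FibCat.diag F) (FibCat.diag F)).obj) :
    toFPObj F (fromFPObj F Z) ⟶ Z :=
  ObjectProperty.homMk ⟨𝟙 Z.obj.fst, (compB F Z).hom, by
    apply ObjectProperty.hom_ext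
    apply CategoricalPullback.hom_ext
    · have h : 𝟙 Z.obj.fst ≫ (compA F Z).hom = ((compA F Z).hom ≫ (compB F Z).inv) ≫ (compB F Z).hom := by
        simp
      exact h
    · have h : 𝟙 Z.obj.fst ≫ (compB F Z).hom = 𝟙 Z.obj.fst ≫ (compB F Z).hom := rfl
      exact h⟩

lemma tau_fst (Z : (FibCat.fp (FibCat.diag F) (FibCat.diag F)).obj) :
    (tau F Z).hom.fst = 𝟙 Z.obj.fst := rfl
lemma tau_snd (Z : (FibCat.fp (FibCat.diag F) (FibCat.diag F)).obj) :
    (tau F Z).hom.snd = (compB F Z).hom := rfl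

instance tau_isIso (Z : (FibCat.fp (FibCat.diag F) (FibCat.diag F)).obj) : IsIso (tau F Z) := by
  have h1 : IsIso ((FibCat.fpProp (FibCat.diag F) (FibCat.diag F)).ι.map (tau F Z)) := by
    rw [CategoricalPullback.isIso_iff]
    constructor
    · exact (inferInstance : IsIso (𝟙 Z.obj.fst))
    · exact (inferInstance : IsIso (compB F Z).hom)
  exact isIso_of_fully_faithful (FibCat.fpProp (FibCat.diag F) (FibCat.diag F)).ι _

theorem toFP_isEquivOver : FibCat.IsEquivOver (toFP F) := by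
  refine ⟨fromFP F, ⟨?_⟩, ⟨?_⟩⟩
  · refine BasedNatIso.mkNatIso (NatIso.ofComponents
      (fun Z => inertiaIsoMk F (Z := fromFPObj F (toFPObj F Z)) (Z' := Z) (Iso.refl Z.pt) (by
        change (Z.aut.hom ≫ 𝟙 Z.pt) ≫ 𝟙 Z.pt = 𝟙 Z.pt ≫ Z.aut.hom
        simp)) ?_) ?_
    · intro Z Z' φ
      apply FibCat.InertiaObj.hom_ext
      change φ.hom ≫ 𝟙 _ = 𝟙 _ ≫ φ.hom
      simp
    · intro Z
      apply (inertia_isHomLift_iff F _ _).mpr
      change 𝒳.p.IsHomLift (𝟙 (𝒳.p.obj Z.pt)) (𝟙 Z.pt)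
      infer_instance
  · let τ : BasedFunctor.comp (fromFP F) (toFP F) ⟶
        BasedFunctor.id (FibCat.fp (FibCat.diag F) (FibCat.diag F)) :=
      { toNatTrans :=
          { app := fun Z => tau F Z
            naturality := by
              intro Z Z' Φ
              apply ObjectProperty.hom_ext
              apply CategoricalPullback.hom_ext
              · change Φ.hom.fst ≫ 𝟙 _ = 𝟙 _ ≫ Φ.hom.fst
                simp
              · exact compB_naturality F Φ }
        isHomLift' := by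
          intro Z
          apply (fp_isHomLift_iff (FibCat.diag F) (FibCat.diag F) _ _).mpr
          change 𝒳.p.IsHomLift (𝟙 (𝒳.p.obj Z.obj.fst)) (𝟙 Z.obj.fst)
          infer_instance }
    have : ∀ Z, IsIso (τ.toNatTrans.app Z) := fun Z => tau_isIso F Z
    have : IsIso (X := (BasedFunctor.comp (fromFP F) (toFP F)).toFunctor) τ.toNatTrans :=
      NatIso.isIso_of_isIso_app _
    have : IsIso τ := BasedNatIso.isIso_of_toNatTrans_isIso τ
    exact asIso τ

end Equiv

theorem exists_toFP : ∃ E : FibCat.inertia F ⥤ᵇ FibCat.fp (FibCat.diag F) (FibCat.diag F),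
    FibCat.IsEquivOver E ∧ BasedFunctor.comp E (FibCat.fpFst _ _) = FibCat.inertiaToBase F ∧
      BasedFunctor.comp E (FibCat.fpSnd _ _) = FibCat.inertiaToBase F :=
  ⟨toFP F, toFP_isEquivOver F, toFP_fst F, toFP_snd F⟩

end InertiaFP

end Groth.Agent.Lib.Helper31
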