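import Groth.Agent.Lib.Helper31.AdicUnivInj

/-!
# Universal injectivity of `B → B^` for the `J`-adic completion, `J` an ideal of `B` (helper31)

`B` a Noetherian `A`-algebra, `J` an ideal of `B`, `Bh` a `B`-algebra with `B/Jⁿ ≃ Bh/JⁿBh`.
If for every finite `A`-module `Q` every associated prime `q` of `B ⊗_A Q` has `J + q ≠ B`, then
`B → Bh` is universally injective over `A`.
-/

set_option autoImplicit false
universe u
open LinearMap TensorProduct

namespace Groth.Agent.Lib.Helper31.JAdicUnivInj

open Groth.Agent.Lib.Helper31.ComplUnivInj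

section Krull

variable {B : Type u} [CommRing B] [IsNoetherianRing B] (J : Ideal B)

theorem iInf_pow_smul_eq_bot (P : Type u) [AddCommGroup P] [Module B P] [Module.Finite B P]
    (h : ∀ q ∈ associatedPrimes B P, J ⊔ q ≠ ⊤) :
    (⨅ i : ℕ, J ^ i • ⊤ : Submodule B P) = ⊥ := by
  rw [eq_bot_iff]
  intro x hmem
  rw [Submodule.mem_bot]
  by_contra hne
  obtain ⟨r, hr⟩ := (Ideal.mem_iInf_smul_pow_eq_bot_iff _ x).1 hmem
  obtain ⟨q, hq, hle⟩ := exists_le_isAssociatedPrime_of_isNoetherianRing B x hne
  apply h q hq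
  rw [Ideal.eq_top_iff_one]
  have h1 : (1 - (r : B)) ∈ q := hle (by
    rw [Submodule.mem_colon_singleton, Submodule.mem_bot, sub_smul, one_smul, hr, sub_self])
  have h2 : (1 : B) = (r : B) + (1 - r) := by ring
  rw [h2]
  exact Ideal.add_mem _ (Ideal.mem_sup_left r.2) (Ideal.mem_sup_right h1)

end Krull

section Ker

variable {A B : Type u} [CommRing A] [CommRing B] [Algebra A B] (I : Ideal B)
  (Q : Type u) [AddCommGroup Q] [Module A Q]

/-- the kernel of `B ⊗ Q → (B/I) ⊗ Q` is `I (B ⊗ Q)`. -/
theorem mem_smul_top_of_rTensor_mk_eq_zero (x : B ⊗[A] Q)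
    (hx : ((Ideal.Quotient.mkₐ A I).toLinearMap.rTensor Q) x = 0) :
    x ∈ (I • ⊤ : Submodule B (B ⊗[A] Q)) := by
  have hex : Function.Exact ((I.restrictScalars A).subtype)
      ((Ideal.Quotient.mkₐ A I).toLinearMap) := by
    intro b
    constructor
    · intro hb
      exact ⟨⟨b, Ideal.Quotient.eq_zero_iff_mem.mp hb⟩, rfl⟩
    · rintro ⟨⟨b', hb'⟩, rfl⟩
      exact Ideal.Quotient.eq_zero_iff_mem.mpr hb'
  have hsurj : Function.Surjective ((Ideal.Quotient.mkₐ A I).toLinearMap) :=
    Ideal.Quotient.mk_surjective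
  obtain ⟨y, rfl⟩ := (rTensor_exact Q hex hsurj x).mp hx
  clear hx
  induction y using TensorProduct.induction_on with
  | zero => simp
  | tmul j q =>
    rw [LinearMap.rTensor_tmul]
    have : ((I.restrictScalars A).subtype j) ⊗ₜ[A] q = (j : B) • ((1 : B) ⊗ₜ[A] q) := by
      rw [TensorProduct.smul_tmul', smul_eq_mul, mul_one]; rfl
    rw [this]
    exact Submodule.smul_mem_smul j.2 Submodule.mem_top
  | add a b ha hb =>
    rw [map_add]
    exact Submodule.add_mem _ ha hb

end Ker

section Main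

variable {A B : Type u} [CommRing A] [CommRing B] [Algebra A B] [IsNoetherianRing B]
  (J : Ideal B) (Bh : Type u) [CommRing Bh] [Algebra B Bh] [Algebra A Bh] [IsScalarTower A B Bh]

theorem univInj_of
    (hq : ∀ n : ℕ, Function.Bijective (Ideal.quotientMap ((J ^ n).map (algebraMap B Bh))
      (algebraMap B Bh) Ideal.le_comap_map))
    (h : ∀ (Q : Type u) [AddCommGroup Q] [Module A Q], Module.Finite A Q →
      ∀ q ∈ associatedPrimes B (B ⊗[A] Q), J ⊔ q ≠ ⊤) :
    FlatCA.UnivInj A (IsScalarTower.toAlgHom A B Bh).toLinearMap := by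
  have h1 : CAlgX.UniversallyInjective A (IsScalarTower.toAlgHom A B Bh).toLinearMap := by
    apply universallyInjective_of_forall_finite
    intro Q _ _ hQ
    have : Module.Finite B (B ⊗[A] Q) := Groth.Agent.Lib.Helper31.AdicUnivInj.finite_tensor B Q
    have hK := iInf_pow_smul_eq_bot J (B ⊗[A] Q) (h Q hQ)
    rw [injective_iff_map_eq_zero]
    intro x hx
    have hmem : x ∈ (⨅ i : ℕ, J ^ i • ⊤ : Submodule B (B ⊗[A] Q)) := by
      rw [Submodule.mem_iInf]
      intro n
      apply mem_smul_top_of_rTensor_mk_eq_zero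
      -- the comparison
      let e : (B ⧸ J ^ n) →ₐ[A] (Bh ⧸ (J ^ n).map (algebraMap B Bh)) :=
        Ideal.quotientMapₐ _ (IsScalarTower.toAlgHom A B Bh) Ideal.le_comap_map
      have he : Function.Injective (e.toLinearMap.rTensor Q) := by
        have hb : Function.Bijective e.toLinearMap := hq n
        let e' := LinearEquiv.ofBijective e.toLinearMap hb
        have : e.toLinearMap.rTensor Q = (e'.rTensor Q).toLinearMap := rfl
        rw [this]
        exact (e'.rTensor Q).injective
      apply he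
      rw [map_zero, ← LinearMap.comp_apply, ← LinearMap.rTensor_comp]
      have hcomm : e.toLinearMap ∘ₗ (Ideal.Quotient.mkₐ A (J ^ n)).toLinearMap =
          (Ideal.Quotient.mkₐ A ((J ^ n).map (algebraMap B Bh))).toLinearMap ∘ₗ
            (IsScalarTower.toAlgHom A B Bh).toLinearMap := by
        ext b
        rfl
      rw [hcomm, LinearMap.rTensor_comp, LinearMap.comp_apply, hx, map_zero]
    rw [hK] at hmem
    exact hmem
  intro Q _ _
  rw [LinearMap.lTensor_inj_iff_rTensor_inj]
  exact h1 Q

end Main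

end Groth.Agent.Lib.Helper31.JAdicUnivInj
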