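import Mathlib

/-!
# Universal injectivity over local rings from injectivity on the closed fibre (helper31)

* `eq_zero_of_sum_tmul_eq_zero`: over a local ring, a family `v` in a flat module whose reduction
  is linearly independent over the residue field is "universally" linearly independent.
* `lTensor_injective_of_residueField`: a map from a free module to a flat module which is injective
  modulo the maximal ideal is universally injective (Stacks 05FQ for free source).
-/

set_option autoImplicit false

namespace Groth.Agent.Lib.Helper31.LocalUnivInj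

open Module IsLocalRing TensorProduct

variable {R : Type*} [CommRing R] [IsLocalRing R]

local notation "k" => ResidueField R
local notation "𝔪" => maximalIdeal R

theorem eq_zero_of_sum_tmul_eq_zero
    {M : Type*} [AddCommGroup M] [Module R M] [Module.Flat R M]
    {Q : Type*} [AddCommGroup Q] [Module R Q] {ι : Type*} (v : ι → M)
    (h : LinearIndependent k (TensorProduct.mk R k M 1 ∘ v))
    (s : Finset ι) (q : ι → Q) (hq : ∑ i ∈ s, q i ⊗ₜ[R] v i = 0) : ∀ i ∈ s, q i = 0 := by
  classical
  induction s using Finset.induction generalizing v with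
  | empty => intro i hi; exact (Finset.notMem_empty _ hi).elim
  | insert n s hn ih =>
    have hq0 := hq
    rw [← Finset.sum_coe_sort] at hq
    have hinj : Function.Injective (LinearMap.rTensor M
        (Submodule.span R (Set.range fun i : ↥(insert n s) => q i)).subtype) :=
      Module.Flat.rTensor_preserves_injective_linearMap _ (Submodule.injective_subtype _)
    obtain ⟨l, a, y, hay, hfa⟩ :=
      TensorProduct.vanishesTrivially_of_sum_tmul_eq_zero_of_rTensor_injective R hinj hq
    have hvn : v n ∉ 𝔪 • (⊤ : Submodule R M) := by
      simpa only [← LinearMap.ker_tensorProductMk] using! h.ne_zero n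
    set n' : ↥(insert n s) := ⟨n, Finset.mem_insert_self ..⟩ with n_def
    obtain ⟨j, hj⟩ : ∃ j, IsUnit (a n' j) := by
      contrapose! hvn
      rw [show v n = _ from hay n']
      exact sum_mem fun _ _ ↦ Submodule.smul_mem_smul (hvn _) ⟨⟩
    let a' (i : ι) : R := if hi : i ∈ insert n s then a ⟨i, hi⟩ j else 0
    have a_eq (i : ↥(insert n s)) : a i j = a' i.1 := by simp_rw [a', dif_pos i.2]
    have hsum : a' n • q n + ∑ i ∈ s, a' i • q i = 0 := by
      have := hfa j
      simp_rw [a_eq] at this
      rw [Finset.sum_coe_sort _ (fun i ↦ a' i • q i), Finset.sum_insert hn] at this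
      exact this
    have han : a' n = hj.unit := by
      rw [← a_eq n']; rfl
    have hqn : q n = -((hj.unit⁻¹ : Rˣ) : R) • ∑ i ∈ s, a' i • q i := by
      have h1 : q n = ((hj.unit⁻¹ : Rˣ) : R) • (a' n • q n) := by
        rw [smul_smul, han, Units.inv_mul, one_smul]
      rw [h1, eq_neg_of_add_eq_zero_left hsum, smul_neg, neg_smul]
    let c (i : ι) : R := -(if i = n then 0 else a' i) * ((hj.unit⁻¹ : Rˣ) : R)
    have ih' := ih (v + (c · • v n)) ?_ ?_
    · intro i hi
      obtain rfl | hi := Finset.mem_insert.mp hi
      · rw [hqn, Finset.sum_eq_zero, smul_zero]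
        intro i hi; rw [ih' i hi, smul_zero]
      · exact ih' i hi
    · convert! (linearIndependent_add_smul_iff (c := Ideal.Quotient.mk _ ∘ c) (i := n) ?_).mpr h
      · ext; simp [tmul_add]; rfl
      simp_rw [Function.comp_def, c, if_pos, neg_zero, zero_mul, map_zero]
    · rw [Finset.sum_insert hn] at hq0
      simp only [Pi.add_apply, tmul_add, Finset.sum_add_distrib]
      rw [← hq0, add_comm]
      congr 1
      have hsm : ∀ x ∈ s, q x ⊗ₜ[R] (c x • v n) = (c x • q x) ⊗ₜ[R] v n :=
        fun x _ => (smul_tmul _ _ _).symm
      rw [Finset.sum_congr rfl hsm, ← TensorProduct.sum_tmul]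
      congr 1
      rw [hqn, Finset.smul_sum]
      refine Finset.sum_congr rfl fun i hi => ?_
      simp only [c]
      rw [if_neg (ne_of_mem_of_not_mem hi hn), smul_smul]
      congr 1
      ring

/-- **Stacks 05FQ** (free source): over a local ring, a linear map from a free module to a flat
module which is injective modulo the maximal ideal is universally injective. -/
theorem lTensor_injective_of_residueField {M N : Type*} [AddCommGroup M] [Module R M]
    [Module.Free R M] [AddCommGroup N] [Module R N] [Module.Flat R N] (u : M →ₗ[R] N)
    (hu : Function.Injective (u.lTensor k)) (Q : Type*) [AddCommGroup Q] [Module R Q] :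
    Function.Injective (u.lTensor Q) := by
  classical
  let b := Module.Free.chooseBasis R M
  have hli : LinearIndependent k (TensorProduct.mk R k N 1 ∘ (u ∘ b)) := by
    have h1 : LinearIndependent k (b.baseChange k) := (b.baseChange k).linearIndependent
    have h2 := h1.map' (u.baseChange k) (LinearMap.ker_eq_bot.mpr
      (by rw [LinearMap.baseChange_eq_ltensor]; exact hu))
    have h3 : (TensorProduct.mk R k N 1 ∘ (u ∘ b)) = (u.baseChange k) ∘ (b.baseChange k) := by
      funext i
      simp [Basis.baseChange_apply]
    rw [h3]; exact h2
  rw [injective_iff_map_eq_zero]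
  intro x hx
  obtain ⟨f, rfl⟩ := (TensorProduct.equivFinsuppOfBasisRight (M := Q) b).symm.surjective x
  rw [TensorProduct.equivFinsuppOfBasisRight_symm_apply] at hx ⊢
  rw [Finsupp.sum, map_sum] at hx
  simp only [LinearMap.lTensor_tmul] at hx
  have h0 := eq_zero_of_sum_tmul_eq_zero (u ∘ b) hli f.support (fun i => f i) hx
  rw [Finsupp.sum]
  refine Finset.sum_eq_zero fun i hi => ?_
  rw [h0 i hi, TensorProduct.zero_tmul]

end Groth.Agent.Lib.Helper31.LocalUnivInj
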