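import Mathlib.CategoryTheory.Localization.CalculusOfFractions
import Mathlib.Data.Fintype.EquivFin
import Mathlib.Data.Fintype.Option

set_option autoImplicit false
open CategoryTheory
universe v u v' u'

namespace Groth.Agent.Lib.Helper31

variable {C : Type u} [Category.{v} C] {D : Type u'} [Category.{v'} D] (W : MorphismProperty C) (L : C ⥤ D)
  [L.IsLocalization W]

theorem exists_left_denominator [W.HasLeftCalculusOfFractions] {X Y : C} (g : L.obj X ⟶ L.obj Y) :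
    ∃ (Y' : C) (s : Y ⟶ Y') (_ : W s) (f : X ⟶ Y'), g ≫ L.map s = L.map f := by
  obtain ⟨φ, rfl⟩ := Localization.exists_leftFraction L W g
  exact ⟨φ.Y', φ.s, φ.hs, φ.f, φ.map_comp_map_s L _⟩

theorem exists_right_denominator [W.HasRightCalculusOfFractions] {X Y : C} (g : L.obj X ⟶ L.obj Y) :
    ∃ (X' : C) (s : X' ⟶ X) (_ : W s) (f : X' ⟶ Y), L.map s ≫ g = L.map f := by
  obtain ⟨φ, rfl⟩ := Localization.exists_rightFraction L W g
  exact ⟨φ.X', φ.s, φ.hs, φ.f, φ.map_s_comp_map L _⟩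

theorem exists_common_denominator [W.HasLeftCalculusOfFractions] (ι : Type) [Finite ι] :
    ∀ (X : ι → C) (Y : C) (g : ∀ i, L.obj (X i) ⟶ L.obj Y),
    ∃ (Y' : C) (s : Y ⟶ Y') (_ : W s) (f : ∀ i, X i ⟶ Y'), ∀ i, g i ≫ L.map s = L.map (f i) := by
  refine Finite.induction_empty_option (P := fun ι => ∀ (X : ι → C) (Y : C) (g : ∀ i, L.obj (X i) ⟶ L.obj Y),
    ∃ (Y' : C) (s : Y ⟶ Y') (_ : W s) (f : ∀ i, X i ⟶ Y'), ∀ i, g i ≫ L.map s = L.map (f i)) ?_ ?_ ?_ ι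
  · intro α β e h X Y g
    obtain ⟨Y', s, hs, f, hf⟩ := h (fun a => X (e a)) Y (fun a => g (e a))
    have key : ∀ (b : β) (a : α) (_ : e a = b), ∃ fb : X b ⟶ Y', g b ≫ L.map s = L.map fb := by
      intro b a h; subst h; exact ⟨f a, hf a⟩
    choose fb hfb using fun b => key b (e.symm b) (e.apply_symm_apply b)
    exact ⟨Y', s, hs, fb, hfb⟩
  · intro X Y g
    exact ⟨Y, 𝟙 Y, W.id_mem Y, fun i => i.elim, fun i => i.elim⟩
  · intro α _ h X Y g
    obtain ⟨Y₁, s₁, hs₁, f₁, hf₁⟩ := h (fun a => X (some a)) Y (fun a => g (some a))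
    obtain ⟨Y₂, t, ht, f₀, hf₀⟩ := exists_left_denominator W L (g none ≫ L.map s₁)
    refine ⟨Y₂, s₁ ≫ t, W.comp_mem _ _ hs₁ ht, fun i => match i with
      | none => f₀
      | some a => f₁ a ≫ t, fun i => ?_⟩
    cases i with
    | none => simpa using hf₀
    | some a =>
      have := hf₁ a
      simp only [Functor.map_comp]
      rw [← Category.assoc, this]

theorem isIso_map_iff_exists [W.HasLeftCalculusOfFractions] [W.HasRightCalculusOfFractions]
    {X Y : C} (f : X ⟶ Y) :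
    IsIso (L.map f) ↔ ∃ (Z Z' : C) (g : Y ⟶ Z) (h : Z' ⟶ X), W (f ≫ g) ∧ W (h ≫ f) := by
  constructor
  · intro hf
    -- left
    obtain ⟨X₁, s, hs, a, ha⟩ := exists_left_denominator W L (inv (L.map f))
    have e1 : L.map (f ≫ a) = L.map s := by
      rw [L.map_comp, ← ha, IsIso.hom_inv_id_assoc]
    obtain ⟨X₂, t, ht, e1'⟩ := (MorphismProperty.map_eq_iff_postcomp L W _ _).mp e1
    -- right
    obtain ⟨Y₁, s', hs', a', ha'⟩ := exists_right_denominator W L (inv (L.map f))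
    have e2 : L.map (a' ≫ f) = L.map s' := by
      rw [L.map_comp, ← ha', Category.assoc, IsIso.inv_hom_id, Category.comp_id]
    obtain ⟨Y₂, t', ht', e2'⟩ := (MorphismProperty.map_eq_iff_precomp L W _ _).mp e2
    refine ⟨X₂, Y₂, a ≫ t, t' ≫ a', ?_, ?_⟩
    · have : f ≫ a ≫ t = s ≫ t := by simpa using e1'
      rw [this]
      exact W.comp_mem _ _ hs ht
    · have : (t' ≫ a') ≫ f = t' ≫ s' := by simpa using e2'
      rw [this]
      exact W.comp_mem _ _ ht' hs'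
  · rintro ⟨Z, Z', g, h, hg, hh⟩
    have i1 : IsIso (L.map f ≫ L.map g) := by
      rw [← L.map_comp]; exact Localization.inverts L W _ hg
    have i2 : IsIso (L.map h ≫ L.map f) := by
      rw [← L.map_comp]; exact Localization.inverts L W _ hh
    -- right inverse r, left inverse l
    let r := L.map g ≫ inv (L.map f ≫ L.map g)
    let l := inv (L.map h ≫ L.map f) ≫ L.map h
    have hr : L.map f ≫ r = 𝟙 _ := by
      simp only [r, ← Category.assoc]; exact IsIso.hom_inv_id _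
    have hl : l ≫ L.map f = 𝟙 _ := by
      simp only [l, Category.assoc]; exact IsIso.inv_hom_id _
    have hlr : l = r := by
      calc l = l ≫ (L.map f ≫ r) := by rw [hr, Category.comp_id]
        _ = (l ≫ L.map f) ≫ r := (Category.assoc _ _ _).symm
        _ = r := by rw [hl, Category.id_comp]
    exact ⟨⟨r, hr, by rw [← hlr]; exact hl⟩⟩

theorem exists_lift_square [W.HasLeftCalculusOfFractions]
    {X Y X' Y' : C} (f : X ⟶ Y) (f' : X' ⟶ Y') (a : L.obj X ⟶ L.obj X') (b : L.obj Y ⟶ L.obj Y')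
    (w : L.map f ≫ b = a ≫ L.map f') :
    ∃ (X'' Y'' : C) (f'' : X'' ⟶ Y'') (g : X ⟶ X'') (h : Y ⟶ Y'') (s : X' ⟶ X'') (t : Y' ⟶ Y''),
      W s ∧ W t ∧ f ≫ h = g ≫ f'' ∧ f' ≫ t = s ≫ f'' ∧ L.map g = a ≫ L.map s ∧ L.map h = b ≫ L.map t := by
  obtain ⟨X₁, s₀, hs₀, g₀, hg₀⟩ := exists_left_denominator W L a
  obtain ⟨ψ, hψ⟩ := (MorphismProperty.RightFraction.mk s₀ hs₀ f').exists_leftFraction
  obtain ⟨Y₁, f₁, t₁, ht₁, rfl⟩ := ψ.cases
  dsimp at hψ
  -- hψ : f' ≫ t₁ = s₀ ≫ f₁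
  obtain ⟨Y₂, u, hu, h₁, hh₁⟩ := exists_left_denominator W L (b ≫ L.map t₁)
  have e : L.map (f ≫ h₁) = L.map (g₀ ≫ f₁ ≫ u) := by
    calc L.map (f ≫ h₁) = L.map f ≫ (b ≫ L.map t₁) ≫ L.map u := by rw [L.map_comp, hh₁]
      _ = (L.map f ≫ b) ≫ L.map t₁ ≫ L.map u := by simp only [Category.assoc]
      _ = a ≫ L.map (f' ≫ t₁) ≫ L.map u := by rw [w, L.map_comp]; simp only [Category.assoc]
      _ = (a ≫ L.map s₀) ≫ L.map f₁ ≫ L.map u := by rw [hψ, L.map_comp]; simp only [Category.assoc]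
      _ = L.map (g₀ ≫ f₁ ≫ u) := by rw [hg₀]; simp only [L.map_comp]
  obtain ⟨Y₃, v, hv, e'⟩ := (MorphismProperty.map_eq_iff_postcomp L W _ _).mp e
  refine ⟨X₁, Y₃, f₁ ≫ u ≫ v, g₀, h₁ ≫ v, s₀, t₁ ≫ u ≫ v, hs₀,
    W.comp_mem _ _ ht₁ (W.comp_mem _ _ hu hv), ?_, ?_, hg₀.symm, ?_⟩
  · simpa using e'
  · rw [← Category.assoc, hψ, Category.assoc]
  · rw [L.map_comp, ← hh₁]
    simp only [L.map_comp, Category.assoc]

end Groth.Agent.Lib.Helper31
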