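import Groth.Agent.Lib.Helper31.Localization
import Mathlib.CategoryTheory.Limits.Preserves.Finite
import Mathlib.CategoryTheory.FinCategory.Basic
import Mathlib.Data.Fintype.Sigma

set_option autoImplicit false
open CategoryTheory CategoryTheory.Limits
universe v u v' u' w

namespace Groth.Agent.Lib.Helper31

namespace LocColim

variable {C : Type u} [Category.{v} C] {D : Type u'} [Category.{v'} D] (W : MorphismProperty C)
  (L : C ⥤ D) [L.IsLocalization W] [W.HasLeftCalculusOfFractions]

/-- finitely many parallel pairs identified by `L` are simultaneously coequalized by a map in `W`. -/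
theorem exists_common_postcomp {ι : Type w} [Finite ι] {X : ι → C} {Y : C} (p q : ∀ i, X i ⟶ Y)
    (h : ∀ i, L.map (p i) = L.map (q i)) :
    ∃ (Y' : C) (t : Y ⟶ Y') (_ : W t), ∀ i, p i ≫ t = q i ≫ t := by
  classical
  letI := Fintype.ofFinite ι
  have key : ∀ S : Finset ι, ∃ (Y' : C) (t : Y ⟶ Y') (_ : W t), ∀ i ∈ S, p i ≫ t = q i ≫ t := by
    intro S
    induction S using Finset.induction_on with
    | empty => exact ⟨Y, 𝟙 Y, W.id_mem Y, by simp⟩
    | insert a S _ ih =>
      obtain ⟨Y', t, ht, hS⟩ := ih
      have e : L.map (p a ≫ t) = L.map (q a ≫ t) := by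
        rw [L.map_comp, L.map_comp, h a]
      obtain ⟨Z, s, hs, hfac⟩ := (MorphismProperty.map_eq_iff_postcomp L W _ _).1 e
      refine ⟨Z, t ≫ s, W.comp_mem _ _ ht hs, ?_⟩
      intro i hi
      rcases Finset.mem_insert.1 hi with rfl | hi
      · simpa using hfac
      · rw [← Category.assoc, hS i hi, Category.assoc]
  obtain ⟨Y', t, ht, h'⟩ := key Finset.univ
  exact ⟨Y', t, ht, fun i => h' i (Finset.mem_univ i)⟩

variable {J : Type} [SmallCategory J] [FinCategory J] {K : J ⥤ C} {c : Cocone K}
  (hc : IsColimit c)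

include W hc in
theorem exists_desc (Y : C) (g : ∀ j, L.obj (K.obj j) ⟶ L.obj Y)
    (hg : ∀ (j j' : J) (φ : j ⟶ j'), L.map (K.map φ) ≫ g j' = g j) :
    ∃ m : L.obj c.pt ⟶ L.obj Y, ∀ j, L.map (c.ι.app j) ≫ m = g j := by
  obtain ⟨Y', s0, hs0, f, hf⟩ := exists_common_denominator W L J (fun j => K.obj j) Y g
  -- coequalize the cocone relations
  obtain ⟨Y'', t, ht, hrel⟩ := exists_common_postcomp W L
    (ι := Σ (j j' : J), j ⟶ j') (X := fun a => K.obj a.1) (Y := Y')
    (fun a => K.map a.2.2 ≫ f a.2.1) (fun a => f a.1) (by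
      rintro ⟨j, j', φ⟩
      simp only
      rw [L.map_comp, ← hf j', ← hf j, ← Category.assoc, hg j j' φ])
  have hnat : ∀ (j j' : J) (φ : j ⟶ j'), K.map φ ≫ f j' ≫ t = f j ≫ t := by
    intro j j' φ
    have := hrel ⟨j, j', φ⟩
    simpa [Category.assoc] using this
  let s : Cocone K :=
    { pt := Y''
      ι := { app := fun j => f j ≫ t
             naturality := fun j j' φ => by simpa using hnat j j' φ } }
  haveI : IsIso (L.map (s0 ≫ t)) := Localization.inverts L W _ (W.comp_mem _ _ hs0 ht)
  refine ⟨L.map (hc.desc s) ≫ inv (L.map (s0 ≫ t)), fun j => ?_⟩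
  rw [← Category.assoc, ← L.map_comp, hc.fac s j]
  change L.map (f j ≫ t) ≫ _ = _
  rw [IsIso.comp_inv_eq, L.map_comp, ← hf j, Category.assoc, ← L.map_comp]

include W hc in
theorem hom_ext (Y : C) (m m' : L.obj c.pt ⟶ L.obj Y)
    (h : ∀ j, L.map (c.ι.app j) ≫ m = L.map (c.ι.app j) ≫ m') : m = m' := by
  obtain ⟨Y', s0, hs0, a, ha⟩ := exists_common_denominator W L Bool (fun _ => c.pt) Y
    (fun b => if b then m else m')
  have h1 : m ≫ L.map s0 = L.map (a true) := by simpa using ha true
  have h2 : m' ≫ L.map s0 = L.map (a false) := by simpa using ha false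
  obtain ⟨Y'', t, ht, hrel⟩ := exists_common_postcomp W L
    (ι := J) (X := fun j => K.obj j) (Y := Y')
    (fun j => c.ι.app j ≫ a true) (fun j => c.ι.app j ≫ a false) (by
      intro j
      rw [L.map_comp, L.map_comp, ← h1, ← h2, ← Category.assoc, ← Category.assoc, h j])
  have hat : a true ≫ t = a false ≫ t := by
    apply hc.hom_ext
    intro j
    have := hrel j
    simpa [Category.assoc] using this
  haveI : IsIso (L.map t) := Localization.inverts L W _ ht
  haveI : IsIso (L.map s0) := Localization.inverts L W _ hs0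
  have : L.map (a true) = L.map (a false) := by
    rw [← cancel_mono (L.map t), ← L.map_comp, ← L.map_comp, hat]
  rw [← cancel_mono (L.map s0), h1, h2, this]

include W hc in
theorem isColimit_mapCocone : Nonempty (IsColimit (L.mapCocone c)) := by
  haveI : L.EssSurj := Localization.essSurj L W
  have key : ∀ s : Cocone (K ⋙ L), ∃! m : L.obj c.pt ⟶ s.pt,
      ∀ j, L.map (c.ι.app j) ≫ m = s.ι.app j := by
    intro s
    let Y := L.objPreimage s.pt
    let e : L.obj Y ≅ s.pt := L.objObjPreimageIso s.pt
    obtain ⟨m, hm⟩ := exists_desc W L hc Y (fun j => s.ι.app j ≫ e.inv) (by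
      intro j j' φ
      have := s.w φ
      simp only [Functor.comp_map] at this
      rw [← Category.assoc, this])
    refine ⟨m ≫ e.hom, fun j => ?_, ?_⟩
    · rw [← Category.assoc, hm j, Category.assoc, e.inv_hom_id]
      exact Category.comp_id _
    · intro m' hm'
      have : m' ≫ e.inv = m := by
        apply hom_ext W L hc Y
        intro j
        rw [← Category.assoc, hm' j, hm j]
      rw [← this, Category.assoc, e.inv_hom_id, Category.comp_id]
  choose d hd hu using key
  exact ⟨{ desc := d
           fac := fun s j => hd s j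
           uniq := fun s m hm => hu s m hm }⟩

end LocColim

end Groth.Agent.Lib.Helper31
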