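import Groth.Prelude.Def_Found
import Groth.Prelude.Def_CAlgX
import Mathlib.LinearAlgebra.DirectSum.TensorProduct

set_option autoImplicit false
open TensorProduct
universe u

namespace Groth.Agent.Lib.Helper31

namespace ML

variable (R : Type u) [CommRing R]

section

variable {M M' : Type u} [AddCommGroup M] [Module R M] [AddCommGroup M'] [Module R M']

lemma piRightHom_naturality (f : M →ₗ[R] M') {ι : Type u} (Q : ι → Type u) [∀ i, AddCommGroup (Q i)]
    [∀ i, Module R (Q i)] (t : M ⊗[R] (∀ i, Q i)) (i : ι) :
    TensorProduct.piRightHom R R M' Q (f.rTensor (∀ i, Q i) t) i =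
      f.rTensor (Q i) (TensorProduct.piRightHom R R M Q t i) := by
  induction t using TensorProduct.induction_on with
  | zero => simp
  | tmul x q => simp
  | add a b ha hb => simp only [map_add, Pi.add_apply, ha, hb]

theorem isMittagLeffler_of_universallyInjective (f : M →ₗ[R] M')
    (hf : CAlgX.UniversallyInjective R f) (h₂ : CAlg.IsMittagLeffler R M') :
    CAlg.IsMittagLeffler R M := by
  intro ι Q _ _ a b hab
  apply hf (∀ i, Q i)
  apply h₂ ι Q
  funext i
  rw [piRightHom_naturality, piRightHom_naturality, hab]

theorem isMittagLeffler_of_exact {M₁ M₂ M₃ : Type u}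
    [AddCommGroup M₁] [Module R M₁] [AddCommGroup M₂] [Module R M₂] [AddCommGroup M₃] [Module R M₃]
    (f : M₁ →ₗ[R] M₂) (g : M₂ →ₗ[R] M₃) (hf : CAlgX.UniversallyInjective R f)
    (hg : Function.Surjective g) (hfg : LinearMap.range f = LinearMap.ker g)
    (h₁ : CAlg.IsMittagLeffler R M₁) (h₃ : CAlg.IsMittagLeffler R M₃) :
    CAlg.IsMittagLeffler R M₂ := by
  intro ι Q _ _
  rw [injective_iff_map_eq_zero]
  intro t ht
  have hex : Function.Exact f g := (LinearMap.exact_iff).mpr hfg.symm
  have hex' := rTensor_exact (∀ i, Q i) hex hg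
  -- image in M₃ ⊗ P vanishes
  have h3 : g.rTensor (∀ i, Q i) t = 0 := by
    apply (injective_iff_map_eq_zero _).mp (h₃ ι Q)
    funext i
    rw [piRightHom_naturality, ht]
    simp
  obtain ⟨s, rfl⟩ := (hex' t).mp h3
  have h1 : s = 0 := by
    apply (injective_iff_map_eq_zero _).mp (h₁ ι Q)
    funext i
    apply hf (Q i)
    rw [← piRightHom_naturality, ht]
    simp
  rw [h1, map_zero]

end

section Quotient

variable {M : Type u} [AddCommGroup M] [Module R M]

/-- elements of `N ⊗ Q` as combinations of a generating family. -/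
lemma exists_sum_tmul_of_span {N Q : Type u} [AddCommGroup N] [Module R N] [AddCommGroup Q] [Module R Q]
    {k : ℕ} (n : Fin k → N) (hn : Submodule.span R (Set.range n) = ⊤) (y : N ⊗[R] Q) :
    ∃ q : Fin k → Q, y = ∑ j, n j ⊗ₜ[R] q j := by
  induction y using TensorProduct.induction_on with
  | zero => exact ⟨fun _ => 0, by simp⟩
  | tmul x q =>
    have hx : x ∈ Submodule.span R (Set.range n) := by rw [hn]; trivial
    obtain ⟨c, rfl⟩ := (Submodule.mem_span_range_iff_exists_fun R).mp hx
    refine ⟨fun j => c j • q, ?_⟩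
    rw [TensorProduct.sum_tmul]
    apply Finset.sum_congr rfl
    intro j _
    rw [TensorProduct.smul_tmul]
  | add a b ha hb =>
    obtain ⟨qa, rfl⟩ := ha
    obtain ⟨qb, rfl⟩ := hb
    refine ⟨fun j => qa j + qb j, ?_⟩
    rw [← Finset.sum_add_distrib]
    apply Finset.sum_congr rfl
    intro j _
    rw [TensorProduct.tmul_add]

lemma piRightHom_surjective_of_finite {N : Type u} [AddCommGroup N] [Module R N] [Module.Finite R N]
    {ι : Type u} (Q : ι → Type u) [∀ i, AddCommGroup (Q i)] [∀ i, Module R (Q i)] :
    Function.Surjective (TensorProduct.piRightHom R R N Q) := by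
  obtain ⟨k, n, hn⟩ := Module.Finite.exists_fin (R := R) (M := N)
  intro y
  choose q hq using fun i => exists_sum_tmul_of_span R n hn (y i)
  refine ⟨∑ j, n j ⊗ₜ[R] (fun i => q i j), ?_⟩
  funext i
  rw [map_sum, Finset.sum_apply, hq i]
  rfl

theorem isMittagLeffler_quotient (N : Submodule R M) (hN : N.FG) (hM : CAlg.IsMittagLeffler R M) :
    CAlg.IsMittagLeffler R (M ⧸ N) := by
  have : Module.Finite R N := Module.Finite.iff_fg.mpr hN
  intro ι Q _ _
  rw [injective_iff_map_eq_zero]
  intro t ht
  have hex : Function.Exact N.subtype N.mkQ := by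
    rw [LinearMap.exact_iff]; simp
  obtain ⟨m, rfl⟩ := LinearMap.rTensor_surjective (∀ i, Q i) N.mkQ_surjective t
  have hi : ∀ i, ∃ n' : N ⊗[R] Q i, N.subtype.rTensor (Q i) n' =
      TensorProduct.piRightHom R R M Q m i := by
    intro i
    have hexi := rTensor_exact (Q i) hex N.mkQ_surjective
    apply (hexi _).mp
    rw [← piRightHom_naturality, ht]
    simp
  choose n' hn' using hi
  obtain ⟨n, rfl⟩ := piRightHom_surjective_of_finite R Q n'
  have hm : N.subtype.rTensor (∀ i, Q i) n = m := by
    apply hM ι Q
    funext i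
    rw [piRightHom_naturality, hn']
  rw [← hm]
  have hexP := rTensor_exact (∀ i, Q i) hex N.mkQ_surjective
  exact (hexP _).mpr ⟨n, rfl⟩

end Quotient

section DirectSum

open DirectSum

variable {ι : Type u} (M : ι → Type u) [∀ i, AddCommGroup (M i)] [∀ i, Module R (M i)]

open Classical in
lemma directSumLeft_apply_eq_component {P : Type u} [AddCommGroup P] [Module R P]
    (t : (⨁ i, M i) ⊗[R] P) (i : ι) :
    TensorProduct.directSumLeft R R M P t i = (DirectSum.component R ι M i).rTensor P t := by
  induction t using TensorProduct.induction_on with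
  | zero => simp
  | tmul m p => rw [TensorProduct.directSumLeft_tmul]; rfl
  | add a b ha hb => rw [map_add, map_add, DirectSum.add_apply, ha, hb]

open Classical in
theorem isMittagLeffler_directSum_iff :
    CAlg.IsMittagLeffler R (DirectSum ι M) ↔ ∀ i, CAlg.IsMittagLeffler R (M i) := by
  constructor
  · intro h i
    apply isMittagLeffler_of_universallyInjective R (DirectSum.lof R ι M i) _ h
    intro Q _ _
    apply Function.LeftInverse.injective (g := (DirectSum.component R ι M i).rTensor Q)
    intro x
    rw [← LinearMap.comp_apply, ← LinearMap.rTensor_comp]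
    have : DirectSum.component R ι M i ∘ₗ DirectSum.lof R ι M i = LinearMap.id := by
      ext m
      simp
    rw [this, LinearMap.rTensor_id, LinearMap.id_apply]
  · intro h κ Q _ _
    rw [injective_iff_map_eq_zero]
    intro t ht
    apply (TensorProduct.directSumLeft R R M (∀ k, Q k)).injective
    rw [map_zero]
    apply DFinsupp.ext
    intro i
    change TensorProduct.directSumLeft R R M (∀ k, Q k) t i = 0
    rw [directSumLeft_apply_eq_component]
    apply (injective_iff_map_eq_zero _).mp (h i κ Q)
    funext k
    rw [piRightHom_naturality, ht]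
    simp

end DirectSum

end ML

end Groth.Agent.Lib.Helper31
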