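import Groth.Agent.Lib.Helper31.MittagLefflerFP

set_option autoImplicit false
open TensorProduct
universe u

namespace Groth.Agent.Lib.Helper31

namespace ML

variable (R : Type u) [CommRing R] (M : Type u) [AddCommGroup M] [Module R M]

/-- If `M ⊗ R^M → M^M` is surjective then `M` is finite. -/
theorem finite_of_piRightHom_surjective
    (h : Function.Surjective (TensorProduct.piRightHom R R M (fun _ : M => R))) :
    Module.Finite R M := by
  have key : ∀ t : M ⊗[R] (M → R), ∃ N : Submodule R M, N.FG ∧
      ∀ m : M, TensorProduct.rid R M (TensorProduct.piRightHom R R M (fun _ : M => R) t m) ∈ N := by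
    intro t
    induction t using TensorProduct.induction_on with
    | zero => exact ⟨⊥, Submodule.fg_bot, fun m => by simp⟩
    | tmul x f =>
      refine ⟨Submodule.span R {x}, Submodule.fg_span_singleton x, fun m => ?_⟩
      simp only [piRightHom_tmul, rid_tmul]
      exact Submodule.smul_mem _ _ (Submodule.mem_span_singleton_self x)
    | add a b ha hb =>
      obtain ⟨Na, hNa, ha⟩ := ha
      obtain ⟨Nb, hNb, hb⟩ := hb
      refine ⟨Na ⊔ Nb, hNa.sup hNb, fun m => ?_⟩
      rw [map_add, Pi.add_apply, map_add]
      exact Submodule.add_mem_sup (ha m) (hb m)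
  obtain ⟨t, ht⟩ := h (fun m => m ⊗ₜ[R] (1 : R))
  obtain ⟨N, hN, hmem⟩ := key t
  have htop : N = ⊤ := by
    rw [eq_top_iff]
    intro m _
    have := hmem m
    rw [ht] at this
    simpa using this
  exact ⟨htop ▸ hN⟩

/-- If `M ⊗ R^A → M^A` is bijective for all sets `A` then `M` is finitely presented. -/
theorem finitePresentation_of_piRightHom_bijective
    (h : ∀ (A : Type u), Function.Bijective (TensorProduct.piRightHom R R M (fun _ : A => R))) :
    Module.FinitePresentation R M := by
  have hfin : Module.Finite R M := finite_of_piRightHom_surjective R M (h M).2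
  obtain ⟨n, f, hf⟩ := Module.Finite.exists_fin' R M
  let K : Submodule R (Fin n → R) := LinearMap.ker f
  have hex : Function.Exact K.subtype f := by
    rw [LinearMap.exact_iff]; simp [K]
  have hKfin : Module.Finite R K := by
    apply finite_of_piRightHom_surjective R K
    intro y
    -- image of `y` in the free module
    obtain ⟨z, hz⟩ := (piRightHom_bijective_of_finitePresentation R (M := Fin n → R)
      (fun _ : K => R)).2 (fun a => K.subtype.rTensor R (y a))
    have hz0 : f.rTensor (K → R) z = 0 := by
      apply (injective_iff_map_eq_zero _).mp (h K).1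
      funext a
      rw [piRightHom_naturality, hz]
      have hexa := rTensor_exact R hex hf
      exact (hexa _).mpr ⟨y a, rfl⟩
    obtain ⟨w, hw⟩ := (rTensor_exact (K → R) hex hf z).mp hz0
    refine ⟨w, ?_⟩
    funext a
    have hinj : Function.Injective (K.subtype.rTensor R) :=
      Module.Flat.rTensor_preserves_injective_linearMap K.subtype K.subtype_injective
    apply hinj
    have h3 := piRightHom_naturality R K.subtype (fun _ : K => R) w a
    rw [hw, hz] at h3
    exact h3.symm
  have hK : K.FG := Module.Finite.iff_fg.mp hKfin
  exact Module.finitePresentation_of_surjective f hf hK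

end ML

end Groth.Agent.Lib.Helper31
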