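import Groth.Agent.Lib.Helper31.MittagLeffler
import Mathlib.LinearAlgebra.TensorProduct.DirectLimit

set_option autoImplicit false
open TensorProduct
universe u

namespace Groth.Agent.Lib.Helper31

namespace ML

variable (R : Type u) [CommRing R] {ι : Type u}
    [Preorder ι] [IsDirected ι (· ≤ ·)] [DecidableEq ι] (G : ι → Type u) [∀ i, AddCommGroup (G i)]
    [∀ i, Module R (G i)] (f : ∀ i j, i ≤ j → G i →ₗ[R] G j) [DirectedSystem G fun i j h => f i j h]

theorem of_universallyInjective
    (hf : ∀ i j (h : i ≤ j), CAlgX.UniversallyInjective R (f i j h)) (i : ι) :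
    CAlgX.UniversallyInjective R (Module.DirectLimit.of R ι G f i) := by
  intro Q _ _
  rw [injective_iff_map_eq_zero]
  intro x hx
  have h1 : Module.DirectLimit.of R ι (fun i => G i ⊗[R] Q) (fun i j h => (f i j h).rTensor Q) i x = 0 := by
    rw [← TensorProduct.directLimitLeft_rTensor_of, hx, map_zero]
  obtain ⟨j, hij, hj⟩ := Module.DirectLimit.of.zero_exact h1
  exact (injective_iff_map_eq_zero _).mp (hf i j hij Q) x hj

theorem isMittagLeffler_directLimit
    (hf : ∀ i j (h : i ≤ j), CAlgX.UniversallyInjective R (f i j h))
    (hG : ∀ i, CAlg.IsMittagLeffler R (G i)) :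
    CAlg.IsMittagLeffler R (Module.DirectLimit G f) := by
  intro κ Q _ _
  rcases isEmpty_or_nonempty ι with hι | hι
  · have h1 : Subsingleton (Module.DirectLimit G f) := by
      constructor
      intro a b
      induction a using Quotient.inductionOn' with | _ a =>
      induction b using Quotient.inductionOn' with | _ b =>
      have : a = b := by
        apply DFinsupp.ext
        intro i
        exact (hι.false i).elim
      rw [this]
    have h2 : Subsingleton (Module.DirectLimit G f ⊗[R] (∀ k, Q k)) := inferInstance
    exact Function.injective_of_subsingleton _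
  · rw [injective_iff_map_eq_zero]
    intro t ht
    obtain ⟨i, ti, hti⟩ : ∃ i ti, (Module.DirectLimit.of R ι G f i).rTensor (∀ k, Q k) ti = t := by
      obtain ⟨i, x, hx⟩ := Module.DirectLimit.exists_of (TensorProduct.directLimitLeft f (∀ k, Q k) t)
      refine ⟨i, x, ?_⟩
      apply (TensorProduct.directLimitLeft f (∀ k, Q k)).injective
      rw [TensorProduct.directLimitLeft_rTensor_of, hx]
    subst hti
    have h0 : ti = 0 := by
      apply (injective_iff_map_eq_zero _).mp (hG i κ Q)
      funext k
      apply of_universallyInjective R G f hf i (Q k)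
      rw [← piRightHom_naturality, ht]
      simp
    rw [h0, map_zero]

end ML

end Groth.Agent.Lib.Helper31
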