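import Groth.Agent.Lib.Helper31.Dominate

set_option autoImplicit false
open TensorProduct
universe u

namespace Groth.Agent.Lib.Helper31

namespace ML

variable (R : Type u) [CommRing R]

lemma rTensor_comm {X A B : Type u} [AddCommGroup X] [Module R X] [AddCommGroup A] [Module R A]
    [AddCommGroup B] [Module R B] (φ : A →ₗ[R] B) (t : X ⊗[R] A) :
    φ.rTensor X (TensorProduct.comm R X A t) = TensorProduct.comm R X B (φ.lTensor X t) := by
  induction t using TensorProduct.induction_on with
  | zero => simp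
  | tmul a b => simp
  | add a b ha hb => simp only [map_add, ha, hb]

lemma lTensor_comm {X A B : Type u} [AddCommGroup X] [Module R X] [AddCommGroup A] [Module R A]
    [AddCommGroup B] [Module R B] (φ : A →ₗ[R] B) (t : A ⊗[R] X) :
    φ.lTensor X (TensorProduct.comm R A X t) = TensorProduct.comm R B X (φ.rTensor X t) := by
  induction t using TensorProduct.induction_on with
  | zero => simp
  | tmul a b => simp
  | add a b ha hb => simp only [map_add, ha, hb]

lemma piRightHom_apply_eq_lTensor_proj {M : Type u} [AddCommGroup M] [Module R M] {ι : Type u}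
    (Q : ι → Type u) [∀ i, AddCommGroup (Q i)] [∀ i, Module R (Q i)] (t : M ⊗[R] (∀ i, Q i)) (i : ι) :
    TensorProduct.piRightHom R R M Q t i = (LinearMap.proj i).lTensor M t := by
  induction t using TensorProduct.induction_on with
  | zero => simp
  | tmul a b => simp
  | add a b ha hb => simp only [map_add, Pi.add_apply, ha, hb]

variable (M : Type u) [AddCommGroup M] [Module R M]

/-- right-handed form of the Mittag-Leffler property. -/
lemma eq_zero_of_forall_proj_rTensor_eq_zero (hM : CAlg.IsMittagLeffler R M) {ι : Type u}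
    (Q : ι → Type u) [∀ i, AddCommGroup (Q i)] [∀ i, Module R (Q i)] (t : (∀ i, Q i) ⊗[R] M)
    (h : ∀ i, (LinearMap.proj i : (∀ i, Q i) →ₗ[R] Q i).rTensor M t = 0) : t = 0 := by
  apply (TensorProduct.comm R (∀ i, Q i) M).injective
  rw [map_zero]
  apply (injective_iff_map_eq_zero _).mp (hM ι Q)
  funext i
  rw [piRightHom_apply_eq_lTensor_proj, lTensor_comm, h i, map_zero]
  rfl

/-- **Smallest submodule** for a flat Mittag-Leffler module. -/
theorem exists_smallest_submodule [Module.Flat R M] (hM : CAlg.IsMittagLeffler R M)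
    (F : Type u) [AddCommGroup F] [Module R F] (x : F ⊗[R] M) :
    ∃ F' : Submodule R F, F'.FG ∧ x ∈ LinearMap.range (F'.subtype.rTensor M) ∧
      ∀ F'' : Submodule R F, x ∈ LinearMap.range (F''.subtype.rTensor M) → F' ≤ F'' := by
  let S : Set (Submodule R F) := {F'' | x ∈ LinearMap.range (F''.subtype.rTensor M)}
  let ψ : F →ₗ[R] (∀ i : S, F ⧸ i.1) := LinearMap.pi (fun i => i.1.mkQ)
  have hker : LinearMap.ker ψ = sInf S := by
    ext a
    simp only [LinearMap.mem_ker, Submodule.mem_sInf]
    constructor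
    · intro h F'' hF''
      have := congrFun h ⟨F'', hF''⟩
      simpa [ψ] using this
    · intro h
      funext i
      simpa [ψ] using h i.1 i.2
  have hex : Function.Exact (sInf S).subtype ψ := by
    rw [LinearMap.exact_iff, hker]; simp
  have hexM := Module.Flat.rTensor_exact M hex
  have hx0 : ψ.rTensor M x = 0 := by
    apply eq_zero_of_forall_proj_rTensor_eq_zero R M hM
    intro i
    rw [← LinearMap.comp_apply, ← LinearMap.rTensor_comp]
    have h1 : (LinearMap.proj i : (∀ i : S, F ⧸ i.1) →ₗ[R] F ⧸ i.1) ∘ₗ ψ = i.1.mkQ := by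
      ext a; rfl
    rw [h1]
    obtain ⟨z, hz⟩ := i.2
    rw [← hz, ← LinearMap.comp_apply, ← LinearMap.rTensor_comp]
    have h2 : i.1.mkQ ∘ₗ i.1.subtype = 0 := by
      ext a; simp
    rw [h2, LinearMap.rTensor_zero, LinearMap.zero_apply]
  have hmem : x ∈ LinearMap.range ((sInf S).subtype.rTensor M) := (hexM x).mp hx0
  obtain ⟨z, hz⟩ := hmem
  obtain ⟨K', hK'fg, hK'le, hK'mem⟩ := exists_fg_le_mem_range R (sInf S) z
  rw [hz] at hK'mem
  have heq : sInf S = K' := le_antisymm (sInf_le hK'mem) hK'le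
  refine ⟨sInf S, heq ▸ hK'fg, ⟨z, hz⟩, fun F'' hF'' => sInf_le hF''⟩

/-- converse: a flat module with smallest submodules (for finite free `F`) is Mittag-Leffler. -/
theorem isMittagLeffler_of_exists_smallest [Module.Flat R M]
    (h : ∀ (n : ℕ) (x : (Fin n → R) ⊗[R] M), ∃ F' : Submodule R (Fin n → R),
        x ∈ LinearMap.range (F'.subtype.rTensor M) ∧
        ∀ F'' : Submodule R (Fin n → R), x ∈ LinearMap.range (F''.subtype.rTensor M) → F' ≤ F'') :
    CAlg.IsMittagLeffler R M := by
  intro ι Q _ _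
  rw [injective_iff_map_eq_zero]
  intro t ht
  obtain ⟨k, m, ξ, rfl⟩ := TensorProduct.exists_sum_tmul_eq t
  set x : (Fin k → R) ⊗[R] M := ∑ j, Pi.single j (1 : R) ⊗ₜ[R] m j with hx
  obtain ⟨F', ⟨z, hz⟩, hmin⟩ := h k x
  let ξs : (Fin k → R) →ₗ[R] (∀ i, Q i) := Fintype.linearCombination R ξ
  have h1 : ξs.rTensor M x = TensorProduct.comm R M (∀ i, Q i) (∑ j, m j ⊗ₜ[R] ξ j) := by
    rw [hx, map_sum, map_sum]
    apply Finset.sum_congr rfl
    intro j _
    simp [ξs]
  have h2 : ∀ i, F' ≤ LinearMap.ker ((LinearMap.proj i : (∀ i, Q i) →ₗ[R] Q i) ∘ₗ ξs) := by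
    intro i
    apply hmin
    have hex : Function.Exact (LinearMap.ker ((LinearMap.proj i : (∀ i, Q i) →ₗ[R] Q i) ∘ₗ ξs)).subtype
        ((LinearMap.proj i : (∀ i, Q i) →ₗ[R] Q i) ∘ₗ ξs) := by
      rw [LinearMap.exact_iff]; simp
    apply ((Module.Flat.rTensor_exact M hex) x).mp
    rw [LinearMap.rTensor_comp, LinearMap.comp_apply, h1, rTensor_comm,
      ← piRightHom_apply_eq_lTensor_proj, ht]
    simp
  have h3 : ξs ∘ₗ F'.subtype = 0 := by
    apply LinearMap.ext
    intro a
    funext i
    have := h2 i a.2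
    simpa using this
  apply (TensorProduct.comm R M (∀ i, Q i)).injective
  rw [← h1, ← hz, ← LinearMap.comp_apply, ← LinearMap.rTensor_comp, h3, LinearMap.rTensor_zero,
    LinearMap.zero_apply, map_zero]

end ML

end Groth.Agent.Lib.Helper31
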