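import Groth.Agent.Lib.Helper31.DominateML
import Mathlib.RingTheory.Noetherian.Basic
import Mathlib.LinearAlgebra.Dual.Defs
import Mathlib.RingTheory.Flat.Tensor

set_option autoImplicit false
open TensorProduct
universe u

namespace Groth.Agent.Lib.Helper31

namespace ML

variable (R : Type u) [CommRing R] [IsNoetherianRing R] (A : Type u)

/-- over a Noetherian ring, arbitrary powers of the ring are flat. -/
theorem flat_pi_of_isNoetherianRing : Module.Flat R (A → R) := by
  rw [Module.Flat.iff_rTensor_injective]
  intro N hN
  have : Module.Finite R N := Module.Finite.iff_fg.mpr hN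
  have : Module.FinitePresentation R N := Module.finitePresentation_of_finite R N
  rw [injective_iff_map_eq_zero]
  intro t ht
  apply (injective_iff_map_eq_zero _).mp
    (isMittagLeffler_of_finitePresentation R (M := N) A (fun _ => R))
  funext a
  have h1 := piRightHom_naturality R N.subtype (fun _ : A => R) t a
  rw [ht, map_zero] at h1
  have hinj : Function.Injective (N.subtype.rTensor R) :=
    Module.Flat.rTensor_preserves_injective_linearMap N.subtype N.subtype_injective
  apply hinj
  rw [← h1]
  exact (map_zero _).symm

/-- over a Noetherian ring, arbitrary powers of the ring are Mittag-Leffler. -/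
theorem isMittagLeffler_pi_of_isNoetherianRing : CAlg.IsMittagLeffler R (A → R) := by
  apply isMittagLeffler_of_forall_free_dominate
  intro n f
  -- the coordinate functionals
  let φ : A → ((Fin n → R) →ₗ[R] R) := fun a => LinearMap.proj a ∘ₗ f
  have hfg : (Submodule.span R (Set.range φ)).FG := IsNoetherian.noetherian _
  obtain ⟨s, hs, hspan⟩ := (Submodule.fg_span_iff_fg_span_finset_subset _).mp hfg
  have hα : ∀ k : s, ∃ a : A, φ a = k.1 := fun k => hs k.2
  choose α hαk using hα
  have hc : ∀ a : A, ∃ c : s → R, φ a = ∑ k : s, c k • k.1 := by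
    intro a
    have h1 : φ a ∈ Submodule.span R (s : Set ((Fin n → R) →ₗ[R] R)) := by
      rw [← hspan]
      exact Submodule.subset_span ⟨a, rfl⟩
    rw [Submodule.mem_span_finset] at h1
    obtain ⟨c, -, hc⟩ := h1
    refine ⟨fun k => c k.1, ?_⟩
    rw [← hc, Finset.sum_coe_sort s (fun i => c i • i)]
  choose c hck using hc
  let g : (Fin n → R) →ₗ[R] (s → R) := LinearMap.pi (fun k => k.1)
  let h : (s → R) →ₗ[R] (A → R) := LinearMap.pi (fun a => Fintype.linearCombination R (c a))
  let π : (A → R) →ₗ[R] (s → R) := LinearMap.pi (fun k => LinearMap.proj (α k))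
  have hfg' : f = h ∘ₗ g := by
    apply LinearMap.ext
    intro x
    funext a
    have h1 : f x a = φ a x := rfl
    rw [h1, hck a]
    simp [h, g, Fintype.linearCombination_apply, mul_comm]
  have hgf : g = π ∘ₗ f := by
    apply LinearMap.ext
    intro x
    funext k
    have h1 : (π ∘ₗ f) x k = φ (α k) x := rfl
    rw [h1, hαk k]
    rfl
  refine ⟨s → R, inferInstance, inferInstance, isMittagLeffler_of_finitePresentation R, g, ?_⟩
  intro N _ _
  apply le_antisymm
  · intro t ht
    rw [LinearMap.mem_ker] at ht ⊢
    rw [hgf, LinearMap.rTensor_comp, LinearMap.comp_apply, ht, map_zero]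
  · intro t ht
    rw [LinearMap.mem_ker] at ht ⊢
    rw [hfg', LinearMap.rTensor_comp, LinearMap.comp_apply, ht, map_zero]

end ML

end Groth.Agent.Lib.Helper31
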