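import Groth.Agent.Lib.Helper31.MittagLefflerFP
import Groth.Agent.Lib.Helper31.MittagLefflerBC

set_option autoImplicit false
open TensorProduct
universe u

namespace Groth.Agent.Lib.Helper31

namespace ML

variable (R S : Type u) [CommRing R] [CommRing S] [Algebra R S]
  (M : Type u) [AddCommGroup M] [Module S M] [Module R M] [IsScalarTower R S M]

/-- for a surjective ring map `R → S` and an `S`-module `M`, `S ⊗[R] M ≃ M`. -/
noncomputable def surjEquiv (h : Function.Surjective (algebraMap R S)) : S ⊗[R] M ≃ₗ[R] M :=
  LinearEquiv.ofLinearMap (TensorProduct.lift (Algebra.lsmul R R M).toLinearMap)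
    (TensorProduct.mk R S M 1)
    (by ext m; simp)
    (by
      apply TensorProduct.ext'
      intro s m
      obtain ⟨r, rfl⟩ := h s
      simp only [LinearMap.coe_comp, Function.comp_apply, lift.tmul, AlgHom.toLinearMap_apply,
        Algebra.lsmul_coe, mk_apply, LinearMap.id_coe, id_eq, algebraMap_smul]
      rw [TensorProduct.tmul_smul, TensorProduct.smul_tmul', Algebra.algebraMap_eq_smul_one])

theorem isMittagLeffler_of_surjective (h : Function.Surjective (algebraMap R S))
    (hM : CAlg.IsMittagLeffler R M) : CAlg.IsMittagLeffler S M := by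
  have h1 : CAlg.IsMittagLeffler S (S ⊗[R] M) := isMittagLeffler_baseChange R S M hM
  have e : M ≃ₗ[S] S ⊗[R] M := ((surjEquiv R S M h).extendScalarsOfSurjective h).symm
  exact isMittagLeffler_of_linearEquiv S e h1

end ML

end Groth.Agent.Lib.Helper31
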