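import Mathlib.CategoryTheory.Monoidal.Category
import Mathlib.CategoryTheory.Equivalence

set_option autoImplicit false
open CategoryTheory CategoryTheory.MonoidalCategory
universe v u

namespace Groth.Agent.Lib.Helper31

variable {C : Type u} [Category.{v} C] [MonoidalCategory C]

theorem tensorLeft_isEquivalence_of_inverse (X X' : C) (e1 : X ⊗ X' ≅ 𝟙_ C) (e2 : X' ⊗ X ≅ 𝟙_ C) :
    (tensorLeft X).IsEquivalence := by
  let η : 𝟭 C ≅ tensorLeft X ⋙ tensorLeft X' :=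
    (leftUnitorNatIso C).symm ≪≫ (tensoringLeft C).mapIso e2.symm ≪≫ tensorLeftTensor X' X
  let ε : tensorLeft X' ⋙ tensorLeft X ≅ 𝟭 C :=
    (tensorLeftTensor X X').symm ≪≫ (tensoringLeft C).mapIso e1 ≪≫ leftUnitorNatIso C
  exact (CategoryTheory.Equivalence.mk (tensorLeft X) (tensorLeft X') η ε).isEquivalence_functor

theorem tensorRight_isEquivalence_of_inverse (X X' : C) (e1 : X ⊗ X' ≅ 𝟙_ C) (e2 : X' ⊗ X ≅ 𝟙_ C) :
    (tensorRight X).IsEquivalence := by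
  let η : 𝟭 C ≅ tensorRight X ⋙ tensorRight X' :=
    (rightUnitorNatIso C).symm ≪≫ (tensoringRight C).mapIso e1.symm ≪≫ tensorRightTensor X X'
  let ε : tensorRight X' ⋙ tensorRight X ≅ 𝟭 C :=
    (tensorRightTensor X' X).symm ≪≫ (tensoringRight C).mapIso e2 ≪≫ rightUnitorNatIso C
  exact (CategoryTheory.Equivalence.mk (tensorRight X) (tensorRight X') η ε).isEquivalence_functor

theorem exists_inverse_of_tensorLeft_isEquivalence (X : C) [(tensorLeft X).IsEquivalence] :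
    ∃ X' : C, Nonempty (X ⊗ X' ≅ 𝟙_ C) ∧ Nonempty (X' ⊗ X ≅ 𝟙_ C) := by
  let X' := (tensorLeft X).objPreimage (𝟙_ C)
  let e1 : X ⊗ X' ≅ 𝟙_ C := (tensorLeft X).objObjPreimageIso (𝟙_ C)
  refine ⟨X', ⟨e1⟩, ⟨?_⟩⟩
  have e : (tensorLeft X).obj (X' ⊗ X) ≅ (tensorLeft X).obj (𝟙_ C) :=
    (α_ X X' X).symm ≪≫ whiskerRightIso e1 X ≪≫ λ_ X ≪≫ (ρ_ X).symm
  exact (tensorLeft X).preimageIso e

theorem exists_inverse_of_tensorRight_isEquivalence (X : C) [(tensorRight X).IsEquivalence] :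
    ∃ X' : C, Nonempty (X ⊗ X' ≅ 𝟙_ C) ∧ Nonempty (X' ⊗ X ≅ 𝟙_ C) := by
  let X' := (tensorRight X).objPreimage (𝟙_ C)
  let e2 : X' ⊗ X ≅ 𝟙_ C := (tensorRight X).objObjPreimageIso (𝟙_ C)
  refine ⟨X', ⟨?_⟩, ⟨e2⟩⟩
  have e : (tensorRight X).obj (X ⊗ X') ≅ (tensorRight X).obj (𝟙_ C) :=
    α_ X X' X ≪≫ whiskerLeftIso X e2 ≪≫ ρ_ X ≪≫ (λ_ X).symm
  exact (tensorRight X).preimageIso e

end Groth.Agent.Lib.Helper31
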