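import Groth.Agent.Lib.Helper31.ArtinApprox
import Groth.Agent.Lib.Helper18.ComplMap
import Groth.Agent.Lib.Helper90.PSUniv

/-! Retractions realizing a factorization of the node parameter (S19894), helper31. -/

set_option autoImplicit false
universe u
open IsLocalRing

namespace Groth.Agent.Lib.Helper31
namespace NodeRetract

section krull

variable {S : Type*} [CommRing S] [IsNoetherianRing S]

/-- ideals of a Noetherian ring are closed for the `I`-adic topology, `I ≤ Jac`. -/
theorem exists_not_mem_sup_pow (I : Ideal S) (hI : I ≤ Ideal.jacobson ⊥) (J : Ideal S) (t : S)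
    (ht : t ∉ J) : ∃ n, t ∉ J ⊔ I ^ n := by
  by_contra hcon
  push_neg at hcon
  apply ht
  have h1 : (Submodule.Quotient.mk t : S ⧸ J) ∈
      (⨅ i : ℕ, I ^ i • (⊤ : Submodule S (S ⧸ J))) := by
    rw [Submodule.mem_iInf]
    intro n
    obtain ⟨j, hj, x, hx, hjx⟩ := Submodule.mem_sup.1 (hcon n)
    have h2 : (Submodule.Quotient.mk t : S ⧸ J) = x • (Submodule.Quotient.mk 1 : S ⧸ J) := by
      rw [← Submodule.Quotient.mk_smul, smul_eq_mul, mul_one, ← hjx]
      exact (Submodule.Quotient.eq J).2 (by simpa using hj)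
    rw [h2]
    exact Submodule.smul_mem_smul hx trivial
  rw [Ideal.iInf_pow_smul_eq_bot_of_le_jacobson I hI] at h1
  exact (Submodule.Quotient.mk_eq_zero J).1 h1

end krull

section ufd

variable {S : Type*} [CommRing S] [IsDomain S] [UniqueFactorizationMonoid S]

/-- a nonzero element of a UFD has finitely many principal ideals generated by divisors. -/
theorem finite_span_divisors (Δ : S) (hΔ : Δ ≠ 0) :
    {J : Ideal S | ∃ d, d ∣ Δ ∧ J = Ideal.span {d}}.Finite := by
  classical
  haveI : Fintype {a : Associates S // a ∣ Associates.mk Δ} :=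
    UniqueFactorizationMonoid.fintypeSubtypeDvd _ (by simpa using hΔ)
  have hfin : {a : Associates S | a ∣ Associates.mk Δ}.Finite :=
    Set.finite_coe_iff.1 (Finite.of_fintype {a : Associates S // a ∣ Associates.mk Δ})
  refine (hfin.image (fun a => Ideal.span {Quotient.out a})).subset ?_
  rintro J ⟨d, hd, rfl⟩
  refine ⟨Associates.mk d, Associates.mk_dvd_mk.2 hd, ?_⟩
  show Ideal.span {Quotient.out (Associates.mk d)} = Ideal.span {d}
  rw [Ideal.span_singleton_eq_span_singleton]
  exact Associates.mk_eq_mk_iff_associated.1 (Associates.quot_out _)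

variable [IsNoetherianRing S]

/-- **Rigidity of factorizations**: in a Noetherian UFD, a factorization `u' v' = Δ` close enough
(`I`-adically, `I ≤ Jac`) to a factorization `t₁ t₂ = Δ` differs from it by units. -/
theorem span_eq_of_close (I : Ideal S) (hI : I ≤ Ideal.jacobson ⊥) (Δ t₁ t₂ : S) (hΔ : Δ ≠ 0)
    (ht : t₁ * t₂ = Δ) :
    ∃ N : ℕ, ∀ u' v' : S, u' * v' = Δ → u' - t₁ ∈ I ^ N → v' - t₂ ∈ I ^ N →
      Ideal.span {u'} = Ideal.span {t₁} ∧ Ideal.span {v'} = Ideal.span {t₂} := by
  classical
  have hD := finite_span_divisors Δ hΔ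
  let nn : Ideal S → S → ℕ := fun J t =>
    if h : t ∉ J then Classical.choose (exists_not_mem_sup_pow I hI J t h) else 0
  have hnn : ∀ J t, t ∉ J → t ∉ J ⊔ I ^ nn J t := by
    intro J t h
    simp only [nn, dif_pos h]
    exact Classical.choose_spec (exists_not_mem_sup_pow I hI J t h)
  let N := hD.toFinset.sup (fun J => max (nn J t₁) (nn J t₂))
  have hmem : ∀ (w t : S), w ∣ Δ → w - t ∈ I ^ N → nn (Ideal.span {w}) t ≤ N → t ∈ Ideal.span {w} := by
    intro w t hw hwt hle
    by_contra h
    apply hnn _ _ h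
    have h1 : t = w - (w - t) := by ring
    have h2 : w - (w - t) ∈ Ideal.span {w} ⊔ I ^ nn (Ideal.span {w}) t :=
      Submodule.sub_mem _ (Ideal.mem_sup_left (Ideal.subset_span rfl))
        (Ideal.mem_sup_right (Ideal.pow_le_pow_right hle hwt))
    rwa [← h1] at h2
  refine ⟨N, fun u' v' huv hu hv => ?_⟩
  have hu'D : Ideal.span {u'} ∈ hD.toFinset :=
    hD.mem_toFinset.2 ⟨u', Dvd.intro v' huv, rfl⟩
  have hv'D : Ideal.span {v'} ∈ hD.toFinset :=
    hD.mem_toFinset.2 ⟨v', Dvd.intro_left u' huv, rfl⟩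
  have h1 : t₁ ∈ Ideal.span {u'} := hmem u' t₁ (Dvd.intro v' huv) hu
    ((le_max_left _ _).trans (Finset.le_sup (f := fun J => max (nn J t₁) (nn J t₂)) hu'D))
  have h2 : t₂ ∈ Ideal.span {v'} := hmem v' t₂ (Dvd.intro_left u' huv) hv
    ((le_max_right _ _).trans (Finset.le_sup (f := fun J => max (nn J t₁) (nn J t₂)) hv'D))
  obtain ⟨α, hα⟩ := Ideal.mem_span_singleton.1 h1
  obtain ⟨β, hβ⟩ := Ideal.mem_span_singleton.1 h2
  have hαβ : α * β = 1 := by
    have h3 : Δ * (α * β) = Δ * 1 := by
      rw [mul_one]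
      calc Δ * (α * β) = (u' * α) * (v' * β) := by rw [← huv]; ring
        _ = Δ := by rw [← hα, ← hβ, ht]
    exact mul_left_cancel₀ hΔ h3
  have hαu : IsUnit α := IsUnit.of_mul_eq_one β hαβ
  have hβu : IsUnit β := IsUnit.of_mul_eq_one α (by rw [mul_comm]; exact hαβ)
  constructor
  · rw [Ideal.span_singleton_eq_span_singleton]
    obtain ⟨a, rfl⟩ := hαu
    exact ⟨a, hα.symm⟩
  · rw [Ideal.span_singleton_eq_span_singleton]
    obtain ⟨b, rfl⟩ := hβu
    exact ⟨b, hβ.symm⟩

end ufd

section approx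

variable (R : Type u) [CommRing R] [IsNoetherianRing R] [HenselianLocalRing R]

/-- **Artin approximation for essentially finite type algebras**: an `R`-algebra map from an
essentially finite type `R`-algebra to the completion of the Henselian local ring `R` is congruent
modulo `m^(N+1)` to an `R`-algebra map to `R` (under Popescu's theorem for `R → R^`). -/
theorem exists_retraction_approx
    (hpop : ArtinApprox.PopescuFor R (AdicCompletion (maximalIdeal R) R))
    (C : Type u) [CommRing C] [Algebra R C] [Algebra.EssFiniteType R C]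
    (g₀ : C →ₐ[R] AdicCompletion (maximalIdeal R) R) (N : ℕ) :
    ∃ g : C →ₐ[R] R, ∀ c : C, algebraMap R (AdicCompletion (maximalIdeal R) R) (g c) - g₀ c ∈
      (maximalIdeal R ^ (N + 1)).map (algebraMap R (AdicCompletion (maximalIdeal R) R)) := by
  classical
  set K : Ideal (AdicCompletion (maximalIdeal R) R) :=
    (maximalIdeal R ^ (N + 1)).map (algebraMap R (AdicCompletion (maximalIdeal R) R)) with hK
  have hfg : (maximalIdeal R).FG := IsNoetherian.noetherian _
  have hKle : K ≤ maximalIdeal (AdicCompletion (maximalIdeal R) R) := by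
    rw [AdicCompletion.maximalIdeal_eq_map]
    exact Ideal.map_mono (Ideal.pow_le_self (Nat.succ_ne_zero N))
  haveI : Algebra.FinitePresentation R (Algebra.EssFiniteType.subalgebra R C) :=
    Algebra.FinitePresentation.of_finiteType.mp inferInstance
  let f : Algebra.EssFiniteType.subalgebra R C →ₐ[R] AdicCompletion (maximalIdeal R) R :=
    g₀.comp (Algebra.EssFiniteType.subalgebra R C).val
  obtain ⟨σ, hσ⟩ := ArtinApprox.exists_algHom_approx R (maximalIdeal R) hpop
    (Algebra.EssFiniteType.subalgebra R C) f N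
  have hσ' : ∀ p, algebraMap R (AdicCompletion (maximalIdeal R) R) (σ p) - f p ∈ K := by
    intro p
    rw [hK, ← LocComplIso.ker_evalₐ (maximalIdeal R) (N + 1) hfg, RingHom.mem_ker]
    show AdicCompletion.evalₐ (maximalIdeal R) (N + 1) (algebraMap R _ (σ p) - f p) = 0
    rw [map_sub, ← hσ p, AlgHom.commutes, sub_eq_zero]
    rfl
  have hunit : ∀ y : Algebra.EssFiniteType.submonoid R C, IsUnit (σ y) := by
    intro y
    have hy : IsUnit (algebraMap (Algebra.EssFiniteType.subalgebra R C) C y) := y.2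
    have hfy : IsUnit (f y) := hy.map g₀
    by_contra hnu
    have h1 : σ y ∈ maximalIdeal R := (IsLocalRing.mem_maximalIdeal _).2 hnu
    have h2 : algebraMap R (AdicCompletion (maximalIdeal R) R) (σ y) ∈
        maximalIdeal (AdicCompletion (maximalIdeal R) R) := by
      rw [AdicCompletion.maximalIdeal_eq_map]
      exact Ideal.mem_map_of_mem _ h1
    have h3 : f y ∈ maximalIdeal (AdicCompletion (maximalIdeal R) R) := by
      have := Ideal.sub_mem _ h2 (hKle (hσ' y))
      rwa [sub_sub_cancel] at this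
    exact (IsLocalRing.mem_maximalIdeal _).1 h3 hfy
  let g : C →ₐ[R] R := IsLocalization.liftAlgHom (M := Algebra.EssFiniteType.submonoid R C)
    (f := σ) hunit
  refine ⟨g, fun c => ?_⟩
  obtain ⟨⟨c₀, μ⟩, h⟩ := IsLocalization.surj (Algebra.EssFiniteType.submonoid R C) c
  have hg1 : g c * σ μ = σ c₀ := by
    have h1 := congrArg g h
    rw [map_mul] at h1
    have h2 : ∀ z, g (algebraMap (Algebra.EssFiniteType.subalgebra R C) C z) = σ z := fun z =>
      IsLocalization.lift_eq _ z
    rw [h2, h2] at h1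
    exact h1
  have hg0 : g₀ c * f μ = f c₀ := by
    have h1 := congrArg g₀ h
    rw [map_mul] at h1
    exact h1
  set a := algebraMap R (AdicCompletion (maximalIdeal R) R) (g c) with ha
  set s := algebraMap R (AdicCompletion (maximalIdeal R) R) (σ μ) with hs
  have hsu : IsUnit s := (hunit μ).map _
  have h4 : (a - g₀ c) * s ∈ K := by
    have h5 : (a - g₀ c) * s =
        (algebraMap R (AdicCompletion (maximalIdeal R) R) (σ c₀) - f c₀) - g₀ c * (s - f μ) := by
      rw [← hg1, ← hg0, map_mul]
      ring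
    rw [h5]
    exact Ideal.sub_mem _ (hσ' c₀) (Ideal.mul_mem_left _ _ (hσ' μ))
  obtain ⟨s', hs'⟩ := hsu.exists_right_inv
  have h6 : a - g₀ c = (a - g₀ c) * s * s' := by
    rw [mul_assoc, hs', mul_one]
  rw [h6]
  exact Ideal.mul_mem_right _ _ h4

end approx

section main

open MvPowerSeries

variable (R : Type u) [CommRing R] [IsNoetherianRing R] [IsDomain R] [HenselianLocalRing R]
  [IsDomain (AdicCompletion (maximalIdeal R) R)]
  [UniqueFactorizationMonoid (AdicCompletion (maximalIdeal R) R)]
  [IsNoetherianRing (AdicCompletion (maximalIdeal R) R)]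

theorem node_retraction
    (hpop : ArtinApprox.PopescuFor R (AdicCompletion (maximalIdeal R) R))
    (Δ t₁ t₂ : R) (hΔ : Δ ≠ 0) (ht₁ : t₁ ∈ maximalIdeal R) (ht₂ : t₂ ∈ maximalIdeal R)
    (ht : t₁ * t₂ = Δ)
    (C : Type u) [CommRing C] [IsLocalRing C] [Algebra R C] [IsLocalHom (algebraMap R C)]
    [Algebra.EssFiniteType R C]
    (ψ : AdicCompletion (maximalIdeal C) C ≃+*
      (MvPowerSeries (Fin 2) (AdicCompletion (maximalIdeal R) R) ⧸
        Ideal.span {(X 0 * X 1 - MvPowerSeries.C (algebraMap R (AdicCompletion (maximalIdeal R) R) Δ) :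
          MvPowerSeries (Fin 2) (AdicCompletion (maximalIdeal R) R))}))
    (hψ : ψ.toRingHom.comp ((algebraMap C (AdicCompletion (maximalIdeal C) C)).comp (algebraMap R C)) =
      (Ideal.Quotient.mk _).comp ((MvPowerSeries.C : AdicCompletion (maximalIdeal R) R →+*
        MvPowerSeries (Fin 2) (AdicCompletion (maximalIdeal R) R)).comp
          (algebraMap R (AdicCompletion (maximalIdeal R) R)))) :
    ∃ (g : C →ₐ[R] R) (ĝ : AdicCompletion (maximalIdeal C) C →+* AdicCompletion (maximalIdeal R) R),
      ĝ.comp (algebraMap C (AdicCompletion (maximalIdeal C) C)) =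
        (algebraMap R (AdicCompletion (maximalIdeal R) R)).comp g.toRingHom ∧
      Ideal.span {ĝ (ψ.symm (Ideal.Quotient.mk _ (X 0)))} =
        Ideal.span {algebraMap R (AdicCompletion (maximalIdeal R) R) t₁} ∧
      Ideal.span {ĝ (ψ.symm (Ideal.Quotient.mk _ (X 1)))} =
        Ideal.span {algebraMap R (AdicCompletion (maximalIdeal R) R) t₂} := by
  classical
  have hfg : (maximalIdeal R).FG := IsNoetherian.noetherian _
  -- the maximal ideal of the completion
  set 𝔪 : Ideal (AdicCompletion (maximalIdeal R) R) :=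
    (maximalIdeal R).map (algebraMap R (AdicCompletion (maximalIdeal R) R)) with h𝔪
  haveI : IsAdicComplete 𝔪 (AdicCompletion (maximalIdeal R) R) :=
    AdicCompletion.isAdicComplete_self _ hfg
  have h𝔪jac : 𝔪 ≤ Ideal.jacobson ⊥ := IsAdicComplete.le_jacobson_bot 𝔪
  -- evaluation of power series at `(t₁, t₂)`
  let x : Fin 2 → AdicCompletion (maximalIdeal R) R :=
    ![algebraMap R _ t₁, algebraMap R _ t₂]
  have hx : ∀ i, x i ∈ 𝔪 := by
    intro i
    fin_cases i
    · exact Ideal.mem_map_of_mem _ ht₁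
    · exact Ideal.mem_map_of_mem _ ht₂
  obtain ⟨ev, hev, -⟩ := Groth.Agent.Lib.Helper90.PSUniv.exists_eval
    (B := AdicCompletion (maximalIdeal R) R) 𝔪 x hx
  have hevX : ∀ i, ev (X i) = x i := by
    intro i
    have := hev (MvPolynomial.X i)
    rw [MvPolynomial.coe_X, MvPolynomial.aeval_X] at this
    exact this
  have hevC : ∀ a, ev (MvPowerSeries.C a) = a := by
    intro a
    have := hev (MvPolynomial.C a)
    rw [MvPolynomial.coe_C, MvPolynomial.aeval_C] at this
    exact this
  have hevrel : ev (X 0 * X 1 -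
      MvPowerSeries.C (algebraMap R (AdicCompletion (maximalIdeal R) R) Δ)) = 0 := by
    rw [map_sub, map_mul, hevX, hevX, hevC]
    show algebraMap R _ t₁ * algebraMap R _ t₂ - _ = 0
    rw [← map_mul, ht, sub_self]
  let eb : (MvPowerSeries (Fin 2) (AdicCompletion (maximalIdeal R) R) ⧸ Ideal.span
      {(X 0 * X 1 - MvPowerSeries.C (algebraMap R (AdicCompletion (maximalIdeal R) R) Δ) :
          MvPowerSeries (Fin 2) (AdicCompletion (maximalIdeal R) R))}) →+*
      AdicCompletion (maximalIdeal R) R :=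
    Ideal.Quotient.lift _ ev.toRingHom (by
      intro a ha
      obtain ⟨b, rfl⟩ := Ideal.mem_span_singleton'.1 ha
      show ev (b * _) = 0
      rw [map_mul, hevrel, mul_zero])
  have heb : ∀ p, eb (Ideal.Quotient.mk _ p) = ev p := fun p => rfl
  let gb₀ : AdicCompletion (maximalIdeal C) C →+* AdicCompletion (maximalIdeal R) R :=
    eb.comp ψ.toRingHom
  have hgb₀ : ∀ q, gb₀ (ψ.symm q) = eb q := by
    intro q
    show eb (ψ (ψ.symm q)) = eb q
    rw [RingEquiv.apply_symm_apply]
  have hψr : ∀ r : R, ψ (algebraMap C (AdicCompletion (maximalIdeal C) C) (algebraMap R C r)) =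
      Ideal.Quotient.mk _ (MvPowerSeries.C (algebraMap R (AdicCompletion (maximalIdeal R) R) r)) :=
    fun r => RingHom.congr_fun hψ r
  let g₀ : C →ₐ[R] AdicCompletion (maximalIdeal R) R :=
    { toRingHom := gb₀.comp (algebraMap C (AdicCompletion (maximalIdeal C) C))
      commutes' := fun r => by
        show eb (ψ (algebraMap C _ (algebraMap R C r))) = _
        rw [hψr, heb, hevC] }
  -- the rigidity bound and the approximating retraction
  have hinj : Function.Injective (algebraMap R (AdicCompletion (maximalIdeal R) R)) := by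
    intro a b hab
    rw [AdicCompletion.algebraMap_apply, AdicCompletion.algebraMap_apply,
      Algebra.algebraMap_self, RingHom.id_apply, RingHom.id_apply] at hab
    exact AdicCompletion.of_injective (maximalIdeal R) R hab
  have hΔh : algebraMap R (AdicCompletion (maximalIdeal R) R) Δ ≠ 0 := by
    intro h0
    exact hΔ (hinj (by rw [h0, map_zero]))
  obtain ⟨N, hN⟩ := span_eq_of_close 𝔪 h𝔪jac (algebraMap R _ Δ) (algebraMap R _ t₁)
    (algebraMap R _ t₂) hΔh (by rw [← map_mul, ht])
  obtain ⟨g, hg⟩ := exists_retraction_approx R hpop C g₀ N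
  set K : Ideal (AdicCompletion (maximalIdeal R) R) :=
    (maximalIdeal R ^ (N + 1)).map (algebraMap R (AdicCompletion (maximalIdeal R) R)) with hK
  have hKN : K ≤ 𝔪 ^ N := by
    rw [hK, Ideal.map_pow]
    exact Ideal.pow_le_pow_right (Nat.le_succ N)
  -- `g` is local
  have hgsurj : Function.Surjective g := fun r => ⟨algebraMap R C r, g.commutes r⟩
  have hgloc : (maximalIdeal C).map g.toRingHom ≤ maximalIdeal R := by
    rw [Ideal.map_le_iff_le_comap]
    haveI : ((maximalIdeal R).comap g.toRingHom).IsMaximal :=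
      Ideal.comap_isMaximal_of_surjective g.toRingHom hgsurj
    rw [IsLocalRing.eq_maximalIdeal this]
  have hgpow : ∀ c ∈ maximalIdeal C ^ (N + 1), g c ∈ maximalIdeal R ^ (N + 1) := by
    intro c hc
    have h1 : g c ∈ (maximalIdeal C ^ (N + 1)).map g.toRingHom := Ideal.mem_map_of_mem _ hc
    rw [Ideal.map_pow] at h1
    exact Ideal.pow_right_mono hgloc _ h1
  -- the completed map
  let ĝ : AdicCompletion (maximalIdeal C) C →+* AdicCompletion (maximalIdeal R) R :=
    FSch.complMap (maximalIdeal C) (maximalIdeal R) g.toRingHom hgloc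
  have hĝ : ∀ c : C, ĝ (algebraMap C (AdicCompletion (maximalIdeal C) C) c) =
      algebraMap R (AdicCompletion (maximalIdeal R) R) (g c) := by
    intro c
    rw [AdicCompletion.algebraMap_apply, AdicCompletion.algebraMap_apply,
      Algebra.algebraMap_self, Algebra.algebraMap_self, RingHom.id_apply, RingHom.id_apply]
    exact Groth.Agent.Lib.Helper18.complMap_of _ _ _ hgloc c
  -- `C` is Noetherian
  haveI : IsNoetherianRing (Algebra.EssFiniteType.subalgebra R C) :=
    Algebra.FiniteType.isNoetherianRing R _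
  haveI : IsNoetherianRing C :=
    IsLocalization.isNoetherianRing (Algebra.EssFiniteType.submonoid R C) C inferInstance
  have hfgC : (maximalIdeal C).FG := IsNoetherian.noetherian _
  -- both maps send `m_C^(N+1) C^` into `K`
  have hcongC : ∀ c : C, ĝ (algebraMap C _ c) - gb₀ (algebraMap C _ c) ∈ K := by
    intro c
    rw [hĝ]
    exact hg c
  have hpowĝ : (maximalIdeal C ^ (N + 1)).map (algebraMap C (AdicCompletion (maximalIdeal C) C)) ≤
      K.comap ĝ := by
    rw [Ideal.map_le_iff_le_comap]
    intro c hc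
    rw [Ideal.mem_comap, Ideal.mem_comap, hĝ]
    exact Ideal.mem_map_of_mem _ (hgpow c hc)
  have hpowg₀ : (maximalIdeal C ^ (N + 1)).map (algebraMap C (AdicCompletion (maximalIdeal C) C)) ≤
      K.comap gb₀ := by
    rw [Ideal.map_le_iff_le_comap]
    intro c hc
    rw [Ideal.mem_comap, Ideal.mem_comap]
    have h1 := hcongC c
    have h2 : ĝ (algebraMap C _ c) ∈ K := by
      rw [hĝ]
      exact Ideal.mem_map_of_mem _ (hgpow c hc)
    have := Ideal.sub_mem _ h2 h1
    rwa [sub_sub_cancel] at this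
  have hcong : ∀ z : AdicCompletion (maximalIdeal C) C, ĝ z - gb₀ z ∈ K := by
    intro z
    obtain ⟨c, hc⟩ := Ideal.Quotient.mk_surjective (AdicCompletion.evalₐ (maximalIdeal C) (N + 1) z)
    have h1 : z - algebraMap C (AdicCompletion (maximalIdeal C) C) c ∈
        (maximalIdeal C ^ (N + 1)).map (algebraMap C (AdicCompletion (maximalIdeal C) C)) := by
      rw [← LocComplIso.ker_evalₐ (maximalIdeal C) (N + 1) hfgC, RingHom.mem_ker]
      show AdicCompletion.evalₐ (maximalIdeal C) (N + 1) (z - algebraMap C _ c) = 0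
      rw [map_sub, ← hc, AlgHom.commutes, sub_eq_zero]
      rfl
    have h2 : ĝ z - gb₀ z = (ĝ (z - algebraMap C _ c) - gb₀ (z - algebraMap C _ c)) +
        (ĝ (algebraMap C _ c) - gb₀ (algebraMap C _ c)) := by
      rw [map_sub, map_sub]
      ring
    rw [h2]
    exact Ideal.add_mem _ (Ideal.sub_mem _ (hpowĝ h1) (hpowg₀ h1)) (hcongC c)
  refine ⟨g, ĝ, ?_, ?_⟩
  · exact RingHom.ext (fun c => hĝ c)
  -- the images of `u`, `v`
  have hu0 : gb₀ (ψ.symm (Ideal.Quotient.mk _ (X 0))) = algebraMap R _ t₁ := by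
    rw [hgb₀, heb, hevX]
    rfl
  have hv0 : gb₀ (ψ.symm (Ideal.Quotient.mk _ (X 1))) = algebraMap R _ t₂ := by
    rw [hgb₀, heb, hevX]
    rfl
  have hprod : ĝ (ψ.symm (Ideal.Quotient.mk _ (X 0))) * ĝ (ψ.symm (Ideal.Quotient.mk _ (X 1))) =
      algebraMap R _ Δ := by
    rw [← map_mul, ← map_mul, ← map_mul]
    have h1 : (Ideal.Quotient.mk (Ideal.span
        {(X 0 * X 1 - MvPowerSeries.C (algebraMap R (AdicCompletion (maximalIdeal R) R) Δ) :
          MvPowerSeries (Fin 2) (AdicCompletion (maximalIdeal R) R))})) (X 0 * X 1) =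
        Ideal.Quotient.mk _ (MvPowerSeries.C (algebraMap R (AdicCompletion (maximalIdeal R) R) Δ)) := by
      rw [Ideal.Quotient.eq]
      exact Ideal.subset_span rfl
    rw [h1, ← hψr, RingEquiv.symm_apply_apply, hĝ, g.commutes]
    rfl
  apply hN _ _ hprod
  · rw [← hu0]
    exact hKN (hcong _)
  · rw [← hv0]
    exact hKN (hcong _)

end main

end NodeRetract
end Groth.Agent.Lib.Helper31
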