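import Mathlib.RingTheory.Ideal.Pure
import Mathlib.RingTheory.Spectrum.Prime.Topology

set_option autoImplicit false
universe u

open PrimeSpectrum

namespace Groth.Agent.Lib.Helper31

namespace PureIdeal

variable {R : Type u} [CommRing R]

/-- Stacks 04PS (5) ⇒ (1). -/
theorem pure_of_forall_exists_eq_mul (I : Ideal R) (h : ∀ x ∈ I, ∃ y ∈ I, x = x * y) : I.Pure := by
  apply Ideal.Pure.of_inf_eq_mul
  intro J _
  apply le_antisymm
  · intro x hx
    obtain ⟨y, hy, hxy⟩ := h x hx.1
    rw [hxy, mul_comm x y]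
    exact Ideal.mul_mem_mul hy hx.2
  · exact Ideal.mul_le_inf

theorem stableUnderGeneralization_zeroLocus_of_pure (I : Ideal R) (hI : I.Pure) :
    StableUnderGeneralization (zeroLocus (I : Set R)) := by
  intro p q hqp hp
  rw [← le_iff_specializes] at hqp
  rw [mem_zeroLocus] at hp ⊢
  intro x hx
  obtain ⟨y, hy, hxy⟩ := Ideal.exists_eq_mul_of_pure (I := I) hx
  have h1 : x * (1 - y) = 0 := by rw [mul_sub, mul_one, ← hxy, sub_self]
  have h2 : (1 - y) ∉ q.asIdeal := by
    intro h3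
    have h4 : (1 - y) ∈ p.asIdeal := hqp h3
    have h5 : y ∈ p.asIdeal := hp hy
    apply p.isPrime.ne_top
    rw [Ideal.eq_top_iff_one]
    have : (1 : R) = (1 - y) + y := by ring
    rw [this]
    exact Ideal.add_mem _ h4 h5
  have h3 : x * (1 - y) ∈ q.asIdeal := by rw [h1]; exact Ideal.zero_mem _
  exact (q.isPrime.mem_or_mem h3).resolve_right h2

/-- the ideal `{x | x ∈ x J}`. -/
def idealOf (J : Ideal R) : Ideal R where
  carrier := {x | ∃ y ∈ J, x = x * y}
  zero_mem' := ⟨0, J.zero_mem, by simp⟩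
  add_mem' := by
    rintro a b ⟨f, hf, haf⟩ ⟨g, hg, hbg⟩
    refine ⟨f + g - f * g, J.sub_mem (J.add_mem hf hg) (J.mul_mem_right _ hf), ?_⟩
    have : (a + b) * (f + g - f * g) = a * f + (a - a * f) * g + b * g + (b - b * g) * f := by ring
    rw [this, ← haf, ← hbg]
    ring
  smul_mem' := by
    rintro r a ⟨f, hf, haf⟩
    refine ⟨f, hf, ?_⟩
    rw [smul_eq_mul, mul_assoc, ← haf]

lemma mem_idealOf {J : Ideal R} {x : R} : x ∈ idealOf J ↔ ∃ y ∈ J, x = x * y := Iff.rfl

lemma idealOf_le (J : Ideal R) : idealOf J ≤ J := by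
  rintro x ⟨y, hy, hxy⟩
  rw [hxy]
  exact J.mul_mem_left _ hy

/-- the multiplicative set `(R ∖ p)(1 + J)`. -/
def mulSet (p : Ideal R) [p.IsPrime] (J : Ideal R) : Submonoid R where
  carrier := {z | ∃ s j, s ∉ p ∧ j ∈ J ∧ z = s * (1 + j)}
  mul_mem' := by
    rintro _ _ ⟨s, j, hs, hj, rfl⟩ ⟨s', j', hs', hj', rfl⟩
    refine ⟨s * s', j + j' + j * j', ?_, ?_, by ring⟩
    · intro h
      rcases (‹p.IsPrime›).mem_or_mem h with h | h
      · exact hs h
      · exact hs' h
    · exact J.add_mem (J.add_mem hj hj') (J.mul_mem_right _ hj)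
  one_mem' := ⟨1, 0, (Ideal.ne_top_iff_one p).mp (‹p.IsPrime›).ne_top, J.zero_mem, by simp⟩

theorem exists_pure_zeroLocus_eq (Z : Set (PrimeSpectrum R)) (hZ : IsClosed Z)
    (hgen : StableUnderGeneralization Z) : ∃ I : Ideal R, I.Pure ∧ zeroLocus (I : Set R) = Z := by
  set J : Ideal R := vanishingIdeal Z with hJ
  have hZJ : zeroLocus (J : Set R) = Z := by
    rw [hJ, zeroLocus_vanishingIdeal_eq_closure, hZ.closure_eq]
  have hVI : zeroLocus (idealOf J : Set R) = zeroLocus (J : Set R) := by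
    apply Set.Subset.antisymm
    · intro p hp
      rw [mem_zeroLocus] at hp
      have hdisj : Disjoint ((⊥ : Ideal R) : Set R) (mulSet p.asIdeal J) := by
        rw [Set.disjoint_left]
        rintro x hx ⟨s, j, hs, hj, hxs⟩
        have hx0 : x = 0 := hx
        apply hs
        apply hp
        refine ⟨-j, J.neg_mem hj, ?_⟩
        have : s * (1 + j) = 0 := by rw [← hxs, hx0]
        linear_combination this
      obtain ⟨q, hqprime, -, hq⟩ := Ideal.exists_le_prime_disjoint ⊥ (mulSet p.asIdeal J) hdisj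
      rw [Set.disjoint_left] at hq
      have hqp : q ≤ p.asIdeal := by
        intro x hx
        by_contra hxp
        exact hq hx ⟨x, 0, hxp, J.zero_mem, by simp⟩
      have hproper : q ⊔ J ≠ ⊤ := by
        intro htop
        have h1 : (1 : R) ∈ q ⊔ J := by rw [htop]; trivial
        obtain ⟨a, ha, j, hj, haj⟩ := Submodule.mem_sup.mp h1
        apply hq ha
        refine ⟨1, -j, (Ideal.ne_top_iff_one p.asIdeal).mp p.isPrime.ne_top, J.neg_mem hj, ?_⟩
        linear_combination haj
      obtain ⟨m, hm, hle⟩ := Ideal.exists_le_maximal _ hproper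
      have hmZ : (⟨m, hm.isPrime⟩ : PrimeSpectrum R) ∈ Z := by
        rw [← hZJ, mem_zeroLocus]
        exact fun x hx => hle (Ideal.mem_sup_right hx)
      have hqZ : (⟨q, hqprime⟩ : PrimeSpectrum R) ∈ Z := by
        apply hgen _ hmZ
        rw [← le_iff_specializes]
        exact fun x hx => hle (Ideal.mem_sup_left hx)
      rw [← hZJ, mem_zeroLocus] at hqZ
      rw [mem_zeroLocus]
      exact hqZ.trans hqp
    · exact zeroLocus_anti_mono (idealOf_le J)
  refine ⟨idealOf J, ?_, hVI.trans hZJ⟩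
  apply pure_of_forall_exists_eq_mul
  rintro x ⟨y, hy, hxy⟩
  have hrad : J ≤ (idealOf J).radical := by
    rw [← zeroLocus_subset_zeroLocus_iff, hVI]
  obtain ⟨n, hn⟩ := hrad hy
  refine ⟨y ^ n, hn, ?_⟩
  clear hn
  induction n with
  | zero => simp
  | succ n ih => rw [pow_succ, ← mul_assoc, ← ih, ← hxy]

end PureIdeal

end Groth.Agent.Lib.Helper31
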