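import Mathlib
import Groth.Agent.H76.UnivInj

/-!
# Maps from projective modules to flat modules, injective modulo every maximal ideal (helper31)

Global (non-local) versions of `Groth.Agent.H76.UnivInj`, content ideals in projective modules,
and the "pure spreadout" argument (Raynaud–Gruson).
-/

set_option autoImplicit false
universe u

open TensorProduct

namespace Groth.Agent.Lib.Helper31.PureSpreadout

section Global

variable {A : Type u} [CommRing A]

/-- Global Nakayama: a finitely generated submodule `P` with `P ≤ 𝔪 P` for all maximal `𝔪` is zero. -/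
theorem eq_bot_of_forall_le_smul {Q : Type*} [AddCommGroup Q] [Module A Q] (P : Submodule A Q)
    (hP : P.FG) (h : ∀ (m : Ideal A) [m.IsMaximal], P ≤ m • P) : P = ⊥ := by
  by_contra hne
  have hann : P.annihilator ≠ ⊤ := by
    intro htop
    exact hne (Submodule.annihilator_eq_top_iff.mp htop)
  obtain ⟨m, hm, hle⟩ := Ideal.exists_le_maximal _ hann
  haveI := hm
  obtain ⟨r, hr1, hr2⟩ :=
    Submodule.exists_sub_one_mem_and_smul_eq_zero_of_fg_of_le_smul m P hP (h m)
  have hrann : r ∈ P.annihilator := by
    rw [Submodule.mem_annihilator]; exact hr2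
  have h1 : (1 : A) ∈ m := by
    have := m.sub_mem (hle hrann) hr1
    simpa using this
  exact hm.ne_top ((Ideal.eq_top_iff_one m).mpr h1)

theorem finsuppScalarLeft_lTensor_apply {ι : Type*} [DecidableEq ι] {Q₁ Q₂ : Type*}
    [AddCommGroup Q₁] [Module A Q₁] [AddCommGroup Q₂] [Module A Q₂] (f : Q₁ →ₗ[A] Q₂)
    (z : (ι →₀ A) ⊗[A] Q₁) (i : ι) :
    finsuppScalarLeft A Q₂ ι (f.lTensor (ι →₀ A) z) i = f (finsuppScalarLeft A Q₁ ι z i) := by
  induction z using TensorProduct.induction_on with
  | zero => simp
  | tmul p n =>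
    rw [LinearMap.lTensor_tmul, finsuppScalarLeft_apply_tmul_apply,
      finsuppScalarLeft_apply_tmul_apply, map_smul]
  | add a b ha hb =>
    rw [map_add, map_add, Finsupp.add_apply, ha, hb, map_add, Finsupp.add_apply, map_add]

variable {N : Type u} [AddCommGroup N] [Module A N] [Module.Flat A N]

/-- The finite free case. -/
theorem rTensor_injective_of_fintype {ι : Type u} [Fintype ι]
    (v : (ι →₀ A) →ₗ[A] N)
    (h : ∀ (m : Ideal A) [m.IsMaximal], Function.Injective (v.lTensor (A ⧸ m)))
    (Q : Type u) [AddCommGroup Q] [Module A Q] : Function.Injective (v.rTensor Q) := by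
  classical
  rw [injective_iff_map_eq_zero]
  intro x hx
  set q : ι →₀ Q := finsuppScalarLeft A Q ι x with hq
  set P : Submodule A Q := Submodule.span A (Set.range q) with hP
  have hPfg : P.FG := Submodule.fg_span (Set.finite_range q)
  let q' : ι →₀ P :=
    Finsupp.equivFunOnFinite.symm (fun i => ⟨q i, Submodule.subset_span ⟨i, rfl⟩⟩)
  have hq' : ∀ i, ((q' i : P) : Q) = q i := fun i => rfl
  let x₀ : (ι →₀ A) ⊗[A] P := (finsuppScalarLeft A P ι).symm q'
  have hx₀q : finsuppScalarLeft A P ι x₀ = q' := LinearEquiv.apply_symm_apply _ _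
  have hx₀ : (P.subtype.lTensor (ι →₀ A)) x₀ = x := by
    apply (finsuppScalarLeft A Q ι).injective
    ext i
    rw [finsuppScalarLeft_lTensor_apply, hx₀q]
    rfl
  -- the restricted element is killed as well
  have hvx₀ : (v.rTensor P) x₀ = 0 := by
    apply Module.Flat.lTensor_preserves_injective_linearMap (M := N) P.subtype
      Subtype.val_injective
    rw [map_zero, ← LinearMap.comp_apply, LinearMap.lTensor_comp_rTensor,
      ← LinearMap.rTensor_comp_lTensor, LinearMap.comp_apply, hx₀, hx]
  -- key claim
  have key : ∀ (m : Ideal A) [m.IsMaximal] (i : ι), q' i ∈ m • (⊤ : Submodule A P) := by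
    intro m hm i
    by_contra hni
    letI : Field (A ⧸ m) := Ideal.Quotient.field m
    have hv0 : (Submodule.Quotient.mk (q' i) : P ⧸ (m • (⊤ : Submodule A P))) ≠ 0 := by
      rw [Ne, Submodule.Quotient.mk_eq_zero]; exact hni
    obtain ⟨φ, hφ⟩ : ∃ φ : Module.Dual (A ⧸ m) (P ⧸ (m • (⊤ : Submodule A P))),
        φ (Submodule.Quotient.mk (q' i)) ≠ 0 := by
      by_contra hcon
      push Not at hcon
      exact hv0 ((Module.forall_dual_apply_eq_zero_iff (A ⧸ m) _).mp hcon)
    -- the `A`-linear functional
    let lam : P →ₗ[A] (A ⧸ m) :=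
      { toFun := fun z => φ (Submodule.Quotient.mk z)
        map_add' := fun a b => by rw [Submodule.Quotient.mk_add, map_add]
        map_smul' := fun r a => by
          rw [RingHom.id_apply, Submodule.Quotient.mk_smul]
          have : (r • (Submodule.Quotient.mk a : P ⧸ (m • (⊤ : Submodule A P)))) =
              (Ideal.Quotient.mk m r) • (Submodule.Quotient.mk a : P ⧸ (m • (⊤ : Submodule A P))) :=
            rfl
          rw [this, map_smul, smul_eq_mul, Algebra.smul_def]
          rfl }
    have hy : (lam.lTensor (ι →₀ A)) x₀ = 0 := by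
      have hinj : Function.Injective (v.rTensor (A ⧸ m)) :=
        (LinearMap.lTensor_inj_iff_rTensor_inj (M := A ⧸ m) (f := v)).mp (h m)
      apply hinj
      rw [map_zero, ← LinearMap.comp_apply, LinearMap.rTensor_comp_lTensor,
        ← LinearMap.lTensor_comp_rTensor, LinearMap.comp_apply, hvx₀, map_zero]
    have := finsuppScalarLeft_lTensor_apply lam x₀ i
    rw [hy, map_zero, Finsupp.zero_apply, hx₀q] at this
    exact hφ this.symm
  have hPle : ∀ (m : Ideal A) [m.IsMaximal], P ≤ m • P := by
    intro m hm
    rw [hP, Submodule.span_le]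
    rintro _ ⟨i, rfl⟩
    have h1 := key m i
    have h2 : ((m • (⊤ : Submodule A P)).map P.subtype) = m • P := by
      rw [Submodule.map_smul'', Submodule.map_top, Submodule.range_subtype]
    rw [← hP, ← h2]
    exact ⟨q' i, h1, rfl⟩
  have hPbot : P = ⊥ := eq_bot_of_forall_le_smul P hPfg hPle
  have hq0 : q = 0 := by
    ext i
    have : q i ∈ P := Submodule.subset_span ⟨i, rfl⟩
    rw [hPbot, Submodule.mem_bot] at this
    rw [this, Finsupp.zero_apply]
  apply (finsuppScalarLeft A Q ι).injective
  rw [map_zero, ← hq, hq0]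


open Groth.Agent.H76.UnivInj in
/-- The free case. -/
theorem rTensor_injective_of_finsupp {ι : Type u}
    (v : (ι →₀ A) →ₗ[A] N)
    (h : ∀ (m : Ideal A) [m.IsMaximal], Function.Injective (v.lTensor (A ⧸ m)))
    (Q : Type u) [AddCommGroup Q] [Module A Q] : Function.Injective (v.rTensor Q) := by
  classical
  rw [injective_iff_map_eq_zero]
  intro x hx
  set q : ι →₀ Q := finsuppScalarLeft A Q ι x with hq
  let f : {i // i ∈ q.support} → ι := Subtype.val
  have hf : Function.Injective f := Subtype.val_injective
  let incl : ({i // i ∈ q.support} →₀ A) →ₗ[A] (ι →₀ A) := Finsupp.lmapDomain A A f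
  let retr : (ι →₀ A) →ₗ[A] ({i // i ∈ q.support} →₀ A) := Finsupp.lcomapDomain f hf
  have hri : retr ∘ₗ incl = LinearMap.id := by
    apply LinearMap.ext
    intro l
    exact Finsupp.comapDomain_mapDomain f hf l
  let x₀ : ({i // i ∈ q.support} →₀ A) ⊗[A] Q :=
    (finsuppScalarLeft A Q _).symm (Finsupp.comapDomain f q hf.injOn)
  have hx₀ : incl.rTensor Q x₀ = x := by
    apply (finsuppScalarLeft A Q ι).injective
    rw [finsuppScalarLeft_lmapDomain, LinearEquiv.apply_symm_apply]
    apply Finsupp.mapDomain_comapDomain f hf q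
    intro i hi
    exact ⟨⟨i, hi⟩, rfl⟩
  have hincl : ∀ (m : Ideal A), Function.Injective (incl.lTensor (A ⧸ m)) := by
    intro m
    apply Function.HasLeftInverse.injective
    refine ⟨retr.lTensor (A ⧸ m), fun z => ?_⟩
    rw [← LinearMap.comp_apply, ← LinearMap.lTensor_comp, hri, LinearMap.lTensor_id,
      LinearMap.id_apply]
  have h' : ∀ (m : Ideal A) [m.IsMaximal],
      Function.Injective ((v ∘ₗ incl).lTensor (A ⧸ m)) := by
    intro m hm
    rw [LinearMap.lTensor_comp]
    exact (h m).comp (hincl m)
  have h0 : x₀ = 0 := by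
    apply rTensor_injective_of_fintype (v ∘ₗ incl) h' Q
    rw [LinearMap.rTensor_comp, LinearMap.comp_apply, hx₀, hx, map_zero]
  rw [← hx₀, h0, map_zero]

open Groth.Agent.H76.UnivInj in
/-- The projective case: a map from a projective module to a flat module which is injective modulo
every maximal ideal is universally injective. -/
theorem rTensor_injective_of_projective {M : Type u} [AddCommGroup M] [Module A M]
    [Module.Projective A M]
    (u : M →ₗ[A] N)
    (h : ∀ (m : Ideal A) [m.IsMaximal], Function.Injective (u.lTensor (A ⧸ m)))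
    (Q : Type u) [AddCommGroup Q] [Module A Q] : Function.Injective (u.rTensor Q) := by
  classical
  obtain ⟨s, hs⟩ := Module.projective_def'.mp (inferInstance : Module.Projective A M)
  set p : (M →₀ A) →ₗ[A] M := Finsupp.linearCombination A id with hp
  haveI : Module.Flat A (N × (M →₀ A)) := flat_prod N (M →₀ A)
  let û : (M →₀ A) →ₗ[A] N × (M →₀ A) :=
    (LinearMap.inl A N (M →₀ A)) ∘ₗ u ∘ₗ p +
      (LinearMap.inr A N (M →₀ A)) ∘ₗ (LinearMap.id - s ∘ₗ p)
  have h1 : (LinearMap.fst A N (M →₀ A)) ∘ₗ û = u ∘ₗ p := by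
    ext x <;> simp [û]
  have h2 : (LinearMap.snd A N (M →₀ A)) ∘ₗ û = LinearMap.id - s ∘ₗ p := by
    ext x <;> simp [û]
  have hû : ∀ (m : Ideal A) [m.IsMaximal], Function.Injective (û.lTensor (A ⧸ m)) := by
    intro m hm
    rw [injective_iff_map_eq_zero]
    intro z hz
    have e1 : (u.lTensor (A ⧸ m)) ((p.lTensor (A ⧸ m)) z) = 0 := by
      rw [← LinearMap.comp_apply, ← LinearMap.lTensor_comp, ← h1, LinearMap.lTensor_comp,
        LinearMap.comp_apply, hz, map_zero]
    have e2 : (p.lTensor (A ⧸ m)) z = 0 := by
      apply h m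
      rw [e1, map_zero]
    have e3 : ((LinearMap.id - s ∘ₗ p).lTensor (A ⧸ m)) z = 0 := by
      rw [← h2, LinearMap.lTensor_comp, LinearMap.comp_apply, hz, map_zero]
    rw [LinearMap.lTensor_sub, LinearMap.sub_apply, LinearMap.lTensor_id, LinearMap.id_apply,
      LinearMap.lTensor_comp, LinearMap.comp_apply, e2, map_zero, sub_zero] at e3
    exact e3
  have hinj := rTensor_injective_of_finsupp û hû Q
  rw [injective_iff_map_eq_zero]
  intro m hm
  have hps : (p.rTensor Q) ((s.rTensor Q) m) = m := by
    rw [← LinearMap.comp_apply, ← LinearMap.rTensor_comp, hs, LinearMap.rTensor_id,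
      LinearMap.id_apply]
  have : (s.rTensor Q) m = 0 := by
    apply hinj
    rw [map_zero]
    show ((LinearMap.inl A N (M →₀ A) ∘ₗ u ∘ₗ p +
      LinearMap.inr A N (M →₀ A) ∘ₗ (LinearMap.id - s ∘ₗ p)).rTensor Q) ((s.rTensor Q) m) = 0
    have e0 : (LinearMap.id - s ∘ₗ p) ∘ₗ s = 0 := by
      rw [LinearMap.sub_comp, LinearMap.id_comp, LinearMap.comp_assoc, hs, LinearMap.comp_id]
      exact sub_self s
    have e : ((LinearMap.id - s ∘ₗ p).rTensor Q) ((s.rTensor Q) m) = 0 := by
      rw [← LinearMap.comp_apply, ← LinearMap.rTensor_comp, e0, LinearMap.rTensor_zero,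
        LinearMap.zero_apply]
    rw [LinearMap.rTensor_add, LinearMap.add_apply, LinearMap.rTensor_comp,
      LinearMap.rTensor_comp, LinearMap.comp_apply, LinearMap.comp_apply, hps, hm, map_zero,
      zero_add, LinearMap.rTensor_comp, LinearMap.comp_apply, e, map_zero]
  rw [← hps, this, map_zero]

/-- `lTensor` form of `rTensor_injective_of_projective`. -/
theorem lTensor_injective_of_projective {M : Type u} [AddCommGroup M] [Module A M]
    [Module.Projective A M]
    (u : M →ₗ[A] N)
    (h : ∀ (m : Ideal A) [m.IsMaximal], Function.Injective (u.lTensor (A ⧸ m)))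
    (Q : Type u) [AddCommGroup Q] [Module A Q] : Function.Injective (u.lTensor Q) :=
  (LinearMap.lTensor_inj_iff_rTensor_inj (M := Q) (f := u)).mpr
    (rTensor_injective_of_projective u h Q)

omit [Module.Flat A N] in
/-- Elements of projective modules have content ideals. -/
theorem exists_content_of_projective {P : Type u} [AddCommGroup P] [Module A P]
    [Module.Projective A P] (y : P) :
    ∃ I : Ideal A, y ∈ I • (⊤ : Submodule A P) ∧
      ∀ J : Ideal A, y ∈ J • (⊤ : Submodule A P) → I ≤ J := by
  classical
  obtain ⟨s, hs⟩ := Module.projective_def'.mp (inferInstance : Module.Projective A P)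
  refine ⟨Ideal.span (Set.range (s y)), ?_, ?_⟩
  · have hy : Finsupp.linearCombination A id (s y) = y := by
      have := LinearMap.congr_fun hs y
      rw [LinearMap.comp_apply, LinearMap.id_apply] at this
      exact this
    have hmem : Finsupp.linearCombination A id (s y) ∈
        (Ideal.span (Set.range (s y))) • (⊤ : Submodule A P) := by
      rw [Finsupp.linearCombination_apply]
      apply Submodule.sum_mem
      intro b _
      apply Submodule.smul_mem_smul
      · exact Ideal.subset_span ⟨b, rfl⟩
      · trivial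
    rw [hy] at hmem
    exact hmem
  · intro J hJ
    rw [Ideal.span_le]
    rintro _ ⟨b, rfl⟩
    have h1 : (J • (⊤ : Submodule A P)).map ((Finsupp.lapply b) ∘ₗ s) ≤
        J • (⊤ : Submodule A A) := by
      rw [Submodule.map_smul'']
      exact Submodule.smul_mono le_rfl le_top
    have h2 := h1 (Submodule.mem_map_of_mem hJ)
    rw [LinearMap.comp_apply, Finsupp.lapply_apply, smul_eq_mul, Ideal.mul_top] at h2
    exact h2

omit [Module.Flat A N] in
/-- `1 ⊗ z = 0` in `(A ⧸ J) ⊗ X` iff `z ∈ J X`. -/
theorem one_tmul_eq_zero_iff {X : Type*} [AddCommGroup X] [Module A X] (J : Ideal A) (z : X) :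
    ((1 : A ⧸ J) ⊗ₜ[A] z = 0) ↔ z ∈ J • (⊤ : Submodule A X) := by
  rw [← (TensorProduct.quotTensorEquivQuotSMul X J).map_eq_zero_iff,
    TensorProduct.quotTensorEquivQuotSMul_mk_one_tmul, Submodule.Quotient.mk_eq_zero]

end Global

section Spreadout

variable {A B : Type u} [CommRing A] [CommRing B] [Algebra A B] (T : Submonoid B)
  (N : Type u) [AddCommGroup N] [Module (Localization T) N] [Module A N]
  [IsScalarTower A (Localization T) N]
  (C : Type u) [CommRing C] [Algebra B C] [Algebra A C] [IsScalarTower A B C]
  [Algebra C (Localization T)] [IsScalarTower B C (Localization T)]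
  [IsScalarTower A C (Localization T)]
  [Module C N] [IsScalarTower C (Localization T) N] [IsScalarTower A C N]
  (N' : Type u) [AddCommGroup N'] [Module C N'] [Module A N'] [IsScalarTower A C N']
  (g : N' →ₗ[C] N)

/-- Multiplication by an element of the localization, as an `A`-linear endomorphism of `N`. -/
noncomputable def smulL (c : Localization T) : N →ₗ[A] N :=
  (LinearMap.lsmul (Localization T) N c).restrictScalars A

@[simp] theorem smulL_apply (c : Localization T) (n : N) : smulL (A := A) T N c n = c • n := rfl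

/-- Multiplication by an element of `C`, as an `A`-linear endomorphism of `N'`. -/
noncomputable def smulC (c : C) : N' →ₗ[A] N' :=
  (LinearMap.lsmul C N' c).restrictScalars A

@[simp] theorem smulC_apply (c : C) (n : N') : smulC (A := A) C N' c n = c • n := rfl

omit [Algebra A B] [Module A N] [IsScalarTower A (Localization T) N] [Algebra A C]
  [IsScalarTower A B C] [IsScalarTower A C (Localization T)] [IsScalarTower A C N] in
theorem algebraMap_smul_eq (b : B) (n : N) :
    (algebraMap B (Localization T) b) • n = (algebraMap B C b) • n := by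
  rw [IsScalarTower.algebraMap_apply B C (Localization T), algebraMap_smul]

omit [Algebra A B] [Module A N] [IsScalarTower A (Localization T) N] [Algebra A C]
  [IsScalarTower A B C] [IsScalarTower A C (Localization T)] [IsScalarTower A C N] [Module A N']
  [IsScalarTower A C N'] in
/-- Every element of `N` becomes an element of `g(N')` after multiplication by some `t ∈ T`. -/
theorem exists_smul_eq (hg : IsBaseChange (Localization T) g) (x : N) :
    ∃ (t : T) (y : N'), (algebraMap B (Localization T) (t : B)) • x = g y := by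
  induction x using hg.inductionOn with
  | zero => exact ⟨1, 0, by simp⟩
  | tmul m => exact ⟨1, m, by simp⟩
  | smul s n ih =>
    obtain ⟨t, y, hty⟩ := ih
    obtain ⟨b, t', rfl⟩ := IsLocalization.exists_mk'_eq T s
    refine ⟨t' * t, (algebraMap B C b) • y, ?_⟩
    rw [map_smul, ← algebraMap_smul_eq T N C, ← hty, smul_smul, smul_smul, Submonoid.coe_mul,
      map_mul]
    congr 1
    have := IsLocalization.mk'_spec' (Localization T) b t'
    rw [mul_assoc, mul_comm (algebraMap B (Localization T) (t : B)), ← mul_assoc, this]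
  | add x₁ x₂ ih₁ ih₂ =>
    obtain ⟨t₁, y₁, h₁⟩ := ih₁
    obtain ⟨t₂, y₂, h₂⟩ := ih₂
    refine ⟨t₁ * t₂, (algebraMap B C (t₂ : B)) • y₁ + (algebraMap B C (t₁ : B)) • y₂, ?_⟩
    rw [map_add, map_smul, map_smul, ← algebraMap_smul_eq T N C, ← algebraMap_smul_eq T N C,
      ← h₁, ← h₂, smul_add, smul_smul, smul_smul, Submonoid.coe_mul, map_mul]
    congr 1
    rw [mul_comm]

/-- Tensor-level version of `exists_smul_eq`. -/
theorem exists_lTensor_smul_eq (hg : IsBaseChange (Localization T) g)
    (Q : Type u) [AddCommGroup Q] [Module A Q] (ξ : Q ⊗[A] N) :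
    ∃ (t : T) (η : Q ⊗[A] N'),
      (smulL (A := A) T N (algebraMap B (Localization T) (t : B))).lTensor Q ξ =
        (g.restrictScalars A).lTensor Q η := by
  have hcomm : ∀ (t : T), smulL (A := A) T N (algebraMap B (Localization T) (t : B)) ∘ₗ
      (g.restrictScalars A) = (g.restrictScalars A) ∘ₗ smulC (A := A) C N' (algebraMap B C (t : B)) := by
    intro t
    ext y
    simp only [LinearMap.comp_apply, LinearMap.coe_restrictScalars, smulL_apply, smulC_apply,
      map_smul]
    exact algebraMap_smul_eq T N C _ _
  have hmul : ∀ (t₁ t₂ : T), smulL (A := A) T N (algebraMap B (Localization T) ((t₁ * t₂ : T) : B)) =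
      smulL (A := A) T N (algebraMap B (Localization T) (t₂ : B)) ∘ₗ
        smulL (A := A) T N (algebraMap B (Localization T) (t₁ : B)) := by
    intro t₁ t₂
    ext n
    simp only [LinearMap.comp_apply, smulL_apply, Submonoid.coe_mul, map_mul, smul_smul]
    rw [mul_comm]
  induction ξ using TensorProduct.induction_on with
  | zero => exact ⟨1, 0, by simp⟩
  | tmul q x =>
    obtain ⟨t, y, hty⟩ := exists_smul_eq T N C N' g hg x
    refine ⟨t, q ⊗ₜ y, ?_⟩
    rw [LinearMap.lTensor_tmul, LinearMap.lTensor_tmul, smulL_apply, hty]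
    rfl
  | add ξ₁ ξ₂ ih₁ ih₂ =>
    obtain ⟨t₁, η₁, h₁⟩ := ih₁
    obtain ⟨t₂, η₂, h₂⟩ := ih₂
    refine ⟨t₁ * t₂, (smulC (A := A) C N' (algebraMap B C (t₂ : B))).lTensor Q η₁ +
      (smulC (A := A) C N' (algebraMap B C (t₁ : B))).lTensor Q η₂, ?_⟩
    rw [map_add, map_add]
    congr 1
    · rw [hmul, LinearMap.lTensor_comp, LinearMap.comp_apply, h₁, ← LinearMap.comp_apply,
        ← LinearMap.lTensor_comp, hcomm, LinearMap.lTensor_comp, LinearMap.comp_apply]
    · rw [mul_comm t₁ t₂, hmul, LinearMap.lTensor_comp, LinearMap.comp_apply, h₂,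
        ← LinearMap.comp_apply, ← LinearMap.lTensor_comp, hcomm, LinearMap.lTensor_comp,
        LinearMap.comp_apply]

theorem smulL_comp_smulL (c d : Localization T) :
    smulL (A := A) T N c ∘ₗ smulL (A := A) T N d = smulL (A := A) T N (c * d) := by
  ext n
  simp only [LinearMap.comp_apply, smulL_apply, smul_smul]

theorem smulL_one : smulL (A := A) T N 1 = LinearMap.id := by
  ext n
  simp only [smulL_apply, one_smul, LinearMap.id_apply]

/-- The main statement: content ideals and universal injectivity from a pure spreadout. -/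
theorem main (hg : IsBaseChange (Localization T) g) [Module.Projective A N']
    (hgu : ∀ (Q : Type u) [AddCommGroup Q] [Module A Q],
      Function.Injective ((g.restrictScalars A).lTensor Q)) :
    (∀ x : N, ∃ I : Ideal A, x ∈ I • (⊤ : Submodule A N) ∧
      ∀ J : Ideal A, x ∈ J • (⊤ : Submodule A N) → I ≤ J) ∧
    ∀ (M : Type u) [AddCommGroup M] [Module A M] [Module.Flat A M] (u : N →ₗ[A] M),
      (∀ (m : Ideal A) [m.IsMaximal], Function.Injective (u.lTensor (A ⧸ m))) →
      ∀ (Q : Type u) [AddCommGroup Q] [Module A Q], Function.Injective (u.lTensor Q) := by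
  have hinv : ∀ (t : T), (IsLocalization.mk' (Localization T) (1 : B) t) *
      algebraMap B (Localization T) (t : B) = 1 := by
    intro t
    rw [IsLocalization.mk'_spec, map_one]
  have hleft : ∀ (t : T) (Q : Type u) [AddCommGroup Q] [Module A Q],
      Function.LeftInverse
        ((smulL (A := A) T N (IsLocalization.mk' (Localization T) (1 : B) t)).lTensor Q)
        ((smulL (A := A) T N (algebraMap B (Localization T) (t : B))).lTensor Q) := by
    intro t Q _ _ z
    rw [← LinearMap.comp_apply, ← LinearMap.lTensor_comp, smulL_comp_smulL, hinv, smulL_one,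
      LinearMap.lTensor_id, LinearMap.id_apply]
  have hright : ∀ (t : T) (Q : Type u) [AddCommGroup Q] [Module A Q],
      Function.LeftInverse
        ((smulL (A := A) T N (algebraMap B (Localization T) (t : B))).lTensor Q)
        ((smulL (A := A) T N (IsLocalization.mk' (Localization T) (1 : B) t)).lTensor Q) := by
    intro t Q _ _ z
    rw [← LinearMap.comp_apply, ← LinearMap.lTensor_comp, smulL_comp_smulL, mul_comm, hinv,
      smulL_one, LinearMap.lTensor_id, LinearMap.id_apply]
  refine ⟨?_, ?_⟩
  · intro x
    obtain ⟨t, y, hty⟩ := exists_smul_eq T N C N' g hg x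
    obtain ⟨I, hI1, hI2⟩ := exists_content_of_projective (A := A) y
    refine ⟨I, ?_, ?_⟩
    · have hx : x = (smulL (A := A) T N (IsLocalization.mk' (Localization T) (1 : B) t) ∘ₗ
          (g.restrictScalars A)) y := by
        rw [LinearMap.comp_apply, LinearMap.coe_restrictScalars, ← hty, smulL_apply, smul_smul,
          hinv, one_smul]
      have h1 : (I • (⊤ : Submodule A N')).map
          (smulL (A := A) T N (IsLocalization.mk' (Localization T) (1 : B) t) ∘ₗ
            (g.restrictScalars A)) ≤ I • (⊤ : Submodule A N) := by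
        rw [Submodule.map_smul'']
        exact Submodule.smul_mono le_rfl le_top
      rw [hx]
      exact h1 (Submodule.mem_map_of_mem hI1)
    · intro J hJ
      apply hI2
      have hgy : g y ∈ J • (⊤ : Submodule A N) := by
        have h1 : (J • (⊤ : Submodule A N)).map
            (smulL (A := A) T N (algebraMap B (Localization T) (t : B))) ≤
              J • (⊤ : Submodule A N) := by
          rw [Submodule.map_smul'']
          exact Submodule.smul_mono le_rfl le_top
        have := h1 (Submodule.mem_map_of_mem hJ)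
        rw [smulL_apply, hty] at this
        exact this
      rw [← one_tmul_eq_zero_iff]
      apply hgu (A ⧸ J)
      rw [map_zero, LinearMap.lTensor_tmul, LinearMap.coe_restrictScalars, one_tmul_eq_zero_iff]
      exact hgy
  · intro M _ _ _ u hu Q _ _
    rw [injective_iff_map_eq_zero]
    intro ξ hξ
    obtain ⟨t, η, hη⟩ := exists_lTensor_smul_eq T N C N' g hg Q ξ
    set ρ := smulL (A := A) T N (IsLocalization.mk' (Localization T) (1 : B) t) with hρ
    set τ := smulL (A := A) T N (algebraMap B (Localization T) (t : B)) with hτ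
    let ut : N' →ₗ[A] M := u ∘ₗ ρ ∘ₗ (g.restrictScalars A)
    have hut : ∀ (m : Ideal A) [m.IsMaximal], Function.Injective (ut.lTensor (A ⧸ m)) := by
      intro m hm
      rw [LinearMap.lTensor_comp, LinearMap.lTensor_comp]
      exact (hu m).comp (((hright t (A ⧸ m)).injective).comp (hgu (A ⧸ m)))
    have hinj := lTensor_injective_of_projective ut hut Q
    have hη0 : η = 0 := by
      apply hinj
      rw [map_zero, LinearMap.lTensor_comp, LinearMap.lTensor_comp, LinearMap.comp_apply,
        LinearMap.comp_apply, ← hη, hleft t Q ξ, hξ]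
    rw [hη0, map_zero] at hη
    have := hleft t Q ξ
    rw [hη, map_zero] at this
    exact this.symm

end Spreadout

end Groth.Agent.Lib.Helper31.PureSpreadout
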