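import Mathlib.RingTheory.Flat.LocallyFree
import Mathlib.RingTheory.LocalProperties.FinitePresentation
import Mathlib.RingTheory.Flat.EquationalCriterion

set_option autoImplicit false
universe u

open PrimeSpectrum Module

namespace Groth.Agent.Lib.Helper31

namespace RankSemicont

variable {R : Type u} [CommRing R] (M : Type u) [AddCommGroup M] [Module R M]
  [Module.Finite R M] [Module.Flat R M]

attribute [local instance] Module.free_of_flat_of_isLocalRing

/-- Around any prime `p`, a finite flat module is generated by `rank_p M` elements on a basic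
open neighbourhood. -/
theorem exists_map_surjective (p : PrimeSpectrum R) :
    ∃ (φ : (Fin (rankAtStalk M p) →₀ R) →ₗ[R] M) (a : R), a ∉ p.asIdeal ∧
      Function.Surjective (LocalizedModule.map (Submonoid.powers a) φ) := by
  let Rₚ := Localization.AtPrime p.asIdeal
  let n := rankAtStalk M p
  let f : (Fin n →₀ R) →ₗ[R] Fin n →₀ Rₚ := Finsupp.mapRange.linearMap (Algebra.linearMap R Rₚ)
  let g : M →ₗ[R] LocalizedModule.AtPrime p.asIdeal M :=
    LocalizedModule.mkLinearMap p.asIdeal.primeCompl M
  obtain ⟨φ, -, -, hφps⟩ := exists_localizedMap_surjective_of_surjective p.asIdeal.primeCompl f g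
    ((finBasis Rₚ (LocalizedModule.AtPrime p.asIdeal M)).repr.restrictScalars R).symm.surjective
  obtain ⟨a, hap, hφas⟩ := by
    refine exists_localizedMap_away_surjective_of_localizedMap_atPrime_surjective p.asIdeal φ ?_
    simpa [LocalizedModule.coe_map_eq f g]
  exact ⟨φ, a, hap, hφas⟩

omit [Module.Finite R M] [Module.Flat R M] in
theorem exists_pow_smul_mem_range {N : Type u} [AddCommGroup N] [Module R N] (φ : N →ₗ[R] M)
    (a : R) (h : Function.Surjective (LocalizedModule.map (Submonoid.powers a) φ)) (m : M) :
    ∃ (k : ℕ) (x : N), a ^ k • m = φ x := by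
  obtain ⟨y, hy⟩ := h (LocalizedModule.mk m 1)
  induction y using LocalizedModule.induction_on with
  | h x s =>
    rw [LocalizedModule.map_mk, LocalizedModule.mk_eq] at hy
    obtain ⟨u, hu⟩ := hy
    obtain ⟨i, hi⟩ := s.2
    obtain ⟨j, hj⟩ := u.2
    refine ⟨j + i, (u : R) • x, ?_⟩
    rw [map_smul, pow_add, mul_smul]
    have h1 : u • (1 : Submonoid.powers a) • φ x = u • s • m := hu
    rw [one_smul] at h1
    simp only [Submonoid.smul_def] at h1
    rw [h1]
    simp only [← hi, ← hj]

omit [Module.Finite R M] [Module.Flat R M] in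
/-- Surjectivity on `D(a)` propagates to the stalks at all primes of `D(a)`. -/
theorem rankAtStalk_le_of_surjective {n : ℕ} (φ : (Fin n →₀ R) →ₗ[R] M)
    (a : R) (h : Function.Surjective (LocalizedModule.map (Submonoid.powers a) φ))
    (q : PrimeSpectrum R) (hq : a ∉ q.asIdeal) : rankAtStalk M q ≤ n := by
  have hs : Function.Surjective (LocalizedModule.map q.asIdeal.primeCompl φ) := by
    intro y
    induction y using LocalizedModule.induction_on with
    | h m s =>
      obtain ⟨k, x, hx⟩ := exists_pow_smul_mem_range M φ a h m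
      have hak : a ^ k ∈ q.asIdeal.primeCompl := fun hmem => hq (q.2.mem_of_pow_mem k hmem)
      refine ⟨LocalizedModule.mk x (⟨a ^ k, hak⟩ * s), ?_⟩
      rw [LocalizedModule.map_mk, ← hx]
      rw [LocalizedModule.mk_eq]
      refine ⟨1, ?_⟩
      simp only [one_smul, Submonoid.smul_def, mul_smul]
      rw [smul_comm]
  have := LinearMap.finrank_le_finrank_of_surjective hs
  refine this.trans (le_of_eq ?_)
  have h2 := rankAtStalk_eq_finrank_of_free (R := R) (M := Fin n →₀ R)
  have h3 : rankAtStalk (Fin n →₀ R) q = n := by
    have : Nontrivial R := nontrivial_of_ne (0 : R) 1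
      (fun h0 => q.2.ne_top ((Ideal.eq_top_iff_one _).2 (h0 ▸ q.asIdeal.zero_mem)))
    rw [h2]; simp
  exact h3

/-- Stacks 052U, (1) ⇒ (2). -/
theorem finitePresentation_of_forall_isOpen
    (hZ : ∀ Z : Set (PrimeSpectrum R), IsClosed Z → StableUnderGeneralization Z → IsOpen Z) :
    Module.FinitePresentation R M := by
  choose φ a ha hφ using exists_map_surjective (R := R) M
  have hle : ∀ q q' : PrimeSpectrum R, a q ∉ q'.asIdeal → rankAtStalk M q' ≤ rankAtStalk M q :=
    fun q q' h => rankAtStalk_le_of_surjective M (φ q) (a q) (hφ q) q' h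
  have hopen : ∀ n : ℕ, IsOpen {q : PrimeSpectrum R | n ≤ rankAtStalk M q} := by
    intro n
    apply hZ
    · rw [← isOpen_compl_iff, isOpen_iff_forall_mem_open]
      intro q hq
      simp only [Set.mem_compl_iff, Set.mem_ofPred_eq, not_le] at hq
      refine ⟨(basicOpen (a q) : Set (PrimeSpectrum R)), ?_, (basicOpen (a q)).2, ha q⟩
      intro q' hq'
      simp only [Set.mem_compl_iff, Set.mem_ofPred_eq, not_le]
      exact lt_of_le_of_lt (hle q q' hq') hq
    · intro x y hyx hx
      rw [← le_iff_specializes] at hyx
      simp only [Set.mem_ofPred_eq] at hx ⊢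
      rw [rankAtStalk_eq_of_le_of_finite_of_flat M hyx]
      exact hx
  apply Module.FinitePresentation.of_localizationSpan
    {g : R | Module.FinitePresentation (Localization.Away g) (LocalizedModule.Away g M)}
  · by_contra hne
    obtain ⟨m, hm, hsm⟩ := Ideal.exists_le_maximal _ hne
    let p : PrimeSpectrum R := ⟨m, hm.isPrime⟩
    set n := rankAtStalk M p with hn
    have hU : IsOpen ({q : PrimeSpectrum R | n ≤ rankAtStalk M q} ∩
        (basicOpen (a p) : Set (PrimeSpectrum R))) := (hopen n).inter (basicOpen (a p)).2
    have hpU : p ∈ ({q : PrimeSpectrum R | n ≤ rankAtStalk M q} ∩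
        (basicOpen (a p) : Set (PrimeSpectrum R))) := ⟨show n ≤ rankAtStalk M p from le_refl _, ha p⟩
    obtain ⟨V, ⟨g', rfl⟩, hpV, hVU⟩ :=
      isTopologicalBasis_basic_opens.exists_subset_of_mem_open hpU hU
    have hrank : ∀ q : PrimeSpectrum R, a p * g' ∉ q.asIdeal → rankAtStalk M q = n := by
      intro q hq
      have hq1 : a p ∉ q.asIdeal := fun h => hq (q.asIdeal.mul_mem_right _ h)
      have hq2 : g' ∉ q.asIdeal := fun h => hq (q.asIdeal.mul_mem_left _ h)
      exact le_antisymm (hle p q hq1) (hVU hq2).1
    have hgp : a p * g' ∉ m := by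
      intro h
      rcases hm.isPrime.mem_or_mem h with h | h
      · exact ha p h
      · exact hpV h
    apply hgp
    apply hsm
    apply Ideal.subset_span
    show Module.FinitePresentation (Localization.Away (a p * g'))
      (LocalizedModule.Away (a p * g') M)
    set g := a p * g' with hg
    -- surjectivity of the localized map
    have hsurj : Function.Surjective (LocalizedModule.map (Submonoid.powers g) (φ p)) := by
      intro y
      induction y using LocalizedModule.induction_on with
      | h x s =>
        obtain ⟨k, z, hz⟩ := exists_pow_smul_mem_range M (φ p) (a p) (hφ p) x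
        refine ⟨LocalizedModule.mk (g' ^ k • z) (⟨g ^ k, k, rfl⟩ * s), ?_⟩
        rw [LocalizedModule.map_mk, LocalizedModule.mk_eq]
        refine ⟨1, ?_⟩
        simp only [one_smul, Submonoid.smul_def, mul_smul, map_smul, ← hz]
        have hgk : g ^ k = a p ^ k * g' ^ k := by rw [hg, mul_pow]
        rw [hgk, mul_smul, smul_comm (s : R), smul_comm (s : R),
          smul_comm (g' ^ k) (a p ^ k)]
    have hbij : Function.Bijective (LocalizedModule.map (Submonoid.powers g) (φ p)) := by
      refine bijective_of_surjective_of_rankAtStalk_eq (R := Localization.Away g)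
        (M := LocalizedModule.Away g (Fin n →₀ R)) (N := LocalizedModule.Away g M)
        (φ := LocalizedModule.map (Submonoid.powers g) (φ p)) hsurj ?_
      intro m' hm'
      rw [rankAtStalk_isBaseChange (LocalizedModule.isBaseChange (Submonoid.powers g) _),
        rankAtStalk_isBaseChange (LocalizedModule.isBaseChange (Submonoid.powers g) _)]
      set q : PrimeSpectrum R := PrimeSpectrum.comap (algebraMap R (Localization.Away g))
        ⟨m', inferInstance⟩ with hq
      have hgq : g ∉ q.asIdeal := by
        intro h
        have h1 : algebraMap R (Localization.Away g) g ∈ m' := h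
        exact hm'.ne_top (Ideal.eq_top_of_isUnit_mem _ h1
          (IsLocalization.Away.algebraMap_isUnit g))
      rw [hrank q hgq]
      have : Nontrivial R := nontrivial_of_ne (0 : R) 1
        (fun h0 => q.2.ne_top ((Ideal.eq_top_iff_one _).2 (h0 ▸ q.asIdeal.zero_mem)))
      rw [rankAtStalk_eq_finrank_of_free]
      simp [hn]
    have e : LocalizedModule.Away g (Fin n →₀ R) ≃ₗ[Localization.Away g] LocalizedModule.Away g M :=
      LinearEquiv.ofBijective (LocalizedModule.map (Submonoid.powers g) (φ p)) hbij
    exact Module.FinitePresentation.of_equiv (R := Localization.Away g)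
      (M := LocalizedModule.Away g (Fin n →₀ R)) (N := LocalizedModule.Away g M) e
  · intro g
    exact g.2

end RankSemicont

end Groth.Agent.Lib.Helper31
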