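import Groth.Agent.Lib.Helper31.Yoneda2
import Mathlib.CategoryTheory.Limits.Preserves.Shapes.Terminal
import Mathlib.CategoryTheory.Limits.Constructions.Over.Basic

set_option autoImplicit false
open CategoryTheory CategoryTheory.Limits CategoryTheory.Functor
universe v₃ u₃ v₂ u₂ v u

namespace Groth.Agent.Lib.Helper31

section

variable {C : Type u} [Category.{v} C]

/-- a 2-morphism over `C` into a category fibred in groupoids is invertible. -/
theorem basedNatTrans_isIso_of_isFibGrpd {𝒳 : BasedCategory.{v₂, u₂} C} {𝒴 : BasedCategory.{v₃, u₃} C}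
    (h𝒴 : FibCat.IsFibGrpd 𝒴.p) {F G : 𝒳 ⥤ᵇ 𝒴} (α : F ⟶ G) : IsIso α := by
  have : ∀ a, IsIso (α.toNatTrans.app a) := by
    intro a
    have h := α.isHomLift' a
    have hfac := IsHomLift.fac' 𝒴.p (𝟙 (𝒳.p.obj a)) (α.toNatTrans.app a)
    have : IsIso (𝒴.p.map (α.toNatTrans.app a)) := by
      rw [hfac]; infer_instance
    exact isIso_of_isFibGrpd 𝒴.p h𝒴 _
  have : IsIso (X := F.toFunctor) α.toNatTrans := NatIso.isIso_of_isIso_app _
  exact BasedNatIso.isIso_of_toNatTrans_isIso α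

/-- `Over.map f` as a functor over `C`. -/
def overMapBased {X' X : C} (f : X' ⟶ X) : FibCat.overCat X' ⥤ᵇ FibCat.overCat X :=
  ⟨Over.map f, Over.mapForget_eq f⟩

/-- Every functor `C/X' ⟶ C/X` over `C` is isomorphic to `Over.map f`. -/
theorem exists_iso_overMap {X' X : C} (Φ : FibCat.overCat X' ⥤ᵇ FibCat.overCat X) :
    ∃ f : X' ⟶ X, Nonempty (Φ ≅ overMapBased f) ∧
      f = eqToHom (Φ.w_obj (Over.mk (𝟙 X'))).symm ≫ (Φ.obj (Over.mk (𝟙 X'))).hom := by
  have hl : (Φ.obj (Over.mk (𝟙 X'))).left = X' := Φ.w_obj (Over.mk (𝟙 X'))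
  obtain ⟨f, hf⟩ : ∃ f : X' ⟶ X, f = eqToHom hl.symm ≫ (Φ.obj (Over.mk (𝟙 X'))).hom := ⟨_, rfl⟩
  refine ⟨f, ?_, hf⟩
  have hG' : CartAtId (overMapBased f) := cartAtId_of_isFibGrpd (isFibGrpd_overForget X) _
  let φ : Φ.obj (Over.mk (𝟙 X')) ⟶ (overMapBased f).obj (Over.mk (𝟙 X')) :=
    Over.homMk (eqToHom hl) (by
      change eqToHom hl ≫ (𝟙 X' ≫ f) = _
      rw [hf]; simp)
  have hφ : (FibCat.overCat X).p.IsHomLift (𝟙 X') φ := by
    apply IsHomLift.of_fac (FibCat.overCat X).p (𝟙 X') φ hl rfl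
    change 𝟙 X' = eqToHom hl.symm ≫ eqToHom hl ≫ eqToHom rfl
    simp
  let α := yonedaNatTrans Φ (overMapBased f) hG' φ
  have : IsIso α := basedNatTrans_isIso_of_isFibGrpd (isFibGrpd_overForget X) α
  exact ⟨asIso α⟩

/-- uniqueness of the representing object. -/
theorem representing_object_unique {𝒮 : BasedCategory.{v, max u v} C} {X X' : C}
    (j : 𝒮 ⥤ᵇ FibCat.overCat X) (j' : 𝒮 ⥤ᵇ FibCat.overCat X')
    (hj : FibCat.IsEquivOver j) (hj' : FibCat.IsEquivOver j') :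
    ∃ e : X' ≅ X, Nonempty (BasedFunctor.comp j'
      (⟨Over.map e.hom, Over.mapForget_eq e.hom⟩ : FibCat.overCat X' ⥤ᵇ FibCat.overCat X) ≅ j) := by
  have hjE : j.toFunctor.IsEquivalence := isEquivalence_of_isEquivOver j hj
  obtain ⟨k', ⟨e₁⟩, ⟨e₂⟩⟩ := hj'
  have hk'E : k'.toFunctor.IsEquivalence :=
    isEquivalence_of_isEquivOver k' (isEquivOver_symm e₁ e₂)
  obtain ⟨f, ⟨β⟩, hf⟩ := exists_iso_overMap (BasedFunctor.comp k' j)
  have hΦE : (BasedFunctor.comp k' j).toFunctor.IsEquivalence :=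
    inferInstanceAs (k'.toFunctor ⋙ j.toFunctor).IsEquivalence
  have hterm : IsTerminal ((BasedFunctor.comp k' j).toFunctor.obj (Over.mk (𝟙 X'))) :=
    IsTerminal.isTerminalObj (BasedFunctor.comp k' j).toFunctor _ Over.mkIdTerminal
  let i : (BasedFunctor.comp k' j).toFunctor.obj (Over.mk (𝟙 X')) ≅ Over.mk (𝟙 X) :=
    hterm.uniqueUpToIso Over.mkIdTerminal
  have h1 : IsIso ((BasedFunctor.comp k' j).obj (Over.mk (𝟙 X'))).hom := by
    have hw := Over.w i.hom
    have : IsIso i.hom.left := inferInstanceAs (IsIso ((Over.forget X).map i.hom))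
    have : ((BasedFunctor.comp k' j).obj (Over.mk (𝟙 X'))).hom = i.hom.left := by
      rw [← hw]; simp
    rw [this]; infer_instance
  have h2 : IsIso f := by
    rw [hf]
    have h0 : IsIso (eqToHom ((BasedFunctor.comp k' j).w_obj (Over.mk (𝟙 X'))).symm) := inferInstance
    exact IsIso.comp_isIso' h0 h1
  refine ⟨asIso f, ⟨?_⟩⟩
  have s1 : BasedFunctor.comp j' (overMapBased f) ≅ BasedFunctor.comp j' (BasedFunctor.comp k' j) :=
    Bicategory.whiskerLeftIso (B := BasedCategory.{v, max u v} C) j' β.symm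
  have s2 : BasedFunctor.comp j' (BasedFunctor.comp k' j) ≅ BasedFunctor.comp (BasedFunctor.comp j' k') j :=
    (Bicategory.associator (B := BasedCategory.{v, max u v} C) j' k' j).symm
  have s3 : BasedFunctor.comp (BasedFunctor.comp j' k') j ≅ BasedFunctor.comp (BasedFunctor.id 𝒮) j :=
    Bicategory.whiskerRightIso (B := BasedCategory.{v, max u v} C) e₁ j
  have s4 : BasedFunctor.comp (BasedFunctor.id 𝒮) j ≅ j :=
    Bicategory.leftUnitor (B := BasedCategory.{v, max u v} C) j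
  exact s1 ≪≫ s2 ≪≫ s3 ≪≫ s4

end

end Groth.Agent.Lib.Helper31
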