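import Groth.Agent.Lib.Helper31.Representable

set_option autoImplicit false
open CategoryTheory CategoryTheory.Limits CategoryTheory.Functor
universe v₃ u₃ v₂ u₂ v u

namespace Groth.Agent.Lib.Helper31

section

variable {C : Type u} [Category.{v} C] {𝒳 : BasedCategory.{v₂, u₂} C} {𝒴 : BasedCategory.{v₃, u₃} C}

/-- in a category with thin fibres, two morphisms over the same identity coincide. -/
theorem eq_of_thin_fiber (hthin : ∀ U : C, Quiver.IsThin (𝒴.p.Fiber U)) {U : C} {a b : 𝒴.obj}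
    (α β : a ⟶ b) (hα : 𝒴.p.IsHomLift (𝟙 U) α) (hβ : 𝒴.p.IsHomLift (𝟙 U) β) : α = β := by
  have ha : 𝒴.p.obj a = U := IsHomLift.domain_eq 𝒴.p (𝟙 U) α
  have hb : 𝒴.p.obj b = U := IsHomLift.codomain_eq 𝒴.p (𝟙 U) α
  let A : 𝒴.p.Fiber U := ⟨a, ha⟩
  let B : 𝒴.p.Fiber U := ⟨b, hb⟩
  have := hthin U A B
  have h : (⟨α, hα⟩ : A ⟶ B) = ⟨β, hβ⟩ := Subsingleton.elim _ _
  exact congrArg Subtype.val h

theorem setoid_unique_iso (h𝒴 : FibCat.IsFibSetoid 𝒴.p) (f g : 𝒳 ⥤ᵇ 𝒴)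
    (hfg : ∀ (U : C) (x : 𝒳.p.Fiber U), Nonempty ((FibCat.fiberFunctor f U).obj x ≅ (FibCat.fiberFunctor g U).obj x)) :
    Nonempty (Unique (f ≅ g)) := by
  obtain ⟨hgrpd, hthin⟩ := h𝒴
  -- components
  have hcomp : ∀ x : 𝒳.obj, ∃ e : f.obj x ⟶ g.obj x, 𝒴.p.IsHomLift (𝟙 (𝒳.p.obj x)) e := by
    intro x
    obtain ⟨e⟩ := hfg (𝒳.p.obj x) ⟨x, rfl⟩
    exact ⟨e.hom.1, e.hom.2⟩
  choose e he using hcomp
  have hnat : ∀ {x y : 𝒳.obj} (φ : x ⟶ y), f.map φ ≫ e y = e x ≫ g.map φ := by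
    intro x y φ
    have hg : 𝒴.p.IsStronglyCartesian (𝒳.p.map φ) (g.map φ) :=
      isStronglyCartesian_of_isFibGrpd 𝒴.p hgrpd (𝒳.p.map φ) (g.map φ)
    have hf : 𝒴.p.IsHomLift (𝒳.p.map φ) (f.map φ ≫ e y) := by
      have := he y
      exact IsHomLift.comp_lift_id_right 𝒴.p (𝒳.p.map φ) (f.map φ) (e y)
    let χ := IsStronglyCartesian.map 𝒴.p (𝒳.p.map φ) (g.map φ) (g := 𝟙 (𝒳.p.obj x))
      (Category.id_comp _).symm (f.map φ ≫ e y)
    have hχ : 𝒴.p.IsHomLift (𝟙 (𝒳.p.obj x)) χ :=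
      IsStronglyCartesian.map_isHomLift 𝒴.p (𝒳.p.map φ) (g.map φ) (g := 𝟙 (𝒳.p.obj x))
        (Category.id_comp _).symm (f.map φ ≫ e y)
    have hfac : χ ≫ g.map φ = f.map φ ≫ e y :=
      IsStronglyCartesian.fac 𝒴.p (𝒳.p.map φ) (g.map φ) (g := 𝟙 (𝒳.p.obj x))
        (Category.id_comp _).symm (f.map φ ≫ e y)
    have : χ = e x := eq_of_thin_fiber hthin χ (e x) hχ (he x)
    rw [← hfac, this]
  let α : f ⟶ g :=
    { toNatTrans := { app := e, naturality := fun x y φ => hnat φ }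
      isHomLift' := he }
  have : IsIso α := basedNatTrans_isIso_of_isFibGrpd hgrpd α
  refine ⟨{ default := asIso α, uniq := ?_ }⟩
  intro β
  apply Iso.ext
  apply BasedNatTrans.ext
  apply NatTrans.ext
  funext x
  exact eq_of_thin_fiber hthin _ _ (β.hom.isHomLift' x) (he x)

end

end Groth.Agent.Lib.Helper31
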