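import Groth.Agent.Lib.Helper31.Setoid

set_option autoImplicit false
open CategoryTheory CategoryTheory.Limits CategoryTheory.Functor
universe v₃ u₃ v₂ u₂ v u

namespace Groth.Agent.Lib.Helper31

namespace SetoidToSet

variable {C : Type u} [Category.{v} C] {𝒳 : BasedCategory.{v₂, u₂} C}

/-- vertical isomorphism relation (for categories fibred in groupoids). -/
def VRel (𝒳 : BasedCategory.{v₂, u₂} C) (x y : 𝒳.obj) : Prop :=
  ∃ (U : C) (φ : x ⟶ y), 𝒳.p.IsHomLift (𝟙 U) φ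

theorem isIso_of_vertical (h : FibCat.IsFibGrpd 𝒳.p) {x y : 𝒳.obj} {U : C} (φ : x ⟶ y)
    [hφ : 𝒳.p.IsHomLift (𝟙 U) φ] : IsIso φ := by
  have hfac := IsHomLift.fac' 𝒳.p (𝟙 U) φ
  have : IsIso (𝒳.p.map φ) := by rw [hfac]; infer_instance
  exact isIso_of_isFibGrpd 𝒳.p h φ

theorem vrel_equiv (h : FibCat.IsFibGrpd 𝒳.p) : Equivalence (VRel 𝒳) where
  refl x := ⟨𝒳.p.obj x, 𝟙 x, inferInstance⟩
  symm := by
    rintro x y ⟨U, φ, hφ⟩
    have := isIso_of_vertical h (U := U) φ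
    exact ⟨U, inv φ, inferInstance⟩
  trans := by
    rintro x y z ⟨U, φ, hφ⟩ ⟨V, ψ, hψ⟩
    have h1 : 𝒳.p.obj y = U := IsHomLift.codomain_eq 𝒳.p (𝟙 U) φ
    have h2 : 𝒳.p.obj y = V := IsHomLift.domain_eq 𝒳.p (𝟙 V) ψ
    have h3 : U = V := h1.symm.trans h2
    subst h3
    exact ⟨U, φ ≫ ψ, inferInstance⟩

/-- the setoid of vertical isomorphism. -/
def vsetoid (h : FibCat.IsFibGrpd 𝒳.p) : Setoid 𝒳.obj := ⟨VRel 𝒳, vrel_equiv h⟩

/-- the chosen representative. -/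
noncomputable def rep (h : FibCat.IsFibGrpd 𝒳.p) (x : 𝒳.obj) : 𝒳.obj :=
  (Quotient.mk (vsetoid h) x).out

theorem rep_rel (h : FibCat.IsFibGrpd 𝒳.p) (x : 𝒳.obj) : VRel 𝒳 (rep h x) x :=
  Quotient.mk_out (s := vsetoid h) x

theorem rep_eq_of_rel (h : FibCat.IsFibGrpd 𝒳.p) {x y : 𝒳.obj} (hxy : VRel 𝒳 x y) :
    rep h x = rep h y := by
  unfold rep
  have : Quotient.mk (vsetoid h) x = Quotient.mk (vsetoid h) y := Quotient.sound hxy
  rw [this]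

theorem rep_rep (h : FibCat.IsFibGrpd 𝒳.p) (x : 𝒳.obj) : rep h (rep h x) = rep h x :=
  rep_eq_of_rel h (rep_rel h x)

theorem rep_exists (h : FibCat.IsFibGrpd 𝒳.p) (x : 𝒳.obj) :
    ∃ φ : rep h x ⟶ x, 𝒳.p.IsHomLift (𝟙 (𝒳.p.obj x)) φ := by
  obtain ⟨U, φ, hφ⟩ := rep_rel h x
  have h1 : 𝒳.p.obj x = U := IsHomLift.codomain_eq 𝒳.p (𝟙 U) φ
  subst h1
  exact ⟨φ, hφ⟩

/-- the chosen vertical isomorphism `rep x ⟶ x`. -/
noncomputable def repHom (h : FibCat.IsFibGrpd 𝒳.p) (x : 𝒳.obj) : rep h x ⟶ x :=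
  (rep_exists h x).choose

instance repHom_isHomLift (h : FibCat.IsFibGrpd 𝒳.p) (x : 𝒳.obj) :
    𝒳.p.IsHomLift (𝟙 (𝒳.p.obj x)) (repHom h x) :=
  (rep_exists h x).choose_spec

instance repHom_isIso (h : FibCat.IsFibGrpd 𝒳.p) (x : 𝒳.obj) : IsIso (repHom h x) :=
  isIso_of_vertical h (U := 𝒳.p.obj x) (repHom h x)

/-- the chosen vertical isomorphism, as an iso. -/
noncomputable def repIso (h : FibCat.IsFibGrpd 𝒳.p) (x : 𝒳.obj) : rep h x ≅ x := asIso (repHom h x)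

@[simp] lemma repIso_hom (h : FibCat.IsFibGrpd 𝒳.p) (x : 𝒳.obj) : (repIso h x).hom = repHom h x := rfl

theorem rep_proj (h : FibCat.IsFibGrpd 𝒳.p) (x : 𝒳.obj) : 𝒳.p.obj (rep h x) = 𝒳.p.obj x :=
  IsHomLift.domain_eq 𝒳.p (𝟙 (𝒳.p.obj x)) (repHom h x)

/-- the property of being a chosen representative. -/
def IsRep (h : FibCat.IsFibGrpd 𝒳.p) : ObjectProperty 𝒳.obj := fun x => rep h x = x

/-- the category of chosen representatives, over `C`. -/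
abbrev setCat (h : FibCat.IsFibGrpd 𝒳.p) : BasedCategory.{v₂, u₂} C where
  obj := (IsRep h).FullSubcategory
  p := (IsRep h).ι ⋙ 𝒳.p

variable (h : FibCat.IsFibGrpd 𝒳.p)

/-- the underlying morphism of `toSet` on morphisms. -/
noncomputable def toSetMap {x y : 𝒳.obj} (φ : x ⟶ y) : rep h x ⟶ rep h y :=
  repHom h x ≫ φ ≫ inv (repHom h y)

theorem toSetMap_isHomLift {x y : 𝒳.obj} (φ : x ⟶ y) :
    𝒳.p.IsHomLift (𝒳.p.map φ) (toSetMap h φ) := by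
  have h1 : 𝒳.p.IsHomLift (𝒳.p.map φ) (φ ≫ inv (repHom h y)) :=
    IsHomLift.comp_lift_id_right 𝒳.p (𝒳.p.map φ) φ (inv (repHom h y))
  exact IsHomLift.comp_lift_id_left 𝒳.p (𝒳.p.map φ) (φ ≫ inv (repHom h y)) (repHom h x)

/-- the functor `𝒳 ⥤ setCat`. -/
noncomputable def toSetFunctor : 𝒳.obj ⥤ (setCat h).obj where
  obj x := ⟨rep h x, rep_rep h x⟩
  map φ := ObjectProperty.homMk (toSetMap h φ)
  map_id x := by
    apply ObjectProperty.hom_ext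
    change repHom h x ≫ 𝟙 x ≫ inv (repHom h x) = 𝟙 _
    simp
  map_comp φ ψ := by
    apply ObjectProperty.hom_ext
    change repHom h _ ≫ (φ ≫ ψ) ≫ inv (repHom h _) =
      (repHom h _ ≫ φ ≫ inv (repHom h _)) ≫ (repHom h _ ≫ ψ ≫ inv (repHom h _))
    simp

/-- the functor `𝒳 ⥤ setCat` over `C`. -/
noncomputable def toSet : 𝒳 ⥤ᵇ setCat h where
  toFunctor := toSetFunctor h
  w := CategoryTheory.Functor.ext (fun x => rep_proj h x) (fun x y φ => by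
    have := toSetMap_isHomLift h φ
    exact IsHomLift.fac' 𝒳.p (𝒳.p.map φ) (toSetMap h φ))

/-- the inclusion `setCat ⥤ 𝒳` over `C`. -/
def fromSet : setCat h ⥤ᵇ 𝒳 where
  toFunctor := (IsRep h).ι
  w := rfl

theorem setCat_isHomLift_iff {R S : C} (f : R ⟶ S) {a b : (setCat h).obj} (Φ : a ⟶ b) :
    (setCat h).p.IsHomLift f Φ ↔ 𝒳.p.IsHomLift f Φ.hom := by
  constructor
  · intro hΦ
    obtain ⟨⟩ := hΦ
    exact inferInstanceAs (𝒳.p.IsHomLift (𝒳.p.map Φ.hom) Φ.hom)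
  · intro hΦ
    obtain ⟨⟩ := hΦ
    exact inferInstanceAs ((setCat h).p.IsHomLift ((setCat h).p.map Φ) Φ)

theorem toSet_isEquivOver : FibCat.IsEquivOver (toSet h) := by
  refine ⟨fromSet h, ⟨?_⟩, ⟨?_⟩⟩
  · refine BasedNatIso.mkNatIso (NatIso.ofComponents (fun x => repIso h x) ?_) ?_
    · intro x y φ
      change (repHom h x ≫ φ ≫ inv (repHom h y)) ≫ repHom h y = repHom h x ≫ φ
      simp
    · intro x
      exact repHom_isHomLift h x
  · refine BasedNatIso.mkNatIso (NatIso.ofComponents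
      (fun y => (IsRep h).isoMk (repIso h y.obj)) ?_) ?_
    · intro x y φ
      apply ObjectProperty.hom_ext
      change (repHom h x.obj ≫ φ.hom ≫ inv (repHom h y.obj)) ≫ repHom h y.obj = repHom h x.obj ≫ φ.hom
      simp
    · intro y
      apply (setCat_isHomLift_iff h _ _).mpr
      exact repHom_isHomLift h y.obj

theorem setCat_isStronglyCartesian {R S : C} (f : R ⟶ S) {a b : (setCat h).obj} (Φ : a ⟶ b)
    [hΦ : 𝒳.p.IsStronglyCartesian f Φ.hom] : (setCat h).p.IsStronglyCartesian f Φ := by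
  have h0 : (setCat h).p.IsHomLift f Φ := (setCat_isHomLift_iff h f Φ).mpr hΦ.toIsHomLift
  refine { toIsHomLift := h0, universal_property' := ?_ }
  intro z g₀ Ψ hΨ
  have hR : 𝒳.p.obj a.obj = R := IsHomLift.domain_eq 𝒳.p f Φ.hom
  subst hR
  obtain ⟨g, hg⟩ : ∃ g : 𝒳.p.obj z.obj ⟶ 𝒳.p.obj a.obj, g = g₀ := ⟨g₀, rfl⟩
  have k1 : 𝒳.p.IsHomLift (g ≫ f) Ψ.hom := by
    rw [hg]; exact (setCat_isHomLift_iff h (g₀ ≫ f) Ψ).mp hΨ
  let χ : z.obj ⟶ a.obj := IsStronglyCartesian.map 𝒳.p f Φ.hom (g := g) rfl Ψ.hom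
  have hχ1 : 𝒳.p.IsHomLift g χ := IsStronglyCartesian.map_isHomLift 𝒳.p f Φ.hom (g := g) rfl Ψ.hom
  have hχ2 : χ ≫ Φ.hom = Ψ.hom := IsStronglyCartesian.fac 𝒳.p f Φ.hom (g := g) rfl Ψ.hom
  refine ⟨ObjectProperty.homMk χ, ⟨?_, ?_⟩, ?_⟩
  · rw [← hg]
    exact (setCat_isHomLift_iff h g (ObjectProperty.homMk χ)).mpr hχ1
  · apply ObjectProperty.hom_ext
    exact hχ2
  · rintro Ξ ⟨hΞ1, hΞ2⟩
    have m1 : 𝒳.p.IsHomLift g Ξ.hom := by
      rw [hg]; exact (setCat_isHomLift_iff h g₀ Ξ).mp hΞ1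
    apply ObjectProperty.hom_ext
    exact IsStronglyCartesian.map_uniq 𝒳.p f Φ.hom (g := g) rfl Ψ.hom Ξ.hom
      (congrArg (fun k => k.hom) hΞ2)

theorem setCat_isFibGrpd : FibCat.IsFibGrpd (setCat h).p := by
  refine ⟨?_, ?_⟩
  · intro y V f
    obtain ⟨x, φ, hφ⟩ := h.exists_lift (x := y.obj) f
    have hV : 𝒳.p.obj x = V := IsHomLift.domain_eq 𝒳.p f φ
    subst hV
    have h1 : 𝒳.p.IsHomLift f (repHom h x ≫ φ) :=
      IsHomLift.comp_lift_id_left 𝒳.p f φ (repHom h x)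
    let a : (setCat h).obj := ⟨rep h x, rep_rep h x⟩
    let Φ : a ⟶ y := ObjectProperty.homMk (repHom h x ≫ φ)
    exact ⟨a, Φ, (setCat_isHomLift_iff h f Φ).mpr h1⟩
  · intro a b Φ
    have := h.isStronglyCartesian Φ.hom
    exact setCat_isStronglyCartesian h (𝒳.p.map Φ.hom) Φ

theorem setCat_isFibSet (h' : FibCat.IsFibSetoid 𝒳.p) (h : FibCat.IsFibGrpd 𝒳.p) :
    FibCat.IsFibSet (setCat h).p := by
  refine ⟨setCat_isFibGrpd h, fun U => ?_⟩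
  have hthin := h'.2
  refine { subsingleton := ?_, eq_of_hom := ?_ }
  · intro a b
    constructor
    intro α β
    apply Subtype.ext
    apply ObjectProperty.hom_ext
    have h1 : 𝒳.p.IsHomLift (𝟙 U) α.1.hom := (setCat_isHomLift_iff h (𝟙 U) α.1).mp α.2
    have h2 : 𝒳.p.IsHomLift (𝟙 U) β.1.hom := (setCat_isHomLift_iff h (𝟙 U) β.1).mp β.2
    exact eq_of_thin_fiber hthin α.1.hom β.1.hom h1 h2
  · intro a b α
    have h1 : 𝒳.p.IsHomLift (𝟙 U) α.1.hom := (setCat_isHomLift_iff h (𝟙 U) α.1).mp α.2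
    have hrel : VRel 𝒳 a.1.obj b.1.obj := ⟨U, α.1.hom, h1⟩
    have hrep := rep_eq_of_rel h hrel
    have ha : rep h a.1.obj = a.1.obj := a.1.property
    have hb : rep h b.1.obj = b.1.obj := b.1.property
    have hab : a.1.obj = b.1.obj := ha.symm.trans (hrep.trans hb)
    apply Subtype.ext
    obtain ⟨⟨ao, ap⟩, a2⟩ := a
    obtain ⟨⟨bo, bp⟩, b2⟩ := b
    dsimp at hab
    subst hab
    rfl

/-- a category fibred in setoids is equivalent over `C` to one fibred in sets. -/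
theorem exists_fibSet_of_fibSetoid (h' : FibCat.IsFibSetoid 𝒳.p) :
    ∃ (𝒴 : BasedCategory.{v₂, u₂} C) (F : 𝒳 ⥤ᵇ 𝒴), FibCat.IsFibSet 𝒴.p ∧ FibCat.IsEquivOver F :=
  ⟨setCat h'.1, toSet h'.1, setCat_isFibSet h' h'.1, toSet_isEquivOver h'.1⟩

end SetoidToSet

end Groth.Agent.Lib.Helper31
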