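import Mathlib.CategoryTheory.Limits.VanKampen
import Mathlib.CategoryTheory.Limits.Types.Coproducts
import Mathlib.CategoryTheory.Limits.Types.Pullbacks
import Mathlib.CategoryTheory.Sites.Sheafification
import Mathlib.CategoryTheory.Sites.LeftExact

set_option autoImplicit false
universe u v w
open CategoryTheory CategoryTheory.Limits

namespace Groth.Agent.Lib.Helper31.SheafVK

/-- Colimit cofans in `Type u` are van Kampen. -/
theorem isVanKampenColimit_type {ι : Type u} {F : Discrete ι ⥤ Type u} (c : Cocone F)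
    (hc : IsColimit c) : IsVanKampenColimit c := by
  let X : ι → Type u := F.obj ∘ Discrete.mk
  have hF : F = Discrete.functor X :=
    Functor.hext (fun i ↦ rfl) (by rintro ⟨i⟩ ⟨j⟩ ⟨⟨rfl : i = j⟩⟩; simp [X])
  clear_value X
  subst hF
  intro F' c' α f hf _
  let X' : ι → Type u := F'.obj ∘ Discrete.mk
  have hF' : F' = Discrete.functor X' :=
    Functor.hext (fun i ↦ rfl) (by rintro ⟨i⟩ ⟨j⟩ ⟨⟨rfl : i = j⟩⟩; simp [X'])
  clear_value X'
  subst hF'
  have hfa : ∀ (j : ι) (x : X' j), f (Cofan.inj c' j x) = Cofan.inj c j (α.app ⟨j⟩ x) := by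
    intro j x
    exact (types_congr_hom (NatTrans.congr_app hf ⟨j⟩) x).symm
  constructor
  · rintro ⟨hc'⟩ ⟨j⟩
    rw [Types.isPullback_iff]
    refine ⟨(NatTrans.congr_app hf ⟨j⟩).symm, ?_, ?_⟩
    · rintro x y ⟨h1, -⟩
      exact Cofan.inj_injective_of_isColimit hc' j h1
    · intro z x hzx
      obtain ⟨k, w, rfl⟩ := Cofan.inj_jointly_surjective_of_isColimit hc' z
      have h2 : Cofan.inj c k (α.app ⟨k⟩ w) = Cofan.inj c j x := (hfa k w).symm.trans hzx
      obtain ⟨hkj, hx⟩ := (Cofan.inj_apply_eq_iff_of_isColimit hc _ _).1 h2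
      subst hkj
      exact ⟨w, rfl, hx.symm⟩
  · intro H
    rw [Cofan.nonempty_isColimit_iff_bijective_fromSigma]
    constructor
    · rintro ⟨i, x⟩ ⟨k, y⟩ h
      have h1 : Cofan.inj c' i x = Cofan.inj c' k y := h
      have h2 : Cofan.inj c i (α.app ⟨i⟩ x) = Cofan.inj c k (α.app ⟨k⟩ y) := by
        rw [← hfa, ← hfa, h1]
      obtain ⟨hik, hy⟩ := (Cofan.inj_apply_eq_iff_of_isColimit hc _ _).1 h2
      subst hik
      have := Types.ext_of_isPullback (H ⟨i⟩) (x₁ := x) (y₁ := y) h1 hy.symm
      rw [this]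
    · intro z
      obtain ⟨j, x, hx⟩ := Cofan.inj_jointly_surjective_of_isColimit hc (f z)
      obtain ⟨w, hw, -⟩ := Types.exists_of_isPullback (H ⟨j⟩) z x hx.symm
      exact ⟨⟨j, w⟩, hw⟩

/-- Colimit cofans in a category of `Type u`-valued functors are van Kampen. -/
theorem isVanKampenColimit_functor {C : Type v} [Category.{w} C] {ι : Type u}
    {F : Discrete ι ⥤ (C ⥤ Type u)} (c : Cocone F) (hc : IsColimit c) :
    IsVanKampenColimit c :=
  isVanKampenColimit_of_evaluation F c (fun x =>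
    isVanKampenColimit_type _ (isColimitOfPreserves ((evaluation C (Type u)).obj x) hc))

/-- Colimit cofans in a category of sheaves of sets on a small site are van Kampen. -/
theorem isVanKampenColimit_sheaf {C : Type u} [Category.{u} C] (J : GrothendieckTopology C)
    {ι : Type u} {F : Discrete ι ⥤ Sheaf J (Type u)} (c : Cocone F) (hc : IsColimit c) :
    IsVanKampenColimit c := by
  let c₀ : Cocone (F ⋙ sheafToPresheaf J (Type u)) := colimit.cocone _
  have h₀ : IsVanKampenColimit c₀ := isVanKampenColimit_functor c₀ (colimit.isColimit _)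
  have h₁ : IsVanKampenColimit ((presheafToSheaf J (Type u)).mapCocone c₀) :=
    h₀.map_reflective (sheafificationAdjunction J (Type u))
  let ε : (F ⋙ sheafToPresheaf J (Type u)) ⋙ presheafToSheaf J (Type u) ≅ F :=
    Functor.associator _ _ _ ≪≫
      Functor.isoWhiskerLeft F (asIso (sheafificationAdjunction J (Type u)).counit) ≪≫
      Functor.rightUnitor F
  have h₂ := h₁.precompose_isIso ε.inv
  exact h₂.of_iso (h₂.isColimit.uniqueUpToIso hc)

section Abstract

variable {C : Type*} [Category* C] {E : Type*} [Category* E] {ι : Type u}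
  (hVK : ∀ {F : Discrete ι ⥤ E} (c : Cocone F), IsColimit c → IsVanKampenColimit c)
  {L : ι → (C ⥤ E)} {L₁ : C ⥤ E} (κ : ∀ f, L f ⟶ L₁)
  (hκ : ∀ X : C, IsColimit (Cofan.mk (L₁.obj X) (fun f => (κ f).app X)))

include hVK hκ

/-- If `L₁` is objectwise the coproduct of the `L f` (through natural injections), the naturality
squares of the injections are cartesian. -/
theorem isPullback_of_cofan {X Y : C} (φ : X ⟶ Y) (f : ι) :
    IsPullback ((κ f).app X) ((L f).map φ) (L₁.map φ) ((κ f).app Y) := by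
  refine ((hVK _ (hκ Y)) (Cofan.mk (L₁.obj X) (fun f => (κ f).app X))
    (Discrete.natTrans (fun f => (L f.as).map φ)) (L₁.map φ) ?_ (.of_discrete _)).mp ⟨hκ X⟩ ⟨f⟩
  ext ⟨f⟩
  simp

/-- A coproduct of pullback-preserving functors preserves pullbacks. -/
theorem isPullback_map_of_cofan [HasPullbacks E]
    [∀ f, PreservesLimitsOfShape WalkingCospan (L f)]
    {P A B D : C} {p : P ⟶ A} {q : P ⟶ B} {g : A ⟶ D} {h : B ⟶ D} (sq : IsPullback p q g h) :
    IsPullback (L₁.map p) (L₁.map q) (L₁.map g) (L₁.map h) := by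
  have comm : L₁.map p ≫ L₁.map g = L₁.map q ≫ L₁.map h := by
    rw [← Functor.map_comp, sq.w, Functor.map_comp]
  have sqf : ∀ f, IsPullback ((L f).map p) ((L f).map q) ((L f).map g) ((L f).map h) :=
    fun f => sq.map (L f)
  let t : L₁.obj P ⟶ pullback (L₁.map g) (L₁.map h) := pullback.lift _ _ comm
  have t_fst : t ≫ pullback.fst _ _ = L₁.map p := pullback.lift_fst _ _ _
  have t_snd : t ≫ pullback.snd _ _ = L₁.map q := pullback.lift_snd _ _ _
  let c' : Cofan (fun f => (L f).obj P) :=
    Cofan.mk (pullback (L₁.map g) (L₁.map h)) (fun f => (κ f).app P ≫ t)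
  have key : ∀ f, IsPullback ((κ f).app P ≫ t) ((L f).map (p ≫ g))
      (pullback.fst (L₁.map g) (L₁.map h) ≫ L₁.map g) ((κ f).app D) := by
    intro f
    have BA := isPullback_of_cofan hVK κ hκ g f
    have BB := isPullback_of_cofan hVK κ hκ h f
    have w : ((κ f).app P ≫ t) ≫ pullback.fst (L₁.map g) (L₁.map h) ≫ L₁.map g =
        (L f).map (p ≫ g) ≫ (κ f).app D := by
      rw [Category.assoc, reassoc_of% t_fst, ← Functor.map_comp, (κ f).naturality]
    have ex : ∀ s : PullbackCone (pullback.fst (L₁.map g) (L₁.map h) ≫ L₁.map g) ((κ f).app D),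
        ∃ l : s.pt ⟶ (L f).obj P, l ≫ ((κ f).app P ≫ t) = s.fst ∧
          l ≫ (L f).map (p ≫ g) = s.snd := by
      intro s
      have e1 : (s.fst ≫ pullback.fst _ _) ≫ L₁.map g = s.snd ≫ (κ f).app D := by
        rw [Category.assoc]; exact s.condition
      have e2 : (s.fst ≫ pullback.snd _ _) ≫ L₁.map h = s.snd ≫ (κ f).app D := by
        rw [Category.assoc, ← pullback.condition]; exact s.condition
      obtain ⟨a, ha1, ha2⟩ : ∃ a : s.pt ⟶ (L f).obj A,
          a ≫ (κ f).app A = s.fst ≫ pullback.fst _ _ ∧ a ≫ (L f).map g = s.snd :=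
        ⟨BA.lift _ _ e1, BA.lift_fst _ _ _, BA.lift_snd _ _ _⟩
      obtain ⟨b, hb1, hb2⟩ : ∃ b : s.pt ⟶ (L f).obj B,
          b ≫ (κ f).app B = s.fst ≫ pullback.snd _ _ ∧ b ≫ (L f).map h = s.snd :=
        ⟨BB.lift _ _ e2, BB.lift_fst _ _ _, BB.lift_snd _ _ _⟩
      obtain ⟨l, hl1, hl2⟩ : ∃ l : s.pt ⟶ (L f).obj P,
          l ≫ (L f).map p = a ∧ l ≫ (L f).map q = b :=
        ⟨(sqf f).lift a b (by rw [ha2, hb2]), (sqf f).lift_fst _ _ _, (sqf f).lift_snd _ _ _⟩
      refine ⟨l, ?_, ?_⟩
      · apply pullback.hom_ext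
        · rw [Category.assoc, Category.assoc, t_fst, ← (κ f).naturality, reassoc_of% hl1, ha1]
        · rw [Category.assoc, Category.assoc, t_snd, ← (κ f).naturality, reassoc_of% hl2, hb1]
      · rw [Functor.map_comp, reassoc_of% hl1, ha2]
    have uq : ∀ {T : E} (m m' : T ⟶ (L f).obj P),
        m ≫ ((κ f).app P ≫ t) = m' ≫ ((κ f).app P ≫ t) →
        m ≫ (L f).map (p ≫ g) = m' ≫ (L f).map (p ≫ g) → m = m' := by
      intro T m m' h1 h2
      have h1a : m ≫ (κ f).app P ≫ L₁.map p = m' ≫ (κ f).app P ≫ L₁.map p := by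
        have := congrArg (· ≫ pullback.fst _ _) h1
        simpa only [Category.assoc, t_fst] using this
      have h1b : m ≫ (κ f).app P ≫ L₁.map q = m' ≫ (κ f).app P ≫ L₁.map q := by
        have := congrArg (· ≫ pullback.snd _ _) h1
        simpa only [Category.assoc, t_snd] using this
      apply (sqf f).hom_ext
      · apply BA.hom_ext
        · rw [Category.assoc, Category.assoc, (κ f).naturality, h1a]
        · rw [Category.assoc, Category.assoc, ← Functor.map_comp, h2]
      · apply BB.hom_ext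
        · rw [Category.assoc, Category.assoc, (κ f).naturality, h1b]
        · rw [Category.assoc, Category.assoc, ← Functor.map_comp, ← sq.w, h2]
    exact ⟨⟨w⟩, ⟨PullbackCone.IsLimit.mk w (fun s => (ex s).choose)
      (fun s => (ex s).choose_spec.1) (fun s => (ex s).choose_spec.2)
      (fun s m h1 h2 => uq _ _ (h1.trans (ex s).choose_spec.1.symm)
        (h2.trans (ex s).choose_spec.2.symm))⟩⟩
  have hc' : IsColimit c' := by
    refine ((hVK _ (hκ D)).isUniversal c' (Discrete.natTrans (fun f => (L f.as).map (p ≫ g)))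
      (pullback.fst (L₁.map g) (L₁.map h) ≫ L₁.map g) ?_ (.of_discrete _)
      (fun ⟨f⟩ => key f)).some
    ext ⟨f⟩
    exact (key f).w.symm
  have ht : t = (hκ P).desc c' := by
    apply (hκ P).hom_ext
    rintro ⟨f⟩
    rw [(hκ P).fac]
    rfl
  have : IsIso t := by
    rw [ht]
    exact (IsColimit.coconePointUniqueUpToIso (hκ P) hc').isIso_hom
  exact IsPullback.of_iso_pullback ⟨comm⟩ (asIso t) t_fst t_snd

/-- A coproduct of pullback-preserving functors preserves pullbacks. -/
theorem preservesPullbacks_of_cofan [HasPullbacks C] [HasPullbacks E]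
    [∀ f, PreservesLimitsOfShape WalkingCospan (L f)] :
    PreservesLimitsOfShape WalkingCospan L₁ := by
  refine ⟨fun {K} => ?_⟩
  suffices H : PreservesLimit (cospan (K.map WalkingCospan.Hom.inl)
      (K.map WalkingCospan.Hom.inr)) L₁ from
    preservesLimit_of_iso_diagram L₁ (diagramIsoCospan K).symm
  set g := K.map WalkingCospan.Hom.inl
  set h := K.map WalkingCospan.Hom.inr
  refine preservesLimit_of_preserves_limit_cone (IsPullback.of_hasPullback g h).isLimit ?_
  exact (isLimitMapConePullbackConeEquiv L₁ (IsPullback.of_hasPullback g h).w).symm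
    (isPullback_map_of_cofan hVK κ hκ (IsPullback.of_hasPullback g h)).isLimit

/-- If `L₁` is objectwise the coproduct of the `L f` and `L₁ φ` is an isomorphism, so is
every `L f φ`. -/
theorem isIso_map_of_cofan {X Y : C} (φ : X ⟶ Y) [IsIso (L₁.map φ)] (f : ι) :
    IsIso ((L f).map φ) :=
  (isPullback_of_cofan hVK κ hκ φ f).isIso_snd_of_isIso

end Abstract

end Groth.Agent.Lib.Helper31.SheafVK
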