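import Mathlib
import Groth.Prelude.Def_W4stkfunctorsequivSib
import Groth.Agent.Lib.Helper32.BoundedDb
import Groth.Agent.Lib.Helper32.Postnikov

/-!
# Sibling functors on `D^b(A)` (helper31)

Construction of object-wise isomorphisms `F K ≅ F' K` for two triangulated functors
`F F' : D^b(A) ⥤ D` which agree on `A` and have no negative Exts between objects of `A`.
-/

set_option autoImplicit false
set_option linter.unusedSectionVars false

universe w v u v' u'
open CategoryTheory CategoryTheory.Limits CategoryTheory.Pretriangulated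

namespace Groth.Agent.Lib.Helper31.Siblings

open DerivedCategory DerivedCategory.TStructure

section DA

variable {A : Type u} [Category.{v} A] [Abelian A]

/-- A chain map from a complex concentrated in degree `b` which is an epimorphism in degree `b`
induces an epimorphism on `H^b`. -/
lemma epi_homologyMap_of_single (b : ℤ) (N : A) (M : CochainComplex A ℤ)
    (ψ : (HomologicalComplex.single A (ComplexShape.up ℤ) b).obj N ⟶ M) (hψ : Epi (ψ.f b)) :
    Epi (HomologicalComplex.homologyMap ψ b) := by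
  rw [HomologicalComplex.epi_homologyMap_iff_up_to_refinements ψ (b - 1) b (b + 1)
    (by simp) (by simp)]
  intro T y hy
  obtain ⟨T', π, hπ, x, hx⟩ := surjective_up_to_refinements_of_epi (ψ.f b) y
  refine ⟨T', π, hπ, x, by simp, 0, ?_⟩
  rw [hx, zero_comp, add_zero]

variable [HasDerivedCategory.{w} A]

/-- Any object of `D^{≤ b}(A)` receives a map from an object of `A` placed in degree `b` which is
an epimorphism on `H^b`. -/
theorem exists_single_epi (K : DerivedCategory A) (b : ℤ) [K.IsLE b] :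
    ∃ (X : A) (u : (DerivedCategory.singleFunctor A b).obj X ⟶ K),
      Epi ((DerivedCategory.homologyFunctor A b).map u) := by
  obtain ⟨L, hL, ⟨e⟩⟩ := K.exists_iso_Q_obj_of_isLE b
  let φ : (HomologicalComplex.single A (ComplexShape.up ℤ) b).obj (L.X b) ⟶ L :=
    HomologicalComplex.mkHomFromSingle (𝟙 _) (fun k hk =>
      IsZero.eq_of_tgt (L.isZero_of_isStrictlyLE b k (by
        have : b + 1 = k := hk
        omega)) _ _)
  have hφ : Epi (φ.f b) := by
    have e1 : φ.f b = (HomologicalComplex.singleObjXSelf (ComplexShape.up ℤ) b (L.X b)).hom := by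
      dsimp [φ]
      rw [HomologicalComplex.mkHomFromSingle_f]
      simp
    rw [e1]
    infer_instance
  have hφ' : Epi ((DerivedCategory.homologyFunctor A b).map (DerivedCategory.Q.map φ)) := by
    have h1 := epi_homologyMap_of_single b (L.X b) L φ hφ
    have h2 := (DerivedCategory.homologyFunctorFactors A b).hom.naturality φ
    have h1' : Epi ((HomologicalComplex.homologyFunctor A (ComplexShape.up ℤ) b).map φ) := h1
    have h3 : (DerivedCategory.homologyFunctor A b).map (DerivedCategory.Q.map φ) =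
        ((DerivedCategory.homologyFunctorFactors A b).hom.app _ ≫
          (HomologicalComplex.homologyFunctor A (ComplexShape.up ℤ) b).map φ) ≫
            (DerivedCategory.homologyFunctorFactors A b).inv.app L := by
      rw [← h2, Category.assoc, Iso.hom_inv_id_app, Category.comp_id]
      rfl
    rw [h3]
    infer_instance
  refine ⟨L.X b, DerivedCategory.Q.map φ ≫ e.inv, ?_⟩
  rw [Functor.map_comp]
  exact epi_comp' hφ' inferInstance

/-- Bounds on the fibre of a map `u : X[0] ⟶ K` which is an epimorphism on `H^0`. -/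
theorem fiber_bounds (T : Triangle (DerivedCategory A)) (hT : T ∈ distTriang _) (n : ℕ)
    [T.obj₂.IsLE 0] [T.obj₂.IsGE 0] [T.obj₃.IsLE 0] [T.obj₃.IsGE (-((n : ℤ) + 1))]
    (hu : Epi ((DerivedCategory.homologyFunctor A 0).map T.mor₂)) :
    T.obj₁.IsLE 0 ∧ T.obj₁.IsGE (-(n : ℤ)) := by
  constructor
  · rw [DerivedCategory.isLE_iff]
    intro k hk
    refine (DerivedCategory.HomologySequence.exact₁ _ hT (k - 1) k (by omega)).isZero_X₂ ?_
      (IsZero.eq_of_tgt (T.obj₂.isZero_of_isLE 0 k hk) _ _)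
    by_cases hk1 : k = 1
    · subst hk1
      exact (DerivedCategory.HomologySequence.epi_homologyMap_mor₂_iff _ hT 0 1 (by omega)).1 hu
    · exact IsZero.eq_of_src (T.obj₃.isZero_of_isLE 0 (k - 1) (by omega)) _ _
  · rw [DerivedCategory.isGE_iff]
    intro k hk
    exact (DerivedCategory.HomologySequence.exact₁ _ hT (k - 1) k (by omega)).isZero_X₂
      (IsZero.eq_of_src (T.obj₃.isZero_of_isGE (-((n : ℤ) + 1)) (k - 1) (by omega)) _ _)
      (IsZero.eq_of_tgt (T.obj₂.isZero_of_isGE 0 k (by omega)) _ _)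

end DA

section Db

variable {A : Type u} [Category.{v} A] [Abelian A] [HasDerivedCategory.{w} A]

open Groth.Agent.Lib.Helper32.BoundedDb in
/-- Dévissage in `D^b(A)` for objects of `D^{≤ b}`: only objects of `A` placed in degrees `≤ b`
are needed. -/
theorem prop_of_boundedB_le (Q : DerivedCategory.Bounded A → Prop)
    (hiso : ∀ {X Y : DerivedCategory.Bounded A}, (X ≅ Y) → Q X → Q Y)
    (hzero : ∀ Z : DerivedCategory.Bounded A, IsZero Z → Q Z)
    (hext : ∀ T : Triangle (DerivedCategory.Bounded A), T ∈ distTriang _ →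
      Q T.obj₁ → Q T.obj₃ → Q T.obj₂)
    (b : ℤ)
    (hs : ∀ (M : A) (q : ℤ), -q ≤ b → Q (((DEquiv.singleB A).obj M)⟦q⟧))
    (K : DerivedCategory.Bounded A) (hK : K.obj.IsLE b) : Q K := by
  obtain ⟨Z, hZ⟩ := K
  obtain ⟨⟨a, ha⟩, ⟨b', hb'⟩⟩ := id hZ
  have key := Groth.Agent.Lib.Helper32.BeilinsonD.prop_of_bounded'
    (fun Z' => ∃ h : (t : Triangulated.TStructure (DerivedCategory A)).bounded Z',
      Q (⟨Z', h⟩ : DerivedCategory.Bounded A)) ?_ ?_ ?_ a b Z ha hK ?_
  · obtain ⟨_, hq⟩ := key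
    exact hq
  · rintro X Y e ⟨h, hq⟩
    refine ⟨(t : Triangulated.TStructure (DerivedCategory A)).bounded.prop_of_iso e h, ?_⟩
    exact hiso (ObjectProperty.isoMk _ e) hq
  · intro Z' hZ'
    have hb' : (t : Triangulated.TStructure (DerivedCategory A)).bounded Z' :=
      ⟨⟨0, t.isGE_of_isZero hZ' 0⟩, ⟨0, t.isLE_of_isZero hZ' 0⟩⟩
    exact ⟨hb', hzero _ (isZero_mk Z' hZ' hb')⟩
  · rintro Δ hΔ ⟨h₁, q₁⟩ ⟨h₃, q₃⟩
    have h₂ : (t : Triangulated.TStructure (DerivedCategory A)).bounded Δ.obj₂ :=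
      (t : Triangulated.TStructure (DerivedCategory A)).bounded.ext_of_isTriangulatedClosed₂
        Δ hΔ h₁ h₃
    exact ⟨h₂, hext _ (liftTriangle_distinguished Δ hΔ h₁ h₂ h₃) q₁ q₃⟩
  · intro q
    have hb' : (t : Triangulated.TStructure (DerivedCategory A)).bounded
        ((singleFunctor A q).obj ((homologyFunctor A q).obj Z)) :=
      ⟨⟨q, inferInstance⟩, ⟨q, inferInstance⟩⟩
    refine ⟨hb', ?_⟩
    by_cases hq : q ≤ b
    · refine hiso ?_ (hs ((homologyFunctor A q).obj Z) (-q) (by omega))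
      exact (ObjectProperty.fullyFaithfulι _).preimageIso
        (((DerivedCategory.Bounded.ι (C := A)).commShiftIso (-q)).app _ ≪≫
        (((singleFunctors A).shiftIso (-q) q 0 (by omega)).app ((homologyFunctor A q).obj Z)))
    · apply hzero
      apply isZero_mk
      haveI : Z.IsLE b := hK
      exact (singleFunctor A q).map_isZero (Z.isZero_of_isLE b q (by omega))

variable {D : Type u'} [Category.{v'} D] [Preadditive D] [HasZeroObject D] [HasShift D ℤ]
  [∀ n : ℤ, (shiftFunctor D n).Additive] [Pretriangulated D]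
  (F F' : DerivedCategory.Bounded A ⥤ D) [F.CommShift ℤ] [F.IsTriangulated]
  [F'.CommShift ℤ] [F'.IsTriangulated]

/-- Vanishing of negative Exts from `F L`, `L ∈ D^{≤ 0}`, to `F Y`, `Y ∈ A`. -/
theorem hom_neg_vanish
    (h2 : ∀ (X Y : A) (q : ℤ), q < 0 →
      ∀ f : F.obj ((DEquiv.singleB A).obj X) ⟶
        (shiftFunctor D q).obj (F.obj ((DEquiv.singleB A).obj Y)), f = 0)
    (Y : A) (L : DerivedCategory.Bounded A) (hL : L.obj.IsLE 0) :
    ∀ (q : ℤ), q < 0 → ∀ f : F.obj L ⟶ (shiftFunctor D q).obj (F.obj ((DEquiv.singleB A).obj Y)),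
      f = 0 := by
  refine prop_of_boundedB_le (fun L => ∀ (q : ℤ), q < 0 →
    ∀ f : F.obj L ⟶ (shiftFunctor D q).obj (F.obj ((DEquiv.singleB A).obj Y)), f = 0)
    ?_ ?_ ?_ 0 ?_ L hL
  · intro X X' e hX q hq f
    rw [← cancel_epi (F.map e.hom), comp_zero]
    exact hX q hq _
  · intro Z hZ q hq f
    exact IsZero.eq_of_src (F.map_isZero hZ) _ _
  · intro T hT h₁ h₃ q hq f
    obtain ⟨g, hg⟩ := Triangle.yoneda_exact₂ _ (F.map_distinguished T hT) f (h₁ q hq _)
    rw [hg, h₃ q hq g]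
    exact comp_zero
  · intro M m hm q hq f
    rw [← cancel_epi ((F.commShiftIso m).inv.app ((DEquiv.singleB A).obj M)), comp_zero]
    exact Groth.Agent.Lib.Helper32.homs_zero_shift' (m := q - m) (p := m) (m' := q) (by omega)
      (h2 M Y (q - m) (by omega)) _

/-- Key inductive construction: for `K ∈ D^{[-n,0]}` there is an isomorphism `F K ≅ F' K`
compatible with all maps from `K` to objects of `A`. -/
theorem exists_iso_compat (t : DEquiv.singleB A ⋙ F ≅ DEquiv.singleB A ⋙ F')
    (h2 : ∀ (X Y : A) (q : ℤ), q < 0 →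
      ∀ f : F.obj ((DEquiv.singleB A).obj X) ⟶
        (shiftFunctor D q).obj (F.obj ((DEquiv.singleB A).obj Y)), f = 0)
    (n : ℕ) :
    ∀ (K : DerivedCategory.Bounded A), K.obj.IsLE 0 → K.obj.IsGE (-(n : ℤ)) →
      ∃ s : F.obj K ≅ F'.obj K, ∀ (Y : A) (g : K ⟶ (DEquiv.singleB A).obj Y),
        s.hom ≫ F'.map g = F.map g ≫ t.hom.app Y := by
  induction n with
  | zero =>
    intro K hLE hGE
    haveI : K.obj.IsLE 0 := hLE
    haveI : K.obj.IsGE 0 := by simpa using hGE
    obtain ⟨M, ⟨e₀⟩⟩ := K.obj.exists_iso_singleFunctor_obj_of_isGE_of_isLE 0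
    let e : K ≅ (DEquiv.singleB A).obj M := (ObjectProperty.fullyFaithfulι _).preimageIso e₀
    refine ⟨F.mapIso e ≪≫ t.app M ≪≫ (F'.mapIso e).symm, ?_⟩
    intro Y g
    obtain ⟨h, hh⟩ := (DEquiv.singleB A).map_surjective (e.inv ≫ g)
    have hg : g = e.hom ≫ (DEquiv.singleB A).map h := by rw [hh, e.hom_inv_id_assoc]
    have nat : F.map ((DEquiv.singleB A).map h) ≫ t.hom.app Y =
        t.hom.app M ≫ F'.map ((DEquiv.singleB A).map h) := t.hom.naturality h
    rw [hg]
    simp only [Iso.trans_hom, Functor.mapIso_hom, Iso.symm_hom, Functor.mapIso_inv, Iso.app_hom,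
      Functor.map_comp, Category.assoc]
    rw [← F'.map_comp_assoc, e.inv_hom_id, F'.map_id, Category.id_comp, nat]
  | succ n ih =>
    intro K hLE hGE
    haveI : K.obj.IsLE 0 := hLE
    haveI : K.obj.IsGE (-((n : ℤ) + 1)) := by
      have e : (-((n + 1 : ℕ) : ℤ)) = -((n : ℤ) + 1) := by push_cast; ring
      rw [← e]
      exact hGE
    obtain ⟨X, u₀, hu₀⟩ := exists_single_epi K.obj 0
    let u : (DEquiv.singleB A).obj X ⟶ K := ObjectProperty.homMk u₀
    obtain ⟨L₁, i, δ, hT⟩ := distinguished_cocone_triangle₁ u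
    have hT' : (DerivedCategory.Bounded.ι (C := A)).mapTriangle.obj (Triangle.mk i u δ) ∈
      distTriang _ := hT
    haveI : ((DerivedCategory.Bounded.ι (C := A)).mapTriangle.obj (Triangle.mk i u δ)).obj₂.IsLE 0 :=
      inferInstanceAs (((DerivedCategory.singleFunctor A 0).obj X).IsLE 0)
    haveI : ((DerivedCategory.Bounded.ι (C := A)).mapTriangle.obj (Triangle.mk i u δ)).obj₂.IsGE 0 :=
      inferInstanceAs (((DerivedCategory.singleFunctor A 0).obj X).IsGE 0)
    haveI : ((DerivedCategory.Bounded.ι (C := A)).mapTriangle.obj (Triangle.mk i u δ)).obj₃.IsLE 0 :=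
      hLE
    haveI : ((DerivedCategory.Bounded.ι (C := A)).mapTriangle.obj (Triangle.mk i u δ)).obj₃.IsGE
        (-((n : ℤ) + 1)) := inferInstanceAs (K.obj.IsGE (-((n : ℤ) + 1)))
    obtain ⟨hL1, hL2⟩ := fiber_bounds _ hT' n hu₀
    obtain ⟨s₁, hs₁⟩ := ih L₁ hL1 hL2
    have hTF := F.map_distinguished _ hT
    have hTF' := F'.map_distinguished _ hT
    obtain ⟨c, hc₁, hc₂⟩ := complete_distinguished_triangle_morphism _ _ hTF hTF' s₁.hom
      (t.hom.app X) (hs₁ X i).symm
    have hc : IsIso c := by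
      let φ : F.mapTriangle.obj (Triangle.mk i u δ) ⟶ F'.mapTriangle.obj (Triangle.mk i u δ) :=
        { hom₁ := s₁.hom
          hom₂ := t.hom.app X
          hom₃ := c
          comm₁ := (hs₁ X i).symm
          comm₂ := hc₁
          comm₃ := hc₂ }
      exact isIso₃_of_isIso₁₂ φ hTF hTF' (inferInstanceAs (IsIso s₁.hom))
        (inferInstanceAs (IsIso (t.hom.app X)))
    let c' : F.obj K ⟶ F'.obj K := c
    haveI hc' : IsIso c' := hc
    refine ⟨asIso c', ?_⟩
    intro Y g
    let tY : F.obj ((DEquiv.singleB A).obj Y) ⟶ F'.obj ((DEquiv.singleB A).obj Y) := t.hom.app Y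
    let tX : F.obj ((DEquiv.singleB A).obj X) ⟶ F'.obj ((DEquiv.singleB A).obj X) := t.hom.app X
    change c' ≫ F'.map g = F.map g ≫ tY
    obtain ⟨h, hh⟩ := (DEquiv.singleB A).map_surjective (u ≫ g)
    have nat : F.map ((DEquiv.singleB A).map h) ≫ tY =
        tX ≫ F'.map ((DEquiv.singleB A).map h) := t.hom.naturality h
    have hc₁' : F.map u ≫ c' = tX ≫ F'.map u := hc₁
    have hd0 : F.map u ≫ (c' ≫ F'.map g - F.map g ≫ tY) = 0 := by
      rw [Preadditive.comp_sub, reassoc_of% hc₁', ← F'.map_comp, ← F.map_comp_assoc, ← hh, nat,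
        sub_self]
    have hd : (F.mapTriangle.obj (Triangle.mk i u δ)).mor₂ ≫
        (show (F.mapTriangle.obj (Triangle.mk i u δ)).obj₃ ⟶ F'.obj ((DEquiv.singleB A).obj Y) from
          c' ≫ F'.map g - F.map g ≫ tY) = 0 := hd0
    obtain ⟨d', hd'⟩ := Triangle.yoneda_exact₃ _ hTF _ hd
    have hv : ∀ ψ : (shiftFunctor D (1 : ℤ)).obj (F.obj L₁) ⟶ F.obj ((DEquiv.singleB A).obj Y),
        ψ = 0 :=
      Groth.Agent.Lib.Helper32.homs_zero_of_shift_zero'
        (Groth.Agent.Lib.Helper32.homs_zero_shift' (m := -1) (p := 1) (m' := 0) (by omega)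
          (hom_neg_vanish F h2 Y L₁ hL1 (-1) (by omega)))
    have hd'0 : d' = 0 := by
      let tYi : F'.obj ((DEquiv.singleB A).obj Y) ⟶ F.obj ((DEquiv.singleB A).obj Y) :=
        t.inv.app Y
      have hti : tYi ≫ tY = 𝟙 _ := t.inv_hom_id_app Y
      have h3 : d' ≫ tYi = 0 := hv _
      calc d' = d' ≫ tYi ≫ tY := by rw [hti]; exact (Category.comp_id _).symm
        _ = 0 := by rw [reassoc_of% h3, zero_comp]
    rw [hd'0] at hd'
    have hd'' : c' ≫ F'.map g - F.map g ≫ tY = 0 := hd'.trans comp_zero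
    exact sub_eq_zero.1 hd''

/-- Two triangulated functors `D^b(A) ⥤ D` which agree on `A` and have no negative Exts between
objects of `A` agree on all objects. -/
theorem nonempty_iso (τ : DEquiv.singleB A ⋙ F ≅ DEquiv.singleB A ⋙ F')
    (h2 : ∀ (X Y : A) (q : ℤ), q < 0 →
      ∀ f : F.obj ((DEquiv.singleB A).obj X) ⟶
        (shiftFunctor D q).obj (F.obj ((DEquiv.singleB A).obj Y)), f = 0)
    (K : DerivedCategory.Bounded A) : Nonempty (F.obj K ≅ F'.obj K) := by
  obtain ⟨⟨a, ha⟩, ⟨b, hb⟩⟩ := id K.property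
  haveI : t.IsGE K.obj a := ha
  haveI : t.IsLE K.obj b := hb
  have hLE : ((K⟦b⟧ : DerivedCategory.Bounded A).obj).IsLE 0 := by
    have h0 : t.IsLE ((K.obj)⟦b⟧) 0 := t.isLE_shift _ b b 0 (by omega)
    haveI : t.IsLE ((DerivedCategory.Bounded.ι (C := A) ⋙ shiftFunctor (DerivedCategory A) b).obj
      K) 0 := h0
    exact t.isLE_of_iso (((DerivedCategory.Bounded.ι (C := A)).commShiftIso b).app K).symm 0
  have hGE : ((K⟦b⟧ : DerivedCategory.Bounded A).obj).IsGE (-((b - a).toNat : ℤ)) := by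
    have h0 : t.IsGE ((K.obj)⟦b⟧) (a - b) := t.isGE_shift _ a b (a - b) (by omega)
    haveI : t.IsGE ((DerivedCategory.Bounded.ι (C := A) ⋙ shiftFunctor (DerivedCategory A) b).obj
      K) (a - b) := h0
    haveI : t.IsGE ((K⟦b⟧ : DerivedCategory.Bounded A).obj) (a - b) :=
      t.isGE_of_iso (((DerivedCategory.Bounded.ι (C := A)).commShiftIso b).app K).symm (a - b)
    exact t.isGE_of_ge _ (-((b - a).toNat : ℤ)) (a - b) (by omega)
  obtain ⟨s, -⟩ := exists_iso_compat F F' τ h2 (b - a).toNat (K⟦b⟧) hLE hGE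
  let e : (F.obj K)⟦b⟧ ≅ (F'.obj K)⟦b⟧ :=
    ((F.commShiftIso b).app K).symm ≪≫ s ≪≫ (F'.commShiftIso b).app K
  exact ⟨(shiftFunctor D b).preimageIso e⟩

end Db

end Groth.Agent.Lib.Helper31.Siblings
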