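import Mathlib
import Groth.Prelude.Def_W4stkfunctorsequivSib
import Groth.Agent.Lib.Helper32.BoundedDb
import Groth.Agent.Lib.Helper32.Postnikov
import Groth.Agent.Lib.Helper31.Siblings
import Groth.Agent.Lib.Helper31.DCohZero
import Groth.Agent.Lib.Helper31.GNat

/-!
# Sibling functors on `D^b(A)` are isomorphic (helper31)

If `F F' : D^b(A) ⥤ D` are siblings, `F` is fully faithful and `A` has enough negative objects,
then `F ≅ F'`.
-/

set_option autoImplicit false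
set_option linter.unusedSectionVars false

universe w v u v' u'
open CategoryTheory CategoryTheory.Limits CategoryTheory.Pretriangulated
open scoped ZeroObject

namespace Groth.Agent.Lib.Helper31.Siblings2

open DerivedCategory DerivedCategory.TStructure Groth.Agent.Lib.Helper31.GN
open Groth.Agent.Lib.Helper31.Siblings

section Pres

variable {A : Type u} [Category.{v} A] [Abelian A] [HasDerivedCategory.{w} A]

/-- Objects of `D^b(A)` with cohomology in degrees `[-n, 0]`. -/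
def InD (n : ℕ) (K : DerivedCategory.Bounded A) : Prop :=
  K.obj.IsLE 0 ∧ K.obj.IsGE (-(n : ℤ))

lemma InD.mono {n m : ℕ} (h : n ≤ m) {K : DerivedCategory.Bounded A} (hK : InD n K) :
    InD m K := by
  refine ⟨hK.1, ?_⟩
  haveI := hK.2
  exact t.isGE_of_ge K.obj (-(m : ℤ)) (-(n : ℤ)) (by omega)

lemma InD.of_iso {n : ℕ} {K L : DerivedCategory.Bounded A} (e : K ≅ L) (hK : InD n K) :
    InD n L := by
  haveI : t.IsLE ((DerivedCategory.Bounded.ι (C := A)).obj K) 0 := hK.1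
  haveI : t.IsGE ((DerivedCategory.Bounded.ι (C := A)).obj K) (-(n : ℤ)) := hK.2
  exact ⟨t.isLE_of_iso ((DerivedCategory.Bounded.ι (C := A)).mapIso e) 0,
    t.isGE_of_iso ((DerivedCategory.Bounded.ι (C := A)).mapIso e) _⟩

lemma inD_singleB (M : A) (n : ℕ) : InD n ((DEquiv.singleB A).obj M) := by
  refine InD.mono (Nat.zero_le n) ⟨?_, ?_⟩
  · exact inferInstanceAs (((DerivedCategory.singleFunctor A 0).obj M).IsLE 0)
  · exact inferInstanceAs (((DerivedCategory.singleFunctor A 0).obj M).IsGE 0)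

/-- A presentation of `X ∈ D^{≤ 0}`: a distinguished triangle `L ⟶ N[0] ⟶ X ⟶ L⟦1⟧` with `N`
negative for `X` and `N ⟶ H^0(X)` an epimorphism. -/
structure Pres (X : DerivedCategory.Bounded A) where
  N : A
  L : DerivedCategory.Bounded A
  i : L ⟶ (DEquiv.singleB A).obj N
  x : (DEquiv.singleB A).obj N ⟶ X
  δ : X ⟶ L⟦(1 : ℤ)⟧
  dist : Triangle.mk i x δ ∈ distTriang (DerivedCategory.Bounded A)
  neg : ∀ e : X ⟶ (DEquiv.singleB A).obj N, e = 0
  epi : Epi ((DerivedCategory.homologyFunctor A 0).map x.hom)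

lemma Pres.inD {X : DerivedCategory.Bounded A} (𝔭 : Pres X) {n : ℕ} (hX : InD (n + 1) X) :
    InD n 𝔭.L := by
  have hT' : (DerivedCategory.Bounded.ι (C := A)).mapTriangle.obj (Triangle.mk 𝔭.i 𝔭.x 𝔭.δ) ∈
    distTriang _ := 𝔭.dist
  haveI : ((DerivedCategory.Bounded.ι (C := A)).mapTriangle.obj
      (Triangle.mk 𝔭.i 𝔭.x 𝔭.δ)).obj₂.IsLE 0 :=
    inferInstanceAs (((DerivedCategory.singleFunctor A 0).obj 𝔭.N).IsLE 0)
  haveI : ((DerivedCategory.Bounded.ι (C := A)).mapTriangle.obj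
      (Triangle.mk 𝔭.i 𝔭.x 𝔭.δ)).obj₂.IsGE 0 :=
    inferInstanceAs (((DerivedCategory.singleFunctor A 0).obj 𝔭.N).IsGE 0)
  haveI : ((DerivedCategory.Bounded.ι (C := A)).mapTriangle.obj
      (Triangle.mk 𝔭.i 𝔭.x 𝔭.δ)).obj₃.IsLE 0 := hX.1
  haveI : ((DerivedCategory.Bounded.ι (C := A)).mapTriangle.obj
      (Triangle.mk 𝔭.i 𝔭.x 𝔭.δ)).obj₃.IsGE (-((n : ℤ) + 1)) := by
    have e : (-((n + 1 : ℕ) : ℤ)) = -((n : ℤ) + 1) := by push_cast; ring
    rw [← e]
    exact hX.2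
  exact fiber_bounds _ hT' n 𝔭.epi

/-- `H^0` of `N[0] ⟶ M[0]` induced by an epimorphism is an epimorphism. -/
lemma epi_homology_single_map {N M : A} (q : N ⟶ M) [Epi q] :
    Epi ((DerivedCategory.homologyFunctor A 0).map
      ((DerivedCategory.singleFunctor A 0).map q)) := by
  have h := NatIso.naturality_2 (DerivedCategory.singleFunctorCompHomologyFunctorIso A 0) q
  have h' : (DerivedCategory.homologyFunctor A 0).map ((DerivedCategory.singleFunctor A 0).map q) =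
      (DerivedCategory.singleFunctorCompHomologyFunctorIso A 0).hom.app N ≫ q ≫
        (DerivedCategory.singleFunctorCompHomologyFunctorIso A 0).inv.app M := h.symm
  rw [h']
  infer_instance

/-- A map from `Z ∈ D^{≤ 0}` to `N[0]` vanishes when `Hom(H^0 Z, N) = 0`. -/
lemma hom_singleB_eq_zero (Z : DerivedCategory.Bounded A) (hZ : Z.obj.IsLE 0) (N : A)
    (hN : ∀ φ : (DerivedCategory.homologyFunctor A 0).obj Z.obj ⟶ N, φ = 0)
    (e : Z ⟶ (DEquiv.singleB A).obj N) : e = 0 := by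
  apply ObjectProperty.hom_ext
  haveI : Z.obj.IsLE 0 := hZ
  haveI : ((DEquiv.singleB A).obj N).obj.IsGE 0 :=
    inferInstanceAs (((DerivedCategory.singleFunctor A 0).obj N).IsGE 0)
  change e.hom = 0
  apply Groth.Agent.Lib.Helper31.DCohZero.eq_zero_of_homology_eq_zero 0
  have h := hN ((DerivedCategory.homologyFunctor A 0).map e.hom ≫
    (DerivedCategory.singleFunctorCompHomologyFunctorIso A 0).hom.app N)
  exact (cancel_mono ((DerivedCategory.singleFunctorCompHomologyFunctorIso A 0).hom.app N)).1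
    (h.trans zero_comp.symm)

/-- Existence of presentations, adapted to an auxiliary object `K` and killing a given map to an
object of `D^{≤ -1}`. -/
theorem exists_pres (hneg : ∀ X : A, ∃ (N : A) (p : N ⟶ X), Epi p ∧ ∀ f : X ⟶ N, f = 0)
    (X K X' : DerivedCategory.Bounded A) (hX : X.obj.IsLE 0) (hK : K.obj.IsLE 0)
    (hX' : X'.obj.IsLE (-1)) (f : X ⟶ X') :
    ∃ 𝔭 : Pres X, (∀ e : K ⟶ (DEquiv.singleB A).obj 𝔭.N, e = 0) ∧ 𝔭.x ≫ f = 0 := by
  obtain ⟨Fb, j, d, hT⟩ := distinguished_cocone_triangle₁ f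
  have hT' : (DerivedCategory.Bounded.ι (C := A)).mapTriangle.obj (Triangle.mk j f d) ∈
    distTriang _ := hT
  haveI : X.obj.IsLE 0 := hX
  haveI : X'.obj.IsLE (0 - 1) := hX'
  have hF : Fb.obj.IsLE 0 := by
    rw [DerivedCategory.isLE_iff]
    intro k hk
    exact (DerivedCategory.HomologySequence.exact₁ _ hT' (k - 1) k (by omega)).isZero_X₂
      (IsZero.eq_of_src (X'.obj.isZero_of_isLE (0 - 1) (k - 1) (by omega)) _ _)
      (IsZero.eq_of_tgt (X.obj.isZero_of_isLE 0 k hk) _ _)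
  have hj : Epi ((DerivedCategory.homologyFunctor A 0).map j.hom) :=
    (DerivedCategory.HomologySequence.exact₂ _ hT' 0).epi_f
      (IsZero.eq_of_tgt (X'.obj.isZero_of_isLE (0 - 1) 0 (by omega)) _ _)
  haveI := hF
  obtain ⟨X₀, u₀, hu₀⟩ := exists_single_epi Fb.obj 0
  obtain ⟨N, p, hp, hN⟩ := hneg (X₀ ⊞ ((DerivedCategory.homologyFunctor A 0).obj X.obj ⊞
    (DerivedCategory.homologyFunctor A 0).obj K.obj))
  haveI := hp
  let u : (DEquiv.singleB A).obj X₀ ⟶ Fb := ObjectProperty.homMk u₀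
  let x : (DEquiv.singleB A).obj N ⟶ X := (DEquiv.singleB A).map (p ≫ biprod.fst) ≫ u ≫ j
  have hx : Epi ((DerivedCategory.homologyFunctor A 0).map x.hom) := by
    have e1 : (DerivedCategory.homologyFunctor A 0).map x.hom =
        (DerivedCategory.homologyFunctor A 0).map
          ((DerivedCategory.singleFunctor A 0).map (p ≫ biprod.fst)) ≫
        (DerivedCategory.homologyFunctor A 0).map u₀ ≫
        (DerivedCategory.homologyFunctor A 0).map j.hom := by
      rw [← Functor.map_comp, ← Functor.map_comp]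
      rfl
    rw [e1]
    have h1 := epi_homology_single_map (p ≫ (biprod.fst : X₀ ⊞ _ ⟶ X₀))
    exact epi_comp' h1 (epi_comp' hu₀ hj)
  have hxf : x ≫ f = 0 := by
    have : j ≫ f = 0 := comp_distTriang_mor_zero₁₂ _ hT
    simp only [x, Category.assoc, this, comp_zero]
  obtain ⟨L, i, δ, hL⟩ := distinguished_cocone_triangle₁ x
  have hnX : ∀ φ : (DerivedCategory.homologyFunctor A 0).obj X.obj ⟶ N, φ = 0 := by
    intro φ
    have := hN (biprod.snd ≫ biprod.fst ≫ φ)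
    rw [← cancel_epi (biprod.fst : (DerivedCategory.homologyFunctor A 0).obj X.obj ⊞
      (DerivedCategory.homologyFunctor A 0).obj K.obj ⟶ _),
      ← cancel_epi (biprod.snd : X₀ ⊞ ((DerivedCategory.homologyFunctor A 0).obj X.obj ⊞
      (DerivedCategory.homologyFunctor A 0).obj K.obj) ⟶ _), this, comp_zero, comp_zero]
  have hnK : ∀ φ : (DerivedCategory.homologyFunctor A 0).obj K.obj ⟶ N, φ = 0 := by
    intro φ
    have := hN (biprod.snd ≫ biprod.snd ≫ φ)
    rw [← cancel_epi (biprod.snd : (DerivedCategory.homologyFunctor A 0).obj X.obj ⊞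
      (DerivedCategory.homologyFunctor A 0).obj K.obj ⟶ _),
      ← cancel_epi (biprod.snd : X₀ ⊞ ((DerivedCategory.homologyFunctor A 0).obj X.obj ⊞
      (DerivedCategory.homologyFunctor A 0).obj K.obj) ⟶ _), this, comp_zero, comp_zero]
  exact ⟨{ N := N, L := L, i := i, x := x, δ := δ, dist := hL,
           neg := hom_singleB_eq_zero X hX N hnX, epi := hx },
    hom_singleB_eq_zero K hK N hnK, hxf⟩

/-- The direct sum of two presentations dominates both. -/
theorem exists_sum_pres {X : DerivedCategory.Bounded A} (𝔭 𝔮 : Pres X) :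
    ∃ (𝔯 : Pres X) (gp : 𝔭.L ⟶ 𝔯.L) (gq : 𝔮.L ⟶ 𝔯.L),
      𝔭.δ ≫ gp⟦(1 : ℤ)⟧' = 𝔯.δ ∧ 𝔮.δ ≫ gq⟦(1 : ℤ)⟧' = 𝔯.δ := by
  let x : (DEquiv.singleB A).obj (𝔭.N ⊞ 𝔮.N) ⟶ X :=
    (DEquiv.singleB A).map biprod.fst ≫ 𝔭.x + (DEquiv.singleB A).map biprod.snd ≫ 𝔮.x
  have hxp : (DEquiv.singleB A).map biprod.inl ≫ x = 𝔭.x := by
    simp only [x, Preadditive.comp_add, ← Functor.map_comp_assoc, biprod.inl_fst, biprod.inl_snd,
      CategoryTheory.Functor.map_id, Functor.map_zero, Category.id_comp, zero_comp, add_zero]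
  have hxq : (DEquiv.singleB A).map biprod.inr ≫ x = 𝔮.x := by
    simp only [x, Preadditive.comp_add, ← Functor.map_comp_assoc, biprod.inr_fst, biprod.inr_snd,
      CategoryTheory.Functor.map_id, Functor.map_zero, Category.id_comp, zero_comp, zero_add]
  obtain ⟨L, i, δ, hL⟩ := distinguished_cocone_triangle₁ x
  have hneg : ∀ e : X ⟶ (DEquiv.singleB A).obj (𝔭.N ⊞ 𝔮.N), e = 0 := by
    intro e
    have h1 : e ≫ (DEquiv.singleB A).map biprod.fst = 0 := 𝔭.neg _
    have h2 : e ≫ (DEquiv.singleB A).map biprod.snd = 0 := 𝔮.neg _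
    have h3 : e = e ≫ (DEquiv.singleB A).map (biprod.fst ≫ biprod.inl + biprod.snd ≫ biprod.inr) := by
      rw [biprod.total, CategoryTheory.Functor.map_id, Category.comp_id]
    rw [h3, Functor.map_add, Functor.map_comp, Functor.map_comp, Preadditive.comp_add,
      reassoc_of% h1, reassoc_of% h2, zero_comp, zero_comp, add_zero]
  have hepi : Epi ((DerivedCategory.homologyFunctor A 0).map x.hom) := by
    have h1 : (DerivedCategory.homologyFunctor A 0).map 𝔭.x.hom =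
        (DerivedCategory.homologyFunctor A 0).map ((DEquiv.singleB A).map biprod.inl).hom ≫
          (DerivedCategory.homologyFunctor A 0).map x.hom := by
      rw [← Functor.map_comp, ← hxp]
      rfl
    have h2 := 𝔭.epi
    rw [h1] at h2
    exact @epi_of_epi _ _ _ _ _ _ _ h2
  let 𝔯 : Pres X := { N := 𝔭.N ⊞ 𝔮.N, L := L, i := i, x := x, δ := δ, dist := hL, neg := hneg,
                      epi := hepi }
  obtain ⟨gp, -, hgp⟩ := complete_distinguished_triangle_morphism₁ _ _ 𝔭.dist hL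
    ((DEquiv.singleB A).map biprod.inl) (𝟙 X) (by
      change 𝔭.x ≫ 𝟙 X = (DEquiv.singleB A).map biprod.inl ≫ x
      rw [hxp, Category.comp_id])
  obtain ⟨gq, -, hgq⟩ := complete_distinguished_triangle_morphism₁ _ _ 𝔮.dist hL
    ((DEquiv.singleB A).map biprod.inr) (𝟙 X) (by
      change 𝔮.x ≫ 𝟙 X = (DEquiv.singleB A).map biprod.inr ≫ x
      rw [hxq, Category.comp_id])
  refine ⟨𝔯, gp, gq, ?_, ?_⟩
  · exact hgp.trans (Category.id_comp _)
  · exact hgq.trans (Category.id_comp _)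

lemma isLE_shiftB (L : DerivedCategory.Bounded A) (n a n' : ℤ) (h : a + n' = n)
    (hL : L.obj.IsLE n) : ((L⟦a⟧ : DerivedCategory.Bounded A).obj).IsLE n' := by
  haveI : t.IsLE L.obj n := hL
  have h0 : t.IsLE ((L.obj)⟦a⟧) n' := t.isLE_shift _ n a n' h
  haveI : t.IsLE ((DerivedCategory.Bounded.ι (C := A) ⋙ shiftFunctor (DerivedCategory A) a).obj
    L) n' := h0
  exact t.isLE_of_iso (((DerivedCategory.Bounded.ι (C := A)).commShiftIso a).app L).symm n'

lemma isGE_shiftB (L : DerivedCategory.Bounded A) (n a n' : ℤ) (h : a + n' = n)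
    (hL : L.obj.IsGE n) : ((L⟦a⟧ : DerivedCategory.Bounded A).obj).IsGE n' := by
  haveI : t.IsGE L.obj n := hL
  have h0 : t.IsGE ((L.obj)⟦a⟧) n' := t.isGE_shift _ n a n' h
  haveI : t.IsGE ((DerivedCategory.Bounded.ι (C := A) ⋙ shiftFunctor (DerivedCategory A) a).obj
    L) n' := h0
  exact t.isGE_of_iso (((DerivedCategory.Bounded.ι (C := A)).commShiftIso a).app L).symm n'

lemma isLE_zeroB (n : ℤ) : ((0 : DerivedCategory.Bounded A).obj).IsLE n :=
  t.isLE_of_isZero ((DerivedCategory.Bounded.ι (C := A)).map_isZero (isZero_zero _)) n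

end Pres

section Fun

variable {A : Type u} [Category.{v} A] [Abelian A] [HasDerivedCategory.{w} A]
  {D : Type u'} [Category.{v'} D] [Preadditive D] [HasZeroObject D] [HasShift D ℤ]
  [∀ n : ℤ, (shiftFunctor D n).Additive] [Pretriangulated D]
  (F F' : DerivedCategory.Bounded A ⥤ D) [F.CommShift ℤ] [F.IsTriangulated]
  [F'.CommShift ℤ] [F'.IsTriangulated]

/-- Transport of Hom-vanishing along a fully faithful `F` and object-wise isos `F L ≅ F' L`. -/
lemma hom_transport [F.Full] (θ : ∀ K : DerivedCategory.Bounded A, F.obj K ≅ F'.obj K)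
    {K L : DerivedCategory.Bounded A} (h : ∀ e : K ⟶ L, e = 0) (e : F.obj K ⟶ F'.obj L) : e = 0 := by
  obtain ⟨g, hg⟩ := F.map_surjective (e ≫ (θ L).inv)
  rw [h g, F.map_zero] at hg
  have : e = (e ≫ (θ L).inv) ≫ (θ L).hom := by simp
  rw [this, ← hg, zero_comp]

/-- Shifted version of `hom_transport`. -/
lemma hom_transport_shift [F.Full] (θ : ∀ K : DerivedCategory.Bounded A, F.obj K ≅ F'.obj K)
    {K L : DerivedCategory.Bounded A} (a : ℤ) (h : ∀ e : K ⟶ L⟦a⟧, e = 0)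
    (e : F.obj K ⟶ (F'.obj L)⟦a⟧) : e = 0 := by
  have h1 := hom_transport F F' θ h (e ≫ ((F'.commShiftIso a).inv.app L))
  have : e = (e ≫ ((F'.commShiftIso a).inv.app L)) ≫ (F'.commShiftIso a).hom.app L := by simp
  rw [this, h1, zero_comp]

/-- The fill-in `F X ≅ F' X` attached to a presentation of `X` (TR3 + five lemma). -/
theorem exists_fill (c : ∀ K : DerivedCategory.Bounded A, F.obj K ≅ F'.obj K)
    {X : DerivedCategory.Bounded A} (𝔭 : Pres X)
    (hi : (c 𝔭.L).hom ≫ F'.map 𝔭.i = F.map 𝔭.i ≫ (c ((DEquiv.singleB A).obj 𝔭.N)).hom) :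
    ∃ s : F.obj X ≅ F'.obj X,
      F.map 𝔭.x ≫ s.hom = (c ((DEquiv.singleB A).obj 𝔭.N)).hom ≫ F'.map 𝔭.x ∧
      GNat F F' s.hom (c 𝔭.L).hom (𝔭.δ : ShiftedHom X 𝔭.L (1 : ℤ)) := by
  have hTF := F.map_distinguished _ 𝔭.dist
  have hTF' := F'.map_distinguished _ 𝔭.dist
  obtain ⟨s, hs₁, hs₂⟩ := complete_distinguished_triangle_morphism _ _ hTF hTF' (c 𝔭.L).hom
    (c ((DEquiv.singleB A).obj 𝔭.N)).hom hi.symm
  have hs : IsIso s := by
    let φ : F.mapTriangle.obj (Triangle.mk 𝔭.i 𝔭.x 𝔭.δ) ⟶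
        F'.mapTriangle.obj (Triangle.mk 𝔭.i 𝔭.x 𝔭.δ) :=
      { hom₁ := (c 𝔭.L).hom
        hom₂ := (c ((DEquiv.singleB A).obj 𝔭.N)).hom
        hom₃ := s
        comm₁ := hi.symm
        comm₂ := hs₁
        comm₃ := hs₂ }
    exact isIso₃_of_isIso₁₂ φ hTF hTF' (inferInstanceAs (IsIso (c 𝔭.L).hom))
      (inferInstanceAs (IsIso (c ((DEquiv.singleB A).obj 𝔭.N)).hom))
  let s' : F.obj X ⟶ F'.obj X := s
  haveI hs' : IsIso s' := hs
  exact ⟨asIso s', hs₁, hs₂.symm⟩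

/-- Uniqueness of the fill-in: a map `F X ⟶ F' X` is determined by graded naturality with respect
to the connecting morphism of a presentation. -/
theorem fill_unique [F.Full] (θ : ∀ K : DerivedCategory.Bounded A, F.obj K ≅ F'.obj K)
    {X : DerivedCategory.Bounded A} (𝔭 : Pres X) (cL : F.obj 𝔭.L ⟶ F'.obj 𝔭.L)
    (s s' : F.obj X ⟶ F'.obj X)
    (hs : GNat F F' s cL (𝔭.δ : ShiftedHom X 𝔭.L (1 : ℤ)))
    (hs' : GNat F F' s' cL (𝔭.δ : ShiftedHom X 𝔭.L (1 : ℤ))) : s = s' := by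
  have hd : (s - s') ≫ ShiftedHom.map (a := (1 : ℤ)) 𝔭.δ F' = 0 := by
    unfold GNat at hs hs'
    rw [Preadditive.sub_comp, hs, hs', sub_self]
  have := eq_zero_of_comp_map_mor₃' F' _ 𝔭.dist (s - s') hd (hom_transport F F' θ 𝔭.neg)
  exact sub_eq_zero.1 this

/-- Reduction in positive degree: factor `α : K ⟶ L⟦a⟧`, `a > 0`, through the connecting morphism
of a presentation of `K` adapted to `α`. -/
theorem R1 (hneg : ∀ X : A, ∃ (N : A) (p : N ⟶ X), Epi p ∧ ∀ f : X ⟶ N, f = 0)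
    (c : ∀ K : DerivedCategory.Bounded A, F.obj K ≅ F'.obj K)
    (K L : DerivedCategory.Bounded A) (hK : K.obj.IsLE 0) (hL : L.obj.IsLE 0) (a : ℤ) (ha : 0 < a)
    (H3K : ∀ 𝔮 : Pres K, GNat F F' (c K).hom (c 𝔮.L).hom (𝔮.δ : ShiftedHom K 𝔮.L (1 : ℤ)))
    (hyp : ∀ (𝔮 : Pres K) (β : ShiftedHom 𝔮.L L (a - 1)), GNat F F' (c 𝔮.L).hom (c L).hom β)
    (α : ShiftedHom K L a) : GNat F F' (c K).hom (c L).hom α := by
  have hLa : ((L⟦a⟧ : DerivedCategory.Bounded A).obj).IsLE (-1) := by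
    have h1 := isLE_shiftB L 0 a (-a) (by omega) hL
    haveI := h1
    exact t.isLE_of_le _ (-a) (-1) (by omega)
  obtain ⟨𝔮, -, h𝔮⟩ := exists_pres hneg K K (L⟦a⟧) hK hK hLa α
  obtain ⟨h', hh'⟩ := exists_comp_of_mor₂_comp_eq_zero (Triangle.mk 𝔮.i 𝔮.x 𝔮.δ) 𝔮.dist
    (show (a - 1) + 1 = a by omega) α h𝔮
  rw [hh']
  exact (H3K 𝔮).comp (hyp 𝔮 h') _

/-- Reduction in non-positive degree: test `α : K ⟶ L⟦a⟧`, `a ≤ 0`, against the connecting
morphism of a presentation of `L` adapted to `K`. -/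
theorem R2 (hneg : ∀ X : A, ∃ (N : A) (p : N ⟶ X), Epi p ∧ ∀ f : X ⟶ N, f = 0)
    [F.Full] (θ : ∀ K : DerivedCategory.Bounded A, F.obj K ≅ F'.obj K)
    (c : ∀ K : DerivedCategory.Bounded A, F.obj K ≅ F'.obj K)
    (K L : DerivedCategory.Bounded A) (hK : K.obj.IsLE 0) (hL : L.obj.IsLE 0) (a : ℤ) (ha : a ≤ 0)
    (H3L : ∀ 𝔮 : Pres L, GNat F F' (c L).hom (c 𝔮.L).hom (𝔮.δ : ShiftedHom L 𝔮.L (1 : ℤ)))
    (hyp : ∀ (𝔮 : Pres L) (β : ShiftedHom K 𝔮.L (a + 1)), GNat F F' (c K).hom (c 𝔮.L).hom β)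
    (α : ShiftedHom K L a) : GNat F F' (c K).hom (c L).hom α := by
  obtain ⟨𝔮, hKN, -⟩ := exists_pres hneg L K 0 hL hK (isLE_zeroB (-1)) 0
  have htest := GNat.test (show (1 : ℤ) + a = a + 1 by omega) (H3L 𝔮)
    (hyp 𝔮 (α.comp (𝔮.δ : ShiftedHom L 𝔮.L (1 : ℤ)) (by omega)))
  have hW : ∀ e : K ⟶ ((DEquiv.singleB A).obj 𝔮.N)⟦a⟧, e = 0 := by
    intro e
    rcases eq_or_lt_of_le ha with h0 | hneg'
    · subst h0
      have := hKN (e ≫ (shiftFunctorZero (DerivedCategory.Bounded A) ℤ).hom.app _)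
      rw [← cancel_mono ((shiftFunctorZero (DerivedCategory.Bounded A) ℤ).hom.app _), this,
        zero_comp]
    · exact Groth.Agent.Lib.Helper32.BoundedDb.hom_eq_zero 0 (-a) (by omega) hK
        (Groth.Agent.Lib.Helper32.BoundedDb.isGE_singleB_shift 𝔮.N a) e
  have hd : ((c K).hom ≫ α.map F' - α.map F ≫ ((c L).hom)⟦a⟧') ≫
      (ShiftedHom.map (a := (1 : ℤ)) 𝔮.δ F')⟦a⟧' = 0 := by
    rw [Preadditive.sub_comp, Category.assoc, Category.assoc, htest, sub_self]
  have := eq_zero_of_comp_map_mor₃ F' _ 𝔮.dist a _ hd (hom_transport_shift F F' θ a hW)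
  exact sub_eq_zero.1 this

/-- Graded naturality on `D_{n+1}` from graded naturality on `D_n` and graded naturality with
respect to the connecting morphisms of all presentations. -/
theorem gnat_step (hneg : ∀ X : A, ∃ (N : A) (p : N ⟶ X), Epi p ∧ ∀ f : X ⟶ N, f = 0)
    [F.Full] (θ : ∀ K : DerivedCategory.Bounded A, F.obj K ≅ F'.obj K)
    (c : ∀ K : DerivedCategory.Bounded A, F.obj K ≅ F'.obj K) (n : ℕ)
    (H3 : ∀ X : DerivedCategory.Bounded A, InD (n + 1) X → ∀ 𝔮 : Pres X,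
      GNat F F' (c X).hom (c 𝔮.L).hom (𝔮.δ : ShiftedHom X 𝔮.L (1 : ℤ)))
    (IH : ∀ K L : DerivedCategory.Bounded A, InD n K → InD n L → ∀ (a : ℤ) (α : ShiftedHom K L a),
      GNat F F' (c K).hom (c L).hom α) :
    ∀ K L : DerivedCategory.Bounded A, InD (n + 1) K → InD (n + 1) L →
      ∀ (a : ℤ) (α : ShiftedHom K L a), GNat F F' (c K).hom (c L).hom α := by
  have Q : ∀ k : ℕ, ∀ K L : DerivedCategory.Bounded A, InD n K → InD (n + 1) L →
      ∀ (a : ℤ), a ≤ k → ∀ α : ShiftedHom K L a, GNat F F' (c K).hom (c L).hom α := by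
    intro k
    induction k with
    | zero =>
      intro K L hK hL a ha α
      exact R2 F F' hneg θ c K L hK.1 hL.1 a (by push_cast at ha; omega) (H3 L hL)
        (fun 𝔮 β => IH K 𝔮.L hK (𝔮.inD hL) _ β) α
    | succ k ih =>
      intro K L hK hL a ha α
      by_cases hak : a ≤ k
      · exact ih K L hK hL a hak α
      · have hK' : InD (n + 1) K := hK.mono (Nat.le_succ n)
        exact R1 F F' hneg c K L hK.1 hL.1 a (by omega) (H3 K hK')
          (fun 𝔮 β => ih 𝔮.L L (𝔮.inD hK') hL (a - 1) (by push_cast at ha; omega) β) α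
  have Q' : ∀ k : ℕ, ∀ K L : DerivedCategory.Bounded A, InD (n + 1) K → InD n L →
      ∀ (a : ℤ), 1 - (k : ℤ) ≤ a → ∀ α : ShiftedHom K L a, GNat F F' (c K).hom (c L).hom α := by
    intro k
    induction k with
    | zero =>
      intro K L hK hL a ha α
      exact R1 F F' hneg c K L hK.1 hL.1 a (by push_cast at ha; omega) (H3 K hK)
        (fun 𝔮 β => IH 𝔮.L L (𝔮.inD hK) hL _ β) α
    | succ k ih =>
      intro K L hK hL a ha α
      by_cases hak : 1 - (k : ℤ) ≤ a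
      · exact ih K L hK hL a hak α
      · have hL' : InD (n + 1) L := hL.mono (Nat.le_succ n)
        exact R2 F F' hneg θ c K L hK.1 hL.1 a (by omega) (H3 L hL')
          (fun 𝔮 β => ih K 𝔮.L hK (𝔮.inD hL') (a + 1) (by push_cast at ha; omega) β) α
  intro K L hK hL a α
  by_cases ha : 0 < a
  · exact R1 F F' hneg c K L hK.1 hL.1 a ha (H3 K hK)
      (fun 𝔮 β => Q (a - 1).toNat 𝔮.L L (𝔮.inD hK) hL (a - 1) (by omega) β) α
  · exact R2 F F' hneg θ c K L hK.1 hL.1 a (by omega) (H3 L hL)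
      (fun 𝔮 β => Q' (-a).toNat K 𝔮.L hK (𝔮.inD hL) (a + 1) (by omega) β) α

/-- A family of isomorphisms `F K ≅ F' K` which extends `τ` on `A` and is graded natural on
`D_n`. -/
def Good (τ : DEquiv.singleB A ⋙ F ≅ DEquiv.singleB A ⋙ F')
    (c : ∀ K : DerivedCategory.Bounded A, F.obj K ≅ F'.obj K) (n : ℕ) : Prop :=
  (∀ M : A, (c ((DEquiv.singleB A).obj M)).hom = τ.hom.app M) ∧
  ∀ K L : DerivedCategory.Bounded A, InD n K → InD n L → ∀ (a : ℤ) (α : ShiftedHom K L a),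
    GNat F F' (c K).hom (c L).hom α

lemma Good.mono {τ : DEquiv.singleB A ⋙ F ≅ DEquiv.singleB A ⋙ F'}
    {c : ∀ K : DerivedCategory.Bounded A, F.obj K ≅ F'.obj K} {n m : ℕ} (h : n ≤ m)
    (hc : Good F F' τ c m) : Good F F' τ c n :=
  ⟨hc.1, fun K L hK hL a α => hc.2 K L (hK.mono h) (hL.mono h) a α⟩

/-- The inductive step: a good family on `D_n` gives a good family on `D_{n+1}`. -/
theorem good_step (hneg : ∀ X : A, ∃ (N : A) (p : N ⟶ X), Epi p ∧ ∀ f : X ⟶ N, f = 0)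
    [F.Full] (θ : ∀ K : DerivedCategory.Bounded A, F.obj K ≅ F'.obj K)
    (τ : DEquiv.singleB A ⋙ F ≅ DEquiv.singleB A ⋙ F')
    (c : ∀ K : DerivedCategory.Bounded A, F.obj K ≅ F'.obj K) (n : ℕ) (hc : Good F F' τ c n) :
    ∃ c' : ∀ K : DerivedCategory.Bounded A, F.obj K ≅ F'.obj K, Good F F' τ c' (n + 1) := by
  classical
  have nat0 : ∀ K L : DerivedCategory.Bounded A, InD n K → InD n L → ∀ f : K ⟶ L,
      (c K).hom ≫ F'.map f = F.map f ≫ (c L).hom :=
    fun K L hK hL f => (gnat_mk₀_iff _ _ f).1 (hc.2 K L hK hL 0 _)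
  have ex : ∀ X : DerivedCategory.Bounded A, InD (n + 1) X →
      ∃ (𝔭 : Pres X) (s : F.obj X ≅ F'.obj X),
        GNat F F' s.hom (c 𝔭.L).hom (𝔭.δ : ShiftedHom X 𝔭.L (1 : ℤ)) := by
    intro X hX
    obtain ⟨𝔭, -, -⟩ := exists_pres hneg X X 0 hX.1 hX.1 (isLE_zeroB (-1)) 0
    obtain ⟨s, -, hs⟩ := exists_fill F F' c 𝔭 (nat0 _ _ (𝔭.inD hX) (inD_singleB _ n) 𝔭.i)
    exact ⟨𝔭, s, hs⟩
  choose P s hs using ex
  let c' : ∀ K : DerivedCategory.Bounded A, F.obj K ≅ F'.obj K :=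
    fun K => if h : InD (n + 1) K then s K h else c K
  have c'_eq : ∀ (K : DerivedCategory.Bounded A) (h : InD (n + 1) K), c' K = s K h :=
    fun K h => dif_pos h
  have L3 : ∀ (X : DerivedCategory.Bounded A) (hX : InD (n + 1) X) (𝔮 : Pres X),
      GNat F F' (c' X).hom (c 𝔮.L).hom (𝔮.δ : ShiftedHom X 𝔮.L (1 : ℤ)) := by
    intro X hX 𝔮
    rw [c'_eq X hX]
    obtain ⟨𝔯, gp, gq, hgp, hgq⟩ := exists_sum_pres (P X hX) 𝔮
    have hrL : InD n 𝔯.L := 𝔯.inD hX
    have h1 : GNat F F' (s X hX).hom (c 𝔯.L).hom (𝔯.δ : ShiftedHom X 𝔯.L (1 : ℤ)) := by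
      have := (hs X hX).comp
        ((gnat_mk₀_iff _ _ gp).2 (nat0 _ _ ((P X hX).inD hX) hrL gp)) (zero_add 1)
      rwa [ShiftedHom.comp_mk₀, hgp] at this
    obtain ⟨sq, -, hsq⟩ := exists_fill F F' c 𝔮 (nat0 _ _ (𝔮.inD hX) (inD_singleB _ n) 𝔮.i)
    have h2 : GNat F F' sq.hom (c 𝔯.L).hom (𝔯.δ : ShiftedHom X 𝔯.L (1 : ℤ)) := by
      have := hsq.comp
        ((gnat_mk₀_iff _ _ gq).2 (nat0 _ _ (𝔮.inD hX) hrL gq)) (zero_add 1)
      rwa [ShiftedHom.comp_mk₀, hgq] at this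
    have := fill_unique F F' θ 𝔯 (c 𝔯.L).hom _ _ h1 h2
    rw [this]
    exact hsq
  have CA : ∀ X : DerivedCategory.Bounded A, InD n X → c' X = c X := by
    intro X hX
    have hX' := hX.mono (Nat.le_succ n)
    apply Iso.ext
    exact fill_unique F F' θ (P X hX') (c (P X hX').L).hom _ _ (L3 X hX' (P X hX'))
      (hc.2 X _ hX ((P X hX').inD hX') 1 _)
  refine ⟨c', ?_, ?_⟩
  · intro M
    rw [CA _ (inD_singleB M n)]
    exact hc.1 M
  · apply gnat_step F F' hneg θ c' n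
    · intro X hX 𝔮
      rw [CA 𝔮.L (𝔮.inD hX)]
      exact L3 X hX 𝔮
    · intro K L hK hL a α
      rw [CA K hK, CA L hL]
      exact hc.2 K L hK hL a α

/-- Uniqueness of good families on `D_n`. -/
theorem good_unique (hneg : ∀ X : A, ∃ (N : A) (p : N ⟶ X), Epi p ∧ ∀ f : X ⟶ N, f = 0)
    [F.Full] (θ : ∀ K : DerivedCategory.Bounded A, F.obj K ≅ F'.obj K)
    (τ : DEquiv.singleB A ⋙ F ≅ DEquiv.singleB A ⋙ F') (n : ℕ) :
    ∀ (c₁ c₂ : ∀ K : DerivedCategory.Bounded A, F.obj K ≅ F'.obj K),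
      Good F F' τ c₁ n → Good F F' τ c₂ n →
      ∀ K : DerivedCategory.Bounded A, InD n K → c₁ K = c₂ K := by
  induction n with
  | zero =>
    intro c₁ c₂ h₁ h₂ K hK
    haveI : K.obj.IsLE 0 := hK.1
    haveI : K.obj.IsGE 0 := by simpa using hK.2
    obtain ⟨M, ⟨e₀⟩⟩ := K.obj.exists_iso_singleFunctor_obj_of_isGE_of_isLE 0
    let e : K ≅ (DEquiv.singleB A).obj M := (ObjectProperty.fullyFaithfulι _).preimageIso e₀
    have key : ∀ c : ∀ K : DerivedCategory.Bounded A, F.obj K ≅ F'.obj K, Good F F' τ c 0 →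
        (c K).hom = F.map e.hom ≫ (c ((DEquiv.singleB A).obj M)).hom ≫ F'.map e.inv := by
      intro c hc
      have := (gnat_mk₀_iff _ _ e.hom).1 (hc.2 K _ hK (inD_singleB M 0) 0 _)
      rw [← reassoc_of% this, ← F'.map_comp, e.hom_inv_id, F'.map_id, Category.comp_id]
    apply Iso.ext
    rw [key c₁ h₁, key c₂ h₂, h₁.1 M, h₂.1 M]
  | succ n ih =>
    intro c₁ c₂ h₁ h₂ K hK
    obtain ⟨𝔭, -, -⟩ := exists_pres hneg K K 0 hK.1 hK.1 (isLE_zeroB (-1)) 0
    have hL := 𝔭.inD hK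
    have e := ih c₁ c₂ (Good.mono F F' (Nat.le_succ n) h₁) (Good.mono F F' (Nat.le_succ n) h₂)
      𝔭.L hL
    apply Iso.ext
    refine fill_unique F F' θ 𝔭 (c₁ 𝔭.L).hom _ _
      (h₁.2 K 𝔭.L hK (hL.mono (Nat.le_succ n)) 1 _) ?_
    rw [e]
    exact h₂.2 K 𝔭.L hK (hL.mono (Nat.le_succ n)) 1 _

/-- The base case: a good family on `D_0 = A`. -/
theorem good_zero (hneg : ∀ X : A, ∃ (N : A) (p : N ⟶ X), Epi p ∧ ∀ f : X ⟶ N, f = 0)
    [F.Full] (θ : ∀ K : DerivedCategory.Bounded A, F.obj K ≅ F'.obj K)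
    (τ : DEquiv.singleB A ⋙ F ≅ DEquiv.singleB A ⋙ F') :
    ∃ c : ∀ K : DerivedCategory.Bounded A, F.obj K ≅ F'.obj K, Good F F' τ c 0 := by
  classical
  have ex : ∀ K : DerivedCategory.Bounded A, InD 0 K →
      ∃ M : A, Nonempty (K ≅ (DEquiv.singleB A).obj M) := by
    intro K hK
    haveI : K.obj.IsLE 0 := hK.1
    haveI : K.obj.IsGE 0 := by simpa using hK.2
    obtain ⟨M, ⟨e₀⟩⟩ := K.obj.exists_iso_singleFunctor_obj_of_isGE_of_isLE 0
    exact ⟨M, ⟨(ObjectProperty.fullyFaithfulι _).preimageIso e₀⟩⟩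
  choose Mo eo using ex
  let τ' : ∀ M : A, F.obj ((DEquiv.singleB A).obj M) ≅ F'.obj ((DEquiv.singleB A).obj M) :=
    fun M => τ.app M
  have hτ' : ∀ {M M' : A} (h : M ⟶ M'), F.map ((DEquiv.singleB A).map h) ≫ (τ' M').hom =
      (τ' M).hom ≫ F'.map ((DEquiv.singleB A).map h) := fun h => τ.hom.naturality h
  let c : ∀ K : DerivedCategory.Bounded A, F.obj K ≅ F'.obj K := fun K =>
    if h : InD 0 K then F.mapIso (eo K h).some ≪≫ τ' (Mo K h) ≪≫ (F'.mapIso (eo K h).some).symm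
    else θ K
  have c_eq : ∀ (K : DerivedCategory.Bounded A) (h : InD 0 K), (c K).hom =
      F.map (eo K h).some.hom ≫ (τ' (Mo K h)).hom ≫ F'.map (eo K h).some.inv := by
    intro K h
    simp only [c, dif_pos h]
    rfl
  -- degree zero naturality
  have nat0 : ∀ K L : DerivedCategory.Bounded A, InD 0 K → InD 0 L → ∀ f : K ⟶ L,
      (c K).hom ≫ F'.map f = F.map f ≫ (c L).hom := by
    intro K L hK hL f
    obtain ⟨h, hh⟩ := (DEquiv.singleB A).map_surjective
      ((eo K hK).some.inv ≫ f ≫ (eo L hL).some.hom)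
    have h1 : (eo K hK).some.inv ≫ f = (DEquiv.singleB A).map h ≫ (eo L hL).some.inv := by
      rw [hh]
      simp
    have h2 : (eo K hK).some.hom ≫ (DEquiv.singleB A).map h = f ≫ (eo L hL).some.hom := by
      rw [hh]
      simp
    rw [c_eq K hK, c_eq L hL]
    simp only [Category.assoc]
    rw [← F'.map_comp, h1, F'.map_comp, ← reassoc_of% (hτ' h), ← F.map_comp_assoc, h2,
      F.map_comp_assoc]
  -- compatibility with `τ`
  have hcτ : ∀ M : A, (c ((DEquiv.singleB A).obj M)).hom = τ.hom.app M := by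
    intro M
    have hM := inD_singleB (A := A) M 0
    obtain ⟨h, hh⟩ := (DEquiv.singleB A).map_surjective (eo _ hM).some.hom
    rw [c_eq _ hM, ← hh]
    have := hτ' h
    rw [reassoc_of% this, hh, ← F'.map_comp, Iso.hom_inv_id, F'.map_id]
    exact Category.comp_id _
  -- graded naturality for connecting morphisms of presentations
  have H3 : ∀ X : DerivedCategory.Bounded A, InD 0 X → ∀ 𝔮 : Pres X,
      GNat F F' (c X).hom (c 𝔮.L).hom (𝔮.δ : ShiftedHom X 𝔮.L (1 : ℤ)) := by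
    intro X hX 𝔮
    have hL : InD 0 𝔮.L := 𝔮.inD (hX.mono (Nat.le_succ 0))
    obtain ⟨s, hs₁, hs₂⟩ := exists_fill F F' c 𝔮 (nat0 _ _ hL (inD_singleB _ 0) 𝔮.i)
    have hx := nat0 _ _ (inD_singleB 𝔮.N 0) hX 𝔮.x
    have hd : (F.mapTriangle.obj (Triangle.mk 𝔮.i 𝔮.x 𝔮.δ)).mor₂ ≫
        (show (F.mapTriangle.obj (Triangle.mk 𝔮.i 𝔮.x 𝔮.δ)).obj₃ ⟶ F'.obj X from
          s.hom - (c X).hom) = 0 := by
      change F.map 𝔮.x ≫ (s.hom - (c X).hom) = 0
      rw [Preadditive.comp_sub, hs₁, hx, sub_self]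
    obtain ⟨e', he'⟩ := Triangle.yoneda_exact₃ _ (F.map_distinguished _ 𝔮.dist) _ hd
    have hvan : ∀ e : (𝔮.L⟦(1 : ℤ)⟧ : DerivedCategory.Bounded A) ⟶ X, e = 0 := fun e =>
      Groth.Agent.Lib.Helper32.BoundedDb.hom_eq_zero (-1) 0 (by omega)
        (isLE_shiftB 𝔮.L 0 1 (-1) (by omega) hL.1) (by simpa using hX.2) e
    have he'0 : e' = 0 := by
      have := hom_transport F F' θ hvan ((F.commShiftIso (1 : ℤ)).hom.app 𝔮.L ≫ e')
      exact (cancel_epi ((F.commShiftIso (1 : ℤ)).hom.app 𝔮.L)).1 (this.trans comp_zero.symm)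
    rw [he'0] at he'
    have hsc : s.hom = (c X).hom := sub_eq_zero.1 (he'.trans comp_zero)
    rw [← hsc]
    exact hs₂
  refine ⟨c, hcτ, ?_⟩
  -- graded naturality in nonnegative degrees by induction
  have pos : ∀ k : ℕ, ∀ a : ℤ, a = k → ∀ K L : DerivedCategory.Bounded A, InD 0 K → InD 0 L →
      ∀ α : ShiftedHom K L a, GNat F F' (c K).hom (c L).hom α := by
    intro k
    induction k with
    | zero =>
      intro a ha K L hK hL α
      have ha0 : a = 0 := by simpa using ha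
      subst ha0
      have hα : α = ShiftedHom.mk₀ (0 : ℤ) rfl
          (α ≫ (shiftFunctorZero' (DerivedCategory.Bounded A) (0 : ℤ) rfl).hom.app L) :=
        ((ShiftedHom.homEquiv (0 : ℤ) rfl).right_inv α).symm
      rw [hα]
      exact (gnat_mk₀_iff _ _ _).2 (nat0 K L hK hL _)
    | succ k ih =>
      intro a ha K L hK hL α
      exact R1 F F' hneg c K L hK.1 hL.1 a (by push_cast at ha; omega) (H3 K hK)
        (fun 𝔮 β => ih (a - 1) (by push_cast at ha; omega) 𝔮.L L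
          (𝔮.inD (hK.mono (Nat.le_succ 0))) hL β) α
  intro K L hK hL a α
  by_cases ha : 0 ≤ a
  · obtain ⟨k, hk⟩ := Int.eq_ofNat_of_zero_le ha
    exact pos k a hk K L hK hL α
  · have hα : α = 0 := Groth.Agent.Lib.Helper32.BoundedDb.hom_eq_zero 0 (-a) (by omega) hK.1
      (isGE_shiftB L 0 a (-a) (by omega) (by simpa using hL.2)) α
    rw [hα]
    exact gnat_zero _ _ _

theorem exists_good (hneg : ∀ X : A, ∃ (N : A) (p : N ⟶ X), Epi p ∧ ∀ f : X ⟶ N, f = 0)
    [F.Full] (θ : ∀ K : DerivedCategory.Bounded A, F.obj K ≅ F'.obj K)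
    (τ : DEquiv.singleB A ⋙ F ≅ DEquiv.singleB A ⋙ F') (n : ℕ) :
    ∃ c : ∀ K : DerivedCategory.Bounded A, F.obj K ≅ F'.obj K, Good F F' τ c n := by
  induction n with
  | zero => exact good_zero F F' hneg θ τ
  | succ n ih =>
    obtain ⟨c, hc⟩ := ih
    exact good_step F F' hneg θ τ c n hc

/-- Siblings are isomorphic when `F` is full (and faithful) and `A` has enough negative objects. -/
theorem nonempty_natIso (hneg : ∀ X : A, ∃ (N : A) (p : N ⟶ X), Epi p ∧ ∀ f : X ⟶ N, f = 0)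
    [F.Full] (θ : ∀ K : DerivedCategory.Bounded A, F.obj K ≅ F'.obj K)
    (τ : DEquiv.singleB A ⋙ F ≅ DEquiv.singleB A ⋙ F') : Nonempty (F ≅ F') := by
  classical
  choose cn hcn using exists_good F F' hneg θ τ
  -- independence of the level
  have indep : ∀ (n m : ℕ) (K : DerivedCategory.Bounded A), InD n K → n ≤ m → cn m K = cn n K :=
    fun n m K hK hnm => good_unique F F' hneg θ τ n (cn m) (cn n)
      (Good.mono F F' hnm (hcn m)) (hcn n) K hK
  have gnatInf : ∀ (n m : ℕ) (K L : DerivedCategory.Bounded A), InD n K → InD m L →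
      ∀ (a : ℤ) (α : ShiftedHom K L a), GNat F F' (cn n K).hom (cn m L).hom α := by
    intro n m K L hK hL a α
    have h := (hcn (max n m)).2 K L (hK.mono (le_max_left n m)) (hL.mono (le_max_right n m)) a α
    rwa [indep n (max n m) K hK (le_max_left n m), indep m (max n m) L hL (le_max_right n m)] at h
  -- normalisation data
  have bnd : ∀ K : DerivedCategory.Bounded A, ∃ (b : ℤ) (n : ℕ), InD n (K⟦b⟧) := by
    intro K
    obtain ⟨⟨a, ha⟩, ⟨b, hb⟩⟩ := id K.property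
    refine ⟨b, (b - a).toNat, isLE_shiftB K b b 0 (by omega) hb, ?_⟩
    have h1 := isGE_shiftB K a b (a - b) (by omega) ha
    haveI := h1
    exact t.isGE_of_ge _ (-((b - a).toNat : ℤ)) (a - b) (by omega)
  choose bK nK hK using bnd
  let sK : ∀ K : DerivedCategory.Bounded A, F.obj K ≅ F'.obj K := fun K =>
    (shiftFunctor D (bK K)).preimageIso (((F.commShiftIso (bK K)).app K).symm ≪≫
      cn (nK K) (K⟦bK K⟧) ≪≫ (F'.commShiftIso (bK K)).app K)
  let ιK : ∀ K : DerivedCategory.Bounded A, ShiftedHom (K⟦bK K⟧) K (bK K) := fun K => 𝟙 _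
  have hιF : ∀ K : DerivedCategory.Bounded A, (ιK K).map F = (F.commShiftIso (bK K)).hom.app K := by
    intro K
    change F.map (𝟙 _) ≫ _ = _
    rw [F.map_id, Category.id_comp]
  have hιF' : ∀ K : DerivedCategory.Bounded A,
      (ιK K).map F' = (F'.commShiftIso (bK K)).hom.app K := by
    intro K
    change F'.map (𝟙 _) ≫ _ = _
    rw [F'.map_id, Category.id_comp]
  have hsK : ∀ K : DerivedCategory.Bounded A,
      GNat F F' (cn (nK K) (K⟦bK K⟧)).hom (sK K).hom (ιK K) := by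
    intro K
    unfold GNat
    rw [hιF, hιF']
    simp only [sK, Functor.preimageIso_hom, Functor.map_preimage, Iso.trans_hom, Iso.symm_hom,
      Iso.app_inv, Iso.app_hom, Iso.hom_inv_id_app_assoc]
  have nat : ∀ {K L : DerivedCategory.Bounded A} (f : K ⟶ L),
      (sK K).hom ≫ F'.map f = F.map f ≫ (sK L).hom := by
    intro K L f
    let β : ShiftedHom (K⟦bK K⟧) (L⟦bK L⟧) (bK K - bK L) :=
      f⟦bK K⟧' ≫ (shiftFunctorAdd' (DerivedCategory.Bounded A) (bK L) (bK K - bK L) (bK K)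
        (by omega)).hom.app L
    have hβ : β.comp (ιK L) (show bK L + (bK K - bK L) = bK K by omega) =
        (ιK K).comp (ShiftedHom.mk₀ (0 : ℤ) rfl f) (zero_add _) := by
      rw [ShiftedHom.comp_mk₀]
      unfold ShiftedHom.comp
      simp only [β, ιK, CategoryTheory.Functor.map_id, Category.id_comp, Category.assoc,
        Iso.hom_inv_id_app, Category.comp_id]
    have h1 := (gnatInf (nK K) (nK L) _ _ (hK K) (hK L) _ β).comp (hsK L)
      (show bK L + (bK K - bK L) = bK K by omega)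
    rw [hβ] at h1
    haveI : Epi ((ιK K).map F) := by
      rw [hιF]
      infer_instance
    exact GNat.cancel f (hsK K) h1
  exact ⟨NatIso.ofComponents sK (fun f => (nat f).symm)⟩

end Fun

end Groth.Agent.Lib.Helper31.Siblings2
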