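import Groth.Prelude.Def_FibClv
import Mathlib.CategoryTheory.Bicategory.Grothendieck
import Mathlib.CategoryTheory.Bicategory.Functor.LocallyDiscrete
import Mathlib.CategoryTheory.Category.Cat

/-!
# Splitting cleavages: transport along strict isomorphisms, and the canonical cleavage of `∫ᶜ F`
for a strict functor `F` (helper31)
-/

set_option autoImplicit false
universe v₁ v₂ v₃ u₁ u₂ u₃

open CategoryTheory CategoryTheory.Functor

namespace Groth.Agent.Lib.Helper31.SplitClv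

variable {𝒮 : Type u₁} [Category.{v₁} 𝒮] {𝒳 : Type u₂} [Category.{v₂} 𝒳]
  {𝒴 : Type u₃} [Category.{v₃} 𝒴]

theorem isHomLift_comp_iff (Φ : 𝒳 ⥤ 𝒴) (q : 𝒴 ⥤ 𝒮) {R S : 𝒮} (f : R ⟶ S) {b a : 𝒳}
    (φ : b ⟶ a) : (Φ ⋙ q).IsHomLift f φ ↔ q.IsHomLift f (Φ.map φ) := by
  constructor
  · intro h
    have h1 := IsHomLift.domain_eq (Φ ⋙ q) f φ
    have h2 := IsHomLift.codomain_eq (Φ ⋙ q) f φ
    have h3 := IsHomLift.fac (Φ ⋙ q) f φ
    exact IsHomLift.of_fac q f (Φ.map φ) h1 h2 h3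
  · intro h
    have h1 := IsHomLift.domain_eq q f (Φ.map φ)
    have h2 := IsHomLift.codomain_eq q f (Φ.map φ)
    have h3 := IsHomLift.fac q f (Φ.map φ)
    exact IsHomLift.of_fac (Φ ⋙ q) f φ h1 h2 h3

/-- A morphism whose image under a fully faithful functor is cartesian is cartesian for the
composite. -/
theorem isCartesian_comp_of_ff (Φ : 𝒳 ⥤ 𝒴) [Φ.Full] [Φ.Faithful] (q : 𝒴 ⥤ 𝒮) {R S : 𝒮}
    (f : R ⟶ S) {b a : 𝒳} (φ : b ⟶ a) (hc : q.IsCartesian f (Φ.map φ)) :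
    (Φ ⋙ q).IsCartesian f φ := by
  have : (Φ ⋙ q).IsHomLift f φ := (isHomLift_comp_iff Φ q f φ).2 inferInstance
  refine ⟨?_⟩
  intro a' φ' hφ'
  have : q.IsHomLift f (Φ.map φ') := (isHomLift_comp_iff Φ q f φ').1 hφ'
  refine ⟨Φ.preimage (IsCartesian.map q f (Φ.map φ) (Φ.map φ')), ⟨?_, ?_⟩, ?_⟩
  · rw [isHomLift_comp_iff, Functor.map_preimage]
    infer_instance
  · apply Φ.map_injective
    rw [Functor.map_comp, Functor.map_preimage, IsCartesian.fac]
  · rintro χ ⟨hχ1, hχ2⟩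
    apply Φ.map_injective
    rw [Functor.map_preimage]
    have : q.IsHomLift (𝟙 R) (Φ.map χ) := (isHomLift_comp_iff Φ q (𝟙 R) χ).1 hχ1
    apply IsCartesian.map_uniq
    rw [← Functor.map_comp, hχ2]


theorem isCartesian_eqToHom_comp (q : 𝒴 ⥤ 𝒮) {R S : 𝒮} (f : R ⟶ S) {b' b a : 𝒴} (e : b' = b)
    (φ : b ⟶ a) (hc : q.IsCartesian f φ) : q.IsCartesian f (eqToHom e ≫ φ) := by
  subst e
  simpa using hc

theorem lift_congr {q : 𝒴 ⥤ 𝒮} (L : FibCat.Cleavage q) {R S : 𝒮} {y y' : 𝒴} (e : y = y')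
    (hy : q.obj y = S) (hy' : q.obj y' = S) (g : R ⟶ S) :
    ∃ h : L.obj hy g = L.obj hy' g, L.lift hy g = eqToHom h ≫ L.lift hy' g ≫ eqToHom e.symm := by
  subst e
  exact ⟨rfl, by simp⟩

section Transport

variable (Φ : 𝒳 ⥤ 𝒴) (Ψ : 𝒴 ⥤ 𝒳) (h₁ : Φ ⋙ Ψ = 𝟭 𝒳) (h₂ : Ψ ⋙ Φ = 𝟭 𝒴)

/-- A strict isomorphism of categories, as an equivalence. -/
def equivOfInv : 𝒳 ≌ 𝒴 := CategoryTheory.Equivalence.mk Φ Ψ (eqToIso h₁.symm) (eqToIso h₂)

include h₁ h₂ in
theorem full_of_inv : Φ.Full := (equivOfInv Φ Ψ h₁ h₂).full_functor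

include h₁ h₂ in
theorem faithful_of_inv : Φ.Faithful := (equivOfInv Φ Ψ h₁ h₂).faithful_functor

theorem map_lift_eq (a : 𝒳) {z : 𝒴} (l : z ⟶ Φ.obj a) :
    Φ.map (Ψ.map l ≫ eqToHom (Functor.congr_obj h₁ a)) =
      eqToHom (Functor.congr_obj h₂ z) ≫ l := by
  have := Functor.congr_hom h₂ l
  simp only [Functor.comp_map, Functor.id_map] at this
  rw [Functor.map_comp, this, eqToHom_map]
  simp

theorem comp_aux (a : 𝒳) {z : 𝒴} (l2 : z ⟶ Φ.obj a) {w w' : 𝒴} (l1 : w ⟶ z)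
    (l1' : w' ⟶ Φ.obj (Ψ.obj z)) (hw : w' = w)
    (h : l1' = eqToHom hw ≫ l1 ≫ eqToHom (Functor.congr_obj h₂ z).symm) :
    (Ψ.map l1' ≫ eqToHom (Functor.congr_obj h₁ (Ψ.obj z))) ≫
        (Ψ.map l2 ≫ eqToHom (Functor.congr_obj h₁ a)) =
      eqToHom (congrArg Ψ.obj hw) ≫ Ψ.map (l1 ≫ l2) ≫ eqToHom (Functor.congr_obj h₁ a) := by
  subst hw
  rw [h]
  simp [eqToHom_map]

variable (q : 𝒴 ⥤ 𝒮) (L : FibCat.Cleavage q)

/-- The cleavage transported along a strict isomorphism of categories. -/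
def transportClv : FibCat.Cleavage (Φ ⋙ q) where
  obj {_ _ a} ha f := Ψ.obj (L.obj (a := Φ.obj a) ha f)
  lift {_ _ a} ha f := Ψ.map (L.lift (a := Φ.obj a) ha f) ≫ eqToHom (Functor.congr_obj h₁ a)
  isCartesian {_ _ a} ha f := by
    have := full_of_inv Φ Ψ h₁ h₂
    have := faithful_of_inv Φ Ψ h₁ h₂
    apply isCartesian_comp_of_ff
    rw [map_lift_eq Φ Ψ h₁ h₂]
    exact isCartesian_eqToHom_comp q f _ _ (L.isCartesian ha f)

theorem transportClv_obj {R S : 𝒮} {a : 𝒳} (ha : (Φ ⋙ q).obj a = S) (f : R ⟶ S) :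
    (transportClv Φ Ψ h₁ h₂ q L).obj ha f = Ψ.obj (L.obj (a := Φ.obj a) ha f) := rfl

theorem transportClv_lift {R S : 𝒮} {a : 𝒳} (ha : (Φ ⋙ q).obj a = S) (f : R ⟶ S) :
    (transportClv Φ Ψ h₁ h₂ q L).lift ha f =
      Ψ.map (L.lift (a := Φ.obj a) ha f) ≫ eqToHom (Functor.congr_obj h₁ a) := rfl

theorem transportClv_isSplitting (hL : L.IsSplitting) :
    (transportClv Φ Ψ h₁ h₂ q L).IsSplitting := by
  refine ⟨?_, ?_⟩
  · intro S a ha
    have hL1 := hL.1
    obtain ⟨h, hh⟩ := @hL1 S (Φ.obj a) ha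
    have h' : (transportClv Φ Ψ h₁ h₂ q L).obj ha (𝟙 S) = a := by
      rw [transportClv_obj, h]
      exact Functor.congr_obj h₁ a
    refine ⟨h', ?_⟩
    rw [transportClv_lift, hh, eqToHom_map, eqToHom_trans]
    rfl
  · intro S T U f g a ha
    have hL2 := hL.2
    obtain ⟨h, hh⟩ := @hL2 S T U f g (Φ.obj a) ha
    obtain ⟨h', hh'⟩ := lift_congr L (y := Φ.obj ((transportClv Φ Ψ h₁ h₂ q L).obj ha f))
      (Functor.congr_obj h₂ (L.obj (a := Φ.obj a) ha f))
      ((transportClv Φ Ψ h₁ h₂ q L).obj_proj ha f) (L.obj_proj (a := Φ.obj a) ha f) g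
    have h'' : (transportClv Φ Ψ h₁ h₂ q L).obj ((transportClv Φ Ψ h₁ h₂ q L).obj_proj ha f) g =
        (transportClv Φ Ψ h₁ h₂ q L).obj ha (g ≫ f) := by
      exact congrArg Ψ.obj (h'.trans h)
    refine ⟨h'', ?_⟩
    refine (comp_aux Φ Ψ h₁ h₂ a (L.lift (a := Φ.obj a) ha f) _ _ h' hh').trans ?_
    rw [hh, Functor.map_comp, eqToHom_map, transportClv_lift]
    simp only [Category.assoc, eqToHom_trans_assoc]
    rfl

end Transport


section CoGroth

open Pseudofunctor Pseudofunctor.CoGrothendieck Opposite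

variable (F : 𝒮ᵒᵖ ⥤ Cat.{v₂, u₂})

theorem eqToHom_base {X Y : CoGrothendieck F.toPseudofunctor'} (h : X = Y) :
    (eqToHom h).base = eqToHom (congrArg CoGrothendieck.base h) := by
  subst h
  rfl

theorem obj_ext {X Y : CoGrothendieck F.toPseudofunctor'} (hb : X.base = Y.base)
    (hf : X.fiber = (F.map (eqToHom hb).op).toFunctor.obj Y.fiber) : X = Y := by
  obtain ⟨b, x⟩ := X
  obtain ⟨b', y⟩ := Y
  dsimp at hb
  subst hb
  dsimp at hf
  rw [hf, F.map_id]
  rfl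

theorem fiber_eq_of_eq {X Y : CoGrothendieck F.toPseudofunctor'} (h : X = Y) :
    X.fiber = (F.toPseudofunctor'.map (eqToHom h).base.op.toLoc).toFunctor.obj Y.fiber := by
  subst h
  change X.fiber = (F.map (𝟙 (op X.base))).toFunctor.obj X.fiber
  rw [F.map_id]
  rfl

theorem eqToHom_fiber {X Y : CoGrothendieck F.toPseudofunctor'} (h : X = Y) :
    (eqToHom h).fiber = eqToHom (fiber_eq_of_eq F h) := by
  subst h
  change (F.toPseudofunctor'.mapId ⟨op X.base⟩).inv.toNatTrans.app X.fiber = _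
  simp only [Functor.toPseudofunctor'_mapId, eqToIso.inv, Cat.eqToHom_app]
  rfl


/-- The canonical cleavage of `∫ᶜ F` for a strict functor `F`. -/
abbrev canClv : FibCat.Cleavage (CoGrothendieck.forget F.toPseudofunctor') :=
  FibCat.Cleavage.ofCoGrothendieck F.toPseudofunctor'

theorem canClv_obj_base {R S : 𝒮} {a : CoGrothendieck F.toPseudofunctor'}
    (ha : (CoGrothendieck.forget F.toPseudofunctor').obj a = S) (f : R ⟶ S) :
    ((canClv F).obj ha f).base = R := rfl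

theorem canClv_obj_fiber {R S : 𝒮} {a : CoGrothendieck F.toPseudofunctor'}
    (ha : (CoGrothendieck.forget F.toPseudofunctor').obj a = S) (f : R ⟶ S) :
    ((canClv F).obj ha f).fiber = (F.map (f ≫ eqToHom ha.symm).op).toFunctor.obj a.fiber := rfl

theorem canClv_lift_base {R S : 𝒮} {a : CoGrothendieck F.toPseudofunctor'}
    (ha : (CoGrothendieck.forget F.toPseudofunctor').obj a = S) (f : R ⟶ S) :
    ((canClv F).lift ha f).base = f ≫ eqToHom ha.symm := rfl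

theorem canClv_lift_fiber {R S : 𝒮} {a : CoGrothendieck F.toPseudofunctor'}
    (ha : (CoGrothendieck.forget F.toPseudofunctor').obj a = S) (f : R ⟶ S) :
    ((canClv F).lift ha f).fiber = 𝟙 _ := rfl

theorem canClv_isNormalised : (canClv F).IsNormalised := by
  intro S a ha
  subst ha
  have h : (canClv F).obj rfl (𝟙 ((CoGrothendieck.forget F.toPseudofunctor').obj a)) = a := by
    apply obj_ext F (by rfl)
    rw [canClv_obj_fiber]
    simp only [eqToHom_refl, Category.comp_id, op_id, F.map_id]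
    have e : (eqToHom (by rfl : a.base = a.base)).op = 𝟙 (op a.base) := by
      rw [eqToHom_refl]; rfl
    erw [e, F.map_id]
    rfl
  refine ⟨h, ?_⟩
  apply Hom.ext _ _ ?_ ?_
  · rw [canClv_lift_base, eqToHom_base]
    simp only [eqToHom_refl, Category.comp_id]
    exact (eqToHom_refl _ _).symm
  · rw [canClv_lift_fiber, eqToHom_fiber, eqToHom_trans]
    exact (eqToHom_refl _ _).symm


theorem obj_comp_aux {U T S : 𝒮} (x : F.toPseudofunctor'.obj ⟨op S⟩) (g' : U ⟶ T) (f' : T ⟶ S)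
    (gf' : U ⟶ S) (hgf : gf' = g' ≫ f') :
    domainCartesianLift (domainCartesianLift x f').fiber g' = domainCartesianLift x gf' := by
  subst hgf
  change (⟨U, (F.map g'.op).toFunctor.obj ((F.map f'.op).toFunctor.obj x)⟩ :
    CoGrothendieck F.toPseudofunctor') = ⟨U, (F.map (g' ≫ f').op).toFunctor.obj x⟩
  rw [op_comp, F.map_comp]
  rfl

theorem lift_comp_aux {U T S : 𝒮} (x : F.toPseudofunctor'.obj ⟨op S⟩) (g' : U ⟶ T) (f' : T ⟶ S)
    (gf' : U ⟶ S) (hgf : gf' = g' ≫ f')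
    (h : domainCartesianLift (domainCartesianLift x f').fiber g' = domainCartesianLift x gf') :
    cartesianLift (domainCartesianLift x f').fiber g' ≫ cartesianLift x f' =
      eqToHom h ≫ cartesianLift x gf' := by
  subst hgf
  apply Hom.ext _ _ ?_ ?_
  · rw [categoryStruct_comp_base, categoryStruct_comp_base, eqToHom_base]
    simp only [eqToHom_refl, Category.id_comp]
  · rw [categoryStruct_comp_fiber, categoryStruct_comp_fiber, eqToHom_fiber]
    simp only [Functor.toPseudofunctor'_mapComp, eqToIso.inv, Cat.eqToHom_app, Functor.map_id,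
      Category.id_comp]
    erw [eqToHom_trans, eqToHom_trans]
    rfl

theorem canClv_isSplitting : (canClv F).IsSplitting := by
  refine ⟨canClv_isNormalised F, ?_⟩
  intro S T U f g a ha
  subst ha
  have hgf : (g ≫ f) ≫ eqToHom rfl = (g ≫ eqToHom rfl) ≫ f ≫ eqToHom rfl := by simp
  exact ⟨obj_comp_aux F a.fiber _ _ _ hgf, lift_comp_aux F a.fiber _ _ _ hgf _⟩

end CoGroth

end Groth.Agent.Lib.Helper31.SplitClv
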