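import Groth.Agent.Lib.Helper31.SplitClv

/-!
# A split fibred category is strictly isomorphic to `∫ᶜ F` for a strict functor `F` (helper31)
-/

set_option autoImplicit false
universe v₁ v₂ u₁ u₂

open CategoryTheory CategoryTheory.Functor

namespace Groth.Agent.Lib.Helper31.SplitClvIso

variable {𝒮 : Type u₁} [Category.{v₁} 𝒮] {𝒳 : Type u₂} [Category.{v₂} 𝒳]
  {p : 𝒳 ⥤ 𝒮} (K : FibCat.Cleavage p)

/-- The underlying object of an object of a fibre. -/
abbrev ι {S : 𝒮} (a : p.Fiber S) : 𝒳 := Fiber.fiberInclusion.obj a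

/-- The underlying morphism of a morphism of a fibre. -/
abbrev ιm {S : 𝒮} {a b : p.Fiber S} (φ : a ⟶ b) : ι a ⟶ ι b := Fiber.fiberInclusion.map φ

theorem ι_proj {S : 𝒮} (a : p.Fiber S) : p.obj (ι a) = S := a.2

theorem fiber_obj_ext {S : 𝒮} {a b : p.Fiber S} (h : ι a = ι b) : a = b :=
  Fiber.fiberInclusion_obj_inj h

/-- The chosen lift at an object of a fibre. -/
def lft {R S : 𝒮} (f : R ⟶ S) (a : p.Fiber S) : ι ((K.inverseImage f).obj a) ⟶ ι a :=
  K.lift a.2 f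

instance lft_isCartesian {R S : 𝒮} (f : R ⟶ S) (a : p.Fiber S) :
    p.IsCartesian f (lft K f a) := K.isCartesian a.2 f

instance lft_isHomLift {R S : 𝒮} (f : R ⟶ S) (a : p.Fiber S) :
    p.IsHomLift f (lft K f a) := inferInstance

theorem inverseImage_map_fac {R S : 𝒮} (f : R ⟶ S) {a b : p.Fiber S} (φ : a ⟶ b) :
    ιm ((K.inverseImage f).map φ) ≫ lft K f b = lft K f a ≫ ιm φ :=
  IsCartesian.fac p f (K.lift b.2 f) (K.lift a.2 f ≫ Fiber.fiberInclusion.map φ)

variable {K}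

theorem fiber_hom_ext_lft {R S : 𝒮} (f : R ⟶ S) {c : p.Fiber R} {b : p.Fiber S}
    {α β : c ⟶ (K.inverseImage f).obj b}
    (h : ιm α ≫ lft K f b = ιm β ≫ lft K f b) : α = β := by
  apply Fiber.hom_ext
  exact IsCartesian.ext p f (lft K f b) (ιm α) (ιm β) h

variable (hK : K.IsSplitting)

include hK in
theorem obj_id {S : 𝒮} (a : p.Fiber S) : (K.inverseImage (𝟙 S)).obj a = a := by
  obtain ⟨h, -⟩ := hK.1 a.2
  exact fiber_obj_ext h

include hK in
theorem lft_id {S : 𝒮} (a : p.Fiber S) :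
    lft K (𝟙 S) a = eqToHom (congrArg ι (obj_id hK a)) := by
  obtain ⟨h, hh⟩ := hK.1 a.2
  exact hh

include hK in
theorem obj_comp {S T U : 𝒮} (f : T ⟶ S) (g : U ⟶ T) (a : p.Fiber S) :
    (K.inverseImage (g ≫ f)).obj a = (K.inverseImage g).obj ((K.inverseImage f).obj a) := by
  obtain ⟨h, -⟩ := hK.2 f g a.2
  exact fiber_obj_ext h.symm

include hK in
theorem lft_comp {S T U : 𝒮} (f : T ⟶ S) (g : U ⟶ T) (a : p.Fiber S) :
    lft K (g ≫ f) a = eqToHom (congrArg ι (obj_comp hK f g a)) ≫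
      lft K g ((K.inverseImage f).obj a) ≫ lft K f a := by
  obtain ⟨h, hh⟩ := hK.2 f g a.2
  have h' : ι ((K.inverseImage g).obj ((K.inverseImage f).obj a)) =
      ι ((K.inverseImage (g ≫ f)).obj a) := h
  have : lft K g ((K.inverseImage f).obj a) ≫ lft K f a = eqToHom h' ≫ lft K (g ≫ f) a := hh
  rw [this, eqToHom_trans_assoc, eqToHom_refl, Category.id_comp]

include hK in
theorem inverseImage_id (S : 𝒮) : K.inverseImage (𝟙 S) = 𝟭 (p.Fiber S) := by
  refine Functor.ext (fun a => obj_id hK a) (fun a b φ => ?_)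
  apply fiber_hom_ext_lft (𝟙 S)
  rw [inverseImage_map_fac, lft_id hK, lft_id hK]
  simp [ιm, eqToHom_map]

include hK in
theorem inverseImage_comp {S T U : 𝒮} (f : T ⟶ S) (g : U ⟶ T) :
    K.inverseImage (g ≫ f) = K.inverseImage f ⋙ K.inverseImage g := by
  refine Functor.ext (fun a => obj_comp hK f g a) (fun a b φ => ?_)
  apply fiber_hom_ext_lft (g ≫ f)
  rw [inverseImage_map_fac, lft_comp hK, lft_comp hK]
  simp only [ιm, eqToHom_map, Functor.map_comp, Category.assoc, eqToHom_trans_assoc,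
    eqToHom_refl, Category.id_comp, Functor.comp_map]
  have h1 := inverseImage_map_fac K g ((K.inverseImage f).map φ)
  have h2 := inverseImage_map_fac K f φ
  simp only [ιm] at h1 h2
  rw [reassoc_of% h1, h2]


open Opposite

/-- The strict functor of fibres of a split fibred category. -/
noncomputable def F : 𝒮ᵒᵖ ⥤ Cat.{v₂, u₂} where
  obj S := Cat.of (p.Fiber S.unop)
  map f := (K.inverseImage f.unop).toCatHom
  map_id S := by
    apply Cat.ext
    exact inverseImage_id hK S.unop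
  map_comp f g := by
    apply Cat.ext
    exact inverseImage_comp hK f.unop g.unop

section Groth

open Pseudofunctor

/-- The fibre component of an object of `∫ᶜ F`. -/
def fibObj (X : CoGrothendieck (F hK).toPseudofunctor') : p.Fiber X.base := X.fiber

/-- The fibre component of a morphism of `∫ᶜ F`. -/
def fib {X Y : CoGrothendieck (F hK).toPseudofunctor'} (φ : X ⟶ Y) :
    fibObj hK X ⟶ (K.inverseImage φ.base).obj (fibObj hK Y) := φ.fiber

theorem fib_id (X : CoGrothendieck (F hK).toPseudofunctor') :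
    fib hK (𝟙 X) = eqToHom (obj_id hK (fibObj hK X)).symm := by
  change ((F hK).toPseudofunctor'.mapId ⟨op X.base⟩).inv.toNatTrans.app X.fiber = _
  simp only [Functor.toPseudofunctor'_mapId, eqToIso.inv, Cat.eqToHom_app]
  rfl

theorem fib_comp {X Y Z : CoGrothendieck (F hK).toPseudofunctor'} (φ : X ⟶ Y) (ψ : Y ⟶ Z) :
    fib hK (φ ≫ ψ) = fib hK φ ≫ (K.inverseImage φ.base).map (fib hK ψ) ≫
      eqToHom (obj_comp hK ψ.base φ.base (fibObj hK Z)).symm := by
  change φ.fiber ≫ ((F hK).toPseudofunctor'.map φ.base.op.toLoc).toFunctor.map ψ.fiber ≫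
    ((F hK).toPseudofunctor'.mapComp ψ.base.op.toLoc φ.base.op.toLoc).inv.toNatTrans.app
      Z.fiber = _
  simp only [Functor.toPseudofunctor'_mapComp, eqToIso.inv, Cat.eqToHom_app]
  rfl

/-- The functor `∫ᶜ F ⥤ 𝒳`. -/
noncomputable def Ψ : CoGrothendieck (F hK).toPseudofunctor' ⥤ 𝒳 where
  obj X := ι (fibObj hK X)
  map {X Y} φ := ιm (fib hK φ) ≫ lft K φ.base (fibObj hK Y)
  map_id X := by
    change ιm (fib hK (𝟙 X)) ≫ lft K (𝟙 X.base) (fibObj hK X) = 𝟙 _
    rw [fib_id, lft_id hK]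
    simp [ιm, eqToHom_map]
  map_comp {X Y Z} φ ψ := by
    change ιm (fib hK (φ ≫ ψ)) ≫ lft K (φ.base ≫ ψ.base) (fibObj hK Z) = _
    rw [fib_comp, lft_comp hK]
    simp only [ιm, eqToHom_map, Functor.map_comp, Category.assoc, eqToHom_trans_assoc,
      eqToHom_refl, Category.id_comp]
    have h1 := inverseImage_map_fac K φ.base (fib hK ψ)
    simp only [ιm] at h1
    rw [reassoc_of% h1]


theorem Ψ_obj (X : CoGrothendieck (F hK).toPseudofunctor') :
    (Ψ hK).obj X = ι (fibObj hK X) := rfl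

theorem Ψ_map {X Y : CoGrothendieck (F hK).toPseudofunctor'} (φ : X ⟶ Y) :
    (Ψ hK).map φ = ιm (fib hK φ) ≫ lft K φ.base (fibObj hK Y) := rfl

instance Ψ_map_isHomLift {X Y : CoGrothendieck (F hK).toPseudofunctor'} (φ : X ⟶ Y) :
    p.IsHomLift φ.base ((Ψ hK).map φ) := by
  rw [Ψ_map]
  have h1 : p.IsHomLift (𝟙 X.base) (ιm (fib hK φ)) := inferInstance
  have h2 : p.IsHomLift φ.base (lft K φ.base (fibObj hK Y)) := inferInstance
  exact IsHomLift.comp_lift_id_left p φ.base (lft K φ.base (fibObj hK Y)) (ιm (fib hK φ))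

omit hK in
theorem base_eq_of_isHomLift {R S : 𝒮} {a b : 𝒳} (f f' : R ⟶ S) (x : a ⟶ b)
    [p.IsHomLift f x] [p.IsHomLift f' x] : f = f' := by
  rw [IsHomLift.fac p f x, IsHomLift.fac p f' x]

theorem Ψ_map_injective {X Y : CoGrothendieck (F hK).toPseudofunctor'} (φ ψ : X ⟶ Y)
    (h : (Ψ hK).map φ = (Ψ hK).map ψ) : φ = ψ := by
  have hb : φ.base = ψ.base := by
    have : p.IsHomLift ψ.base ((Ψ hK).map φ) := by rw [h]; infer_instance
    exact base_eq_of_isHomLift (p := p) φ.base ψ.base ((Ψ hK).map φ)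
  obtain ⟨φb, φf⟩ := φ
  obtain ⟨ψb, ψf⟩ := ψ
  dsimp at hb
  subst hb
  have : φf = ψf := by
    apply fiber_hom_ext_lft (K := K) φb (b := fibObj hK Y)
    exact h
  rw [this]

/-- The object part of the inverse functor. -/
def Φobj (a : 𝒳) : CoGrothendieck (F hK).toPseudofunctor' := ⟨p.obj a, Fiber.mk rfl⟩

/-- The morphism part of the inverse functor. -/
noncomputable def Φmap {a b : 𝒳} (φ : a ⟶ b) : Φobj hK a ⟶ Φobj hK b :=
  ⟨p.map φ, Fiber.homMk p (p.obj a) (IsCartesian.map p (p.map φ) (K.lift rfl (p.map φ)) φ)⟩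

theorem Ψ_Φmap {a b : 𝒳} (φ : a ⟶ b) : (Ψ hK).map (Φmap hK φ) = φ :=
  IsCartesian.fac p (p.map φ) (K.lift rfl (p.map φ)) φ

/-- The inverse functor `𝒳 ⥤ ∫ᶜ F`. -/
noncomputable def Φ : 𝒳 ⥤ CoGrothendieck (F hK).toPseudofunctor' where
  obj a := Φobj hK a
  map φ := Φmap hK φ
  map_id a := by
    apply Ψ_map_injective
    rw [Ψ_Φmap, Functor.map_id]
    rfl
  map_comp φ ψ := by
    apply Ψ_map_injective
    rw [Ψ_Φmap, Functor.map_comp, Ψ_Φmap, Ψ_Φmap]
    rfl

theorem Φ_comp_Ψ : Φ hK ⋙ Ψ hK = 𝟭 𝒳 := by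
  refine Functor.ext (fun a => rfl) (fun a b φ => ?_)
  erw [eqToHom_refl, eqToHom_refl, Category.comp_id, Category.id_comp]
  exact Ψ_Φmap hK φ

theorem Φobj_Ψ (X : CoGrothendieck (F hK).toPseudofunctor') : Φobj hK ((Ψ hK).obj X) = X := by
  have : ∀ (S : 𝒮) (x : p.Fiber S),
      Φobj hK (ι x) = (⟨S, x⟩ : CoGrothendieck (F hK).toPseudofunctor') := by
    rintro S ⟨a, rfl⟩
    rfl
  exact this X.base X.fiber

theorem Ψ_comp_Φ : Ψ hK ⋙ Φ hK = 𝟭 _ := by
  refine Functor.ext (fun X => Φobj_Ψ hK X) (fun X Y m => ?_)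
  apply Ψ_map_injective
  change (Ψ hK).map (Φmap hK ((Ψ hK).map m)) = _
  rw [Ψ_Φmap, Functor.map_comp, Functor.map_comp, eqToHom_map, eqToHom_map]
  erw [eqToHom_refl, eqToHom_refl, Category.id_comp, Category.comp_id]
  rfl

theorem Φ_comp_forget : Φ hK ⋙ CoGrothendieck.forget (F hK).toPseudofunctor' = p := rfl

end Groth

end Groth.Agent.Lib.Helper31.SplitClvIso
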