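import Mathlib.CategoryTheory.FiberedCategory.Fibered
import Mathlib.CategoryTheory.Bicategory.Grothendieck
import Mathlib.CategoryTheory.Bicategory.Functor.LocallyDiscrete
import Mathlib.CategoryTheory.Category.Cat

/-!
# Every fibred category is equivalent to a split one (Stacks 004A) (helper31)

For a fibred category `p : 𝒳 ⥤ C` we build a strict functor `F : Cᵒᵖ ⥤ Cat` ("formal pullbacks":
objects of `F(U)` are pairs `(x, f : U ⟶ p x)`, morphisms are morphisms of chosen pullbacks in the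
fibre over `U`) and a fully faithful functor `∫ᶜ F ⥤ 𝒳` over `C` that is essentially surjective
over `C`.
-/

set_option autoImplicit false
universe w v u

open CategoryTheory CategoryTheory.Functor Opposite

namespace Groth.Agent.Lib.Helper31.SplitFib

variable {C : Type u} [Category.{v} C] {𝒳 : Type w} [Category.{v} 𝒳] (p : 𝒳 ⥤ C)

/-- Formal pullbacks over `U`. -/
structure Obj (U : C) where
  x : 𝒳
  f : U ⟶ p.obj x

variable {p}

theorem Obj.ext' {U : C} {o o' : Obj p U} (hx : o.x = o'.x)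
    (hf : o.f = o'.f ≫ eqToHom (congrArg p.obj hx).symm) : o = o' := by
  cases o; cases o'
  dsimp at hx hf
  subst hx
  simp only [eqToHom_refl, Category.comp_id] at hf
  subst hf
  rfl

variable [p.IsFibered]

/-- The chosen pullback. -/
noncomputable def pb {U : C} (o : Obj p U) : 𝒳 := IsPreFibered.pullbackObj (p := p) rfl o.f

/-- The chosen cartesian arrow. -/
noncomputable def cart {U : C} (o : Obj p U) : pb o ⟶ o.x := IsPreFibered.pullbackMap rfl o.f

instance cart_isCartesian {U : C} (o : Obj p U) : p.IsCartesian o.f (cart o) :=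
  IsPreFibered.pullbackMap.IsCartesian rfl o.f

instance cart_isStronglyCartesian {U : C} (o : Obj p U) : p.IsStronglyCartesian o.f (cart o) :=
  IsFibered.isStronglyCartesian_of_isCartesian p o.f (cart o)

instance cart_isHomLift {U : C} (o : Obj p U) : p.IsHomLift o.f (cart o) := inferInstance

instance cart_res_isHomLift {U' U : C} (h : U' ⟶ U) (o : Obj p U) :
    p.IsHomLift (h ≫ o.f) (cart (⟨o.x, h ≫ o.f⟩ : Obj p U')) :=
  cart_isHomLift (⟨o.x, h ≫ o.f⟩ : Obj p U')

theorem pb_proj {U : C} (o : Obj p U) : p.obj (pb o) = U :=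
  IsPreFibered.pullbackObj_proj rfl o.f

noncomputable instance category (U : C) : Category (Obj p U) where
  Hom o o' := {α : pb o ⟶ pb o' // p.IsHomLift (𝟙 U) α}
  id o := ⟨𝟙 _, IsHomLift.id (pb_proj o)⟩
  comp α β := ⟨α.1 ≫ β.1, by
    have := α.2
    have := β.2
    infer_instance⟩

@[simp] theorem id_val {U : C} (o : Obj p U) : (𝟙 o : o ⟶ o).1 = 𝟙 (pb o) := rfl

@[simp] theorem comp_val {U : C} {o o' o'' : Obj p U} (α : o ⟶ o') (β : o' ⟶ o'') :
    (α ≫ β).1 = α.1 ≫ β.1 := rfl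

@[ext] theorem hom_ext {U : C} {o o' : Obj p U} {α β : o ⟶ o'} (h : α.1 = β.1) : α = β :=
  Subtype.ext h

instance hom_isHomLift {U : C} {o o' : Obj p U} (α : o ⟶ o') : p.IsHomLift (𝟙 U) α.1 := α.2

theorem eqToHom_val {U : C} {o o' : Obj p U} (e : o = o') :
    (eqToHom e : o ⟶ o').1 = eqToHom (congrArg pb e) := by
  subst e
  rfl

theorem eqToHom_pb_cart {U : C} {o o' : Obj p U} (e : o = o') :
    eqToHom (congrArg pb e) ≫ cart o' = cart o ≫ eqToHom (congrArg Obj.x e) := by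
  subst e
  simp

/-- Restriction of formal pullbacks. -/
abbrev res {U' U : C} (h : U' ⟶ U) (o : Obj p U) : Obj p U' := ⟨o.x, h ≫ o.f⟩

/-- The transition arrow `pb (h^* o) ⟶ pb o` over `h`. -/
noncomputable def t {U' U : C} (h : U' ⟶ U) (o : Obj p U) : pb (res h o) ⟶ pb o :=
  IsStronglyCartesian.map p o.f (cart o) (g := h) (f' := h ≫ o.f) rfl (cart (res h o))

instance t_isHomLift {U' U : C} (h : U' ⟶ U) (o : Obj p U) : p.IsHomLift h (t h o) := by
  unfold t
  infer_instance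

@[reassoc (attr := simp)]
theorem t_fac {U' U : C} (h : U' ⟶ U) (o : Obj p U) : t h o ≫ cart o = cart (res h o) := by
  unfold t
  exact IsStronglyCartesian.fac p o.f (cart o) rfl (cart (res h o))

instance t_isStronglyCartesian {U' U : C} (h : U' ⟶ U) (o : Obj p U) :
    p.IsStronglyCartesian h (t h o) := by
  have : p.IsStronglyCartesian (h ≫ o.f) (t h o ≫ cart o) := by
    rw [t_fac]
    exact cart_isStronglyCartesian (res h o)
  exact IsStronglyCartesian.of_comp p (f := h) (g := o.f) (φ := t h o) (ψ := cart o)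

/-- Uniqueness of maps into a chosen pullback. -/
theorem ext_cart {U : C} (o : Obj p U) {R : C} {a : 𝒳} (g : R ⟶ U) {ψ ψ' : a ⟶ pb o}
    [p.IsHomLift g ψ] [p.IsHomLift g ψ'] (h : ψ ≫ cart o = ψ' ≫ cart o) : ψ = ψ' :=
  IsStronglyCartesian.ext p o.f (cart o) g h

theorem t_id {U : C} (o : Obj p U) (e : res (𝟙 U) o = o) :
    t (𝟙 U) o = eqToHom (congrArg pb e) := by
  have : p.IsHomLift (𝟙 U) (eqToHom (congrArg pb e)) :=
    IsHomLift.eqToHom_domain_lift_id _ (pb_proj _)
  apply ext_cart o (𝟙 U)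
  rw [t_fac, eqToHom_pb_cart e]
  simp

theorem res_id {U : C} (o : Obj p U) : res (𝟙 U) o = o := by
  cases o
  simp [res]

theorem res_comp {U'' U' U : C} (h' : U'' ⟶ U') (h : U' ⟶ U) (o : Obj p U) :
    res (h' ≫ h) o = res h' (res h o) := by
  cases o
  simp [res]

theorem t_comp {U'' U' U : C} (h' : U'' ⟶ U') (h : U' ⟶ U) (o : Obj p U)
    (e : res (h' ≫ h) o = res h' (res h o)) :
    t (h' ≫ h) o = eqToHom (congrArg pb e) ≫ t h' (res h o) ≫ t h o := by
  have : p.IsHomLift (h' ≫ h) (eqToHom (congrArg pb e) ≫ t h' (res h o) ≫ t h o) :=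
    inferInstance
  apply ext_cart o (h' ≫ h)
  rw [t_fac, Category.assoc, Category.assoc, t_fac, t_fac, eqToHom_pb_cart e]
  simp

/-- Restriction on morphisms. -/
noncomputable def resMap {U' U : C} (h : U' ⟶ U) {o o' : Obj p U} (α : o ⟶ o') :
    res h o ⟶ res h o' :=
  haveI : p.IsHomLift h (t h o ≫ α.1) := inferInstance
  ⟨IsStronglyCartesian.map p h (t h o') (g := 𝟙 U') (f' := h) (by simp) (t h o ≫ α.1),
    inferInstance⟩

@[reassoc (attr := simp)]
theorem resMap_fac {U' U : C} (h : U' ⟶ U) {o o' : Obj p U} (α : o ⟶ o') :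
    (resMap h α).1 ≫ t h o' = t h o ≫ α.1 := by
  haveI : p.IsHomLift h (t h o ≫ α.1) := inferInstance
  exact IsStronglyCartesian.fac p h (t h o') (g := 𝟙 U') (f' := h) (by simp) (t h o ≫ α.1)

theorem ext_t {U' U : C} (h : U' ⟶ U) (o : Obj p U) {R : C} {a : 𝒳} (g : R ⟶ U')
    {ψ ψ' : a ⟶ pb (res h o)}
    [p.IsHomLift g ψ] [p.IsHomLift g ψ'] (e : ψ ≫ t h o = ψ' ≫ t h o) : ψ = ψ' :=
  IsStronglyCartesian.ext p h (t h o) g e

/-- The restriction functor. -/
noncomputable def resF {U' U : C} (h : U' ⟶ U) : Obj p U ⥤ Obj p U' where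
  obj := res h
  map α := resMap h α
  map_id o := by
    ext
    apply ext_t h o (𝟙 U')
    rw [resMap_fac]
    simp
  map_comp {o o' o''} α β := by
    ext
    apply ext_t h o'' (𝟙 U')
    rw [resMap_fac]
    simp

theorem hom_ext_t {U' U : C} (h : U' ⟶ U) {o'' : Obj p U'} {o : Obj p U} {α β : o'' ⟶ res h o}
    (e : α.1 ≫ t h o = β.1 ≫ t h o) : α = β := by
  ext
  exact ext_t h o (𝟙 U') e

theorem resF_obj {U' U : C} (h : U' ⟶ U) (o : Obj p U) : (resF h).obj o = res h o := rfl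

theorem resF_map {U' U : C} (h : U' ⟶ U) {o o' : Obj p U} (α : o ⟶ o') :
    (resF h).map α = resMap h α := rfl

theorem resF_id (U : C) : resF (p := p) (𝟙 U) = 𝟭 (Obj p U) := by
  refine Functor.ext (fun o => res_id o) (fun o o' α => ?_)
  apply hom_ext_t (𝟙 U)
  change (resMap (𝟙 U) α).1 ≫ _ = _
  rw [resMap_fac, comp_val, comp_val, eqToHom_val, eqToHom_val, t_id o (res_id o),
    t_id o' (res_id o')]
  dsimp only [resF_obj, Functor.id_obj, Functor.id_map]
  simp

theorem resF_comp {U'' U' U : C} (h' : U'' ⟶ U') (h : U' ⟶ U) :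
    resF (p := p) (h' ≫ h) = resF h ⋙ resF h' := by
  refine Functor.ext (fun o => res_comp h' h o) (fun o o' α => ?_)
  apply hom_ext_t (h' ≫ h)
  change (resMap (h' ≫ h) α).1 ≫ _ = _
  rw [resMap_fac, comp_val, comp_val, eqToHom_val, eqToHom_val, t_comp h' h o (res_comp h' h o),
    t_comp h' h o' (res_comp h' h o')]
  dsimp only [resF_obj, resF_map, Functor.comp_obj, Functor.comp_map]
  simp only [Category.assoc, eqToHom_trans_assoc, eqToHom_refl, Category.id_comp]
  rw [resMap_fac_assoc, resMap_fac]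

variable (p) in
/-- The strict functor of formal pullbacks. -/
noncomputable def F : Cᵒᵖ ⥤ Cat.{v, max w v} where
  obj U := Cat.of (Obj p U.unop)
  map h := (resF h.unop).toCatHom
  map_id U := by
    apply Cat.ext
    exact resF_id U.unop
  map_comp h h' := by
    apply Cat.ext
    exact resF_comp h'.unop h.unop

section Groth

open Pseudofunctor

/-- The fibre component of an object of `∫ᶜ F`, as a formal pullback. -/
def fibObj (X : CoGrothendieck (F p).toPseudofunctor') : Obj p X.base := X.fiber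

/-- The fibre component of a morphism of `∫ᶜ F`. -/
def fib {X Y : CoGrothendieck (F p).toPseudofunctor'} (φ : X ⟶ Y) :
    fibObj X ⟶ res φ.base (fibObj Y) := φ.fiber

theorem fib_id_val (X : CoGrothendieck (F p).toPseudofunctor') :
    (fib (𝟙 X)).1 = eqToHom (congrArg pb (res_id (fibObj X)).symm) := by
  have h : fib (𝟙 X) = eqToHom (res_id (fibObj X)).symm := by
    change ((F p).toPseudofunctor'.mapId ⟨op X.base⟩).inv.toNatTrans.app X.fiber = _
    simp only [Functor.toPseudofunctor'_mapId, eqToIso.inv, Cat.eqToHom_app]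
    rfl
  rw [h, eqToHom_val]

theorem fib_comp_val {X Y Z : CoGrothendieck (F p).toPseudofunctor'} (φ : X ⟶ Y) (ψ : Y ⟶ Z) :
    (fib (φ ≫ ψ)).1 = (fib φ).1 ≫ (resMap φ.base (fib ψ)).1 ≫
      eqToHom (congrArg pb (res_comp φ.base ψ.base (fibObj Z)).symm) := by
  have h : fib (φ ≫ ψ) = fib φ ≫ resMap φ.base (fib ψ) ≫
      eqToHom (res_comp φ.base ψ.base (fibObj Z)).symm := by
    change φ.fiber ≫ ((F p).toPseudofunctor'.map φ.base.op.toLoc).toFunctor.map ψ.fiber ≫
      ((F p).toPseudofunctor'.mapComp ψ.base.op.toLoc φ.base.op.toLoc).inv.toNatTrans.app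
        Z.fiber = _
    simp only [Functor.toPseudofunctor'_mapComp, eqToIso.inv, Cat.eqToHom_app]
    rfl
  rw [h, comp_val, comp_val, eqToHom_val]

/-- The comparison functor `∫ᶜ F ⥤ 𝒳`. -/
noncomputable def G : CoGrothendieck (F p).toPseudofunctor' ⥤ 𝒳 where
  obj X := pb (fibObj X)
  map {X Y} φ := (fib φ).1 ≫ t φ.base (fibObj Y)
  map_id X := by
    change (fib (𝟙 X)).1 ≫ t (𝟙 X.base) (fibObj X) = 𝟙 _
    rw [fib_id_val, t_id _ (res_id (fibObj X))]
    simp
  map_comp {X Y Z} φ ψ := by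
    change (fib (φ ≫ ψ)).1 ≫ t (φ.base ≫ ψ.base) (fibObj Z) = _
    rw [fib_comp_val, t_comp φ.base ψ.base (fibObj Z) (res_comp φ.base ψ.base (fibObj Z))]
    simp only [Category.assoc, eqToHom_trans_assoc, eqToHom_refl, Category.id_comp]
    rw [resMap_fac_assoc]

theorem G_obj (X : CoGrothendieck (F p).toPseudofunctor') : (G (p := p)).obj X = pb (fibObj X) :=
  rfl

theorem G_map {X Y : CoGrothendieck (F p).toPseudofunctor'} (φ : X ⟶ Y) :
    (G (p := p)).map φ = (fib φ).1 ≫ t φ.base (fibObj Y) := rfl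

instance G_map_isHomLift {X Y : CoGrothendieck (F p).toPseudofunctor'} (φ : X ⟶ Y) :
    p.IsHomLift φ.base ((G (p := p)).map φ) := by
  rw [G_map]
  have h1 : p.IsHomLift (𝟙 X.base) (fib φ).1 := hom_isHomLift (fib φ)
  have h2 : p.IsHomLift φ.base (t φ.base (fibObj Y)) := t_isHomLift φ.base (fibObj Y)
  exact IsHomLift.comp_lift_id_left p φ.base (t φ.base (fibObj Y)) (fib φ).1

theorem G_comp_p : G (p := p) ⋙ p = CoGrothendieck.forget (F p).toPseudofunctor' := by
  refine Functor.ext (fun X => pb_proj (fibObj X)) (fun X Y φ => ?_)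
  exact IsHomLift.fac' p φ.base ((G (p := p)).map φ)

theorem exists_preimage (X Y : CoGrothendieck (F p).toPseudofunctor')
    (ψ : pb (fibObj X) ⟶ pb (fibObj Y)) :
    ∃ φ : X ⟶ Y, (fib φ).1 ≫ t φ.base (fibObj Y) = ψ := by
  obtain ⟨h, hh⟩ : ∃ h : X.base ⟶ Y.base, p.IsHomLift h ψ :=
    ⟨eqToHom (pb_proj (fibObj X)).symm ≫ p.map ψ ≫ eqToHom (pb_proj (fibObj Y)),
      IsHomLift.of_fac p _ ψ (pb_proj (fibObj X)) (pb_proj (fibObj Y)) rfl⟩
  let α : fibObj X ⟶ res h (fibObj Y) :=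
    ⟨IsStronglyCartesian.map p h (t h (fibObj Y)) (g := 𝟙 X.base) (f' := h) (by simp) ψ,
      inferInstance⟩
  refine ⟨{ base := h, fiber := α }, ?_⟩
  change α.1 ≫ t h (fibObj Y) = ψ
  exact IsStronglyCartesian.fac p h (t h (fibObj Y)) (g := 𝟙 X.base) (f' := h) (by simp) ψ

instance G_full : (G (p := p)).Full where
  map_surjective {X Y} ψ := exists_preimage X Y ψ

instance G_faithful : (G (p := p)).Faithful where
  map_injective {X Y} φ φ' hφ := by
    have hb : φ.base = φ'.base := by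
      have h1 := IsHomLift.fac p φ.base ((G (p := p)).map φ)
      have h2 := IsHomLift.fac p φ'.base ((G (p := p)).map φ')
      rw [h1, h2]
      simp only [hφ]
    obtain ⟨h, α⟩ := φ
    obtain ⟨h', α'⟩ := φ'
    dsimp only at hb
    subst hb
    have hα : (show fibObj X ⟶ res h (fibObj Y) from α) = α' := hom_ext_t h hφ
    change α = α' at hα
    rw [hα]

theorem isIso_cart_id (y : 𝒳) : IsIso (cart (⟨y, 𝟙 _⟩ : Obj p (p.obj y))) :=
  have : p.IsStronglyCartesian (𝟙 (p.obj y)) (cart (⟨y, 𝟙 _⟩ : Obj p (p.obj y))) :=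
    cart_isStronglyCartesian (⟨y, 𝟙 _⟩ : Obj p (p.obj y))
  IsStronglyCartesian.isIso_of_base_isIso p (𝟙 (p.obj y)) _

theorem G_essSurjOver (y : 𝒳) : ∃ (X : CoGrothendieck (F p).toPseudofunctor')
    (ε : (G (p := p)).obj X ≅ y), p.IsHomLift (𝟙 (p.obj y)) ε.hom := by
  have hiso := isIso_cart_id (p := p) y
  exact ⟨⟨p.obj y, (⟨y, 𝟙 _⟩ : Obj p (p.obj y))⟩,
    @asIso _ _ _ _ (cart (⟨y, 𝟙 _⟩ : Obj p (p.obj y))) hiso,
    cart_isHomLift (⟨y, 𝟙 _⟩ : Obj p (p.obj y))⟩

end Groth

end Groth.Agent.Lib.Helper31.SplitFib
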