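import Groth.Agent.Lib.Helper31.SplitFib
import Groth.Agent.Lib.Helper31.FibCat
import Groth.Agent.Lib.Helper65.BasedEquiv
import Groth.Prelude.Def_FibCat2

/-!
# Every fibred category is equivalent over the base to a split one (helper31)
-/

set_option autoImplicit false
universe v u

open CategoryTheory CategoryTheory.Functor Opposite

namespace Groth.Agent.Lib.Helper31.SplitFib

variable {C : Type u} [Category.{v} C] (𝒳 : BasedCategory.{v, max u v} C)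

/-- The comparison functor as a based functor. -/
noncomputable def GB [𝒳.p.IsFibered] :
    BasedCategory.ofFunctor (Pseudofunctor.CoGrothendieck.forget (F 𝒳.p).toPseudofunctor') ⥤ᵇ 𝒳 where
  toFunctor := G (p := 𝒳.p)
  w := G_comp_p (p := 𝒳.p)

theorem GB_isEquivOver [𝒳.p.IsFibered] : FibCat.IsEquivOver (GB 𝒳) := by
  have : (GB 𝒳).toFunctor.Full := G_full (p := 𝒳.p)
  have : (GB 𝒳).toFunctor.Faithful := G_faithful (p := 𝒳.p)
  apply Groth.Agent.Lib.Helper65.isEquivOver_of_ff_ess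
  intro y
  exact G_essSurjOver (p := 𝒳.p) y

theorem exists_split [𝒳.p.IsFibered] :
    ∃ E : 𝒳 ⥤ᵇ BasedCategory.ofFunctor
      (Pseudofunctor.CoGrothendieck.forget (F 𝒳.p).toPseudofunctor'), FibCat.IsEquivOver E := by
  obtain ⟨E, ⟨e₁⟩, ⟨e₂⟩⟩ := GB_isEquivOver 𝒳
  exact ⟨E, GB 𝒳, ⟨e₂⟩, ⟨e₁⟩⟩

theorem isGroupoid_Obj (h𝒳 : FibCat.IsFibGrpd 𝒳.p) [𝒳.p.IsFibered] (U : Cᵒᵖ) :
    IsGroupoid ((F 𝒳.p).obj U) := by
  refine ⟨fun {o o'} α => ?_⟩
  change (o : Obj 𝒳.p U.unop) ⟶ o' at α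
  have hl : 𝒳.p.IsHomLift (𝟙 U.unop) α.1 := α.2
  have hmap : IsIso (𝒳.p.map α.1) := by
    rw [IsHomLift.fac' 𝒳.p (𝟙 U.unop) α.1]
    infer_instance
  have hiso : IsIso α.1 := Groth.Agent.Lib.Helper31.isIso_of_isFibGrpd 𝒳.p h𝒳 α.1
  have hinv : 𝒳.p.IsHomLift (𝟙 U.unop) (inv α.1) := inferInstance
  exact ⟨⟨⟨inv α.1, hinv⟩, Subtype.ext (IsIso.hom_inv_id α.1), Subtype.ext (IsIso.inv_hom_id α.1)⟩⟩

end Groth.Agent.Lib.Helper31.SplitFib
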