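import Mathlib.CategoryTheory.Limits.Shapes.FunctorToTypes
import Mathlib.CategoryTheory.Limits.Types.Products
import Mathlib.CategoryTheory.Limits.Types.Colimits
import Mathlib.CategoryTheory.Limits.Preserves.Shapes.BinaryProducts

set_option autoImplicit false
open CategoryTheory CategoryTheory.Limits
universe v u

namespace Groth.Agent.Lib.Helper31

theorem types_prod_ext {X Y : Type v} (p q : (X ⨯ Y : Type v))
    (h1 : (prod.fst : X ⨯ Y ⟶ X) p = (prod.fst : X ⨯ Y ⟶ X) q)
    (h2 : (prod.snd : X ⨯ Y ⟶ Y) p = (prod.snd : X ⨯ Y ⟶ Y) q) : p = q := by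
  apply (Types.binaryProductIso X Y).toEquiv.injective
  apply Prod.ext
  · have e1 : ((Types.binaryProductIso X Y).hom p).1 = (prod.fst : X ⨯ Y ⟶ X) p := by simp
    have e2 : ((Types.binaryProductIso X Y).hom q).1 = (prod.fst : X ⨯ Y ⟶ X) q := by simp
    exact e1.trans (h1.trans e2.symm)
  · have e1 : ((Types.binaryProductIso X Y).hom p).2 = (prod.snd : X ⨯ Y ⟶ Y) p := by simp
    have e2 : ((Types.binaryProductIso X Y).hom q).2 = (prod.snd : X ⨯ Y ⟶ Y) q := by simp
    exact e1.trans (h2.trans e2.symm)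

theorem prodComparison_colim_surjective {I : Type v} [SmallCategory I]
    (hI : ∀ x y : I, ∃ (z : I) (_ : x ⟶ z) (_ : y ⟶ z), True) (M N : I ⥤ Type v) :
    Function.Surjective (prodComparison (colim : (I ⥤ Type v) ⥤ Type v) M N) := by
  intro p
  obtain ⟨i, m, hm⟩ := Types.jointly_surjective' ((prod.fst : colimit M ⨯ colimit N ⟶ colimit M) p)
  obtain ⟨j, n, hn⟩ := Types.jointly_surjective' ((prod.snd : colimit M ⨯ colimit N ⟶ colimit N) p)
  obtain ⟨z, f, g, -⟩ := hI i j
  obtain ⟨q, hq1, hq2⟩ : ∃ q : (M ⨯ N).obj z, (prod.fst : M ⨯ N ⟶ M).app z q = M.map f m ∧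
      (prod.snd : M ⨯ N ⟶ N).app z q = N.map g n :=
    ⟨FunctorToTypes.prodMk (M.map f m) (N.map g n), FunctorToTypes.prodMk_fst _ _, FunctorToTypes.prodMk_snd _ _⟩
  refine ⟨colimit.ι (M ⨯ N) z q, ?_⟩
  apply types_prod_ext
  · have e := ConcreteCategory.congr_hom (prodComparison_fst (colim : (I ⥤ Type v) ⥤ Type v) (A := M) (B := N))
      (colimit.ι (M ⨯ N) z q)
    simp only [ConcreteCategory.comp_apply] at e
    refine e.trans (Eq.trans ?_ hm)
    have e2 : colimMap (prod.fst : M ⨯ N ⟶ M) (colimit.ι (M ⨯ N) z q) =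
        colimit.ι M z ((prod.fst : M ⨯ N ⟶ M).app z q) :=
      ConcreteCategory.congr_hom (ι_colimMap (prod.fst : M ⨯ N ⟶ M) z) q
    have e3 : colimit.ι M z (M.map f m) = colimit.ι M i m :=
      ConcreteCategory.congr_hom (colimit.w M f) m
    rw [hq1, e3] at e2
    exact e2
  · have e := ConcreteCategory.congr_hom (prodComparison_snd (colim : (I ⥤ Type v) ⥤ Type v) (A := M) (B := N))
      (colimit.ι (M ⨯ N) z q)
    simp only [ConcreteCategory.comp_apply] at e
    refine e.trans (Eq.trans ?_ hn)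
    have e2 : colimMap (prod.snd : M ⨯ N ⟶ N) (colimit.ι (M ⨯ N) z q) =
        colimit.ι N z ((prod.snd : M ⨯ N ⟶ N).app z q) :=
      ConcreteCategory.congr_hom (ι_colimMap (prod.snd : M ⨯ N ⟶ N) z) q
    have e3 : colimit.ι N z (N.map g n) = colimit.ι N j n :=
      ConcreteCategory.congr_hom (colimit.w N g) n
    rw [hq2, e3] at e2
    exact e2

end Groth.Agent.Lib.Helper31
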